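import Cfsg.Agent.ThK.Cert

set_option autoImplicit false
set_option Elab.async false
set_option maxRecDepth 100000
set_option linter.all false

namespace Cfsg.Agent.ThK
open Cfsg.Agent.CGT

noncomputable def cx_l0 : Level := ⟨0, [[0], [2], [4], [6], [8], [10], [12], [14], [16], [18], [20], [22], [24], [26], [28], [30], [32], [34], [36], [38], [40], [42]], [1, 3, 5, 18, 9, 19, 12, 17, 16, 20, 14, 15, 11, 21, 18, 12, 4, 0], 0x7fffffffffffffffffffffffffffffffffffffffffffffffffffffffffffffffffffffffffffffffffffffffffffffffffffffffffffffffffffffffffffffffffffffffffffffffffffffffffffffffffffffffffffffffffffffffffffffffffffffffffffffffffffffffffffffffffffffffffffffffffffffffffffffffffffffffffffffffffffffffffffffffffffffffffffffffffffffffffffffffffffffffffffffffffffffffffffffffffffffffffffffffffffffffffffffffffffffffffffffffffffffffffffffffffffffffffffffffffffffffffffffffffffffffffffffffffffffffffffffffffffffffffffffffffffffffffffffffffffffffffffffffffffffffffffffffffffffffffffffffffffffffffffffffffffffff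fffffffffffffffffffffffffffffffffffffffffffffffffffffffffffffffffffffffffffffffffffffffffffffffffffffffffffffffffffffffffffffffffffffffffffffffffffffffffffffffffffffffffffffffffffffffffffffffffffffffffffffffffffffffffffffffffffffffffffffffffffffffffffffffffffffffffffffffffffffffffffffffffffffffffffffffffffffffffffffffffffffffffffffffffffffffffffffffffffffffffffffffffffffffffffffffffffffffffffffffffffffffffffffffffffffffffffffffffffffffffffffffffffffffffffffffffffffffffffffffffffffffffffffffffffffffffffffffffffffffffffffffffffffffffffffffffffffffffffffffffffffffffffffffffffffffffffffffffffffffffffffffffffffffffffffffffffffffffffffffffffffffffffffffffffffffffffffffffffffffffffffffffffffffffffffffffffffffffffffffffffffffffffffffffffffffffffffffffffffffffffffffffffffffffffffffffffffffffffffffffffffffffffffffffffffffffffffffffffffffffffffffffffffffffffffffffffffffffffffffffffffffffffffffffffffffffffffffffffffffffffffffffffffffffffffffffffffffffffffffffffffffffffffffffffffffffffffffffffffffffffffffffffff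fffffffffffffffffffffffffffffffffffffffffffffffffffffffffffffffffffffffffffffffffffffffffffffffffffffffffffffffffffffffffffffffffffffffffffffffffffffffffffffffffffffffffffffffffffffffffffffffffffffffffffffffffffffffffffffffffffffffffffffffffffffffffffffffffffffffffffffffffffffffffffffffffffffffffffffffffffffffffffffffffffffffffffffffffffffffffffffffffffffffffffffffffffffffffffffffffffffffffffffffffffffffffffffffffffffffffffffffffffffffffffffffffffffffffffffffffffffffffffffffffffffffffffffffffffffffffffffffffffffffffffffffffffffffffffffffffffffffffffffffffffffffffffffffffffffffffffffffffffffffffffffffffffffffffffffffffffffffffffffffffffffffffffffffffffffffffffffffffffffffffffffffffffffffffffffffffffffffffffffffffffffffffffffffffffffffffffffffffffffffffffffffffffffffffffffffffffffffffffffffffffffffffffffffffffffffffffffffffffffffffffffffffffffffffffffffffffffffffffffffffffffffffffffffffffffffffffffffffffffffffffffffffffffffffffffffffffffffffffffffffffffffffffffffffffffffffffffffffffffffffffffffffffff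fffffffffffffffffffffffffffffffffffffffffffffffffffffffffffffffffffffffffffffffffffffffffffffffffffffffffffffffffffffffffffffffffffffffffffffffffffffffffffffffffffffffffffffffffffffffffffffffffffffffffffffffffffffffffffffffffffffffffffffffffffffffffffffffffffffffffffffffffffffffffffffffffffffffffffffffffffffffffffffffffffffffffffffffffffffffffffffffffffffffffffffffffffffffffffffffffffffffffffffffffffffffffffffffffffffffffffffffffffffffffffffffffffffffffffffffffffffffffffffffffffffffffffffffffffffffffffffffffffffffffffffffffffffffffffffffffffffffffffffffffffffffffffffffffffffffffffffffffffffffffffffffffffffffffffffffffffffffffffffffffffffffffffffffffffffffffffffffffffffffffffffffffffffffffffffffffffffffffffffffffffffffffffffffffffffffffffffffffffffffffffffffffffffffffffffffffffffffffffffffffffffffffffffffffffffffffffffffffffffffffffffffffffffffffffffffffffffffffffffffffffffffffffffffffffffffffffffffffffffffffffffffffffffffffffffffffffffffffffffffffffffffffffffffffffffffffffffffffffffffffffffffffffff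fffffffffffffffffffffffffffffffffffffffffffffffffffffffffffffffffffffffffffffffffffffffffffffffffffffffffffffffffffffffffffffffffffffffffffffffffffffffffffffffffffffffffffffffffffffffffffffffffffffffffffffffffffffffffffffffffffffffffffffffffffffffffffffffffffffffffffffffffffffffffffffffffffffffffffffffffffffffffffffffffffffffffffffffffffffffffffffffffffffffffffffffffffffffffffffffffffffffffffffffffffffffffffffffffffffffffffffffffffffffffffffffffffffffffffffffffffffffffffffffffffffffffffffffffffffffffffffffffffffffffffffffffffffffffffffffffffffffffffffffffffffffffffffffffffffffffffffffffffffffffffffffffffffffffffffffffffffffffffffffffffffffffffffffffffffffffffffffffffff, 17199⟩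
noncomputable def cx_l1 : Level := ⟨553, [[1], [5], [9], [14], [12], [16], [18], [20], [22], [24], [26], [28], [30], [32]], [0, 1, 2, 3, 4, 5, 6, 7, 8, 11, 10, 13, 7, 6, 2, 3], 0x57ba8d25b81871eebd013706ac10a465d81cff3d201177f5851aba280090aa96c37938a206801976dfc05e00fcd0d10010c0089b2022030d79b93b7e53e94d44b20307cf946df7f941c80c83096838470bd0517bdd9ca9794a901001c80b44b037c2d781401769481014c0607e00080104aac883a8600a09d1fe89d61030141639fe1f202c682b85003962c38002097d55c9800178e96b6350821e127e41e35770e7896ec0201031870510982802955d00113b5170341ce5433086deb21903c94001f2a80254bf0f239a188fd3407bc83b9fc210d7038af00c32e82deed10061a707d6fbe908408585ed3e22f4802e0e62380a8c8344bc29d499018380082607323200c60e6a4a7651ad80b5a68089e70368060651d80310e40003076757806646f6d9f51108d8062e7feef52e90f1b9b026d40628794d2483859de18040d614b298d071482a55051924ee44f00ae187143c2b0cb1921be6d09e27516f234def4c646e5e450623134a81d0200544a004be9d8599a929534434fbdeb540afb37377521029534202152a018900ca907be4241d92097a66c7d0422103bad05a37db6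544dd050d64e70bc1392444c522840e0aba20c5b768c7821c48ba0ac640ec3782201179d8505727646260004a8318030c8e13bc642034ac15c110520024c7258c15c082952480918f5537c4b4d49029011c4a23b9b80088e23c5e056c0d4ae0401b898cb86a2b81050000ed7c50d84d808cc20ec001940be9e8a6b637603d563676012d31904737a01d3f8abe392593b3b0125dd94ca20a8c40ddae93b9d6372e184017b8d917cc9001a3bc900001d8a01dfd80cf2409e749000800e8540c0358df24778293dc4fd7d1ca9a2c08aca6559792c5e86c618f18e98192d7857821190c9c53b5e29143b94644a134005f7a3bb46fe2b82dd20611a09a2a9c368bb507211126968b802a2540110d61b8c55c19502da204611132fb040c1839a8a96707c559a59a1443ad740319863a41c0f600e0284e480c0284a0a4180a36c3bafedbf61438d9ccddb30600836dcb568450e7c7b18a0b63d498a0b8026f62cb81aa55046b0201cc788590f2ae8ba496918651ee0d3a290df554855d88e32168901d710c6ee58b857832dfa513d05a0556090be984bd29a9bc861943647c4bc3306ca4de19c71b101044808244b7a07011010914b813b3628693269408b6e65c341a4143fc77a86a5c6a9d9698a88aa92a840205200a8ce0af219ed154d210a1303000366552b91bc0b5d95158404a007a2539f411549b89142eb2bb01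5c706ff70c9e0b480192e3aa0ad93801b6d59802e070990446911160c8c72cf13057020a549200488080129254208587fe5d170040e4000b1000b646e220cb606b15c082c400000200b1621400004022019841d810eec06a00307558d9d8227766151a6d46f8dc357ca0084eec1bf5948dd7b8d17ee03b6b68062800df618c379200f3b24000500db0f3b240e8008054aa02f28f224d94748b6b9728b56b8ad745aae082cdb60b600556029810b3b5e10950d266d410c6938b2a04899813f734b1a96389f548c11a28510c28ab0e6a0175f2410e1854868072ce17469ce480ea456246228014307c559a59d0ae8e84019dd2e19440401b990180508505a428700051b68dce4b7eedbc6f33eb818800c05cea0d7b1aa2b141700c505c070007b16ae0548008095411bca402810c0088638c4289e49000001746a140002d27400308ba1d806b8085c8e55454179722cfb963a45159605e20b7404000200370250d7edb05b0088ab8053012410261014bc10410011004545536022db803b4336400a001d39d96878840a100000007548e2910104836801b4364581561c9e2680715b47e0905122325d856aafad93a0025405d1c3a142b8490c4480008024880801292542000050801c6e8bb0710080040003600040162c42800004a1c00000087760dc6010089dd8378ddd8dc260001b85533a375c00d502e8e1005b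83cec903a0000077a0e040f10bc883e91056ba2d75c085641eeb60305a014336a08634b925e8b44b04fe9e18e21292242885619638282885e8d1ce48279d9202487e8a10002e8e8415001798b6480015a42873a3a2011b858036fd4ef7c0019ce0400758a0b80e380e20000000000a9003402100000007290192040001808000820000800047925c000000000150080000001d1c00101b004000e0700f04f10bc88fe9100080004006c00300375b0181680502080088020001846d680ec1e30540000ba78ba0000012440000761b0cb1fbcd0510a009503747000000ea487e22d10000001420000016616cc2000400250e003a20006e13000370a761700133ae0000000e800ef41c000f103a07a78b057001590d1c4ac5a8c98d9e4964a46658d013ac7e1221404b1c5428cf3b240e801e2d570400a8000e89616d000e8ef54002cc0ed3be01f60001e038b880000000000000d01c4000000000032400000010000400000000000380380000000000001d0000080000038811ba07a78b05700000400302b16a3263640000011cce0e1a0a0001ac7ec0885002b1c7a144000007401078b55a080000000d12c2d900000e854002cc0093ae01f60001007880487b8b570054434752a848de59e483258912b1c6a1443c1490ba0e168550002b64e80ed005b97d80e800e240000003900000000000000000000001c100000001000000008000000d3dc5ab802a200004aa1237966000c9bc24280b1c6a1443c14908010168550002b64e8009005b87d80e800020854868ef967240d8948f05242e03895002e8e40077a0e08000100000000000040000000000000000c5486807967240d8ca21e0a485c0002a005d1c000ef41c010d1de480c50b80e2000003a00f10000000000000000000234739203142e038000000e803c46479d920701c4004080000000191e76481c071001021e49703a0e200000003c92e0741c4007071c400000000e0e38838a000071404000400000,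 6144⟩
noncomputable def cx_l2 : Level := ⟨4721, [[20, 24, 32]], [], 0x800000000000000000000000000000000000000000000000000000000000000000000000000000000000000000000000000000000000000000000000000000000000000000000000000000000000000000000000000000000000000000000000000000000000000000000000000000000000000000000000000000000000000000000000000000000000000000000000000000000000000000000000000000000000000000000000000000000000000000000000000000000000000000000000000000020000000000000000000000000000000000000000000000000000000000000000000000000000000000000000000000000000000000000000000000000000000000000000000000000000000000000000000000000000000000000000000000000000000000000000000000000000000000000000000000000000000000000000000000000000000000000000000000000000000000000000000000000000000000000000000000000000000000000000000000000000000000000000000000000000000000000000000000000000000000000000000000000000000000000000000000000000000000000000000000000000000000000000000000000000000000000000000000000000000000000000000000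000000000000000000000000000000000000000000000000000000000000000000000000000000000000000000000000000000000000000000000000000000000000000000000000000000000000000000000000000000000000000000000000000000000000000000000000000000000000000000000000000000000000000000000000000000000000000000000000000000000000000000000000000000000000000000000000000000000000000000000000000000000000000000000000000000000000000000000000000000000000000000000000000000000000000000000000000000000000000000000000000000000000000000000002000000000000000000000000000000000000000000000000000000000000000000000000000000000000000000000000000000000000000000000000000000, 3⟩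
noncomputable def cx_l3 : Level := ⟨5305, [[29, 23, 8, 25]], [], 0x400000000000000000000000000000000000000000000000000000000000000000000000000000000000000000000000000000000000000000000000000000000000000000000000000000000000000000000000000000000000000000000000000000000000000000000000000000000000000000000000000000000000000000000000000000000000000000000000000000000000000000000000000000000000000000000000000000000000000000000000000000000000000000000000000000000000000000000000000000000000000000000000000000000000000000000000000000000000000000000000000000000000000000000000000000000000000000000000000000000000000000000000000000000000000000000000000000000000000000000000000000000000000000000000000000000000000000000000000000000000000000000000000000000000000000000000000000000000000000000000000000000000000000000000000000000000000000000000000000000000000000000000000000000000000000000000000000000000000000000000000000000000000000000000000000000000000000000000000000000000000000000000000000000000000000000000000000000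00000000000000000000000000000000000000000000000000000000000000000000000000000000000000000000000000000000000000000000000000000000000000000000000000000000000000000000000000000000000000000000000000000000000000000000000000000000000000000000000000000000000000000000000000000000000000000000000000000000000000000000000000000000000000000000000000000000000000000000000000000000000000000000000000000000000000000000000000000000000000000000000000000000000000000000000000000000000000000000000000000000000000000000000000000000000000000000000000000000000000000000000000000000000000020000000000000000000000000000000000000000000000000000000000000000000000000000000000000000000000000000000000000000000000000000000000000000000000000000000000000000000000000000000000000000000000000000000000000000000000000000000000000000000000000000000000000000000000000000000000000000000000000000000000000000000000000000000000000000000000000000000000000000000000000000000000000000000000000000000000000000000000000000000000000000000000000000000000000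00000000000000000000000000000000000000000000000000000000000000000000000000000000000000000000000000000000000000000000000000000000000000000000000000000000000000000000000000000000000000000000000000000000000000000000000000000000000000000000000000000000000000000000000000000000000000000000000000000000000000000000000000000000000000000000000000000000000000000000000000000000000000000000000000000000000000000000000000000000000000000000000000000000000000000000000000000000000000000000000000000000000000000000000000000000000000000000000000000000000000000000000000000000000000000000000000000000000000000000000000000000000000000000000000000000000000000000000000000000000000000000000000000000000000000000000000000000000000000000000000000000000000000000000000000000000000000000000000000000000000000000000000000000000000000000000000000000000000000000000000000000000000000000000000000000000000000, 2⟩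
noncomputable def cx_ls : List Level := [cx_l0, cx_l1, cx_l2, cx_l3]
noncomputable def cx_S : Srch := ⟨15, x_ts, (chainBase [] c_ls), [3, 6, 8, 11, 5, 9, 7, 2, 4, 10], [3, 6, 8, 11, 5, 9, 7, 2, 4, 10], []⟩
noncomputable def cx_lk : List ℕ := [1, 554, 4722]
noncomputable def cx_tl : List Level := [cx_l1, cx_l2, cx_l3]
noncomputable def cx_R0 : ℕ := 0x100000000800000000000000000000000000000040002000400000000000000000000000008000000000000000080000100000000000000000000000000000000000000800000000000002000000000000000000100000000000010000000000000000000080000120000000000000000020000000000008000000000000000000000000000000000000000000000000000000000000000000000000000000000000000000000000000080000000000100000000000000000200000000000000000000000000010040000000000000000000000000000000000000000080000000000000000000000000000000000000c0000000010002000001000000000000800000100000000100000000000000000000000000000000000000000100000008000000000000001000040000c000000000001000000020000000000000000100000100000000000100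00002080000000010000000000000000002010000000000000000002009000000000100000000000080000000020000000000000000000000000000000008048004008000000000000000000008000100000000400000010400000000002000000000000000000008000000000000800000000c8000011000100000000000080000000000000010000000000000000000000090010080000040000000108002000000040000000000000000000200040000000000002000000000000000000000800000000000000000002000000000000002800000080002000000000000000000000000080004000000400000000000000200000000000000000000000000000000004000008050841000000002000000208000008000000000200000100020000000000000040000000000000001020002000004000040000204000004000000080000000000000000000000000008000000000000000000000004000000002440000000000040000000000080000000000083028000000000000000008000040000000000000000010000000040000000000200200000010000000000800004000000400000000000040000100000100000000000000001000000000000000100800800010022000000900100200000800000000000000180000001004000400080400800c000010204000000000000000000800000100000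00400000400020000000082200001a000000000020140000085200000000000000400000020022280200200200800001000000000000000808200012000000000000000004000000000000000008000000000200000000000020000000030020010020000004281000000040000080040000000004008000000080020020c1200840004000084040000000000040000000000000008000000000009040000000010000800804000002000000000800000000000004100400000000000040000000000000040000000008000001080000000000000000000000000488208204200010002021400080000000000000800500000000040242102000000000000000000040010004020001000408800800014040400000000200002000000004040000000000000000108180025000004500822100000000080000200408000000000210301400000000000000061100000000070000000a100010000002000000100000000080000000000080002004000000000040002010000000000000100300800100004000000000000000004000000000100001310000200000a9000204000000000001880020110004000140200000017a08a0000100000000000000840040000814010000000000000000000000040d00000000041002040000000000000a000500010204400800006200810000000000000100000000002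0400000004000210000120a802000000080000000082800004000100000126c000810ca04010000000001000000001220000000002200000000440000a0004000405010000000000080080002022000000001000000000000000403000000000000004000000000c1400200000000000000880080a0000800000840000000e40008000080200001021001201004200407000000000006800a0111900002000043385900000180001800400008200a8000004200000000000100011002000400000002000082010000040008002040840020080000154100804000802000000008000000000200000000100000040100300000060040000800000008004288008020202000008400780000022020080800100210048800001000040000400900184400000010004080004400001072204100008000000c00206804200000000181420040010000080010000008008020400050000002000080000004020000000100110424001c0000000041000200010001090000240020008000200090009d2029000018e00410020000863888080004001000a090008010200108300201c810008000040000c1000000060003a000026200004103000040000818000100000000004800a00001000402100000000006090080450004000000000000200005010000006000024001c002010008084402020257000421d0080002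c0006010886440000260800184108002042000200808000202200000000000410040000000040000a00002000120900080000000800a02042429101000003f0000023d030400c000000038400408101940080000081020810000018080000000200010000000101000010000402008400a20000008000005080040040112b9a06200310010c0800c1000410600080402620281a0080004e31000a001403080340c000018012c0018a105280f10200000148100084050008400008000601080207a100100da106138042485022693fa80e0029e0fea23c09e32032680000480402020000df87e463c11b253fc0fa44802d1ddc23d19264010000201100e37abc68cdf3931a937945e8e1ba8132002f7f64c5d7bef7cf2d59109effedbd37b377b0ffff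
theorem cx_l0_ok : (ptsOK 15 [] && (wordsIn [0, 2, 4, 6, 8, 10, 12, 14, 16, 18, 20, 22, 24, 26, 28, 30, 32, 34, 36, 38, 40, 42] cx_l0.S && cx_l0.ok 15 x_ns x_ts [])) = true := by decide +kernel
theorem cx_l1_ok : (ptsOK 15 [0] && (wordsIn [0, 2, 4, 6, 8, 10, 12, 14, 16, 18, 20, 22, 24, 26, 28, 30, 32, 34, 36, 38, 40, 42] cx_l1.S && cx_l1.ok 15 x_ns x_ts [0])) = true := by decide +kernel
theorem cx_l2_ok : cx_l2.okT 15 x_ts [0, 2, 4, 6, 8, 10, 12, 14, 16, 18, 20, 22, 24, 26, 28, 30, 32, 34, 36, 38, 40, 42] [553, 0] (.cons [0] .nil (.cons [1] .nil .nil)) = true := by decide +kernel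
theorem cx_l3_ok : cx_l3.okT 15 x_ts [0, 2, 4, 6, 8, 10, 12, 14, 16, 18, 20, 22, 24, 26, 28, 30, 32, 34, 36, 38, 40, 42] [4721, 553, 0] (.cons [0] .nil .nil) = true := by decide +kernel
theorem cx_aux : cx_S.auxB [0, 2, 4, 6, 8, 10, 12, 14, 16, 18, 20, 22, 24, 26, 28, 30, 32, 34, 36, 38, 40, 42] cx_ls [] (0 :: cx_lk) = true := by decide +kernel
theorem cx_cov : Nat.beq (Nat.land cx_l0.O (Srch.cover x_ns (invW cx_S.u') cx_R0 12)) cx_l0.O = true := by decide +kernel
theorem cx_r0 : cx_S.run (.cons [] (.cons [] (.cons [] (.cons [] (.leaf 2000) .nil) .nil) .nil) (.cons [2] (.cons [0] .nil .nil) (.cons [6] .nil (.cons [10] (.cons [20, 22, 17] .nil .nil) (.cons [11] .nil (.cons [34] (.cons [9, 12, 19] .nil .nil) (.cons [35] .nil (.cons [36] .nil (.cons [37] .nil (.cons [38] .nil (.cons [39] .nil (.cons [40] .nil (.cons [41] .nil (.cons [42] (.cons [20, 14, 26] .nil .nil) (.cons [43] .nil (.cons [0, 2] (.cons [4, 6, 25] .nil .nil) (.cons [6, 2] .nil (.cons [10, 2] (.cons [26, 20, 18] .nil .nil) (.cons [11,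 2] .nil (.cons [18, 2] .nil (.cons [19, 2] (.cons [4, 21, 13] .nil .nil) (.cons [20, 2] (.cons [16, 24, 23, 10] .nil .nil) (.cons [22, 2] (.cons [9, 10, 16, 24] .nil .nil) (.cons [23, 2] .nil (.cons [24, 2] (.cons [10, 15, 6] .nil .nil) (.cons [26, 2] (.cons [12, 14, 24] .nil .nil) (.cons [27, 2] (.cons [15, 10, 21] .nil .nil) (.cons [28, 2] .nil (.cons [29, 2] .nil (.cons [30, 2] .nil (.cons [31, 2] .nil (.cons [32, 2] (.cons [14, 12, 26] .nil .nil) (.cons [33, 2] (.cons [21, 13, 27] .nil .nil) (.cons [34, 2] (.cons [20, 18, 27] .nil .nil) (.cons [35, 2] .nil (.cons [36, 2] .nil (.cons [37, 2] .nil (.cons [38, 2] .nil (.cons [39, 2] .nil (.cons [40, 2] .nil (.cons [41, 2] .nil (.cons [42, 2] .nil (.cons [43, 2] .nil (.cons [8, 6] .nil (.cons [10, 6] .nil (.cons [14, 6] .nil (.cons [16, 6] (.cons [17, 27, 9] .nil .nil) (.cons [18, 6] .nil (.cons [19, 6] .nil (.cons [30, 6] (.cons [14, 17, 2] .nil .nil) (.cons [31, 6] .nil (.cons [34, 6] .nil (.cons [36, 6] (.cons [10, 21, 8] .nil .nil) (.cons [37,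 6] (.cons [18, 25, 18, 21] .nil .nil) (.cons [38, 6] (.cons [0, 23, 21] .nil .nil) (.cons [39, 6] .nil (.cons [40, 6] (.cons [10, 4, 0, 9] .nil .nil) (.cons [41, 6] .nil (.cons [43, 6] .nil (.cons [11, 11] (.cons [9, 20, 4] .nil .nil) (.cons [12, 11] .nil (.cons [34, 11] .nil (.cons [35, 11] .nil (.cons [36, 11] .nil (.cons [40, 11] .nil (.cons [41, 11] .nil (.cons [42, 11] .nil (.cons [10, 10] .nil (.cons [12, 10] .nil (.cons [34, 10] .nil (.cons [35, 10] (.cons [25, 14, 23] .nil .nil) (.cons [37, 10] (.cons [0, 9, 25] .nil .nil) (.cons [38, 10] (.cons [24, 27, 16] .nil .nil) (.cons [39, 10] .nil (.cons [41, 10] .nil (.cons [42, 10] .nil (.cons [18, 36] (.cons [22, 15] .nil .nil) (.cons [19, 36] .nil (.cons [20, 36] (.cons [22, 14, 4] .nil .nil) (.cons [21, 36] .nil (.cons [22, 36] .nil (.cons [23, 36] .nil (.cons [24, 36] .nil (.cons [25, 36] (.cons [24, 13, 15, 4] .nil .nil) (.cons [26, 36] .nil (.cons [27, 36] .nil (.cons [28, 36] .nil (.cons [29, 36] (.cons [4, 20, 25] .nil .nil) (.cons [31, 36]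 .nil (.cons [32, 36] (.cons [4, 14, 12] .nil .nil) (.cons [33, 36] (.cons [14, 18, 18] .nil .nil) (.cons [34, 36] (.cons [23, 25, 17] .nil .nil) (.cons [38, 36] (.cons [13, 25, 25] .nil .nil) (.cons [39, 36] .nil (.cons [40, 36] .nil (.cons [41, 36] (.cons [26, 22] .nil .nil) (.cons [18, 37] .nil (.cons [19, 37] (.cons [23, 25, 21] .nil .nil) (.cons [20, 37] .nil (.cons [21, 37] (.cons [20, 20, 24] .nil .nil) (.cons [22, 37] (.cons [24, 10, 13] .nil .nil) (.cons [23, 37] (.cons [17, 19, 25] .nil .nil) (.cons [24, 37] .nil (.cons [25, 37] (.cons [18, 13, 8] .nil .nil) (.cons [26, 37] (.cons [13, 27, 22] .nil .nil) (.cons [27, 37] (.cons [13, 4, 0, 25] .nil .nil) (.cons [28, 37] (.cons [20, 26, 16] .nil .nil) (.cons [29, 37] (.cons [26, 17, 21] .nil .nil) (.cons [31, 37] .nil (.cons [32, 37] (.cons [17, 17, 14] .nil .nil) (.cons [33, 37] .nil (.cons [34, 37] .nil (.cons [35, 37] (.cons [22, 4, 25, 20] .nil .nil) (.cons [38, 37] .nil (.cons [41, 37] (.cons [23, 17, 23] .nil .nil) (.cons [6, 39] (.cons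 [4, 23, 25] .nil .nil) (.cons [16, 39] (.cons [6, 10, 4] .nil .nil) (.cons [18, 39] .nil (.cons [19, 39] .nil (.cons [20, 39] .nil (.cons [21, 39] .nil (.cons [22, 39] .nil (.cons [23, 39] .nil (.cons [24, 39] .nil (.cons [25, 39] (.cons [23, 26, 6] .nil .nil) (.cons [26, 39] .nil (.cons [27, 39] (.cons [23, 6, 18, 21] .nil .nil) (.cons [28, 39] .nil (.cons [29, 39] .nil (.cons [30, 39] (.cons [18, 15, 21] .nil .nil) (.cons [31, 39] .nil (.cons [33, 39] (.cons [10, 26, 13] .nil .nil) (.cons [34, 39] (.cons [4, 9, 23] .nil .nil) (.cons [35, 39] .nil (.cons [36, 39] (.cons [13, 9, 14, 8] .nil .nil) (.cons [37, 39] .nil (.cons [39, 39] .nil (.cons [40, 39] (.cons [4, 25, 23] .nil .nil) (.cons [41, 39] (.cons [24, 10, 2] .nil .nil) (.cons [16, 43] .nil (.cons [19, 43] .nil (.cons [20, 43] .nil (.cons [21, 43] .nil (.cons [22, 43] .nil (.cons [23, 43] (.cons [22, 10, 13] .nil .nil) (.cons [24, 43] .nil (.cons [25, 43] .nil (.cons [26, 43] (.cons [20, 24, 4, 25] .nil .nil) (.cons [27, 43] (.cons [0, 8, 10]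 .nil .nil) (.cons [28, 43] .nil (.cons [29, 43] (.cons [17, 12, 21] .nil .nil) (.cons [30, 43] .nil (.cons [32, 43] .nil (.cons [38, 43] .nil (.cons [39, 43] .nil (.cons [40, 43] .nil (.cons [2, 34] (.cons [2, 23, 14] .nil .nil) (.cons [4, 34] (.cons [24, 4, 19] .nil .nil) (.cons [10, 34] .nil (.cons [11, 34] .nil (.cons [12, 34] .nil (.cons [18, 34] (.cons [8, 4, 24] .nil .nil) (.cons [19, 34] .nil (.cons [20, 34] (.cons [10, 22, 15] .nil .nil) (.cons [21, 34] .nil (.cons [23, 34] .nil (.cons [24, 34] .nil (.cons [25, 34] .nil (.cons [26, 34] .nil (.cons [28, 34] .nil (.cons [29, 34] .nil (.cons [31, 34] .nil (.cons [32, 34] .nil (.cons [33, 34] .nil (.cons [34, 34] .nil (.cons [38, 34] (.cons [19, 13, 4] .nil .nil) (.cons [39, 34] .nil (.cons [40, 34] .nil (.cons [43, 34] .nil (.cons [20, 40] (.cons [24, 20, 27] .nil .nil) (.cons [21, 40] .nil (.cons [22, 40] .nil (.cons [23, 40] .nil (.cons [24, 40] .nil (.cons [25, 40] .nil (.cons [28, 40] .nil (.cons [29, 40] .nil (.cons [30, 40] .nil (.cons [32,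 40] .nil (.cons [36, 40] .nil (.cons [38, 40] .nil (.cons [39, 40] (.cons [9, 25] .nil .nil) (.cons [43, 40] .nil (.cons [4, 35] .nil (.cons [6, 35] (.cons [9, 20] .nil .nil) (.cons [8, 35] .nil (.cons [10, 35] (.cons [24, 12, 19] .nil .nil) (.cons [11, 35] .nil (.cons [12, 35] (.cons [20] .nil .nil) (.cons [16, 35] .nil (.cons [19, 35] .nil (.cons [20, 35] (.cons [14, 24, 4, 25] .nil .nil) (.cons [21, 35] .nil (.cons [22, 35] .nil (.cons [23, 35] .nil (.cons [24, 35] .nil (.cons [25, 35] (.cons [9, 26, 12] .nil .nil) (.cons [26, 35] .nil (.cons [27, 35] .nil (.cons [28, 35] (.cons [18, 25, 26] .nil .nil) (.cons [29, 35] (.cons [9, 17, 26] .nil .nil) (.cons [31, 35] .nil (.cons [32, 35] .nil (.cons [33, 35] (.cons [16] .nil .nil) (.cons [35, 35] .nil (.cons [37, 35] (.cons [22, 27, 0] .nil .nil) (.cons [38, 35] (.cons [12, 10, 19, 17] .nil .nil) (.cons [39, 35] .nil (.cons [40, 35] .nil (.cons [0, 38] .nil (.cons [11, 38] .nil (.cons [13, 38] .nil (.cons [19, 38] .nil (.cons [20, 38] .nil (.cons [21,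 38] (.cons [23, 23, 21] .nil .nil) (.cons [23, 38] .nil (.cons [24, 38] (.cons [14, 8, 19, 6] .nil .nil) (.cons [25, 38] .nil (.cons [27, 38] (.cons [18, 10, 4] .nil .nil) (.cons [28, 38] (.cons [21, 27, 4] .nil .nil) (.cons [29, 38] (.cons [20, 23, 18] .nil .nil) (.cons [30, 38] .nil (.cons [31, 38] (.cons [23, 8, 20] .nil .nil) (.cons [32, 38] .nil (.cons [33, 38] .nil (.cons [34, 38] .nil (.cons [35, 38] (.cons [13, 15, 27] .nil .nil) (.cons [36, 38] .nil (.cons [40, 38] (.cons [26, 24, 23, 10] .nil .nil) (.cons [41, 38] .nil (.cons [42, 38] .nil (.cons [0, 42] .nil (.cons [6, 42] (.cons [20, 10, 26] .nil .nil) (.cons [12, 42] .nil (.cons [18, 42] .nil (.cons [19, 42] .nil (.cons [20, 42] .nil (.cons [22, 42] .nil (.cons [23, 42] .nil (.cons [24, 42] (.cons [13, 17] .nil .nil) (.cons [25, 42] .nil (.cons [26, 42] (.cons [6, 4, 0] .nil .nil) (.cons [27, 42] .nil (.cons [28, 42] .nil (.cons [29, 42] .nil (.cons [30, 42] .nil (.cons [31, 42] .nil (.cons [32, 42] .nil (.cons [38, 42] .nil (.cons [40,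 42] .nil (.cons [41, 42] .nil (.cons [42, 42] .nil (.cons [2, 41] .nil (.cons [4, 41] (.cons [25, 0, 25] .nil .nil) (.cons [11, 41] (.cons [25, 10, 4] .nil .nil) (.cons [13, 41] (.cons [17, 21, 17] .nil .nil) (.cons [16, 41] (.cons [6, 4, 14] .nil .nil) (.cons [18, 41] (.cons [18, 4, 20] .nil .nil) (.cons [19, 41] .nil (.cons [20, 41] .nil (.cons [22, 41] .nil (.cons [23, 41] (.cons [18, 27, 8, 0] .nil .nil) (.cons [24, 41] .nil (.cons [25, 41] (.cons [2, 25, 15] .nil .nil) (.cons [26, 41] (.cons [23, 19, 10] .nil .nil) (.cons [27, 41] (.cons [19, 21, 13] .nil .nil) (.cons [29, 41] (.cons [12, 9, 17, 9] .nil .nil) (.cons [31, 41] (.cons [9, 10, 8] .nil .nil) (.cons [34, 41] (.cons [17, 27] .nil .nil) (.cons [41, 41] .nil (.cons [42, 41] (.cons [17, 8] .nil .nil) (.cons [43, 41] .nil (.cons [18, 0, 2] (.cons [10, 16] .nil .nil) (.cons [19, 0, 2] .nil (.cons [20, 0, 2] .nil (.cons [21, 0, 2] .nil (.cons [22, 0, 2] (.cons [25, 2, 4, 17] .nil .nil) (.cons [24, 0, 2] .nil (.cons [26, 0, 2] (.cons [12, 4,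 6, 25] .nil .nil) (.cons [27, 0, 2] (.cons [23, 15, 23] .nil .nil) (.cons [28, 0, 2] (.cons [19, 21, 23, 14] .nil .nil) (.cons [29, 0, 2] .nil (.cons [31, 0, 2] (.cons [17, 25, 19] .nil .nil) (.cons [33, 0, 2] (.cons [24, 27, 13, 10] .nil .nil) (.cons [38, 0, 2] .nil (.cons [16, 6, 2] (.cons [18, 20, 16, 21] .nil .nil) (.cons [19, 6, 2] .nil (.cons [20, 6, 2] .nil (.cons [21, 6, 2] (.cons [4, 25, 15] .nil .nil) (.cons [23, 6, 2] (.cons [14, 2, 24] .nil .nil) (.cons [24, 6, 2] .nil (.cons [25, 6, 2] (.cons [13, 20, 13] .nil .nil) (.cons [27, 6, 2] .nil (.cons [28, 6, 2] .nil (.cons [29, 6, 2] (.cons [13, 22, 25] .nil .nil) (.cons [32, 6, 2] .nil (.cons [36, 6, 2] .nil (.cons [22, 11, 2] (.cons [27, 22] .nil .nil) (.cons [23, 11, 2] (.cons [24, 15, 4] .nil .nil) (.cons [24, 11, 2] (.cons [8, 17, 17] .nil .nil) (.cons [25, 11, 2] (.cons [25, 17, 6] .nil .nil) (.cons [26, 11, 2] .nil (.cons [28, 11, 2] .nil (.cons [29, 11, 2] .nil (.cons [30, 11, 2] .nil (.cons [31, 11, 2] (.cons [16, 20, 25] .nil .nil)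 (.cons [33, 11, 2] .nil (.cons [38, 11, 2] .nil (.cons [19, 10, 2] .nil (.cons [20, 10, 2] .nil (.cons [22, 10, 2] .nil (.cons [23, 10, 2] .nil (.cons [24, 10, 2] .nil (.cons [25, 10, 2] .nil (.cons [26, 10, 2] (.cons [18, 24, 27] .nil .nil) (.cons [28, 10, 2] (.cons [12, 18, 20] .nil .nil) (.cons [29, 10, 2] .nil (.cons [31, 10, 2] (.cons [4, 14, 12] .nil .nil) (.cons [42, 10, 2] .nil (.cons [18, 8, 6] .nil (.cons [30, 8, 6] .nil (.cons [37, 8, 6] (.cons [19, 24, 8] .nil .nil) (.cons [39, 8, 6] .nil (.cons [42, 8, 6] .nil (.cons [43, 8, 6] .nil (.cons [8, 39, 2] (.cons [4, 22, 9] .nil .nil) (.cons [14, 39, 2] (.cons [21, 8, 23] .nil .nil) (.cons [16, 39, 2] (.cons [0, 15, 16] .nil .nil) (.cons [18, 39, 2] .nil (.cons [22, 39, 2] .nil (.cons [24, 39, 2] .nil (.cons [25, 39, 2] .nil (.cons [26, 39, 2] (.cons [4, 18, 6] .nil .nil) (.cons [28, 39, 2] .nil (.cons [30, 39, 2] (.cons [6, 13, 17] .nil .nil) (.cons [31, 39, 2] (.cons [18, 26, 8] .nil .nil) (.cons [37, 39, 2] .nil (.cons [39, 39, 2] .nil (.cons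 [43, 39, 2] .nil (.cons [14, 10, 6] .nil (.cons [16, 10, 6] .nil (.cons [24, 10, 6] .nil (.cons [30, 10, 6] .nil (.cons [37, 10, 6] .nil (.cons [39, 10, 6] .nil (.cons [42, 11, 11] .nil (.cons [35, 12, 11] (.cons [2, 16, 21] .nil .nil) (.cons [35, 10, 10] .nil (.cons [41, 10, 10] (.cons [4, 14, 21] .nil .nil) (.cons [42, 10, 10] (.cons [23, 20, 0] .nil .nil) (.cons [35, 12, 10] (.cons [10, 17, 19] .nil .nil) (.cons [41, 12, 10] (.cons [16, 24, 10, 25] .nil .nil) (.cons [18, 43, 36] .nil (.cons [19, 43, 36] (.cons [23, 15, 13] .nil .nil) (.cons [20, 43, 36] .nil (.cons [21, 43, 36] .nil (.cons [22, 43, 36] .nil (.cons [23, 43, 36] .nil (.cons [24, 43, 36] .nil (.cons [25, 43, 36] .nil (.cons [26, 43, 36] .nil (.cons [27, 43, 36] (.cons [16, 14, 19] .nil .nil) (.cons [28, 43, 36] .nil (.cons [29, 43, 36] (.cons [19, 10, 15] .nil .nil) (.cons [31, 43, 36] .nil (.cons [33, 43, 36] .nil (.cons [37, 43, 36] .nil (.cons [38, 43, 36] .nil (.cons [18, 13, 36] .nil (.cons [21, 13, 36] .nil (.cons [22, 13, 36]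 (.cons [4, 12, 6] .nil .nil) (.cons [24, 13, 36] (.cons [22, 16, 15] .nil .nil) (.cons [27, 13, 36] (.cons [6, 16, 9] .nil .nil) (.cons [28, 13, 36] (.cons [12, 12, 19] .nil .nil) (.cons [29, 13, 36] .nil (.cons [31, 13, 36] .nil (.cons [32, 13, 36] .nil (.cons [38, 13, 36] (.cons [23, 16, 23] .nil .nil) (.cons [19, 13, 37] .nil (.cons [20, 13, 37] .nil (.cons [21, 13, 37] .nil (.cons [22, 13, 37] .nil (.cons [23, 13, 37] .nil (.cons [24, 13, 37] (.cons [25, 22, 18] .nil .nil) (.cons [26, 13, 37] .nil (.cons [27, 13, 37] .nil (.cons [28, 13, 37] .nil (.cons [29, 13, 37] (.cons [20, 15, 22, 13] .nil .nil) (.cons [31, 13, 37] (.cons [10, 13, 23] .nil .nil) (.cons [32, 13, 37] (.cons [24, 24, 6, 21] .nil .nil) (.cons [33, 13, 37] .nil (.cons [38, 13, 37] .nil (.cons [18, 10, 39] (.cons [17, 10, 26, 20] .nil .nil) (.cons [19, 10, 39] (.cons [18, 23, 4, 9] .nil .nil) (.cons [20, 10, 39] .nil (.cons [23, 10, 39] .nil (.cons [25, 10, 39] (.cons [24, 12, 8] .nil .nil) (.cons [26, 10, 39] (.cons [25, 19, 14]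 .nil .nil) (.cons [27, 10, 39] .nil (.cons [29, 10, 39] .nil (.cons [35, 10, 39] (.cons [14, 27, 14] .nil .nil) (.cons [18, 34, 10] .nil (.cons [19, 34, 10] .nil (.cons [20, 34, 10] .nil (.cons [23, 34, 10] .nil (.cons [24, 34, 10] .nil (.cons [25, 34, 10] .nil (.cons [26, 34, 10] .nil (.cons [28, 34, 10] .nil (.cons [29, 34, 10] (.cons [9, 2, 15, 13] .nil .nil) (.cons [31, 34, 10] .nil (.cons [33, 34, 10] (.cons [13, 4, 22] .nil .nil) (.cons [34, 34, 10] .nil (.cons [38, 34, 10] .nil (.cons [39, 34, 10] .nil (.cons [40, 34, 10] .nil (.cons [20, 34, 6] .nil (.cons [22, 34, 6] .nil (.cons [23, 34, 6] .nil (.cons [24, 34, 6] (.cons [14, 27, 24] .nil .nil) (.cons [25, 34, 6] .nil (.cons [26, 34, 6] (.cons [23, 20, 23] .nil .nil) (.cons [28, 34, 6] .nil (.cons [29, 34, 6] .nil (.cons [30, 34, 6] .nil (.cons [32, 34, 6] (.cons [12, 27, 13, 9] .nil .nil) (.cons [38, 34, 6] (.cons [15, 18, 27] .nil .nil) (.cons [20, 40, 10] (.cons [6, 21, 8] .nil .nil) (.cons [24, 40, 10] .nil (.cons [25, 40, 10] (.cons [19,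 6, 17] .nil .nil) (.cons [28, 40, 10] .nil (.cons [29, 40, 10] .nil (.cons [30, 40, 10] .nil (.cons [32, 40, 10] .nil (.cons [40, 40, 10] (.cons [20, 22, 24, 21] .nil .nil) (.cons [19, 38, 6] .nil (.cons [20, 38, 6] .nil (.cons [22, 38, 6] .nil (.cons [23, 38, 6] (.cons [27, 19, 13, 6] .nil .nil) (.cons [24, 38, 6] .nil (.cons [26, 38, 6] (.cons [27, 10, 21] .nil .nil) (.cons [29, 38, 6] .nil (.cons [42, 38, 6] (.cons [13, 17, 18, 27] .nil .nil) (.cons [19, 36, 2] (.cons [24, 20, 15] .nil .nil) (.cons [20, 36, 2] (.cons [27, 8, 20] .nil .nil) (.cons [22, 36, 2] .nil (.cons [24, 36, 2] .nil (.cons [26, 36, 2] .nil (.cons [28, 36, 2] (.cons [16, 20, 15, 21] .nil .nil) (.cons [29, 36, 2] .nil (.cons [30, 36, 2] .nil (.cons [31, 36, 2] .nil (.cons [42, 36, 2] (.cons [21, 13, 27] .nil .nil) (.cons [19, 41, 6] (.cons [27, 22, 20, 22] .nil .nil) (.cons [22, 41, 6] .nil (.cons [26, 41, 6] .nil (.cons [28, 41, 6] .nil (.cons [29, 41, 6] .nil (.cons [30, 41, 6] .nil (.cons [31, 41, 6] (.cons [17, 17, 14] .nil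 .nil) (.cons [34, 41, 6] .nil (.cons [42, 41, 6] .nil (.cons [19, 37, 2] .nil (.cons [20, 37, 2] .nil (.cons [22, 37, 2] (.cons [0, 9, 10, 25] .nil .nil) (.cons [24, 37, 2] (.cons [19, 17, 14] .nil .nil) (.cons [26, 37, 2] .nil (.cons [28, 37, 2] (.cons [24, 17] .nil .nil) (.cons [29, 37, 2] .nil (.cons [42, 37, 2] .nil (.cons [16, 35, 2] (.cons [0, 20, 13] .nil .nil) (.cons [19, 35, 2] .nil (.cons [25, 35, 2] (.cons [26, 20, 8, 14] .nil .nil) (.cons [30, 35, 2] (.cons [14, 0, 25] .nil .nil) (.cons [31, 35, 2] (.cons [4, 23, 4] .nil .nil) (.cons [35, 35, 2] .nil (.cons [39, 35, 2] .nil (.cons [40, 35, 2] .nil (.cons [30, 43, 2] .nil (.cons [43, 43, 2] .nil (.cons [14, 35, 40] (.cons [15, 2, 4] .nil .nil) (.cons [30, 35, 40] .nil (.cons [43, 35, 40] .nil (.cons [30, 2, 34] .nil (.cons [39, 2, 34] .nil (.cons [43, 2, 34] .nil (.cons [14, 40, 2] .nil (.cons [30, 40, 2] (.cons [12, 21, 8] .nil .nil) (.cons [18, 11, 35] .nil (.cons [19, 11, 35] (.cons [10, 12, 25, 14] .nil .nil) (.cons [20, 11, 35] .nil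 (.cons [22, 11, 35] (.cons [22, 18, 16] .nil .nil) (.cons [23, 11, 35] .nil (.cons [24, 11, 35] .nil (.cons [25, 11, 35] .nil (.cons [28, 11, 35] (.cons [14, 24, 13] .nil .nil) (.cons [29, 11, 35] .nil (.cons [31, 11, 35] .nil (.cons [33, 11, 35] .nil (.cons [38, 11, 35] (.cons [14, 17, 4] .nil .nil) (.cons [42, 11, 35] .nil (.cons [18, 40, 36] .nil (.cons [19, 40, 36] .nil (.cons [20, 40, 36] (.cons [23, 23, 19] .nil .nil) (.cons [21, 40, 36] .nil (.cons [22, 40, 36] .nil (.cons [24, 40, 36] .nil (.cons [25, 40, 36] (.cons [20, 6, 21] .nil .nil) (.cons [27, 40, 36] .nil (.cons [29, 40, 36] .nil (.cons [32, 40, 36] .nil (.cons [33, 40, 36] .nil (.cons [38, 40, 36] (.cons [14, 20] .nil .nil) (.cons [19, 35, 6] (.cons [20, 22, 25] .nil .nil) (.cons [20, 35, 6] .nil (.cons [21, 35, 6] .nil (.cons [22, 35, 6] .nil (.cons [23, 35, 6] (.cons [20, 23, 18, 24] .nil .nil) (.cons [24, 35, 6] .nil (.cons [25, 35, 6] (.cons [13, 26, 4] .nil .nil) (.cons [28, 35, 6] (.cons [12, 0, 27] .nil .nil) (.cons [29, 35,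 6] (.cons [24, 15, 13] .nil .nil) (.cons [32, 35, 6] .nil (.cons [33, 35, 6] .nil (.cons [38, 35, 6] .nil (.cons [18, 37, 10] .nil (.cons [19, 37, 10] (.cons [12, 19, 12] .nil .nil) (.cons [21, 37, 10] (.cons [18, 27] .nil .nil) (.cons [24, 37, 10] .nil (.cons [26, 37, 10] .nil (.cons [28, 37, 10] .nil (.cons [31, 37, 10] (.cons [21, 13, 10, 23] .nil .nil) (.cons [32, 37, 10] .nil (.cons [33, 37, 10] .nil (.cons [18, 36, 11] (.cons [20, 25] .nil .nil) (.cons [19, 36, 11] (.cons [23, 14, 6] .nil .nil) (.cons [20, 36, 11] .nil (.cons [21, 36, 11] (.cons [19, 6] .nil .nil) (.cons [24, 36, 11] (.cons [15, 10, 25] .nil .nil) (.cons [26, 36, 11] .nil (.cons [28, 36, 11] .nil (.cons [29, 36, 11] .nil (.cons [31, 36, 11] .nil (.cons [19, 42, 35] (.cons [24, 21, 12] .nil .nil) (.cons [23, 42, 35] (.cons [19, 4, 21] .nil .nil) (.cons [25, 42, 35] .nil (.cons [27, 42, 35] .nil (.cons [35, 42, 35] .nil (.cons [23, 37, 41] .nil (.cons [25, 37, 41] .nil (.cons [26, 37, 41] .nil (.cons [28, 37, 41] .nil (.cons [34,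 37, 41] .nil (.cons [38, 37, 41] (.cons [8, 25] .nil .nil) (.cons [12, 42, 10] .nil (.cons [19, 42, 10] (.cons [15, 12, 8] .nil .nil) (.cons [20, 42, 10] .nil (.cons [22, 42, 10] .nil (.cons [23, 42, 10] (.cons [4, 12, 8] .nil .nil) (.cons [25, 42, 10] .nil (.cons [26, 42, 10] (.cons [15, 9, 17] .nil .nil) (.cons [31, 42, 10] .nil (.cons [36, 42, 10] .nil (.cons [38, 42, 10] (.cons [20, 19, 22] .nil .nil) (.cons [20, 40, 11] .nil (.cons [24, 40, 11] (.cons [23, 15, 24] .nil .nil) (.cons [25, 40, 11] (.cons [18, 6, 18, 24] .nil .nil) (.cons [26, 40, 11] .nil (.cons [28, 40, 11] .nil (.cons [29, 40, 11] .nil (.cons [30, 40, 11] .nil (.cons [20, 11, 43] (.cons [2, 8] .nil .nil) (.cons [23, 11, 43] (.cons [20, 12, 9] .nil .nil) (.cons [24, 11, 43] (.cons [14, 10, 4] .nil .nil) (.cons [25, 11, 43] .nil (.cons [28, 11, 43] .nil (.cons [29, 11, 43] (.cons [15, 16, 26] .nil .nil) (.cons [30, 11, 43] .nil (.cons [32, 11, 43] (.cons [19, 26, 4] .nil .nil) (.cons [12, 41, 34] .nil (.cons [30, 41, 34] .nil (.cons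 [31, 41, 34] .nil (.cons [30, 39, 34] .nil (.cons [35, 39, 34] .nil (.cons [36, 39, 34] .nil (.cons [39, 39, 34] .nil (.cons [14, 35, 38] .nil (.cons [30, 35, 38] .nil (.cons [6, 19, 6] (.cons [4, 12, 18] .nil .nil) (.cons [31, 19, 6] (.cons [22, 12, 18] .nil .nil) (.cons [35, 19, 6] (.cons [15, 26, 22] .nil .nil) (.cons [39, 19, 6] .nil (.cons [23, 34, 36] (.cons [14, 2, 25, 12] .nil .nil) (.cons [25, 34, 36] .nil (.cons [30, 34, 36] .nil (.cons [43, 34, 36] .nil (.cons [30, 37, 39] (.cons [14, 16, 19] .nil .nil) (.cons [38, 37, 39] .nil (.cons [39, 37, 39] .nil (.cons [43, 37, 39] .nil (.cons [31, 39, 43] .nil (.cons [35, 39, 43] (.cons [27, 25, 10] .nil .nil) (.cons [39, 39, 43] .nil (.cons [30, 41, 2] .nil (.cons [38, 41, 2] .nil (.cons [43, 41, 2] .nil (.cons [30, 34, 37] (.cons [12, 27, 14] .nil .nil) (.cons [31, 34, 37] (.cons [27, 2, 15, 13] .nil .nil) (.cons [43, 34, 37] .nil (.cons [16, 14, 6] .nil (.cons [27, 14, 6] .nil (.cons [29, 14, 6] .nil (.cons [34, 14, 6] (.cons [14, 10, 25] .nil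 .nil) (.cons [35, 14, 6] .nil (.cons [40, 14, 6] .nil (.cons [42, 14, 6] .nil (.cons [19, 30, 2] .nil (.cons [21, 30, 2] .nil (.cons [24, 30, 2] (.cons [23, 20, 10] .nil .nil) (.cons [25, 30, 2] (.cons [4, 12, 8] .nil .nil) (.cons [27, 30, 2] .nil (.cons [28, 30, 2] (.cons [20, 16, 27] .nil .nil) (.cons [33, 30, 2] (.cons [12, 9, 12] .nil .nil) (.cons [35, 30, 2] (.cons [23, 25, 17] .nil .nil) (.cons [43, 30, 2] (.cons [18, 6, 18, 24] .nil .nil) (.cons [20, 0, 39] .nil (.cons [23, 0, 39] .nil (.cons [24, 0, 39] .nil (.cons [25, 0, 39] (.cons [18, 17, 19, 19] .nil .nil) (.cons [28, 0, 39] (.cons [16, 26, 8, 20] .nil .nil) (.cons [34, 0, 39] .nil (.cons [42, 0, 39] (.cons [19, 4, 14] .nil .nil) (.cons [43, 0, 39] .nil (.cons [20, 39, 36] .nil (.cons [23, 39, 36] (.cons [16, 15, 0] .nil .nil) (.cons [24, 39, 36] (.cons [23, 13, 10, 23] .nil .nil) (.cons [26, 39, 36] .nil (.cons [27, 39, 36] (.cons [25, 10, 14] .nil .nil) (.cons [34, 39, 36] (.cons [23, 24, 14, 8] .nil .nil) (.cons [42, 39, 36] .nil (.cons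 [11, 6, 35] .nil (.cons [18, 6, 35] (.cons [9, 25, 15] .nil .nil) (.cons [19, 6, 35] .nil (.cons [21, 6, 35] .nil (.cons [23, 6, 35] .nil (.cons [25, 6, 35] .nil (.cons [27, 6, 35] .nil (.cons [29, 6, 35] (.cons [6, 22, 15, 25] .nil .nil) (.cons [21, 40, 37] (.cons [12, 0, 18, 24] .nil .nil) (.cons [23, 40, 37] .nil (.cons [24, 40, 37] .nil (.cons [25, 40, 37] (.cons [18, 23] .nil .nil) (.cons [29, 40, 37] .nil (.cons [33, 40, 37] .nil (.cons [38, 40, 37] .nil (.cons [19, 6, 37] (.cons [27, 19, 21, 27] .nil .nil) (.cons [20, 6, 37] (.cons [19, 25, 16] .nil .nil) (.cons [21, 6, 37] (.cons [25, 27, 23] .nil .nil) (.cons [22, 6, 37] (.cons [12, 20, 13] .nil .nil) (.cons [25, 6, 37] .nil (.cons [27, 6, 37] (.cons [17, 26, 15, 4] .nil .nil) (.cons [29, 6, 37] (.cons [14, 16, 15] .nil .nil) (.cons [33, 6, 37] .nil (.cons [38, 6, 37] (.cons [23, 15, 26] .nil .nil) (.cons [19, 34, 2] .nil (.cons [22, 34, 2] .nil (.cons [23, 34, 2] (.cons [15, 17, 14] .nil .nil) (.cons [24, 34, 2] .nil (.cons [25, 34, 2] .nil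 (.cons [28, 34, 2] (.cons [22, 17, 19, 27] .nil .nil) (.cons [31, 34, 2] .nil (.cons [33, 34, 2] (.cons [18, 8] .nil .nil) (.cons [38, 34, 2] .nil (.cons [20, 0, 40] .nil (.cons [21, 0, 40] (.cons [15, 10, 25, 26] .nil .nil) (.cons [22, 0, 40] (.cons [19, 9] .nil .nil) (.cons [23, 0, 40] (.cons [14, 21, 17, 24] .nil .nil) (.cons [28, 0, 40] (.cons [16, 27, 18] .nil .nil) (.cons [32, 0, 40] (.cons [2, 15, 23] .nil .nil) (.cons [38, 0, 40] .nil (.cons [16, 6, 36] (.cons [17, 20, 22, 17] .nil .nil) (.cons [18, 6, 36] .nil (.cons [19, 6, 36] .nil (.cons [21, 6, 36] .nil (.cons [22, 6, 36] .nil (.cons [23, 6, 36] (.cons [19, 26, 2] .nil .nil) (.cons [25, 6, 36] .nil (.cons [28, 6, 36] (.cons [27, 24, 19] .nil .nil) (.cons [33, 6, 36] .nil (.cons [38, 6, 36] (.cons [27, 20, 25] .nil .nil) (.cons [18, 6, 39] .nil (.cons [20, 6, 39] .nil (.cons [23, 6, 39] .nil (.cons [25, 6, 39] (.cons [9, 23] .nil .nil) (.cons [26, 6, 39] .nil (.cons [27, 6, 39] .nil (.cons [29, 6, 39] .nil (.cons [33, 6, 39] .nil (.cons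 [18, 14, 35] (.cons [17, 10, 17] .nil .nil) (.cons [19, 14, 35] (.cons [23, 21, 27, 15] .nil .nil) (.cons [20, 14, 35] .nil (.cons [22, 14, 35] .nil (.cons [23, 14, 35] .nil (.cons [25, 14, 35] (.cons [17, 26] .nil .nil) (.cons [27, 14, 35] .nil (.cons [31, 14, 35] .nil (.cons [35, 14, 35] .nil (.cons [18, 41, 36] .nil (.cons [19, 41, 36] .nil (.cons [20, 41, 36] .nil (.cons [23, 41, 36] .nil (.cons [24, 41, 36] (.cons [2, 22, 13] .nil .nil) (.cons [25, 41, 36] (.cons [21, 17] .nil .nil) (.cons [26, 41, 36] .nil (.cons [27, 41, 36] .nil (.cons [28, 41, 36] (.cons [17, 2, 25] .nil .nil) (.cons [32, 41, 36] (.cons [19, 16, 19] .nil .nil) (.cons [35, 41, 36] .nil (.cons [19, 11, 39] .nil (.cons [23, 11, 39] .nil (.cons [27, 11, 39] .nil (.cons [35, 11, 39] (.cons [18, 16, 19] .nil .nil) (.cons [19, 39, 11] (.cons [10, 8, 20, 25] .nil .nil) (.cons [23, 39, 11] .nil (.cons [25, 39, 11] .nil (.cons [27, 39, 11] (.cons [23, 16, 24, 17] .nil .nil) (.cons [35, 39, 11] .nil (.cons [18, 4, 34] (.cons [27, 19,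 17] .nil .nil) (.cons [19, 4, 34] .nil (.cons [20, 4, 34] .nil (.cons [23, 4, 34] .nil (.cons [24, 4, 34] .nil (.cons [25, 4, 34] .nil (.cons [26, 4, 34] .nil (.cons [27, 4, 34] .nil (.cons [28, 4, 34] .nil (.cons [34, 4, 34] .nil (.cons [35, 4, 34] (.cons [12, 14, 22] .nil .nil) (.cons [19, 39, 10] .nil (.cons [25, 39, 10] (.cons [25, 15, 6, 21] .nil .nil) (.cons [27, 39, 10] .nil (.cons [35, 39, 10] .nil (.cons [19, 35, 35] .nil (.cons [20, 35, 35] (.cons [27, 27, 10] .nil .nil) (.cons [24, 35, 35] .nil (.cons [26, 35, 35] .nil (.cons [31, 35, 35] (.cons [27, 23, 27] .nil .nil) (.cons [19, 38, 10] (.cons [17, 17, 12] .nil .nil) (.cons [20, 38, 10] .nil (.cons [21, 38, 10] (.cons [21, 27, 12] .nil .nil) (.cons [24, 38, 10] .nil (.cons [25, 38, 10] (.cons [25, 20, 26] .nil .nil) (.cons [27, 38, 10] .nil (.cons [28, 38, 10] (.cons [12, 21] .nil .nil) (.cons [29, 38, 10] .nil (.cons [30, 38, 10] .nil (.cons [32, 38, 10] (.cons [25, 16, 21] .nil .nil) (.cons [36, 38, 10] .nil (.cons [20, 40, 6] (.cons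 [16, 24, 26] .nil .nil) (.cons [25, 40, 6] (.cons [14, 14] .nil .nil) (.cons [26, 40, 6] (.cons [14, 10, 4] .nil .nil) (.cons [31, 40, 6] .nil (.cons [42, 40, 6] .nil (.cons [18, 8, 43] .nil (.cons [19, 8, 43] .nil (.cons [20, 8, 43] .nil (.cons [21, 8, 43] (.cons [18, 10, 8] .nil .nil) (.cons [23, 8, 43] .nil (.cons [25, 8, 43] (.cons [18, 20, 10] .nil .nil) (.cons [28, 8, 43] .nil (.cons [33, 8, 43] (.cons [10, 27, 14] .nil .nil) (.cons [38, 8, 43] .nil (.cons [23, 11, 34] (.cons [24, 20, 8] .nil .nil) (.cons [26, 11, 34] .nil (.cons [28, 11, 34] .nil (.cons [32, 11, 34] .nil (.cons [37, 11, 34] .nil (.cons [20, 10, 34] .nil (.cons [23, 10, 34] (.cons [22, 4, 27] .nil .nil) (.cons [25, 10, 34] .nil (.cons [31, 10, 34] .nil (.cons [38, 10, 34] (.cons [15, 22, 18, 17] .nil .nil) (.cons [18, 34, 11] (.cons [8, 14, 20] .nil .nil) (.cons [19, 34, 11] .nil (.cons [20, 34, 11] (.cons [0, 4, 22] .nil .nil) (.cons [21, 34, 11] .nil (.cons [23, 34, 11] .nil (.cons [25, 34, 11] (.cons [17, 12, 19] .nil .nil)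 (.cons [33, 34, 11] .nil (.cons [38, 34, 11] (.cons [9, 10, 8] .nil .nil) (.cons [20, 12, 34] (.cons [21, 22, 15] .nil .nil) (.cons [23, 12, 34] (.cons [25, 19, 21] .nil .nil) (.cons [25, 12, 34] .nil (.cons [33, 12, 34] (.cons [23, 23, 25] .nil .nil) (.cons [38, 12, 34] (.cons [14, 13, 6] .nil .nil) (.cons [30, 2, 38] (.cons [6, 13, 27, 21] .nil .nil) (.cons [31, 2, 38] .nil (.cons [31, 43, 40] .nil (.cons [30, 18, 6] (.cons [13, 10, 21] .nil .nil) (.cons [30, 43, 34] (.cons [20, 22, 13] .nil .nil) (.cons [14, 41, 42] (.cons [16, 6, 15] .nil .nil) (.cons [30, 41, 42] .nil (.cons [39, 41, 42] .nil (.cons [43, 16, 6] .nil (.cons [31, 39, 40] .nil (.cons [35, 39, 40] .nil (.cons [30, 41, 38] .nil (.cons [35, 43, 43] .nil (.cons [28, 31, 6] .nil (.cons [42, 31, 6] .nil (.cons [19, 4, 35] (.cons [26, 20, 4] .nil .nil) (.cons [20, 4, 35] .nil (.cons [21, 4, 35] (.cons [20, 4, 14, 8] .nil .nil) (.cons [22, 4, 35] (.cons [27, 22, 20, 22] .nil .nil) (.cons [24, 4, 35] .nil (.cons [26, 4, 35] .nil (.cons [18,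 31, 39] .nil (.cons [26, 31, 39] (.cons [12, 19, 4] .nil .nil) (.cons [31, 31, 39] .nil (.cons [34, 31, 39] .nil (.cons [18, 41, 10] .nil (.cons [20, 41, 10] (.cons [6, 12, 9] .nil .nil) (.cons [26, 41, 10] .nil (.cons [31, 41, 10] (.cons [19, 13, 4] .nil .nil) (.cons [20, 37, 38] (.cons [27, 17, 15] .nil .nil) (.cons [23, 37, 38] (.cons [13, 13, 22] .nil .nil) (.cons [24, 37, 38] .nil (.cons [25, 37, 38] (.cons [23, 26, 2] .nil .nil) (.cons [34, 37, 38] (.cons [24, 19, 16] .nil .nil) (.cons [42, 37, 38] .nil (.cons [20, 39, 37] .nil (.cons [23, 39, 37] (.cons [25, 15, 4] .nil .nil) (.cons [24, 39, 37] .nil (.cons [34, 39, 37] (.cons [21, 17, 22] .nil .nil) (.cons [42, 39, 37] (.cons [9, 22, 20] .nil .nil) (.cons [22, 8, 35] .nil (.cons [24, 8, 35] .nil (.cons [26, 8, 35] .nil (.cons [33, 8, 35] .nil (.cons [38, 8, 35] (.cons [19, 26, 8] .nil .nil) (.cons [19, 10, 35] (.cons [2, 18, 18] .nil .nil) (.cons [21, 10, 35] .nil (.cons [23, 10, 35] .nil (.cons [24, 10, 35] .nil (.cons [25, 10, 35] .nil (.cons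 [32, 10, 35] .nil (.cons [33, 10, 35] .nil (.cons [19, 12, 35] .nil (.cons [22, 12, 35] (.cons [13, 8, 17] .nil .nil) (.cons [24, 12, 35] (.cons [17, 21, 25] .nil .nil) (.cons [25, 12, 35] .nil (.cons [32, 12, 35] .nil (.cons [33, 12, 35] (.cons [14, 24] .nil .nil) (.cons [38, 12, 35] .nil (.cons [18, 34, 38] (.cons [13, 14, 18] .nil .nil) (.cons [19, 34, 38] (.cons [22, 2, 8, 25] .nil .nil) (.cons [21, 34, 38] .nil (.cons [29, 34, 38] .nil (.cons [32, 34, 38] .nil (.cons [19, 35, 10] .nil (.cons [21, 35, 10] .nil (.cons [22, 35, 10] (.cons [27, 18, 14] .nil .nil) (.cons [23, 35, 10] .nil (.cons [24, 35, 10] (.cons [20, 18, 12] .nil .nil) (.cons [25, 35, 10] (.cons [13, 18, 18] .nil .nil) (.cons [32, 35, 10] (.cons [6, 9, 10, 8] .nil .nil) (.cons [33, 35, 10] .nil (.cons [38, 35, 10] .nil (.cons [21, 35, 11] (.cons [15, 25, 22] .nil .nil) (.cons [22, 35, 11] (.cons [25, 6, 19] .nil .nil) (.cons [23, 35, 11] .nil (.cons [24, 35, 11] .nil (.cons [29, 35, 11] .nil (.cons [32, 35, 11] (.cons [17, 8, 23]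 .nil .nil) (.cons [33, 35, 11] .nil (.cons [38, 35, 11] (.cons [23, 24, 23] .nil .nil) (.cons [19, 4, 41] (.cons [15, 25, 12] .nil .nil) (.cons [22, 4, 41] (.cons [25, 6, 19] .nil .nil) (.cons [24, 4, 41] .nil (.cons [28, 4, 41] .nil (.cons [29, 4, 41] .nil (.cons [33, 4, 41] .nil (.cons [38, 4, 41] (.cons [16, 23, 27] .nil .nil) (.cons [19, 37, 6] .nil (.cons [22, 37, 6] .nil (.cons [24, 37, 6] .nil (.cons [25, 37, 6] .nil (.cons [28, 37, 6] .nil (.cons [33, 37, 6] .nil (.cons [18, 30, 36] .nil (.cons [20, 30, 36] .nil (.cons [23, 30, 36] (.cons [6, 14, 19] .nil .nil) (.cons [27, 30, 36] (.cons [22, 21, 13] .nil .nil) (.cons [29, 30, 36] (.cons [17, 2] .nil .nil) (.cons [18, 30, 37] (.cons [14, 26, 2] .nil .nil) (.cons [25, 30, 37] .nil (.cons [27, 30, 37] .nil (.cons [29, 30, 37] .nil (.cons [33, 30, 37] (.cons [16, 4, 20] .nil .nil) (.cons [39, 30, 37] (.cons [24, 14, 9] .nil .nil) (.cons [19, 36, 6] (.cons [2, 21, 4] .nil .nil) (.cons [24, 36, 6] .nil (.cons [26, 36, 6] .nil (.cons [33, 36, 6]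 (.cons [19, 23, 15] .nil .nil) (.cons [36, 36, 6] .nil (.cons [18, 41, 35] .nil (.cons [20, 41, 35] .nil (.cons [23, 41, 35] (.cons [14, 2, 24, 16] .nil .nil) (.cons [24, 41, 35] .nil (.cons [32, 41, 35] (.cons [22, 24, 16] .nil .nil) (.cons [33, 41, 35] .nil (.cons [35, 41, 35] (.cons [21, 10, 8] .nil .nil) (.cons [8, 30, 39] .nil (.cons [16, 30, 39] (.cons [19, 10] .nil .nil) (.cons [18, 30, 39] (.cons [2, 19, 23] .nil .nil) (.cons [20, 30, 39] (.cons [] .nil .nil) (.cons [23, 30, 39] .nil (.cons [25, 30, 39] .nil (.cons [27, 30, 39] .nil (.cons [29, 30, 39] .nil (.cons [39, 30, 39] .nil (.cons [19, 41, 37] (.cons [19, 26, 15] .nil .nil) (.cons [20, 41, 37] .nil (.cons [21, 41, 37] .nil (.cons [23, 41, 37] (.cons [10, 20, 0] .nil .nil) (.cons [24, 41, 37] .nil (.cons [25, 41, 37] .nil (.cons [27, 41, 37] .nil (.cons [28, 41, 37] .nil (.cons [32, 41, 37] (.cons [21, 24, 8] .nil .nil) (.cons [35, 41, 37] .nil (.cons [19, 42, 37] (.cons [13, 25, 22, 13] .nil .nil) (.cons [20, 42, 37] .nil (.cons [21,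 42, 37] .nil (.cons [28, 42, 37] .nil (.cons [31, 42, 37] (.cons [8, 20, 18, 8] .nil .nil) (.cons [35, 42, 37] (.cons [19, 10, 22] .nil .nil) (.cons [19, 0, 41] .nil (.cons [23, 0, 41] .nil (.cons [24, 0, 41] .nil (.cons [26, 0, 41] (.cons [6, 9, 14] .nil .nil) (.cons [28, 0, 41] (.cons [2, 13, 22] .nil .nil) (.cons [35, 0, 41] .nil (.cons [20, 42, 11] (.cons [24, 20, 8] .nil .nil) (.cons [38, 42, 11] .nil (.cons [25, 16, 43] (.cons [17, 20, 24] .nil .nil) (.cons [20, 12, 42] (.cons [9, 6, 16, 23] .nil .nil) (.cons [29, 12, 42] (.cons [22, 24, 21] .nil .nil) (.cons [33, 12, 42] (.cons [17, 0, 27] .nil .nil) (.cons [21, 8, 42] (.cons [22, 12, 22] .nil .nil) (.cons [27, 8, 42] .nil (.cons [20, 35, 37] (.cons [13, 25, 22, 13] .nil .nil) (.cons [23, 35, 37] (.cons [2, 21, 16] .nil .nil) (.cons [32, 35, 37] (.cons [21, 14, 0] .nil .nil) (.cons [38, 35, 37] (.cons [22, 22, 18, 17] .nil .nil) (.cons [20, 12, 38] .nil (.cons [25, 12, 38] .nil (.cons [31, 12, 38] .nil (.cons [21, 38, 11] .nil (.cons [28, 38,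 11] .nil (.cons [32, 38, 11] .nil (.cons [25, 11, 38] .nil (.cons [26, 6, 42] .nil (.cons [28, 13, 38] .nil (.cons [21, 40, 34] .nil (.cons [28, 40, 34] .nil (.cons [32, 40, 34] .nil (.cons [36, 40, 34] .nil (.cons [40, 40, 34] .nil (.cons [26, 42, 42] .nil (.cons [27, 42, 42] .nil (.cons [34, 42, 42] (.cons [22, 22, 19] .nil .nil) (.cons [42, 42, 42] .nil (.cons [20, 36, 38] (.cons [25, 21] .nil .nil) (.cons [24, 36, 38] .nil (.cons [21, 37, 34] .nil (.cons [26, 37, 34] .nil (.cons [31, 37, 34] .nil (.cons [42, 37, 34] .nil (.cons [20, 37, 42] (.cons [13, 14, 27] .nil .nil) (.cons [21, 37, 42] (.cons [22, 15, 15] .nil .nil) (.cons [22, 37, 42] (.cons [20, 10, 14] .nil .nil) (.cons [24, 37, 42] (.cons [23, 20, 12] .nil .nil) (.cons [26, 37, 42] .nil (.cons [41, 37, 42] (.cons [14, 24, 22] .nil .nil) (.cons [26, 41, 11] .nil (.cons [31, 41, 11] .nil (.cons [22, 13, 41] .nil (.cons [26, 13, 41] .nil (.cons [24, 0, 38] .nil (.cons [26, 0, 38] .nil (.cons [27, 0, 38] .nil (.cons [33, 0, 38] .nil (.cons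 [38, 0, 38] .nil (.cons [19, 40, 39] .nil (.cons [21, 40, 39] (.cons [21, 19, 22] .nil .nil) (.cons [33, 40, 39] .nil (.cons [19, 16, 35] .nil (.cons [21, 16, 35] (.cons [21, 27, 2] .nil .nil) (.cons [25, 16, 35] (.cons [15, 10] .nil .nil) (.cons [27, 16, 35] .nil (.cons [29, 16, 35] .nil (.cons [19, 0, 42] .nil (.cons [21, 0, 42] (.cons [16, 16, 24, 20] .nil .nil) (.cons [22, 0, 42] .nil (.cons [24, 0, 42] .nil (.cons [33, 0, 42] .nil (.cons [38, 0, 42] .nil (.cons [20, 38, 2] .nil (.cons [24, 38, 2] (.cons [8, 18, 16] .nil .nil) (.cons [26, 38, 2] .nil (.cons [19, 38, 41] .nil (.cons [20, 38, 41] .nil (.cons [26, 38, 41] .nil (.cons [27, 38, 41] (.cons [16, 26] .nil .nil) (.cons [34, 38, 41] (.cons [18, 4, 10, 13] .nil .nil) (.cons [35, 38, 41] .nil (.cons [25, 33, 39] .nil (.cons [28, 33, 39] (.cons [12, 15, 23] .nil .nil) (.cons [29, 33, 39] (.cons [16, 4, 17, 8] .nil .nil) (.cons [34, 33, 39] (.cons [10, 19, 6] .nil .nil) (.cons [35, 33, 39] .nil (.cons [39, 33, 39] (.cons [12, 9, 12] .nil .nil)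 (.cons [40, 33, 39] .nil (.cons [18, 42, 36] .nil (.cons [20, 42, 36] .nil (.cons [23, 42, 36] (.cons [22, 6, 19] .nil .nil) (.cons [27, 42, 36] .nil (.cons [28, 42, 36] .nil (.cons [35, 42, 36] .nil (.cons [18, 4, 42] .nil (.cons [20, 4, 42] .nil (.cons [25, 4, 42] .nil (.cons [27, 4, 42] (.cons [23, 27, 13, 9] .nil .nil) (.cons [28, 4, 42] .nil (.cons [35, 4, 42] (.cons [4, 21, 12] .nil .nil) (.cons [25, 13, 42] .nil (.cons [19, 16, 34] (.cons [23, 13, 15, 4] .nil .nil) (.cons [25, 16, 34] (.cons [22, 4] .nil .nil) (.cons [10, 31, 2] .nil (.cons [43, 31, 2] (.cons [27, 10, 15] .nil .nil) (.cons [11, 33, 2] .nil (.cons [20, 33, 2] .nil (.cons [23, 33, 2] (.cons [22, 4, 14] .nil .nil) (.cons [39, 33, 2] .nil (.cons [40, 33, 2] .nil (.cons [42, 33, 2] .nil (.cons [26, 2, 41] (.cons [14, 0, 23, 25] .nil .nil) (.cons [27, 2, 41] .nil (.cons [28, 2, 41] .nil (.cons [42, 2, 41] (.cons [27, 8, 13, 17] .nil .nil) (.cons [10, 41, 39] .nil (.cons [16, 41, 39] .nil (.cons [19, 41, 39] (.cons [15, 10, 4] .nil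 .nil) (.cons [22, 41, 39] .nil (.cons [26, 41, 39] .nil (.cons [28, 41, 39] (.cons [20, 4, 2, 9] .nil .nil) (.cons [33, 41, 39] (.cons [19, 22, 9] .nil .nil) (.cons [22, 36, 40] .nil (.cons [24, 36, 40] .nil (.cons [26, 36, 40] .nil (.cons [27, 36, 40] (.cons [23, 21, 13] .nil .nil) (.cons [41, 36, 40] (.cons [19, 4, 24] .nil .nil) (.cons [8, 30, 38] .nil (.cons [20, 30, 38] (.cons [4, 13, 18] .nil .nil) (.cons [28, 30, 38] (.cons [6, 12, 22] .nil .nil) (.cons [32, 30, 38] .nil (.cons [33, 30, 38] (.cons [20, 2, 8] .nil .nil) (.cons [24, 16, 41] (.cons [16, 10, 2] .nil .nil) (.cons [28, 30, 43] .nil (.cons [29, 30, 43] .nil (.cons [20, 39, 39] (.cons [10, 13] .nil .nil) (.cons [22, 39, 39] .nil (.cons [28, 39, 39] .nil (.cons [42, 39, 39] .nil (.cons [28, 30, 40] .nil (.cons [33, 30, 40] .nil (.cons [21, 11, 41] .nil (.cons [24, 11, 41] .nil (.cons [26, 11, 41] (.cons [19, 23, 14] .nil .nil) (.cons [20, 10, 41] .nil (.cons [24, 10, 41] .nil (.cons [25, 34, 34] .nil (.cons [33, 34, 34] (.cons [25, 14]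 .nil .nil) (.cons [2, 32, 2] .nil (.cons [27, 32, 2] (.cons [13, 0, 27, 6] .nil .nil) (.cons [41, 32, 2] .nil (.cons [10, 29, 2] (.cons [12, 10, 26] .nil .nil) (.cons [12, 29, 2] (.cons [20, 24, 19] .nil .nil) (.cons [14, 29, 2] (.cons [21, 16, 13] .nil .nil) (.cons [24, 29, 2] (.cons [9, 25, 26] .nil .nil) (.cons [34, 29, 2] .nil (.cons [21, 28, 36] (.cons [12, 14, 4] .nil .nil) (.cons [24, 28, 36] (.cons [22, 27, 20] .nil .nil) (.cons [25, 28, 36] (.cons [19, 14, 12] .nil .nil) (.cons [32, 28, 36] .nil (.cons [6, 28, 37] .nil (.cons [11, 28, 37] .nil (.cons [19, 28, 37] .nil (.cons [21, 28, 37] (.cons [27, 17, 2] .nil .nil) (.cons [24, 28, 37] (.cons [23, 25, 18] .nil .nil) (.cons [27, 28, 37] (.cons [19, 15, 23] .nil .nil) (.cons [19, 16, 39] .nil (.cons [23, 16, 39] .nil (.cons [24, 16, 39] (.cons [14, 24, 27] .nil .nil) (.cons [33, 16, 39] .nil (.cons [35, 40, 35] .nil (.cons [39, 40, 35] .nil (.cons [26, 31, 36] .nil (.cons [29, 31, 36] .nil (.cons [29, 31, 37] (.cons [22, 27, 13, 4] .nil .nil)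 (.cons [11, 30, 6] (.cons [20, 25, 18] .nil .nil) (.cons [36, 30, 6] .nil (.cons [37, 30, 6] .nil (.cons [29, 37, 35] .nil (.cons [31, 37, 35] .nil (.cons [11, 36, 39] .nil (.cons [16, 40, 38] .nil (.cons [22, 40, 38] .nil (.cons [25, 40, 38] .nil (.cons [30, 40, 38] (.cons [17, 8, 16] .nil .nil) (.cons [37, 40, 38] .nil (.cons [38, 40, 38] .nil (.cons [40, 40, 38] .nil (.cons [26, 38, 36] .nil (.cons [10, 42, 2] .nil (.cons [29, 42, 2] .nil (.cons [10, 21, 42] (.cons [26, 9, 17] .nil .nil) (.cons [16, 21, 42] .nil (.cons [21, 21, 42] .nil (.cons [22, 21, 42] .nil (.cons [23, 21, 42] (.cons [10, 8, 10] .nil .nil) (.cons [20, 29, 37] (.cons [4, 19, 6] .nil .nil) (.cons [21, 29, 37] .nil (.cons [27, 29, 37] (.cons [6, 22, 20] .nil .nil) (.cons [42, 29, 37] .nil (.cons [13, 29, 36] .nil (.cons [21, 29, 36] .nil (.cons [22, 29, 36] .nil (.cons [27, 29, 36] .nil (.cons [25, 28, 2] (.cons [2, 15, 21] .nil .nil) (.cons [35, 28, 2] (.cons [17, 21, 16] .nil .nil) (.cons [43, 28, 2] .nil (.cons [25, 35, 39]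 (.cons [13, 16, 20] .nil .nil) (.cons [29, 35, 39] .nil (.cons [23, 25, 34] .nil (.cons [26, 43, 6] .nil (.cons [33, 43, 6] .nil (.cons [23, 36, 43] .nil (.cons [27, 36, 43] .nil (.cons [19, 30, 42] .nil (.cons [26, 30, 42] (.cons [15, 23, 2, 25] .nil .nil) (.cons [8, 21, 35] .nil (.cons [24, 21, 35] .nil (.cons [25, 21, 35] (.cons [22, 12, 22, 13] .nil .nil) (.cons [38, 21, 35] .nil (.cons [20, 39, 35] (.cons [17, 19, 26] .nil .nil) (.cons [25, 39, 35] .nil (.cons [30, 39, 35] (.cons [24, 13, 9] .nil .nil) (.cons [26, 24, 35] .nil (.cons [28, 24, 35] .nil (.cons [21, 34, 41] .nil (.cons [40, 34, 41] .nil (.cons [41, 34, 41] (.cons [25, 4, 23, 25] .nil .nil) (.cons [19, 30, 35] .nil (.cons [21, 30, 35] .nil (.cons [29, 30, 35] .nil (.cons [32, 30, 35] .nil (.cons [42, 30, 35] .nil (.cons [2, 42, 39] (.cons [18, 26, 15, 23] .nil .nil) (.cons [6, 42, 39] (.cons [20, 8, 10, 25] .nil .nil) (.cons [24, 42, 39] .nil (.cons [31, 42, 39] .nil (.cons [13, 38, 43] (.cons [25, 19, 21] .nil .nil) (.cons [24, 38,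 43] .nil (.cons [27, 38, 43] (.cons [18, 13, 24] .nil .nil) (.cons [6, 35, 41] .nil (.cons [31, 35, 41] .nil (.cons [40, 35, 41] .nil (.cons [11, 34, 39] .nil (.cons [23, 34, 39] (.cons [4, 19, 23] .nil .nil) (.cons [16, 39, 41] .nil (.cons [41, 39, 41] (.cons [20, 17, 0] .nil .nil) (.cons [43, 39, 41] (.cons [10, 26, 4] .nil .nil) (.cons [18, 40, 40] (.cons [10, 27, 6] .nil .nil) (.cons [28, 40, 40] .nil (.cons [30, 40, 40] .nil (.cons [38, 40, 40] .nil (.cons [40, 40, 40] .nil (.cons [29, 38, 37] .nil (.cons [31, 42, 38] .nil (.cons [30, 40, 43] .nil (.cons [38, 40, 43] (.cons [0, 19, 21] .nil .nil) (.cons [40, 40, 43] .nil (.cons [21, 43, 41] (.cons [23, 27, 2] .nil .nil) (.cons [29, 43, 41] (.cons [16, 2, 26] .nil .nil) (.cons [32, 43, 41] .nil (.cons [28, 31, 35] (.cons [23, 12, 4] .nil .nil) (.cons [37, 31, 35] .nil (.cons [25, 39, 6] .nil (.cons [29, 39, 6] (.cons [25, 4, 8] .nil .nil) (.cons [19, 24, 42] (.cons [17, 8, 20, 4] .nil .nil) (.cons [0, 38, 35] (.cons [23, 8, 13] .nil .nil) (.cons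 [23, 38, 35] (.cons [15, 13, 4] .nil .nil) (.cons [27, 38, 35] (.cons [21, 4, 27] .nil .nil) (.cons [30, 38, 35] .nil (.cons [36, 38, 35] .nil (.cons [20, 19, 36] .nil (.cons [33, 19, 36] .nil (.cons [21, 21, 36] .nil (.cons [43, 21, 36] .nil (.cons [19, 20, 43] .nil (.cons [41, 20, 43] .nil (.cons [26, 22, 36] .nil (.cons [33, 22, 36] .nil (.cons [36, 22, 36] (.cons [10, 8, 27, 24] .nil .nil) (.cons [16, 29, 40] .nil (.cons [27, 38, 40] .nil (.cons [22, 31, 34] (.cons [27, 6, 10, 25] .nil .nil) (.cons [37, 31, 34] .nil (.cons [39, 31, 34] .nil (.cons [20, 33, 36] (.cons [0, 9, 19] .nil .nil) (.cons [39, 33, 37] .nil (.cons [18, 40, 42] .nil (.cons [30, 40, 42] .nil (.cons [36, 40, 42] (.cons [14, 21, 18] .nil .nil) (.cons [22, 32, 39] .nil (.cons [28, 32, 39] .nil (.cons [11, 32, 43] .nil (.cons [25, 32, 43] (.cons [14, 19, 22] .nil .nil) (.cons [25, 22, 35] .nil (.cons [34, 22, 35] .nil (.cons [43, 22, 35] .nil (.cons [2, 23, 39] (.cons [17, 25, 26] .nil .nil) (.cons [39, 28, 34] (.cons [2, 10, 15]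 .nil .nil) (.cons [24, 27, 2] .nil (.cons [33, 27, 2] .nil (.cons [35, 27, 2] (.cons [8, 17, 17] .nil .nil) (.cons [20, 18, 34] (.cons [22, 17, 19, 27] .nil .nil) (.cons [25, 18, 34] (.cons [26, 21, 8, 0] .nil .nil) (.cons [27, 22, 42] .nil (.cons [13, 24, 2] (.cons [6, 19, 16] .nil .nil) (.cons [14, 24, 2] .nil (.cons [24, 28, 39] .nil (.cons [33, 28, 39] .nil (.cons [23, 20, 40] (.cons [16, 18, 23, 10] .nil .nil) (.cons [19, 32, 37] .nil (.cons [20, 32, 37] .nil (.cons [41, 22, 37] .nil (.cons [18, 28, 35] .nil (.cons [2, 29, 34] .nil (.cons [6, 29, 34] .nil (.cons [10, 29, 34] (.cons [21, 18, 13] .nil .nil) (.cons [34, 29, 34] .nil (.cons [8, 29, 38] .nil (.cons [25, 29, 41] (.cons [22, 14, 12] .nil .nil) (.cons [39, 29, 41] (.cons [27, 21, 24] .nil .nil) (.cons [28, 25, 41] (.cons [27, 6] .nil .nil) (.cons [30, 25, 41] .nil (.cons [39, 25, 41] .nil (.cons [37, 41, 41] (.cons [2, 22] .nil .nil) (.cons [8, 23, 37] (.cons [19, 26, 6] .nil .nil) (.cons [39, 23, 37] .nil (.cons [12, 21, 2] (.cons [14,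 26, 4] .nil .nil) (.cons [23, 21, 2] .nil (.cons [16, 32, 34] .nil (.cons [18, 32, 34] (.cons [27, 20, 9] .nil .nil) (.cons [40, 32, 34] (.cons [6, 20, 12] .nil .nil) (.cons [29, 32, 41] .nil (.cons [25, 19, 2] .nil (.cons [35, 19, 2] (.cons [26, 19, 4] .nil .nil) (.cons [36, 24, 37] (.cons [19, 23, 16] .nil .nil) (.cons [34, 21, 40] .nil (.cons [25, 28, 38] .nil (.cons [8, 18, 41] .nil (.cons [13, 18, 41] .nil (.cons [43, 18, 41] .nil (.cons [20, 19, 37] .nil (.cons [23, 26, 2] .nil (.cons [40, 26, 2] .nil (.cons [41, 29, 43] (.cons [19, 13, 6] .nil .nil) (.cons [25, 22, 39] (.cons [19, 0] .nil .nil) (.cons [8, 28, 42] (.cons [19, 15, 15] .nil .nil) (.cons [31, 28, 42] .nil (.cons [41, 28, 42] .nil (.cons [10, 26, 34] (.cons [19, 21, 16, 14] .nil .nil) (.cons [13, 26, 34] .nil (.cons [8, 26, 36] .nil (.cons [36, 26, 36] .nil (.cons [0, 42, 41] .nil (.cons [29, 31, 41] .nil (.cons [35, 31, 41] .nil (.cons [10, 21, 34] (.cons [21, 18] .nil .nil) (.cons [31, 18, 36] (.cons [23, 18, 24] .nil .nil) (.cons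 [33, 24, 36] (.cons [15, 16, 6] .nil .nil) (.cons [40, 33, 38] .nil (.cons [11, 23, 38] .nil (.cons [41, 21, 43] .nil (.cons [20, 38, 38] .nil (.cons [13, 18, 42] .nil (.cons [18, 18, 42] (.cons [21, 6, 4] .nil .nil) (.cons [6, 23, 2] .nil (.cons [14, 27, 37] .nil (.cons [11, 19, 34] .nil (.cons [28, 19, 34] (.cons [6, 14, 6] .nil .nil) (.cons [20, 25, 38] (.cons [10, 23] .nil .nil) (.cons [33, 27, 39] (.cons [26, 25, 15] .nil .nil) (.cons [43, 18, 37] .nil (.cons [35, 27, 34] .nil (.cons [31, 27, 41] (.cons [18, 15, 13] .nil .nil) (.cons [26, 4, 37, 41] (.cons [17, 18, 15, 13] .nil .nil) (.cons [28, 41, 39, 11] .nil (.cons [29, 38, 43, 36] .nil .nil))))))))))))))))))))))))))))))))))))))))))))))))))))))))))))))))))))))))))))))))))))))))))))))))))))))))))))))))))))))))))))))))))))))))))))))))))))))))))))))))))))))))))))))))))))))))))))))))))))))))))))))))))))))))))))))))))))))))))))))))))))))))))))))))))))))))))))))))))))))))))))))))))))))))))))))))))))))))))))))))))))))))))))))))))))))))))))))))))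))))))))))))))))))))))))))))))))))))))))))))))))))))))))))))))))))))))))))))))))))))))))))))))))))))))))))))))))))))))))))))))))))))))))))))))))))))))))))))))))))))))))))))))))))))))))))))))))))))))))))))))))))))))))))))))))))))))))))))))))))))))))))))))))))))))))))))))))))))))))))))))))))))))))))))))))))))))))))))))))))))))))))))))))))))))))))))))))))))))))))))))))))))))))))))))))))))))))))))))))))))))))))))))))))))))))))))))))))))))))))))))))))))))))))))))))))))))))))))))))))))))))))))))))))))))))))))))))))))))))))))))))))))))))))))))))))))))))))))))))))))))))))))))))))))))))))))))))))))))))))))))))))))))))))))))))))))))))))))))))))))))))))))))))))))))))))))))))))))))))))))))))))))))))))))))))))))))))))))))))))))))))))))))))))))))))))))))))))))))))))))))))))))))))))))))))))))))))))))))))))))))))))))))))))))))))))))))))))))))))))))))))))))))))))))))))))))))))))))))))))))))))))))))))))))))))))))))))))))))))))))))))))))))))))))))))))))))))))))))))))))))))) (⟨cx_l0.b, cx_l0.S, [], cx_R0, 0⟩ :: cx_tl)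 (0 :: cx_lk) Pd.nil 0 = true := by decide +kernel
theorem cx_sound {G : Type*} [Group G] {φ : G →* Equiv.Perm ℕ} {γ : ℕ → G}
    (M : Model φ γ 15 x_ns x_ts) : ChainSound φ (gp γ [0, 2, 4, 6, 8, 10, 12, 14, 16, 18, 20, 22, 24, 26, 28, 30, 32, 34, 36, 38, 40, 42]) 15 [] cx_ls :=
  ⟨Level.ok_sound' M cx_l0_ok,
   Level.ok_sound' M cx_l1_ok,
   Level.okT_sound M cx_l2_ok,
   Level.okT_sound M cx_l3_ok, trivial⟩
theorem cx_cent {G : Type*} [Group G] {φ : G →* Equiv.Perm ℕ} {γ : ℕ → G}
    (C : Cert φ γ 15 x_ns x_ts [0, 2, 4, 6, 8, 10, 12, 14, 16, 18, 20, 22, 24, 26, 28, 30, 32, 34, 36, 38, 40, 42] c_ls) : Cent γ cx_S.u cx_S.Cl 12 :=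
  have X := (C.rechain (cx_sound C.M) (by decide +kernel)).exact
  have A := Srch.auxB_sound (S := cx_S) C.M (K := ⊤) le_top rfl cx_aux
  have F := fun {tr : Tr} {R : ℕ} => Srch.found_of_run (S := cx_S) C.M C.base (by decide +kernel) X A (tr := tr) (R := R)
  Cent.of_found (S := cx_S) C.M X rfl (F cx_r0) cx_cov

end Cfsg.Agent.ThK
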