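import Cfsg.Agent.ThK.Cert

set_option autoImplicit false
set_option Elab.async false
set_option maxRecDepth 100000
set_option linter.all false

namespace Cfsg.Agent.ThK
open Cfsg.Agent.CGT

noncomputable def dF0 : BT Fct := (.node 30 (.node 15 (.node 7 (.node 3 (.node 1 (.leaf ⟨0, 0, false, [0], [], []⟩) (.node 1 (.leaf ⟨0, 0, false, [2], [], []⟩) (.leaf ⟨0, 0, false, [4], [], []⟩))) (.node 2 (.node 1 (.leaf ⟨0, 0, false, [6], [], []⟩) (.leaf ⟨0, 0, false, [8], [], []⟩)) (.node 1 (.leaf ⟨0, 0, false, [10], [], []⟩) (.leaf ⟨0, 0, false, [12], [], []⟩)))) (.node 4 (.node 2 (.node 1 (.leaf ⟨0, 1, true, [], [], []⟩) (.leaf ⟨1, 1, false, [12, 0], [], [0, 1, 0, 0, -1]⟩)) (.node 1 (.leaf ⟨1, 1, false, [4], [], [1]⟩) (.leaf ⟨1, 1, false, [32, 14, 8, 0], [], [0, 1, 0, 1, 0, 0, 0, 0, 0, 0, 0, 0,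 1]⟩))) (.node 2 (.node 1 (.leaf ⟨1, 1, false, [13, 8, 0], [], [0, 1, 1, 0, 1]⟩) (.leaf ⟨1, 1, false, [36, 16, 37], [], [0, 0, 0, 0, -1, 0, 0, 0, 1, -1]⟩)) (.node 1 (.leaf ⟨1, 1, false, [14, 12, 8], [], [1, 1, 0, 1, -1]⟩) (.leaf ⟨1, 1, true, [16, 11, 26, 14], [31, 11, 12, 21, 0], [0, -1, -1, -1, 0, -1, -2, 0, 0, 0, 0, -1, 0, 1, -2, 0, 0, -1]⟩))))) (.node 7 (.node 3 (.node 1 (.leaf ⟨1, 1, true, [27, 10, 27, 32], [31, 27, 10, 27, 0], [1, 1, 1, 1, 1, 1, 2, 0, 0, 0, 0, 1, 0, -1, 1, 0, 0, 1]⟩) (.node 1 (.leaf ⟨1, 1, true, [25, 23, 10, 29, 6], [18, 23, 39, 42, 11], [1, 1, -2, 2, 1, 0, 0, -1, -1, 0, 1, 0, 1, -1, 1, 0, 0, 0, 0, 0, 0, -1]⟩) (.leaf ⟨1, 2, true, [6], [], []⟩))) (.node 2 (.node 1 (.leaf ⟨2, 2, false, [21, 16, 29, 8], [], [1, -1, -1, 0, -3, 0, 0, 0, 0, 0, 0, 0, -1, 1]⟩) (.leaf ⟨2,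 2, false, [32, 14, 12], [], [-1, -1, 0, 0, -1, 0, 0, -1, 0, 0, 0, 1]⟩)) (.node 1 (.leaf ⟨2, 2, false, [33, 30], [], [0, -2, 0, -2, 0, 0, 0, 0, 0, 0, 0, 0, -1, -1]⟩) (.leaf ⟨2, 1, true, [6, 29, 16, 26, 0], [18, 41, 6, 38, 0], [0, 0, -1, 0, -1, -3, 0, 0, 0, 1, -2, 1, -1, -1, -1, -1]⟩)))) (.node 4 (.node 2 (.node 1 (.leaf ⟨2, 2, false, [8, 4, 6, 4], [], [0, 0, 1, 1, 1, 3, 0, 0, 0, -1, 2, -1, 1, 2, 0, 1]⟩) (.leaf ⟨2, 1, true, [31, 10, 26, 29], [4, 24, 32, 35, 43, 14], [2, 1, -3, 1, -3, -1, 0, -1, -1, 1, 0, 1, 1, 0, 2, 0, 0, 0, 0, -1, 0, -1]⟩)) (.node 1 (.leaf ⟨1, 2, true, [11, 6, 33, 25, 0], [11, 30, 25, 18], [-1, 0, 4, -1, 6, 1, 0, 1, 0, 0, 0, -1, -1, 0, -3, 0, 0, 0, 0, 1, 0, 1]⟩) (.leaf ⟨2, 2, false, [23, 24, 12, 0], [], [0, 1, 0, 0, 1, 1, 0, 0, -1, 1]⟩))) (.node 2 (.node 1 (.leaf ⟨2, 2,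 true, [42, 13, 38, 27, 6], [31, 10, 10, 18, 0], [-2, -1, 5, -1, 10, 1, 2, 1, -1, 1, 0, -1, 0, -1, -2, 0, 0, 0, 0, 1, -1, 1]⟩) (.leaf ⟨2, 2, true, [0, 20, 29, 21, 10, 6], [39, 40, 23, 29, 8], [-1, -1, 2, -1, 4, 0, 0, 1, 1, -1, -2, 0, -1, 1, -2, 0, 0, 0, 0, 1]⟩)) (.node 1 (.leaf ⟨2, 2, false, [2, 12, 16, 34, 22, 28], [], [4, 1, -7, 3, -16, 2, -1, -2, 0, -3, 4, 0, 0, 3, 3, 1, 0, 0, 0, -2, 1, -1]⟩) (.leaf ⟨2, 1, true, [2, 4, 43, 36, 33, 21], [32, 37, 12, 39, 18, 6], [3, 6, -3, 7, 3, 0, -1, -1, 0, 2, 2, 1, 2, -1, 4, 0, 0, 0, 0, 0, 0, -2, 0, 0, 0, 0, 0, 0, -1]⟩)))))) (.node 15 (.node 7 (.node 3 (.node 1 (.leaf ⟨1, 2, true, [2, 20, 13, 19, 0], [24, 43, 35, 38, 2], [-1, -6, 3, -7, -2, 0, 1, 1, -1, -1, -2, -1, -3, 1, -5, 0, 0, 0, 0, 0, 0, 2, 0, 0, 0, 0, 0, 0, 1]⟩) (.node 1 (.leaf ⟨1, 3, true,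 [11, 2], [], []⟩) (.leaf ⟨3, 3, false, [13, 16, 12], [], [0, -1, -1, 0, 2, 1, 0, 0, -2, 2]⟩))) (.node 2 (.node 1 (.leaf ⟨3, 3, false, [37, 37, 11], [], [-1, 1, -1, 0, -3, 1, 0, 0, 0, 0, 0, 1, -1]⟩) (.leaf ⟨3, 3, false, [16], [], [-1, -1, -1, -2, 0, 1]⟩)) (.node 1 (.leaf ⟨3, 3, false, [33, 16, 26, 0], [], [0, 0, 0, 0, 0, 1]⟩) (.leaf ⟨3, 3, false, [36, 36, 10], [], [0, -3, 1, 0, 1, 1, 0, 0, 2, -2, 1, 0, 0, -1]⟩)))) (.node 4 (.node 2 (.node 1 (.leaf ⟨3, 3, true, [18, 11, 30, 23, 10], [27, 11, 32, 27], [1, 1, 0, 0, -1, 0, 0, 1, -1, 1, 1, 0, -3, 0, -2, 0, 0, -1]⟩) (.leaf ⟨3, 2, true, [26, 33, 11, 8, 0], [0, 35, 42, 32, 10, 22], [-1, -6, 3, -7, -2, 0, 1, 0, -1, -2, -5, 0, -2, 0, -7, 0, 0, -1, 0, 0, 0, 2, 0, 0, 0, 0, 0, 0, 1]⟩)) (.node 1 (.leaf ⟨2, 3, true, [0, 11, 33, 6, 4, 28], [31, 10, 31,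 27, 4], [0, 9, -1, 7, 8, 0, -1, 0, 1, 2, 5, 0, 4, -2, 6, 0, 0, 1, 0, 0, 0, -2, 0, 0, 0, 0, 0, 0, -1]⟩) (.leaf ⟨3, 3, true, [18, 6, 4, 40, 42, 22], [6, 28, 11, 24, 31], [1, 0, 0, 1, -2, 0, -1, 0, 1, 0, 1, 0, 0, 0, 1, 0, 0, 0, 0, 0, 0, -1]⟩))) (.node 2 (.node 1 (.leaf ⟨3, 3, true, [26, 30, 22, 2], [2, 22, 13, 24, 10], [1, 11, -3, 8, 2, 2, -2, 0, 1, -4, 7, -2, 5, 0, 8, 1, 0, 1, 0, -1, 1, -2, 0, 0, 0, 0, -1, 0, -1]⟩) (.leaf ⟨3, 3, true, [30, 19, 8, 28, 6], [11, 18, 43, 43, 30], [1, -11, -5, -6, -17, -4, 1, 0, -2, -3, -6, 2, -1, 3, -2, 0, 0, -1, -1, -1, 0, 1, 0, 0, 0, 0, 0, 0, 1]⟩)) (.node 1 (.leaf ⟨3, 3, true, [8, 10, 30, 25, 29, 6], [2, 11, 38, 32, 14, 31], [1, -3, -1, -5, -1, -1, -1, 1, -2, 2, 1, 1, -4, 1, 3, 0, 0, 0, -1, 0, 0, -1]⟩) (.leaf ⟨2, 3, true, [33, 25, 12, 35, 42], [10, 34, 37,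 33, 12, 11], [2, 6, -3, 7, 1, -1, -2, -1, 1, 0, 2, 0, 2, 0, 6, 0, 0, 0, 0, 0, 0, -3, 0, 0, 0, 0, 0, 0, -1]⟩))))) (.node 7 (.node 3 (.node 1 (.leaf ⟨3, 3, true, [25, 26, 2, 41, 6], [6, 32, 24, 27, 20], [0, 7, 5, 3, 17, 4, -1, -1, 2, 3, 8, -2, -3, -5, 3, 0, 0, 1, 1, 1, 0, -1, -1, 0, 0, 0, 0, 0, -1]⟩) (.node 1 (.leaf ⟨3, 3, true, [24, 27, 13, 38, 36], [6, 33, 23, 33, 26], [2, -7, -5, -1, -11, -2, 0, -2, 1, -1, -3, 1, -3, 6, 0, 0, 0, -1, 0, 0, 0, 0, -1]⟩) (.leaf ⟨3, 3, true, [13, 40, 6, 33, 34], [16, 10, 6, 32, 26, 8], [-1, -12, -3, -4, -17, -3, 2, -3, 2, -3, -3, 1, -3, 3, -2, 0, 0, -1, 0, -1, 0, 1, 0, -1, 0, 0, 0, 0, 1]⟩))) (.node 2 (.node 1 (.leaf ⟨3, 3, false, [30, 20, 24, 6, 33, 24], [], [1, 15, 4, 9, 18, 4, -2, 2, 0, 0, 1, -2, 7, -4, -2, 0, 0, 1, 1, 1, 0, 0, 0, 1, 0, 0, 0, 0, -1]⟩) (.leaf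 ⟨1, 3, true, [0, 37, 18, 10, 30, 27], [41, 38, 25, 31, 13], [-1, -2, 4, -4, 0, -1, 0, 2, -1, 3, -2, 0, -3, 1, -1, 0, 0, 0, 0, 0, 0, 2, 0, 0, 0, -1]⟩)) (.node 1 (.leaf ⟨3, 1, true, [0, 30, 6, 23, 10, 16], [11, 23, 31, 18, 36, 4], [3, 18, 0, 13, 18, 5, -2, 0, 1, -3, 3, -2, 10, -5, -2, 0, 0, 1, 1, 1, 0, -2, 0, 1, 0, 1, 0, 0, -1]⟩) (.leaf ⟨3, 3, true, [35, 31, 16, 40, 24], [22, 43, 34, 33, 4], [-4, -14, -4, -6, -15, -3, 3, -3, 2, -1, -3, 1, -2, 4, 0, 0, 0, -1, 0, -1, 0, 1, 0, -1, 0, -1, 0, 0, 1]⟩)))) (.node 4 (.node 2 (.node 1 (.leaf ⟨3, 3, true, [19, 32, 12, 8, 6], [0, 27, 29, 6, 18, 31], [-1, -11, 1, -12, -2, -1, 0, -3, 2, 4, 7, -1, -15, -1, 7, 0, 0, 0, 0, 0, 0, -1, -1, -1, 0, -1]⟩) (.leaf ⟨3, 3, true, [10, 32, 43, 34, 8, 0], [6, 14, 24, 30, 13], [1, -3, -5, 3, -16, -3, 2, 1, -2, -4, -8,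 3, 8, 5, -6, 0, 0, -1, -1, -1, 0, 1, 1, 0, 0, 1, 0, 0, 1]⟩)) (.node 1 (.leaf ⟨3, 3, false, [39, 6, 22, 2, 19, 26], [], [4, -15, -13, -6, -41, -2, 0, -4, -1, -3, 0, 3, -6, 9, 5, 1, 0, -1, -2, -3, 1, -1, 0, -1, 0, 0, 0, 0, 1, 1]⟩) (.leaf ⟨3, 3, true, [16, 36, 27, 36, 39, 19], [0, 34, 36, 13, 27, 10], [-1, -23, -5, -18, -20, -6, 2, -5, 3, 0, -1, 2, -13, 2, 9, 0, 0, 0, -2, -1, 0, 0, -1, -1, 0, -1, 0, 0, 1]⟩))) (.node 2 (.node 1 (.leaf ⟨3, 3, true, [0, 27, 42, 38, 8, 27], [35, 13, 43, 26, 24], [-2, -23, -5, -18, -20, -7, 2, -6, 2, -2, 1, 1, -13, 2, 11, 0, 0, 0, -2, -1, 0, 0, -2, -1, 0, -1, 0, 0, 1]⟩) (.leaf ⟨3, 3, true, [0, 13, 37, 32, 8, 4], [12, 41, 34, 33, 11, 16], [3, -42, -24, -22, -75, -11, 2, -8, 2, -8, -10, 7, -8, 15, 12, 1, 0, -1, -5, -5, 1, 0, -1, -2, 0, 0, 0, 0, 3, 1]⟩)) (.node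 1 (.leaf ⟨3, 3, true, [2, 19, 32, 10, 20], [30, 32, 36, 12, 0], [2, 28, 11, 16, 34, 9, -2, 4, -3, 5, 10, -4, 2, -6, -8, 0, 0, 0, 3, 2, 0, -1, 1, 1, 0, 0, 0, 0, -2]⟩) (.leaf ⟨3, 3, true, [21, 27, 30, 2, 26, 14], [6, 37, 39, 26, 12, 18], [-9, 61, 45, 31, 140, 7, 0, 18, -1, 10, -14, -8, 33, -30, -33, -4, 0, 2, 6, 11, -4, 6, 1, 5, 0, 1, 1, 0, -3, -3]⟩)))))))
noncomputable def dF60 : BT Fct := (.node 30 (.node 15 (.node 7 (.node 3 (.node 1 (.leaf ⟨1, 4, true, [6, 2], [], []⟩) (.node 1 (.leaf ⟨4, 4, false, [13], [], [1, -1, -2, -2, -3, 0, 0, 0, 0, 0, 0, 0, -2]⟩) (.leaf ⟨4, 4, false, [32, 14, 13], [], [-2, 0, 3, -1, 2, 0, 1, 0, 0, 0, 0, 1]⟩))) (.node 2 (.node 1 (.leaf ⟨4, 4, false, [32, 18, 28, 16], [], [-1, -1, 2, -3, 1, 0, 0, 0, 0, -1, 1, 0, -1]⟩) (.leaf ⟨4, 3, true, [0, 34, 32, 39, 22, 21],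 [0, 14, 30, 2, 19, 10], [-4, 7, 3, 4, 11, 1, 0, 3, 0, 2, 2, 0, 5, -4, -2, 0, -1, 1, 0, 0, 0, 0, 1]⟩)) (.node 1 (.leaf ⟨3, 4, true, [19, 10, 21, 16, 6], [0, 6, 27, 33, 22, 6], [4, -18, -8, -13, -30, -6, 2, -5, -2, 0, -4, 2, -12, 9, 3, 0, 1, -2, -1, -1, 0, 0, -1, -1, 0, 0, 0, 0, 1]⟩) (.leaf ⟨4, 3, true, [18, 43, 34, 4, 0], [18, 36, 35, 25], [0, -2, -2, -3, -2, 0, -1, 0, 1, 1, -1, 1, -3, 1, 1, 0, 0, 0, 0, 0, 0, -1]⟩)))) (.node 4 (.node 2 (.node 1 (.leaf ⟨4, 4, false, [6, 19, 29, 14, 6], [], [-3, 22, 10, 16, 36, 4, -1, 5, -1, -1, 4, -4, 16, -9, -5, 0, -1, 2, 1, 1, 0, 1, 1, 1, 0, 0, 0, 0, -1]⟩) (.leaf ⟨4, 4, true, [0, 6, 30, 11, 21, 12], [27, 36, 35, 31, 12], [-3, 21, 6, 14, 25, 5, -3, 6, 5, -1, 4, 0, 12, -8, -2, 0, -1, 2, 0, 1, 0, 0, 1, 1, 0, 0, 0, 0, -1]⟩)) (.node 1 (.leaf ⟨1, 5, true, [11,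 6, 2], [], []⟩) (.leaf ⟨5, 5, false, [32, 14], [], [-1, -1, 1, -1, 2, 0, 0, -1, 0, 0, 0, 1]⟩))) (.node 2 (.node 1 (.leaf ⟨5, 3, true, [27, 19, 6, 30, 6], [19, 0, 2, 27, 22, 34, 22], [-1, -4, 3, -7, -1, -3, -1, 2, -2, 5, -1, 0, -5, 2, 1, 0, -1, 0, -1, 0, 0, 1, 0, 0, 0, -1]⟩) (.leaf ⟨3, 5, true, [43, 31, 22, 16], [6, 30, 6, 18, 26, 4], [8, 6, -11, 12, -22, 4, -1, -4, 1, -8, 2, 1, 6, 3, 1, 1, 1, 0, 0, -2, 1, -2, 0, 0, 0, 1, 0, 0, 0, 1]⟩)) (.node 1 (.leaf ⟨5, 5, true, [22, 14, 18, 11, 4], [11, 26, 32, 18, 8], [0, 2, 0, -2, -1, 0, 0, 0, -1, 0, 0, 0, 0, 0, -2, 0, 0, -1]⟩) (.leaf ⟨5, 4, true, [25, 32, 12, 10], [27, 30, 27, 10], [0, 0, -1, 0, -1, 0, 0, 1, -1, 1, 0, 0, 2, 0, 1, 0, 0, 0, 0, -1]⟩))))) (.node 7 (.node 3 (.node 1 (.leaf ⟨5, 5, false, [32, 8], [], [-3, -1, 6, -4, 3, 0, 1, 0, -1, -2,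 1, 1]⟩) (.node 1 (.leaf ⟨5, 3, true, [24, 8, 22, 10, 6], [26, 24, 21, 40, 43, 26], [0, -1, 2, -3, -1, -1, 0, 2, -1, 5, -2, 0, -2, 1, 0, 0, 0, 0, 0, 0, 0, 1, 0, 0, 0, -1]⟩) (.leaf ⟨5, 5, false, [6, 33, 21, 16, 6, 0], [], [-4, -33, -6, -22, -38, -11, 2, -4, 1, -3, -1, 3, -17, 9, 5, 0, -1, -2, -3, -2, 0, 0, 0, -2, 0, 0, 0, 0, 2]⟩))) (.node 2 (.node 1 (.leaf ⟨5, 3, true, [29, 23, 23, 10, 6], [13, 22, 43, 34, 19], [-2, -1, -1, -1, 1, 0, -1, 0, -2, 1, 0, 1, 0, 0, 1, 0, 0, 0, 0, 0, 0, -1]⟩) (.leaf ⟨3, 5, true, [21, 28, 14, 42, 38], [18, 6, 23, 25, 6], [4, 4, 3, 3, -3, -2, 1, 0, 4, -3, 0, -1, 0, 0, -2, 0, 0, 0, 0, 0, 0, 1]⟩)) (.node 1 (.leaf ⟨5, 5, true, [37, 20, 14, 10, 30], [32, 42, 0, 37, 25], [1, 33, 11, 19, 40, 11, -1, 4, -1, 3, 3, -2, 17, -9, -4, 0, 1, 2, 3, 2, 0, -1, 0, 2, 0, 0, 0, 0,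 -2]⟩) (.leaf ⟨5, 4, true, [26, 24, 43, 34], [40, 2, 21, 19, 22], [0, 1, -6, 3, -1, -1, -1, 0, 2, 1, -3, 0, 2, -1, 1, 0, 0, 0, 0, 0, 0, -1]⟩)))) (.node 4 (.node 2 (.node 1 (.leaf ⟨4, 5, true, [10, 28, 22, 19, 6], [21, 39, 42, 10, 6], [4, 1, 1, 1, -2, 1, 0, 0, -2, 0, 2, -1, -1, 1, -2, 0, 0, 0, 0, 0, 0, 1]⟩) (.leaf ⟨5, 5, true, [2, 29, 41, 43, 10], [35, 43, 23, 16, 10], [-5, -33, -6, -18, -38, -11, 3, -4, 1, -3, -3, 3, -15, 9, 8, 0, -1, -1, -3, -2, 0, 0, 0, -2, 0, -1, 0, 0, 2]⟩)) (.node 1 (.leaf ⟨5, 5, true, [2, 12, 24, 10, 32, 0], [41, 43, 29, 6, 43], [-4, -1, 12, -12, 6, 0, 1, 0, -2, -4, 4, 2, -2, 0, -4, 0, 0, -1, 0, 0, 0, 0, 0, 0, 0, 1]⟩) (.leaf ⟨5, 5, true, [21, 12, 19, 43, 34], [0, 35, 12, 40, 33, 18], [1, 2, 0, 3, -1, 0, -1, 1, 0, 0, 0, 0, 3, 0, 1, 0, 0, 0, 0, 0, 0, -1]⟩))) (.node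 2 (.node 1 (.leaf ⟨5, 5, true, [24, 12, 20, 41, 2], [35, 42, 4, 29, 20], [3, 0, -6, 1, -2, 0, 0, -1, 1, 2, -1, -1, -3, 0, -2, 0, 0, 0, 0, 0, 0, 1]⟩) (.leaf ⟨5, 5, true, [10, 32, 14, 6], [35, 11, 2, 19], [-1, 0, 0, 0, 1, 0, 2, -1, -1, 1, 1, -1, 0, 0, 1, 0, 0, 0, 0, 0, 0, -1]⟩)) (.node 1 (.leaf ⟨3, 5, true, [38, 4, 39, 34, 6], [25, 33, 21, 2, 4], [2, -61, -29, -29, -98, -18, 2, -11, 4, -13, -2, 6, -28, 21, 8, 1, -1, -5, -6, -6, 1, -1, 0, -4, 0, 1, 0, 0, 4, 1]⟩) (.leaf ⟨4, 5, true, [0, 37, 32, 22, 10], [4, 35, 37, 42, 24, 28], [2, -32, -16, -18, -51, -4, 6, -9, 1, 2, -5, 6, -19, 12, 9, 0, 2, -2, -1, -1, 0, -2, -1, -2, -1, 0, 0, 0, 2]⟩)))))) (.node 15 (.node 7 (.node 3 (.node 1 (.leaf ⟨5, 4, true, [0, 13, 36, 30, 8, 21], [23, 16, 10, 33, 2], [-4, 32, 22, 14, 54, 4, -5, 9, -2, -4, 6, -5, 19,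 -12, -10, 0, -2, 2, 1, 1, 0, 2, 1, 2, 1, 0, 0, 0, -2]⟩) (.node 1 (.leaf ⟨5, 4, true, [39, 40, 25, 16, 12], [40, 2, 21, 33, 8], [0, -4, -1, -1, -1, 1, 1, 1, 1, -2, 0, 1, 2, -1, 3, 0, 0, 0, 0, -1, 0, 0, 0, 0, -1]⟩) (.leaf ⟨4, 5, true, [10, 20, 26, 22, 6], [10, 26, 29, 6, 22], [2, 4, -1, -1, -2, -1, -1, -1, -1, 2, 0, -1, -4, 1, -4, 0, 0, 0, 0, 1, 0, 0, 0, 0, 1]⟩))) (.node 2 (.node 1 (.leaf ⟨5, 5, true, [12, 40, 19, 28, 8], [8, 18, 33, 35, 30, 14], [1, 1, -6, 9, -5, 0, 1, 0, -1, 3, -4, -2, 5, 0, 5, 0, 0, 1, 0, 0, 0, 0, 0, 0, 0, -2]⟩) (.leaf ⟨4, 1, true, [20, 4, 37, 21, 42, 10, 10], [4, 23, 6, 24, 2, 19], [-11, 19, 20, 7, 42, 4, 0, 5, -1, -6, 7, -2, 18, -10, -4, 0, -1, 2, 1, 1, 0, 1, 1, 1, 0, 0, 0, 0, -1, 0, -1]⟩)) (.node 1 (.leaf ⟨4, 4, false, [28, 0, 42, 25, 35, 4, 6], [], [11, -21, -20,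 -5, -38, -4, 0, -4, -2, 8, -7, 2, -18, 10, 3, 0, 1, -2, -1, -1, 0, -1, -1, -1, 0, 0, 0, 0, 1, 0, 1]⟩) (.leaf ⟨3, 3, true, [28, 43, 11, 31, 37, 2], [38, 27, 40, 13, 23, 13], [7, -16, -16, -6, -18, -6, 3, -2, -7, 16, -10, 3, -19, 6, 1, -1, 1, -2, 0, 1, -1, -1, -1, -1, 0, 0, 0, 0, 1, -1, 1]⟩)))) (.node 4 (.node 2 (.node 1 (.leaf ⟨3, 3, true, [2, 30, 34, 19, 20, 6], [0, 38, 10, 34, 34, 29], [-7, 6, 12, -3, -3, 0, -1, 0, 7, -16, 8, -1, 12, -1, 0, 1, -1, 1, -1, -2, 1, 1, 1, 0, 0, 0, 0, 0, 0, 1, -1]⟩) (.leaf ⟨5, 3, true, [4, 29, 37, 21, 21, 27], [20, 43, 36, 11, 20, 14], [8, 26, -10, 26, 39, 12, -4, 5, -13, 21, -5, -3, 8, -8, -1, -1, 2, 1, 4, 4, -1, -3, -1, 2, 0, 0, 0, 0, -2, -2, 1]⟩)) (.node 1 (.leaf ⟨3, 5, true, [34, 0, 30, 2, 23, 4, 30], [25, 25, 30, 36, 28], [-11, -23, 19, -29, -14, -16,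 6, -3, 12, -16, 3, 1, -8, 4, -3, 0, -2, -1, -3, -2, 0, 4, 1, -2, 0, 0, 0, 0, 2, 1, -1]⟩) (.leaf ⟨1, 6, true, [10, 6, 2], [], []⟩))) (.node 2 (.node 1 (.leaf ⟨6, 6, false, [32, 14], [], [2, -2, -1, 1, -1, 0, 0, -1, 0, 0, 0, 1]⟩) (.leaf ⟨6, 6, false, [32, 8], [], [0, -1, 0, 0, 0, 0, 0, 0, 0, 0, 0, 0, 2]⟩)) (.node 1 (.leaf ⟨6, 3, true, [4, 20, 38, 6, 35, 0], [26, 35, 32, 22, 41, 42], [-5, 59, 39, 30, 116, 7, -1, 19, -2, 9, -13, -8, 29, -24, -32, -3, -1, 2, 5, 9, -3, 7, 1, 5, 0, 0, 1, 0, -3, -2]⟩) (.leaf ⟨3, 6, true, [21, 27, 14, 38, 43, 43], [4, 34, 6, 39, 21, 4], [2, -59, -29, -33, -90, -10, 3, -17, 3, -6, 12, 6, -29, 19, 28, 2, 1, -2, -4, -7, 2, -6, -1, -5, 0, 0, -1, 0, 3, 1]⟩))))) (.node 8 (.node 4 (.node 2 (.node 1 (.leaf ⟨6, 6, true, [28, 8, 20, 11, 0], [26, 19, 11, 24, 10], [-1, -2,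 0, 0, 2, 0, 1, 1, 0, 1, 1, -1, 0, 0, -2, 0, 0, -1]⟩) (.leaf ⟨6, 4, true, [11, 8, 23, 25], [25, 23, 8, 11, 0], [0, 0, -1, 0, 1, 0, 1, 1, -2, 0, 0, 0, 0, 0, -2, 0, 0, -1]⟩)) (.node 1 (.leaf ⟨6, 5, true, [32, 24, 11, 26, 0], [11, 30, 20, 28], [0, 0, 0, 0, 0, 0, 0, -2, 0, 1, 1, -1, -1, 1, -2, 0, 0, -1]⟩) (.leaf ⟨6, 5, true, [20, 37, 4, 6, 2], [13, 39, 43, 33, 14, 29], [4, 1, -6, 6, -3, 0, -1, 2, 2, 3, -2, 0, 4, 2, 3, 0, 0, 0, -1, 0, 0, -1]⟩))) (.node 2 (.node 1 (.leaf ⟨5, 6, true, [20, 19, 43, 11, 2], [22, 19, 6, 28, 11], [0, 1, 0, -2, 0, 0, 0, -2, -1, -1, 1, -1, -4, -2, -4, 0, 0, 0, 1, 0, 0, 1]⟩) (.leaf ⟨6, 4, true, [24, 24, 41, 12, 2], [12, 39, 42, 28, 11, 30], [-3, -2, -2, -2, 2, -2, 0, -1, 0, -2, -2, 0, -1, -1, 3, 0, 0, 0, -1, 0, 0, -1]⟩)) (.node 1 (.leaf ⟨4, 6, true, [2, 34, 27, 41,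 42], [0, 18, 35, 2, 25, 27], [7, 4, -3, 6, -5, 2, -1, 1, 0, 3, 1, -1, 2, 1, -4, 0, 0, 0, 1, 0, 0, 1]⟩) (.leaf ⟨6, 5, true, [27, 10, 18, 18, 6], [22, 2, 40, 23, 20], [6, -2, -12, 3, -6, 0, -1, -3, 5, 2, -3, -2, -1, 0, 0, 0, 0, 0, -1, 0, 0, 1]⟩)))) (.node 4 (.node 2 (.node 1 (.leaf ⟨5, 6, true, [37, 31, 31, 16, 4], [2, 40, 25, 11, 13], [-4, 35, 24, 15, 47, 11, 0, 7, -7, -1, 5, 0, 18, -9, -6, 0, 1, 2, 4, 2, 0, -1, 0, 2, 0, 0, 0, 0, -2]⟩) (.leaf ⟨6, 4, true, [25, 41, 38, 26, 0], [6, 29, 24, 31, 8, 2], [7, 71, 17, 45, 83, 15, -9, 13, 0, 1, 4, -9, 33, -22, -13, 0, -1, 4, 3, 3, 0, 2, 1, 4, 1, 0, 0, 0, -4]⟩)) (.node 1 (.leaf ⟨4, 6, true, [4, 25, 43, 38, 20, 6], [4, 27, 39, 40, 24], [-9, -46, -7, -24, -45, -11, 8, -8, -1, -1, -1, 5, -14, 13, 7, 0, 0, -2, -2, -2, 0, -1, 0, -3, -1, 0, 0, 0, 3]⟩)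 (.leaf ⟨6, 5, true, [35, 38, 20, 8], [2, 27, 21, 34, 23, 8], [5, 1, -12, 10, -9, -2, -2, 0, 3, 3, -4, -3, 4, 0, 5, 0, 0, 1, -1, 0, 0, 0, 0, 0, 0, -1]⟩))) (.node 2 (.node 1 (.leaf ⟨5, 6, true, [20, 10, 21, 6, 23], [22, 39, 43, 33, 21], [-7, -1, 18, -14, 12, 2, 3, 0, -4, -5, 5, 4, -4, 0, -6, 0, 0, -1, 1, 0, 0, 0, 0, 0, 0, 1]⟩) (.leaf ⟨6, 5, true, [10, 20, 13, 41, 2], [39, 41, 4, 40, 12], [3, 32, 12, 14, 41, 11, -2, 5, 0, 1, 5, -2, 15, -9, -7, 0, 1, 1, 2, 2, 0, 0, 0, 2, 0, 1, 0, 0, -2]⟩)) (.node 1 (.leaf ⟨5, 6, true, [18, 39, 34, 27, 24], [12, 22, 36, 35, 19], [5, 3, -12, 12, -6, 0, -1, -1, 0, 4, -5, -2, 2, 0, 1, 0, 0, 1, 1, 0, 0, 0, 0, 0, 0, -1]⟩) (.leaf ⟨6, 5, true, [21, 10, 29, 20, 6], [2, 10, 42, 28, 20, 23], [3, -1, 0, 0, -1, 0, 2, -2, 0, -1, 0, -2, -1, 1, 0, 0, 0, 0, -1, 0, 0, 1]⟩)))))))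
noncomputable def dF121 : BT Fct := (.node 30 (.node 15 (.node 7 (.node 3 (.node 1 (.leaf ⟨6, 5, true, [22, 27, 27, 10], [10, 12, 22, 22], [0, 2, 0, 0, -2, 0, 0, 0, 2, 1, 1, -1, 0, 0, 1, 0, 0, 0, 0, -1]⟩) (.node 1 (.leaf ⟨6, 5, true, [33, 18, 10, 33, 0], [20, 33, 25, 10, 10], [0, -2, 0, 0, 2, 0, -2, 0, 0, 0, -1, 1, 2, 0, 1, 0, 0, 0, 0, -1]⟩) (.leaf ⟨6, 3, true, [16, 11, 28, 41, 2], [4, 39, 43, 19, 21], [0, 5, 1, 3, 1, -1, 0, 0, 0, -1, 1, 1, 1, -1, 1, 0, 0, 0, 0, 0, 0, -1]⟩))) (.node 2 (.node 1 (.leaf ⟨3, 6, true, [20, 32, 21, 42, 38], [11, 2, 40, 22, 18], [2, -5, 0, -3, 2, 0, 0, 0, 0, 1, -1, -2, 0, 1, -2, 0, 0, 0, 0, 0, 0, 1]⟩) (.leaf ⟨6, 6, true, [6, 25, 26, 11, 8], [29, 16, 4, 41, 2], [0, -3, -1, 0, -3, 0, 0, 1, 1, -1, 0, 0, 0, 0, 1, 0, 0, 0, 0, 0, 0, -1]⟩)) (.node 1 (.leaf ⟨6, 6, true,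 [32, 42, 12, 38, 26], [26, 20, 35, 42], [-1, -3, 0, -3, -1, 0, -1, -2, 1, -2, -1, 0, -4, 1, 1, 0, 0, 0, 0, 0, 0, -1]⟩) (.leaf ⟨6, 4, true, [16, 28, 35, 8, 2], [4, 39, 43, 22, 20], [1, 5, -1, 2, -4, 0, 0, 0, 1, -1, -1, 1, 1, 0, 1, 0, 0, 0, 0, 0, 0, -1]⟩)))) (.node 4 (.node 2 (.node 1 (.leaf ⟨4, 6, true, [27, 34, 37, 6, 16], [13, 39, 35, 37, 6], [3, -3, -4, 2, 1, 0, -1, 0, -1, 2, 0, -2, 0, 0, -2, 0, 0, 0, 0, 0, 0, 1]⟩) (.leaf ⟨6, 2, true, [2, 34, 39, 42, 18, 23], [43, 37, 40, 31, 21, 27], [1, -3, 2, -3, -4, -3, 3, 1, -1, -1, -2, -2, 0, 1, -4, 0, 0, 0, 0, 0, 0, 1, 0, 0, 0, 0, 0, 0, 1]⟩)) (.node 1 (.leaf ⟨2, 6, true, [2, 30, 11, 20, 13, 0], [27, 36, 0, 43, 14], [0, 4, -3, 2, 3, 0, -3, -1, 1, 2, 0, 3, -1, -3, 3, -1, 0, 0, 0, 0, 0, -1, 0, 0, 0, 0, 0, 0, -1]⟩) (.leaf ⟨6, 5, true, [16, 28, 39,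 40], [13, 26, 35, 2, 22], [-1, 0, 0, 0, -2, 0, 0, -1, 0, -2, 0, 0, -1, 1, 1, 0, 0, 0, 0, 0, 0, -1]⟩))) (.node 2 (.node 1 (.leaf ⟨6, 5, true, [29, 8, 39, 42, 6], [0, 14, 42, 42, 33, 11], [-2, -5, -1, -3, 1, -1, 0, 2, 1, -1, 0, -1, -1, -1, 1, 0, 0, 0, 0, 0, 0, -1]⟩) (.leaf ⟨5, 6, true, [43, 34, 25, 13], [28, 2, 40, 10, 4], [6, 7, -5, 7, -4, 1, -1, -2, 0, 3, -1, 0, 1, 1, -2, 0, 0, 0, 0, 0, 0, 1]⟩)) (.node 1 (.leaf ⟨6, 6, true, [13, 18, 39, 40], [2, 40, 21, 27, 14], [-1, -1, -1, -1, -2, -1, -1, 0, 2, -1, 0, 0, 2, -1, 1, 0, 0, 0, 0, 0, 0, -1]⟩) (.leaf ⟨6, 5, true, [0, 43, 38, 18, 11, 28], [6, 21, 27, 24, 11], [-2, -1, 0, -1, 0, 0, 1, 1, 1, -2, 2, -1, 0, 0, 1, 0, 0, 0, 0, 0, 0, -1]⟩))))) (.node 7 (.node 3 (.node 1 (.leaf ⟨6, 6, true, [26, 24, 43, 16, 42], [6, 21, 18, 30, 11], [2, 5, -1, 4,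 -3, 0, 0, 1, 2, 0, 0, 0, -1, 1, 1, 0, 0, 0, 0, 0, 0, -1]⟩) (.node 1 (.leaf ⟨6, 6, true, [18, 28, 41, 2, 4], [22, 21, 13, 34, 37], [-1, -5, 1, -4, 3, 0, 0, -1, -2, 0, 0, 0, 3, -1, -2, 0, 0, 0, 0, 0, 0, 1]⟩) (.leaf ⟨6, 5, true, [6, 29, 35, 2, 4], [6, 16, 30, 18, 13, 11], [-2, -3, 0, 0, 1, -1, -1, 1, 1, -2, 0, -1, 1, -1, 1, 0, 0, 0, 0, 0, 0, -1]⟩))) (.node 2 (.node 1 (.leaf ⟨5, 6, true, [10, 29, 8, 29, 6], [2, 34, 28, 6, 0], [0, 3, 6, -4, 2, 1, 2, -1, -2, 0, 1, 2, -1, 1, -2, 0, 0, 0, 0, 0, 0, 1]⟩) (.leaf ⟨6, 6, true, [41, 2, 26, 12, 18], [21, 6, 40, 31, 39], [-5, 2, -1, 0, -2, 0, -3, 2, 1, 1, -1, 1, 1, -1, 1, 0, 0, 0, 1, 0, 0, -1, 0, -1]⟩)) (.node 1 (.leaf ⟨3, 6, true, [40, 23, 27, 28], [2, 30, 43, 14, 18, 11], [6, -29, -20, -11, -58, -7, 0, -5, -1, -5, 1, 4, -12, 12, 5, 1, -1, -3, -3, -4,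 1, -3, 0, -2, 0, 1, 0, 0, 2, 1]⟩) (.leaf ⟨6, 6, true, [25, 40, 37, 38, 12], [40, 40, 34, 37, 23], [-3, 1, 1, 0, -1, -2, 1, -1, 2, -4, 0, 3, -1, -1, 3, 0, 0, 0, -1, 0, 0, -1]⟩)))) (.node 4 (.node 2 (.node 1 (.leaf ⟨3, 6, true, [38, 19, 6], [0, 21, 43, 41, 6, 25], [7, -28, -23, -7, -59, -7, 0, -5, 2, -9, -1, 2, -10, 13, 8, 1, 0, -2, -3, -4, 1, -2, 0, -3, 0, 1, 0, 0, 2, 1]⟩) (.leaf ⟨6, 3, true, [23, 39, 34, 16, 28], [0, 4, 6, 18, 39], [-6, 28, 23, 7, 59, 7, 0, 5, -2, 9, 1, -2, 12, -13, -9, -1, 0, 2, 3, 4, -1, 2, 0, 3, 0, -1, 0, 0, -2, -1]⟩)) (.node 1 (.leaf ⟨6, 6, true, [2, 22, 25, 8], [42, 11, 11, 6], [-3, -2, 1, -4, 5, -1, 0, 2, 1, 0, -1, 0, 0, 1, 0, 0, 0, 0, 0, 0, 0, 1, 0, 0, 0, 0, -1]⟩) (.leaf ⟨6, 6, true, [8, 6, 33, 24, 23], [2, 30, 33, 8], [-5, 58, 34, 31, 117, 8, -1, 16, -2, 7, -12,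 -9, 33, -24, -29, -3, -1, 2, 5, 9, -3, 5, 1, 5, 0, 1, 0, 0, -3, -2]⟩))) (.node 2 (.node 1 (.leaf ⟨6, 6, true, [19, 29, 12, 2], [32, 6, 26, 29, 24], [4, -55, -33, -32, -116, -8, 1, -15, 2, -7, 12, 8, -33, 24, 28, 3, 1, -2, -5, -9, 3, -5, -1, -5, 0, -1, 0, 0, 3, 2]⟩) (.leaf ⟨6, 6, true, [35, 43, 12, 21, 11], [0, 43, 35, 11, 39, 19], [-1, 5, 0, 2, -8, -1, -1, -1, -1, -3, 0, 1, -3, 0, -1, -1, 0, 0, 0, 0, 0, -1, 0, 0, 0, 0, 1]⟩)) (.node 1 (.leaf ⟨6, 6, true, [6, 16, 32, 25, 6, 4], [4, 41, 42, 23, 27, 14], [1, -7, 0, 0, 8, 0, 3, 1, 2, 5, 1, -1, 7, -1, -1, 1, -1, 0, 0, 0, 0, 1, 0, 0, 0, 0, -1]⟩) (.leaf ⟨6, 6, true, [19, 8, 43, 8, 2], [0, 6, 24, 33, 16, 6], [0, 7, 0, 0, -8, 0, -3, -1, -2, -5, -1, 1, -5, 1, 0, -1, 1, 0, 0, 0, 0, -1, 0, 0, 0, 0, 1]⟩)))))) (.node 15 (.node 7 (.node 3 (.node 1 (.leaf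 ⟨5, 6, true, [14, 11, 39, 28, 22], [11, 32, 34, 40, 12, 26], [23, 24, -47, 41, -5, 22, -10, -6, -7, 17, 9, -3, 10, 1, 21, 2, 3, 3, 4, -1, 2, -9, -2, 1, 0, 0, -2, 0, -3, 0, 1]⟩) (.node 1 (.leaf ⟨6, 5, true, [4, 19, 41, 35, 33, 10], [38, 43, 10, 31, 41], [-24, -21, 48, -42, 6, -22, 10, 7, 7, -17, -9, 2, -10, -1, -22, -2, -3, -3, -4, 1, -2, 9, 2, -1, 0, 0, 2, 0, 3, 0, -1]⟩) (.leaf ⟨6, 6, true, [43, 33, 28, 38, 32, 0], [30, 38, 38, 35], [1, 29, 8, 18, 36, 8, -3, 4, -1, 0, 2, -6, 15, -7, -6, 0, 0, 1, 2, 2, 0, 0, 0, 2, 0, 0, 0, 0, -2]⟩))) (.node 2 (.node 1 (.leaf ⟨6, 6, true, [36, 31, 37, 40, 16, 25], [28, 6, 24, 2, 41, 30], [0, 29, 5, 18, 33, 9, -5, 4, -1, -1, 2, -4, 15, -8, -3, 0, 0, 2, 2, 2, 0, -1, 0, 2, 0, 0, 0, 0, -2]⟩) (.leaf ⟨6, 6, true, [28, 43, 22, 35, 25, 2], [22, 29, 35, 41, 29,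 25], [1, -29, -5, -18, -33, -9, 5, -4, 1, 1, -2, 4, -13, 8, 2, 0, 0, -2, -2, -2, 0, 1, 0, -2, 0, 0, 0, 0, 2]⟩)) (.node 1 (.leaf ⟨3, 6, true, [21, 36, 31, 14, 27], [19, 21, 26, 34, 28, 39], [13, -90, -65, -45, -194, -10, -3, -31, 3, -17, 28, 10, -48, 41, 58, 6, 1, -2, -8, -16, 6, -13, -2, -8, 0, -1, -2, 0, 4, 4]⟩) (.leaf ⟨6, 3, true, [24, 30, 6, 35, 39, 27], [2, 40, 43, 29, 39, 28], [-12, 90, 65, 45, 194, 10, 3, 31, -3, 17, -28, -10, 50, -41, -59, -6, -1, 2, 8, 16, -6, 13, 2, 8, 0, 1, 2, 0, -4, -4]⟩)))) (.node 4 (.node 2 (.node 1 (.leaf ⟨6, 6, true, [6, 22, 16, 42, 38, 4], [35, 43, 27, 22, 2], [-10, 13, 20, 3, 64, -3, 4, 10, -1, 10, -18, 1, 14, -10, -23, -3, 0, -1, 2, 6, -3, 7, 1, 2, -1, 1, 0, 0, 0, -2]⟩) (.leaf ⟨3, 5, true, [6, 37, 11, 43, 8, 28], [2, 38, 38, 37, 27, 21], [-16, -17, 31,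 -32, -18, -14, 6, -3, 11, -21, 7, 4, -5, 1, 1, 0, -1, -1, -3, -2, 0, 2, 1, -2, -1, 0, 1, 0, 2, 1, -1]⟩)) (.node 1 (.leaf ⟨5, 3, true, [4, 2, 39, 0, 40, 16], [27, 10, 8, 42, 10, 31], [14, 17, -25, 28, 21, 14, -5, 3, -12, 19, -6, -3, 5, -1, -2, 0, 1, 1, 3, 2, 0, -2, -1, 2, 1, 0, -1, 0, -2, -1, 1]⟩) (.leaf ⟨5, 6, true, [4, 6, 36, 26, 26, 28], [35, 4, 13, 36, 30, 40], [19, -1, -47, 20, -44, 15, -6, -10, -7, 13, 10, 3, -5, 4, 29, 2, 4, 2, 2, -3, 2, -10, -2, -1, 0, -1, -1, 0, -1, 0, 1]⟩))) (.node 2 (.node 1 (.leaf ⟨6, 5, true, [33, 34, 39, 32, 28, 6], [23, 26, 22, 37, 6, 4], [-20, 5, 48, -21, 45, -15, 6, 11, 7, -13, -10, -4, 3, -4, -30, -2, -4, -2, -2, 3, -2, 10, 2, 1, 0, 1, 1, 0, 1, 0, -1]⟩) (.leaf ⟨6, 6, true, [2, 28, 14, 19, 10], [42, 30, 10, 41, 39], [-14, 50, 28, 20, 95, 3, -1, 15, 0,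 10, -16, -2, 25, -17, -25, -3, 0, 1, 4, 8, -3, 7, 1, 4, -1, 0, 0, 0, -2, -2]⟩)) (.node 1 (.leaf ⟨6, 6, true, [43, 37, 40, 12, 18], [31, 11, 13, 19, 2], [15, -48, -28, -20, -95, -3, 1, -15, 0, -10, 16, 2, -27, 17, 24, 3, 0, -1, -4, -8, 3, -7, -1, -4, 1, 0, 0, 0, 2, 2]⟩) (.leaf ⟨6, 6, true, [2, 43, 37, 39, 22, 14], [21, 24, 40, 40, 31], [-21, 32, 39, 9, 122, -6, 8, 22, -3, 20, -36, 1, 26, -22, -46, -6, 0, -2, 4, 12, -6, 13, 2, 4, -1, 1, 1, 0, 0, -4]⟩))))) (.node 8 (.node 4 (.node 2 (.node 1 (.leaf ⟨6, 6, true, [6, 8, 22, 14, 43, 2], [20, 23, 33, 36, 0], [-8, 30, 24, 13, 80, 0, 3, 12, -1, 11, -17, -1, 20, -16, -25, -3, 0, 0, 3, 7, -3, 7, 1, 3, 0, 0, 0, 0, -1, -2]⟩) (.leaf ⟨5, 5, true, [2, 39, 13, 43, 22, 10], [16, 35, 13, 19, 13, 36], [-1, -69, -24, -39, -75, -21, 5, -10, 0, -1, -3, 2, -36,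 18, 8, 0, -2, -4, -6, -4, 0, 1, 0, -4, 1, 0, 0, 0, 4, -1]⟩)) (.node 1 (.leaf ⟨3, 6, true, [24, 18, 11, 6], [13, 6, 32, 27, 16, 6, 30], [-4, -15, -8, -16, -29, -5, -1, -11, 2, -2, 8, 3, -21, 3, 12, -1, 1, 0, 0, -1, 0, -4, -1, -2, 0, 0, 1, 0, 1, -1]⟩) (.leaf ⟨6, 3, true, [8, 20, 38, 33, 35], [39, 2, 18, 22, 0], [5, 15, 8, 16, 29, 5, 1, 11, -2, 2, -8, -3, 23, -3, -13, 1, -1, 0, 0, 1, 0, 4, 1, 2, 0, 0, -1, 0, -1, 1]⟩))) (.node 2 (.node 1 (.leaf ⟨6, 6, true, [16, 19, 23, 40, 36], [41, 12, 26, 26, 37, 18, 0], [-5, -112, -48, -67, -191, -20, 5, -25, 2, -20, 13, 17, -47, 43, 48, 4, 0, -5, -11, -14, 4, -10, -1, -8, 0, 0, -1, 0, 6, 3, -1]⟩) (.leaf ⟨6, 6, true, [31, 2, 27, 38, 25, 6], [37, 34, 28, 16, 11], [4, 114, 49, 66, 192, 20, -5, 26, -2, 20, -13, -18, 49, -43, -49, -4, 0, 5, 11, 14, -4, 10,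 1, 8, 0, 0, 1, 0, -6, -3, 1]⟩)) (.node 1 (.leaf ⟨6, 6, true, [6, 38, 36, 18, 25, 12], [19, 12, 30, 37, 28, 39], [4, -61, -35, -34, -117, -12, 0, -17, 1, -7, 13, 8, -33, 24, 32, 2, 0, -1, -5, -9, 3, -6, -1, -5, 0, -1, -1, 0, 3, 2]⟩) (.leaf ⟨6, 6, true, [40, 6, 4, 36, 25, 8], [22, 6, 33, 43, 34, 28], [-3, 61, 35, 34, 117, 12, 0, 17, -1, 7, -13, -8, 35, -24, -33, -2, 0, 1, 5, 9, -3, 6, 1, 5, 0, 1, 1, 0, -3, -2]⟩)))) (.node 4 (.node 2 (.node 1 (.leaf ⟨6, 6, true, [38, 36, 34, 28, 37, 30], [29, 29, 20, 36, 18, 26], [6, -15, -24, -6, -67, 2, -6, -11, 1, -8, 15, 2, -15, 12, 23, 3, 0, 0, -2, -6, 3, -6, -1, -2, 0, -1, -1, 0, 0, 2]⟩) (.leaf ⟨6, 6, true, [29, 25, 43, 41, 30, 29], [25, 27, 25, 40, 11, 35], [-5, 15, 24, 6, 67, -2, 6, 11, -1, 8, -15, -2, 17, -12, -24, -3, 0, 0, 2, 6, -3, 6, 1, 2, 0,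 1, 1, 0, 0, -2]⟩)) (.node 1 (.leaf ⟨6, 6, true, [34, 4, 35, 18, 11, 4], [25, 30, 36, 26, 24, 13], [5, -31, -28, -15, -84, -1, -5, -11, 0, -8, 16, 4, -22, 19, 25, 3, 0, -1, -3, -7, 3, -6, -1, -3, 0, -1, -1, 0, 1, 2]⟩) (.leaf ⟨6, 6, true, [12, 0, 40, 11, 40, 27, 14], [18, 12, 29, 37, 31, 8], [-4, 31, 28, 15, 84, 1, 5, 11, 0, 8, -16, -4, 24, -19, -26, -3, 0, 1, 3, 7, -3, 6, 1, 3, 0, 1, 1, 0, -1, -2]⟩))) (.node 2 (.node 1 (.leaf ⟨6, 6, true, [14, 31, 37, 16, 18, 26], [19, 10, 33, 34, 11, 39, 16], [8, -3, -20, 2, -43, 7, -7, -8, -1, -6, 15, -1, -6, 7, 24, 3, 0, 2, -1, -6, 3, -6, -1, -1, 0, -1, -1, 0, -1, 2]⟩) (.leaf ⟨6, 6, true, [18, 42, 39, 32, 8, 19], [37, 0, 30, 8, 6, 38, 30], [-7, 3, 20, -2, 43, -7, 7, 8, 1, 6, -15, 1, 8, -7, -25, -3, 0, -2, 1, 6, -3, 6, 1, 1, 0, 1, 1, 0, 1, -2]⟩)) (.node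 1 (.leaf ⟨6, 3, true, [13, 40, 40, 12, 24, 22], [26, 43, 6, 33, 34, 6], [-6, 55, 32, 32, 97, 5, 1, 22, -5, 5, -21, -4, 37, -18, -36, -3, -1, 1, 4, 8, -3, 7, 2, 5, 0, 1, 1, 0, -2, -2]⟩) (.leaf ⟨3, 6, true, [18, 20, 2, 31, 29, 32], [24, 12, 43, 6, 31, 2], [9, -35, -28, -21, -80, -3, -3, -20, 3, -3, 21, 2, -30, 15, 33, 3, 1, 0, -3, -7, 3, -7, -2, -4, 0, -1, -1, 0, 1, 2]⟩)))))))
noncomputable def dF182 : BT Fct := (.node 30 (.node 15 (.node 7 (.node 3 (.node 1 (.leaf ⟨6, 6, true, [2, 11, 29, 0, 33, 13], [24, 16, 37, 39, 40, 2], [14, -46, -48, -18, -145, 1, -7, -22, 2, -19, 32, 1, -32, 27, 51, 6, 0, 1, -5, -13, 6, -13, -3, -5, 1, -2, -1, 0, 1, 4]⟩) (.node 1 (.leaf ⟨6, 6, true, [11, 40, 38, 23, 27, 23], [32, 12, 28, 10, 2], [-13, 46, 48, 18, 145, -1, 7, 22, -2, 19, -32, -1, 34, -27, -52, -6,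 0, -1, 5, 13, -6, 13, 3, 5, -1, 2, 1, 0, -1, -4]⟩) (.leaf ⟨6, 6, true, [0, 24, 28, 40, 42, 16], [34, 13, 43, 22, 35, 27], [-13, -5, 13, -8, 46, -6, 6, 7, -4, 12, -18, 2, 6, -5, -19, -3, 0, -2, 1, 5, -3, 7, 0, 1, -1, 1, 0, 0, 1, -2]⟩))) (.node 2 (.node 1 (.leaf ⟨6, 6, true, [26, 43, 43, 30, 6, 25], [11, 42, 30, 28, 41, 23], [14, 7, -13, 8, -46, 6, -6, -7, 4, -12, 18, -2, -8, 5, 18, 3, 0, 2, -1, -5, 3, -7, 0, -1, 1, -1, 0, 0, -1, 2]⟩) (.leaf ⟨6, 6, true, [12, 35, 30, 2, 18, 16], [2, 16, 39, 19, 34, 6], [11, -46, -50, -18, -145, 2, -8, -22, 1, -16, 32, 1, -35, 27, 53, 6, 0, 1, -5, -13, 6, -13, -3, -6, 1, -2, -1, 0, 1, 4]⟩)) (.node 1 (.leaf ⟨6, 6, true, [12, 40, 42, 19, 12, 0], [20, 41, 42, 32, 41, 2], [-10, 46, 50, 18, 145, -2, 8, 22, -1, 16, -32, -1, 37, -27, -54, -6, 0, -1, 5, 13, -6,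 13, 3, 6, -1, 2, 1, 0, -1, -4]⟩) (.leaf ⟨6, 6, true, [32, 11, 33, 6, 14], [24, 32, 22, 41, 34, 30], [-3, 3, -2, 0, -6, 0, -4, -3, -4, -1, 0, 1, -3, 0, 1, -1, 0, 0, 0, 0, 0, -1, 0, 0, 0, -1, 1]⟩)))) (.node 4 (.node 2 (.node 1 (.leaf ⟨6, 6, true, [13, 35, 11, 43, 28], [0, 8, 42, 13, 38, 27], [4, -3, 2, 0, 6, 0, 4, 3, 4, 1, 0, -1, 5, 0, -2, 1, 0, 0, 0, 0, 0, 1, 0, 0, 0, 1, -1]⟩) (.leaf ⟨6, 6, true, [8, 35, 4, 28, 42, 25], [10, 38, 40, 19, 20, 22], [-6, -11, -10, -9, -30, -2, -1, -6, -5, -2, -3, 5, -12, 4, 5, -1, 0, -1, -1, -1, 0, -1, 0, -1, 0, -2, 1, 0, 1]⟩)) (.node 1 (.leaf ⟨6, 6, true, [19, 28, 40, 37, 41, 20], [8, 35, 29, 36, 25], [7, 11, 10, 9, 30, 2, 1, 6, 5, 2, 3, -5, 14, -4, -6, 1, 0, 1, 1, 1, 0, 1, 0, 1, 0, 2, -1, 0, -1]⟩) (.leaf ⟨6, 6, true, [11, 40, 14, 43, 33, 12], [43, 38, 34,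 38, 35, 6], [-1, -43, -39, -24, -111, -5, -5, -19, -5, -11, 11, 7, -32, 21, 34, 2, 0, -1, -4, -8, 3, -7, -1, -4, 0, -4, 0, 0, 2, 2]⟩))) (.node 2 (.node 1 (.leaf ⟨6, 6, true, [2, 43, 35, 36, 41, 28], [20, 38, 16, 28, 41], [2, 43, 39, 24, 111, 5, 5, 19, 5, 11, -11, -7, 34, -21, -35, -2, 0, 1, 4, 8, -3, 7, 1, 4, 0, 4, 0, 0, -2, -2]⟩) (.leaf ⟨6, 5, true, [43, 12, 28, 11, 4], [43, 26, 39, 35, 21, 26], [-20, 63, 62, 12, 83, 1, 0, 16, 7, -17, -2, -7, 32, -23, -28, -2, -2, 2, 2, 6, -2, 7, 2, 4, -1, 0, 3, 0, -3, 0, -1]⟩)) (.node 1 (.leaf ⟨5, 6, true, [0, 40, 30, 23, 19, 10], [0, 10, 29, 13, 42], [22, -61, -63, -11, -85, -1, 0, -15, -7, 17, 2, 6, -32, 23, 27, 2, 2, -2, -2, -6, 2, -7, -2, -4, 1, 0, -3, 0, 3, 0, 1]⟩) (.leaf ⟨6, 6, true, [23, 19, 2, 42, 4], [23, 24, 2, 43, 29, 36], [-4, 60, 32, 31,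 115, 7, -3, 16, -1, 6, -13, -8, 33, -24, -26, -3, -1, 3, 5, 9, -3, 4, 1, 5, 0, 1, 0, 0, -3, -2]⟩))))) (.node 7 (.node 3 (.node 1 (.leaf ⟨6, 6, true, [6, 33, 33, 6, 29, 6], [43, 2, 18, 22, 0], [5, -58, -32, -31, -115, -7, 3, -16, 1, -6, 13, 8, -35, 24, 25, 3, 1, -3, -5, -9, 3, -4, -1, -5, 0, -1, 0, 0, 3, 2]⟩) (.node 1 (.leaf ⟨6, 6, true, [39, 36, 34, 20, 10], [29, 4, 43, 38, 31], [-4, 6, -3, -1, -9, 0, -5, -5, -4, -2, 0, 1, -6, 0, 4, -1, 0, 1, 0, 0, 0, -2, 0, 0, 0, -1, 1]⟩) (.leaf ⟨6, 6, true, [27, 24, 4, 6, 22], [22, 35, 37, 13, 38], [5, -4, 3, 1, 9, 0, 5, 5, 4, 2, 0, -1, 4, 0, -5, 1, 0, -1, 0, 0, 0, 2, 0, 0, 0, 1, -1]⟩))) (.node 2 (.node 1 (.leaf ⟨4, 6, true, [24, 32, 37, 16, 35], [10, 40, 43, 24, 22, 10], [-5, 0, 0, -2, -2, 0, -4, -5, -5, 0, 0, 3, -1, -1, 3, -1, 0, 1, 0, 0, 0, 0, 0,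 -1, 0, -1, 1]⟩) (.leaf ⟨6, 4, true, [10, 34, 14, 12, 39, 6], [0, 16, 35, 38, 8, 6], [6, 0, 0, 2, 2, 0, 4, 5, 5, 0, 0, -3, 3, 1, -4, 1, 0, -1, 0, 0, 0, 0, 0, 1, 0, 1, -1]⟩)) (.node 1 (.leaf ⟨3, 6, true, [0, 23, 18, 41, 34, 12], [4, 37, 38, 34, 32, 22], [-1, 4, -3, -1, -13, -2, -2, -2, -4, -1, -3, 0, -5, 2, 1, -1, 0, 1, 0, 0, 0, 0, 0, -1, 0, 0, 1]⟩) (.leaf ⟨6, 3, true, [20, 8, 29, 41, 41], [11, 6, 29, 25, 12], [2, -4, 3, 1, 13, 2, 2, 2, 4, 1, 3, 0, 7, -2, -2, 1, 0, -1, 0, 0, 0, 0, 0, 1, 0, 0, -1]⟩)))) (.node 4 (.node 2 (.node 1 (.leaf ⟨6, 6, true, [6, 32, 27, 6, 0], [23, 24, 41, 42, 16], [-8, 6, -4, 0, -9, 0, -7, -2, -4, -2, -2, 4, -4, 0, 6, -1, 0, 1, 1, 0, 0, -2, 0, -1, -1, -1, 1]⟩) (.leaf ⟨3, 6, true, [13, 21, 13, 16, 43, 30], [36, 11, 29, 29, 8], [-7, 1, 13, -5, -5, 0, -3, -3, 9, -18,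 9, -1, 8, -1, 2, 1, -1, 2, -1, -2, 1, 2, 1, 0, 0, 0, 0, 0, -1, 1, -1]⟩)) (.node 1 (.leaf ⟨6, 3, true, [29, 27, 30, 37, 10], [37, 35, 30, 41, 35], [8, -1, -13, 5, 5, 0, 3, 3, -9, 18, -9, 1, -6, 1, -3, -1, 1, -2, 1, 2, -1, -2, -1, 0, 0, 0, 0, 0, 1, -1, 1]⟩) (.leaf ⟨6, 6, true, [27, 28, 18, 37, 39, 28], [37, 33, 28, 20, 8], [9, -13, -26, -6, -69, 4, -8, -12, 0, -6, 14, -1, -19, 12, 23, 3, 0, 1, -1, -6, 3, -5, -1, -2, 0, -1, -1, 0, -1, 2]⟩))) (.node 2 (.node 1 (.leaf ⟨6, 6, true, [8, 26, 33, 24, 36], [16, 26, 23, 42, 42, 25], [-8, 15, 26, 6, 69, -4, 8, 12, 0, 6, -14, 1, 17, -12, -24, -3, 0, -1, 1, 6, -3, 5, 1, 2, 0, 1, 1, 0, 1, -2]⟩) (.leaf ⟨6, 5, true, [31, 26, 38, 31, 37, 12], [8, 39, 42, 22, 33, 25], [-11, -2, -5, -4, -6, -2, -7, 1, -3, -1, -2, 0, -6, -1, 6, -2, 0, 0, 1, 0, 0, -3, 0, -1,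 -1, -1, 1]⟩)) (.node 1 (.leaf ⟨5, 6, true, [4, 26, 6, 20, 8], [13, 41, 31, 42, 19, 11], [15, 4, -1, 8, 3, 2, 6, -1, 4, 3, 1, -1, 6, 1, -7, 2, 0, 0, -1, 0, 0, 3, 0, 1, 1, 1, -1]⟩) (.leaf ⟨6, 6, true, [0, 19, 26, 24, 11, 6], [41, 42, 11, 33, 16, 6], [6, -8, 4, 0, 10, -1, 7, 4, 3, 4, 3, -5, 3, 0, -7, 1, 0, -2, -1, 0, 0, 1, 0, 1, 1, 1, -1]⟩)))))) (.node 15 (.node 7 (.node 3 (.node 1 (.leaf ⟨6, 6, true, [35, 10, 34, 25], [22, 40, 34, 29, 27, 18], [-2, 5, 0, -1, -6, -1, -2, 0, -1, -3, 1, -1, -5, 1, 0, -1, 1, -1, 0, 0, 0, -2, 0, 0, 0, 0, 1]⟩) (.node 1 (.leaf ⟨6, 4, true, [6, 0, 31, 42, 34, 22, 28], [8, 19, 2, 43, 24, 16], [-6, 7, -5, 1, -12, 0, -4, -6, -2, -3, -2, 2, -3, 0, 6, -1, 0, 0, 0, 0, 0, -3, 0, -1, 0, -1, 1]⟩) (.leaf ⟨4, 6, true, [29, 8, 43, 40], [41, 39, 30, 41, 19, 42], [8, -7, 4,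 -3, 11, 0, 3, 6, 2, 2, 3, -3, 2, 0, -7, 1, 0, 0, 0, 0, 0, 3, 0, 1, 0, 1, -1]⟩))) (.node 2 (.node 1 (.leaf ⟨6, 6, true, [6, 18, 6, 16, 22], [6, 24, 36, 42, 36, 12], [3, 1, 1, 1, -4, -1, 4, -4, -2, -2, 3, -1, -6, -1, -2, -1, 0, -1, -1, 0, 0, 0, 0, 0, 0, 0, 1]⟩) (.leaf ⟨6, 6, true, [6, 30, 21, 24, 8, 6], [6, 20, 25, 20, 6], [-2, -1, -1, -1, 4, 1, -4, 4, 2, 2, -3, 1, 8, 1, 1, 1, 0, 1, 1, 0, 0, 0, 0, 0, 0, 0, -1]⟩)) (.node 1 (.leaf ⟨6, 6, true, [18, 43, 43, 12, 24], [27, 43, 2, 43, 2], [4, -12, 0, -1, 11, 0, 7, -1, 0, 5, 5, -5, 4, 0, -2, 1, -1, -1, -1, 0, 0, 2, 0, 1, -1, 0, -1]⟩) (.leaf ⟨6, 5, true, [2, 31, 37, 25, 0, 31], [4, 43, 2, 24, 0], [-5, 11, 0, 0, -12, -1, -7, 3, 2, -3, -6, 2, -6, 0, 3, -1, 1, 0, 1, -1, 0, -2, 0, -1, 1, -1, 1]⟩)))) (.node 4 (.node 2 (.node 1 (.leaf ⟨6, 6, true, [26,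 22, 6, 35, 2], [4, 26, 38, 12, 40, 12], [-5, -2, -2, -1, -3, -1, -1, 1, -3, 1, 1, -1, -3, 1, 0, -1, 0, -2, 0, 0, 0, -1, 0, 0, 0, -2, 1]⟩) (.leaf ⟨6, 5, true, [18, 22, 41, 31, 8, 42], [2, 43, 8, 22, 13], [-11, 13, 25, 5, 69, -4, 11, 13, 0, 7, -12, -1, 20, -11, -22, -3, 0, -2, 1, 5, -3, 5, 1, 2, 0, 0, 1, 0, 1, -2]⟩)) (.node 1 (.leaf ⟨5, 6, true, [27, 25, 14, 42, 2], [41, 8, 26, 35, 21, 37], [9, -13, -19, -9, -66, 4, -10, -13, -1, -9, 13, 2, -20, 11, 21, 3, 0, 2, -1, -5, 3, -5, -1, -2, 0, 0, -1, 0, -1, 2]⟩) (.leaf ⟨6, 6, true, [11, 33, 36, 42, 18, 28], [21, 8, 20, 2, 30, 28], [-11, 3, 27, 1, 75, -4, 10, 14, -2, 6, -13, 0, 28, -14, -25, -3, 0, -2, 1, 6, -3, 6, 1, 2, 0, 1, 1, 0, 0, -2]⟩))) (.node 2 (.node 1 (.leaf ⟨6, 6, true, [18, 18, 35, 21, 27, 41], [26, 8, 34, 38, 31, 24], [12, -3, -27,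 -1, -75, 4, -10, -14, 2, -6, 13, 0, -26, 14, 24, 3, 0, 2, -1, -6, 3, -6, -1, -2, 0, -1, -1, 0, 0, 2]⟩) (.leaf ⟨6, 5, true, [25, 11, 22, 27, 2], [2, 0, 25, 32, 39, 6, 14], [-6, -34, -11, -14, -37, -11, 4, 0, 1, 2, -5, 1, -6, 8, 14, 0, -1, -2, -4, -2, 0, -1, 0, -2, 0, -2, 0, 0, 1]⟩)) (.node 1 (.leaf ⟨5, 6, true, [14, 0, 37, 28, 2, 23, 18], [0, 37, 26, 33, 25, 14], [11, 68, 17, 36, 75, 22, -6, 4, -2, 1, 6, -4, 23, -17, -20, 0, 2, 4, 7, 4, 0, 1, 0, 4, 0, 2, 0, 0, -3]⟩) (.leaf ⟨6, 5, true, [6, 40, 32, 42, 35, 27], [0, 21, 18, 2, 30, 29], [-3, -1, -17, 2, -13, 0, -9, -4, 1, 0, -3, -1, -2, 0, 7, -1, 0, 0, 0, 0, 0, -1, 0, -1, -1, -1, 1, 0, 0, -1]⟩))))) (.node 8 (.node 4 (.node 2 (.node 1 (.leaf ⟨5, 6, true, [0, 42, 32, 23, 20, 12], [38, 8, 30, 39, 18, 16], [14, 37, 11, 28, 45, 11, 5, 8, 0, 7,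 2, -4, 19, -9, -13, 1, 1, 2, 3, 2, 0, 1, 0, 3, 1, 1, -1, 0, -2, 1]⟩) (.leaf ⟨6, 4, true, [32, 39, 14, 28, 28, 42], [28, 35, 24, 34, 26, 32], [4, 2, 1, 2, 0, 0, 2, 0, 4, -1, -2, 0, 10, -2, 1, 1, 0, 1, 0, 0, 0, 0, 0, 0, 0, 2, -1, 0, 0, -1]⟩)) (.node 1 (.leaf ⟨4, 6, true, [10, 29, 37, 29, 26, 21], [10, 42, 16, 31, 20, 42], [-10, -3, 7, -15, -1, 0, -1, -1, -1, -6, 5, 2, -10, 1, 0, -1, 0, -1, 0, 0, 0, 0, 0, 0, 0, -2, 1, 0, 0, 1, -1]⟩) (.leaf ⟨6, 6, true, [26, 6, 35, 23, 2, 41], [36, 26, 13, 38, 36, 6], [-6, 2, -2, -1, -5, -1, -2, -1, -5, -4, -1, 1, 0, 0, 5, -1, 0, 0, 0, 0, 0, -1, 0, 0, -1, -1, 1, 0, 0, -1]⟩))) (.node 2 (.node 1 (.leaf ⟨6, 6, true, [21, 0, 2, 33, 19, 19, 28], [24, 42, 19, 13, 35, 18], [7, -2, 2, 1, 5, 1, 2, 1, 5, 4, 1, -1, 2, 0, -6, 1, 0, 0, 0, 0, 0, 1, 0, 0, 1, 1, -1, 0, 0,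 1]⟩) (.leaf ⟨4, 6, true, [35, 14, 0, 35, 0], [6, 27, 31, 10, 40, 2], [-3, 5, 2, 5, 6, -2, -3, -5, -8, 1, -1, -5, 4, -1, -1, -2, 0, 1, 1, 0, 0, 0, 0, 0, 0, -1, 1]⟩)) (.node 1 (.leaf ⟨6, 4, true, [12, 35, 43, 30, 18, 6], [40, 36, 34, 13, 21], [4, -5, -2, -5, -6, 2, 3, 5, 8, -1, 1, 5, -2, 1, 0, 2, 0, -1, -1, 0, 0, 0, 0, 0, 0, 1, -1]⟩) (.leaf ⟨4, 6, true, [21, 13, 43, 40, 16], [35, 32, 40, 32, 26, 18], [-9, -17, -28, -6, -78, -1, -10, -18, -7, -13, 15, 4, -18, 12, 31, 1, -2, 2, -3, -7, 3, -7, 0, -3, 0, -5, 1, 0, 1, 2]⟩)))) (.node 4 (.node 2 (.node 1 (.leaf ⟨5, 6, true, [36, 28, 31, 21, 4], [29, 19, 27, 42, 33, 2], [3, 23, 15, 21, 54, 9, 6, 7, 4, 4, 0, -5, 25, -9, -7, 1, 1, 1, 2, 2, 0, 0, -1, 3, 1, 1, -1, 0, -2]⟩) (.leaf ⟨6, 5, true, [37, 32, 20, 11, 27], [26, 31, 20, 37, 8], [-2, -23, -15,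 -21, -54, -9, -6, -7, -4, -4, 0, 5, -23, 9, 6, -1, -1, -1, -2, -2, 0, 0, 1, -3, -1, -1, 1, 0, 2]⟩)) (.node 1 (.leaf ⟨6, 6, true, [36, 32, 20, 29, 11], [0, 11, 6, 30, 26, 8], [0, 2, 3, 5, 17, 0, 2, 2, 2, 1, 1, 0, 11, -2, 0, 1, 0, 0, 0, 0, 0, 1, -1, 1, 0, 0, -1]⟩) (.leaf ⟨6, 6, true, [28, 18, 25, 11, 6], [10, 34, 16, 39, 26, 16], [1, 0, -3, -5, -17, 0, -2, -2, -2, -1, -1, 0, -13, 2, -1, -1, 0, 0, 0, 0, 0, -1, 1, -1, 0, 0, 1]⟩))) (.node 2 (.node 1 (.leaf ⟨6, 6, true, [23, 25, 2, 42, 13], [19, 29, 38, 22, 38, 31], [-12, 55, 38, 28, 123, 6, 0, 15, 0, 4, -13, -9, 36, -24, -22, -3, -1, 3, 4, 9, -3, 4, 1, 4, 0, 1, 0, 0, -3, -2]⟩) (.leaf ⟨6, 6, true, [36, 41, 42, 42, 32, 6], [2, 42, 19, 6, 21], [13, -53, -38, -28, -123, -6, 0, -15, 0, -4, 13, 9, -38, 24, 21, 3, 1, -3, -4, -9, 3, -4, -1, -4, 0,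 -1, 0, 0, 3, 2]⟩)) (.node 1 (.leaf ⟨5, 6, true, [21, 6, 18, 12, 4], [22, 2, 29, 37, 20, 18, 16], [4, -3, -2, 5, -5, 0, 4, -3, 1, -3, 1, -1, -3, -2, 5, -1, 0, 0, -1, -1, 0, 0, 0, 0, -2, 0, 1]⟩) (.leaf ⟨6, 5, true, [6, 30, 41, 35, 37, 24], [13, 19, 6, 20, 0], [-3, 3, 2, -5, 5, 0, -4, 3, -1, 3, -1, 1, 5, 2, -6, 1, 0, 0, 1, 1, 0, 0, 0, 0, 2, 0, -1]⟩)))))))
noncomputable def dF243 : BT Fct := (.node 30 (.node 15 (.node 7 (.node 3 (.node 1 (.leaf ⟨5, 6, true, [25, 14, 40, 40, 31, 8], [37, 13, 21, 25, 37], [1, 42, 18, 9, 38, 10, -8, 7, -2, -3, 5, -6, 3, -11, -7, -1, 0, 3, 3, 2, 0, 0, 1, 2, 1, 0, 1, 0, -4]⟩) (.node 1 (.leaf ⟨6, 5, true, [21, 42, 26, 37, 40, 18], [14, 30, 41, 41, 32, 24], [0, -40, -18, -9, -38, -10, 8, -7, 2, 3, -5, 6, -5, 11, 6, 1, 0, -3, -3, -2, 0, 0, -1, -2, -1, 0, -1, 0, 4]⟩)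 (.leaf ⟨6, 5, true, [13, 35, 40, 24, 30, 6], [8, 20, 43, 31, 42, 23], [-6, 43, 18, 30, 61, 9, -2, 11, 1, -1, 9, -4, 27, -16, -11, 0, -3, 3, 1, 2, 0, 2, 2, 2, 0, 0, 0, 0, -2]⟩))) (.node 2 (.node 1 (.leaf ⟨5, 6, true, [27, 4, 43, 14, 2], [4, 40, 34, 29, 29, 26], [3, -75, -24, -52, -99, -20, 4, -15, 0, -2, -10, 7, -44, 25, 15, 0, 2, -5, -4, -4, 0, -2, -2, -4, 0, 0, 0, 0, 4]⟩) (.leaf ⟨6, 5, true, [22, 2, 24, 8, 27, 35, 4], [13, 21, 35, 31, 14, 4], [-7, 2, -14, 3, -24, 0, -1, -4, -6, -1, -4, 6, -3, 4, 8, -1, 0, 1, 1, 0, 0, -2, 0, -2, -2, -1, 1, 0, 1]⟩)) (.node 1 (.leaf ⟨6, 5, true, [2, 4, 38, 2, 18, 43, 26], [29, 25, 40, 40, 19, 25], [-7, 10, 1, -4, -7, 1, -5, -2, -8, -5, 1, 4, -5, 1, 2, -1, -1, 1, 1, 0, 0, 0, 0, -1, -1, -1, 1]⟩) (.leaf ⟨5, 6, true, [8, 41, 39, 29, 21, 24], [32, 2, 25, 42,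 23, 34, 27], [5, -10, 5, 0, 10, -1, 6, 2, 7, 3, 0, -3, 5, -1, -3, 1, 1, -1, -1, 0, 0, 0, 0, 1, 1, 1, -1]⟩)))) (.node 4 (.node 2 (.node 1 (.leaf ⟨6, 5, true, [13, 0, 18, 42, 14, 6, 30], [16, 21, 6, 19, 8], [5, -1, 0, -7, 5, -1, 3, 3, 1, 3, 1, -3, -3, 2, -5, 1, 0, -1, 0, 1, 0, 1, -1, 0, 1, 1, -1]⟩) (.leaf ⟨6, 6, true, [39, 14, 41, 26, 25, 6], [24, 2, 12, 39, 18, 24, 6], [-10, -2, 0, -1, 7, 1, -7, 1, -5, 1, -3, 6, 9, 0, 5, 0, 0, 1, 1, 0, 0, 0, 0, -2, 0, -1]⟩)) (.node 1 (.leaf ⟨6, 6, true, [40, 2, 32, 39, 34], [27, 16, 41, 36, 29, 40], [11, 2, 0, 1, -7, -1, 7, -1, 5, -1, 3, -6, -7, 0, -6, 0, 0, -1, -1, 0, 0, 0, 0, 2, 0, 1]⟩) (.leaf ⟨6, 6, true, [2, 40, 31, 42, 38, 4], [25, 6, 27, 37, 35, 32, 0], [-15, -9, -34, -6, -87, 0, -17, -22, -11, -17, 9, 8, -21, 12, 38, 0, -2, 3, -2, -7, 3, -8, 0,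 -5, -1, -6, 2, 0, 1, 2]⟩))) (.node 2 (.node 1 (.leaf ⟨6, 6, true, [10, 37, 18, 14, 30], [0, 39, 43, 30, 41, 2], [14, 12, 35, 5, 88, 0, 17, 23, 11, 17, -9, -9, 21, -12, -39, 0, 2, -3, 2, 7, -3, 8, 0, 5, 1, 6, -2, 0, -1, -2]⟩) (.leaf ⟨6, 6, true, [21, 38, 22, 34, 27, 8], [19, 33, 2, 29, 10, 10], [-10, 12, -1, -2, -11, -1, -9, -3, -8, -5, -5, 10, -6, -2, 5, -2, 1, 1, 1, 0, 0, -2, 0, -2, 0, -1, 2]⟩)) (.node 1 (.leaf ⟨6, 6, true, [19, 12, 35, 29, 8, 38], [11, 38, 32, 6, 36, 14], [-12, 1, -15, 7, -35, 3, -6, -9, -5, -13, 18, -1, 1, 3, 25, 2, -3, 3, -2, -6, 3, -5, 1, -2, 0, -4, 0, 0, 0, 1]⟩) (.leaf ⟨6, 6, true, [6, 36, 30, 41, 12, 8], [18, 35, 41, 32, 34, 34], [13, -1, 15, -7, 35, -3, 6, 9, 5, 13, -18, 1, 1, -3, -26, -2, 3, -3, 2, 6, -3, 5, -1, 2, 0, 4, 0, 0, 0, -1]⟩))))) (.node 7 (.node 3 (.node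 1 (.leaf ⟨6, 3, true, [30, 24, 42, 41, 38, 28], [36, 4, 21, 12, 36, 33, 26], [-6, -17, -7, -17, -19, -2, -1, 4, 1, 4, -6, 3, -5, 5, 5, 1, 0, -1, 0, -1, 0, -1, 0, -1, 0, 0, -1, 0, 1, -1]⟩) (.node 1 (.leaf ⟨3, 6, true, [19, 35, 35, 39, 11, 20], [39, 27, 41, 14, 20, 23], [4, 32, 21, 23, 63, 2, 1, 0, 0, -1, 6, -7, 12, -14, -11, -2, 0, 2, 2, 4, -1, 2, 0, 2, 0, 0, 1, 0, -2]⟩) (.leaf ⟨6, 6, true, [25, 31, 40, 21, 38, 2], [10, 32, 2, 31, 42, 18], [-6, 9, -7, 1, -4, 1, -7, -4, -7, -2, -3, 4, -3, 0, 5, -1, 0, 1, 1, 0, 0, 0, 0, -1, -1, -1, 1, 0, 0, -1]⟩))) (.node 2 (.node 1 (.leaf ⟨6, 6, true, [37, 28, 36, 31, 13, 24], [6, 23, 31, 43, 19, 30], [7, -7, 7, -1, 4, -1, 7, 4, 7, 2, 3, -4, 1, 0, -6, 1, 0, -1, -1, 0, 0, 0, 0, 1, 1, 1, -1, 0, 0, 1]⟩) (.leaf ⟨5, 6, true, [30, 33, 43, 14, 2], [13, 28, 39,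 41, 21, 19], [0, 5, -7, 3, -10, -1, -1, 2, 1, -2, 0, 0, -2, 0, 3, -1, 1, 0, 0, 0, 0, -3, 0, 0, 0, 0, 1]⟩)) (.node 1 (.leaf ⟨6, 6, true, [23, 10, 42, 33, 35, 39], [13, 36, 22, 27, 11], [0, -8, -21, -3, -47, -5, -3, -8, -6, 5, -10, 4, -20, 10, 9, -1, 1, -1, -1, 0, 0, -4, -1, -2, 1, -1, 1, 0, 0, 0, 1]⟩) (.leaf ⟨6, 6, true, [0, 19, 31, 10, 37, 14], [38, 30, 41, 38, 26, 12], [1, 8, 21, 3, 47, 5, 3, 8, 6, -5, 10, -4, 22, -10, -10, 1, -1, 1, 1, 0, 0, 4, 1, 2, -1, 1, -1, 0, 0, 0, -1]⟩)))) (.node 4 (.node 2 (.node 1 (.leaf ⟨6, 6, true, [24, 27, 41, 41, 39, 14], [0, 13, 37, 30, 32], [0, -31, -28, -14, -54, -12, -3, -7, 2, -2, -6, 0, -22, 9, 10, -1, -1, -1, -4, -2, 0, 0, 0, -2, 0, -1, 1, 0, 1]⟩) (.leaf ⟨6, 6, true, [41, 34, 43, 36], [8, 38, 40, 40, 8, 22], [-1, 34, 29, 13, 55, 12, 3, 8, -2, 2, 6,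 -1, 22, -9, -11, 1, 1, 1, 4, 2, 0, 0, 0, 2, 0, 1, -1, 0, -1]⟩)) (.node 1 (.leaf ⟨4, 6, true, [25, 19, 40, 32, 42, 22], [0, 36, 42, 6, 21, 6], [-3, -1, 8, -10, 5, -1, 5, 4, 6, -4, -1, 0, 7, -2, 0, 1, 0, 1, 0, 1, 0, 1, 0, 0, 1, 1, -1, 0, 0, -1, -1]⟩) (.leaf ⟨6, 4, true, [6, 12, 19, 13, 37, 12], [43, 30, 34, 27, 36, 29], [2, 4, -7, 9, -4, 1, -5, -3, -6, 4, 1, -1, -7, 2, -1, -1, 0, -1, 0, -1, 0, -1, 0, 0, -1, -1, 1, 0, 0, 1, 1]⟩))) (.node 2 (.node 1 (.leaf ⟨6, 6, true, [21, 38, 13, 35, 41, 8], [35, 0, 33, 8, 39, 22, 26], [-22, 48, 49, 17, 132, 4, 1, 19, -1, -2, -12, -8, 34, -26, -17, -3, -1, 4, 4, 9, -3, 3, 1, 4, 0, 1, 0, 0, -3, -3]⟩) (.leaf ⟨6, 6, true, [22, 40, 12, 27, 40, 32], [21, 26, 35, 0, 41, 10], [21, -45, -48, -18, -131, -4, -1, -18, 1, 2, 12, 7, -34, 26, 16, 3, 1, -4, -4, -9, 3,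 -3, -1, -4, 0, -1, 0, 0, 3, 3]⟩)) (.node 1 (.leaf ⟨5, 6, true, [16, 39, 8, 24, 11, 26], [0, 36, 21, 24, 18, 6], [16, 72, 11, 47, 34, 28, -10, 6, 1, -10, 21, -5, 28, -13, 13, 3, 2, 7, 5, -1, 3, -8, 0, 3, 1, -1, 0, 0, -5, 2, -1]⟩) (.leaf ⟨6, 5, true, [6, 28, 32, 37, 14, 0], [11, 22, 28, 10, 38, 16], [-17, -69, -10, -48, -33, -28, 10, -5, -1, 10, -21, 4, -28, 13, -14, -3, -2, -7, -5, 1, -3, 8, 0, -3, -1, 1, 0, 0, 5, -2, 1]⟩)))))) (.node 15 (.node 7 (.node 3 (.node 1 (.leaf ⟨6, 5, true, [13, 39, 36, 42, 19, 23], [2, 14, 35, 36, 11, 27], [-9, 7, -4, 0, -9, 0, -6, -4, -3, -2, -3, 3, -7, 1, 6, -1, 0, 0, 1, 0, 0, -3, 0, -1, -1, -1, 1]⟩) (.node 1 (.leaf ⟨5, 6, true, [22, 12, 41, 12, 42], [26, 24, 40, 11, 40, 8], [13, -5, -2, 4, 6, 0, 5, 4, 4, 4, 2, -4, 7, -1, -7, 1, 0, 0, -1, 0, 0, 3, 0, 1, 1,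 1, -1]⟩) (.leaf ⟨6, 5, true, [4, 43, 37, 34, 22, 24], [4, 34, 39, 21, 32, 4], [-2, -30, -20, -15, -50, -12, -3, -8, -3, -4, -4, 1, -20, 11, 5, -1, -1, -3, -3, -2, 0, 0, -1, -2, 0, -1, 1, 0, 2]⟩))) (.node 2 (.node 1 (.leaf ⟨5, 6, true, [25, 20, 6, 19, 20], [28, 20, 19, 43, 41, 4], [2, -1, 8, -3, 9, 1, 4, 4, 5, 3, 2, 1, 3, -2, -1, 1, 0, 1, 0, 0, 0, 0, 1, 0, 0, 1, -1]⟩) (.leaf ⟨6, 3, true, [36, 33, 41, 43, 8], [29, 34, 37, 8, 2], [-2, -31, -10, -24, -56, -1, 2, -12, -3, 4, 14, 4, -25, 13, 22, 2, 1, -1, -2, -5, 2, -3, -2, -3, 0, -2, 0, 0, 1, 1]⟩)) (.node 1 (.leaf ⟨3, 6, true, [43, 36, 20, 28, 22], [14, 28, 22, 2, 0], [8, 16, -2, 18, 18, -2, -2, 8, 2, -7, -14, -2, 20, -4, -18, -1, -1, 0, 0, 2, -1, 2, 2, 2, 0, 2]⟩) (.leaf ⟨6, 6, true, [11, 30, 32, 39, 26, 37], [37, 27, 37, 35, 12], [4, -5,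 -6, 3, 6, -2, 2, 1, 2, 10, 1, -5, 3, -2, -2, 1, -1, -1, 0, 0, 0, 2, 0, 0, 0, 0, -1, 0, -1]⟩)))) (.node 4 (.node 2 (.node 1 (.leaf ⟨6, 6, true, [29, 32, 2, 21, 18, 4], [22, 0, 27, 41, 31, 11, 26], [-5, 9, 7, -4, -5, 2, -2, 0, -2, -10, -1, 4, -5, 2, 1, -1, 1, 1, 0, 0, 0, -2, 0, 0, 0, 0, 1, 0, 1]⟩) (.leaf ⟨6, 3, true, [8, 19, 37, 42, 11], [33, 0, 18, 43, 32, 14, 23], [14, 82, 3, 67, 143, 26, -3, 16, -12, 32, -21, -10, 42, -29, -32, -3, 2, 3, 9, 11, -3, 4, 0, 7, 1, 1, 0, 0, -5, -3]⟩)) (.node 1 (.leaf ⟨3, 6, true, [23, 4, 30, 42, 21, 39, 8], [0, 41, 28, 30, 42, 2], [-16, -51, 14, -52, -84, -21, 1, -10, 13, -29, 22, 5, -29, 16, 24, 2, -2, -1, -6, -7, 2, -3, 0, -5, -1, -1, 0, 0, 3, 2]⟩) (.leaf ⟨6, 6, true, [0, 2, 24, 6, 4], [6, 21, 14, 13, 6, 16], [-12, 4, 0, -5, -11, -1, -2, -10, -3, -7, 1,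 4, -9, -2, 0, -1, -1, 0, 1, 1, 0, -2, 0, -1, 0, -1, 1]⟩))) (.node 2 (.node 1 (.leaf ⟨6, 6, true, [24, 38, 40, 36, 8, 28], [6, 25, 0, 2, 0], [11, -2, 1, 4, 12, 1, 2, 11, 3, 7, -1, -5, 11, 2, -1, 1, 1, 0, -1, -1, 0, 2, 0, 1, 0, 1, -1]⟩) (.leaf ⟨5, 6, true, [30, 41, 35, 8, 29, 14], [30, 42, 25, 6, 35, 13], [4, 34, -6, 26, 36, 11, -4, 2, 0, 6, -1, -7, 15, -10, -10, 0, 0, 2, 4, 2, 0, 1, 0, 2, 0, 0, 0, 0, -2]⟩)) (.node 1 (.leaf ⟨6, 5, true, [34, 6, 27, 13, 21, 38, 23], [25, 20, 10, 34, 25, 8], [-3, -34, 6, -26, -36, -11, 4, -2, 0, -6, 1, 7, -13, 10, 9, 0, 0, -2, -4, -2, 0, -1, 0, -2, 0, 0, 0, 0, 2]⟩) (.leaf ⟨5, 6, true, [43, 6, 32, 29, 29, 43], [16, 4, 43, 40, 40, 30, 22], [5, 68, 12, 40, 76, 22, -3, 8, -5, 5, 4, -9, 30, -21, -15, 0, 1, 4, 7, 4, 0, 1, 0, 4, 0, 0, 0, 0, -4]⟩))))) (.node 7 (.node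 3 (.node 1 (.leaf ⟨6, 5, true, [20, 18, 34, 25, 28, 24], [2, 29, 25, 10, 38, 26], [-6, -64, -11, -41, -75, -22, 3, -7, 5, -5, -4, 8, -32, 21, 14, 0, -1, -4, -7, -4, 0, -1, 0, -4, 0, 0, 0, 0, 4]⟩) (.node 1 (.leaf ⟨6, 6, true, [30, 43, 36, 24, 24, 6], [29, 6, 38, 26, 31, 43, 22], [-23, 153, 100, 61, 237, 18, -4, 35, 6, -9, -14, -17, 80, -58, -63, -5, -3, 7, 11, 17, -5, 12, 3, 11, -1, 1, 3, 0, -8, -2, -1]⟩) (.leaf ⟨6, 6, true, [19, 8, 39, 39, 11, 30], [8, 14, 20, 34, 6, 23], [22, -150, -99, -62, -236, -18, 4, -34, -6, 9, 14, 16, -80, 58, 62, 5, 3, -7, -11, -17, 5, -12, -3, -11, 1, -1, -3, 0, 8, 2, 1]⟩))) (.node 2 (.node 1 (.leaf ⟨6, 5, true, [40, 10, 0, 40, 11], [12, 40, 6, 34, 24, 6], [-22, 94, 69, 30, 121, 12, 0, 18, 5, -16, 1, -12, 42, -35, -36, -2, -2, 4, 6, 8, -2, 7, 2, 6, -1, 0, 3,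 0, -5, 0, -1]⟩) (.leaf ⟨5, 6, true, [37, 11, 8, 38], [35, 37, 4, 41], [23, -124, -82, -47, -164, -23, 1, -21, -3, 15, -3, 13, -59, 44, 40, 2, 1, -6, -9, -10, 2, -7, -2, -8, 1, 0, -3, 0, 7, 0, 1]⟩)) (.node 1 (.leaf ⟨6, 6, true, [11, 28, 12, 41, 30, 8], [35, 35, 38, 22, 16], [-25, 153, 102, 61, 242, 19, -2, 33, 4, -8, -12, -20, 74, -58, -63, -5, -2, 6, 11, 17, -5, 13, 3, 11, -1, 1, 3, 0, -9, -2, -1]⟩) (.leaf ⟨6, 6, true, [2, 14, 6, 21, 24, 30], [37, 24, 32, 28, 10], [-17, 96, 68, 30, 119, 11, -2, 16, 6, -16, 0, -10, 49, -34, -33, -2, -1, 5, 6, 8, -2, 8, 2, 6, -1, 0, 3, 0, -5, -1, -1]⟩)))) (.node 4 (.node 2 (.node 1 (.leaf ⟨6, 6, true, [22, 11, 32, 2, 0], [21, 23, 36, 11, 38, 14], [16, -94, -67, -31, -118, -11, 2, -15, -6, 16, 0, 9, -47, 34, 32, 2, 1, -5, -6, -8, 2, -8, -2, -6, 1, 0, -3,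 0, 5, 1, 1]⟩) (.leaf ⟨6, 5, true, [8, 38, 37, 29, 6, 4], [31, 40, 28, 12, 24, 42], [4, 33, 2, 27, 35, 11, -1, 9, -1, 9, -1, -5, 26, -7, -1, 0, 0, 2, 2, 2, 0, -1, 0, 2, 0, -1, 0, 0, -2]⟩)) (.node 1 (.leaf ⟨5, 6, true, [30, 6, 38, 29, 16], [0, 6, 28, 36, 39, 8], [1, -30, -9, -22, -40, -11, 0, -8, 2, -7, 0, 3, -26, 7, 0, 0, 0, -2, -2, -2, 0, 1, 0, -2, 0, 1, 0, 0, 2]⟩) (.leaf ⟨6, 6, true, [19, 25, 39, 29, 36, 28], [8, 29, 37, 25, 2, 22], [13, 67, 12, 40, 74, 21, -8, 5, 0, 5, 3, -3, 27, -13, -15, 0, 2, 4, 6, 4, 0, -1, 0, 4, 0, 2, 0, 0, -3]⟩))) (.node 2 (.node 1 (.leaf ⟨6, 6, true, [39, 23, 13, 41, 35, 23], [28, 42, 33, 0, 37, 13], [-12, -67, -12, -40, -74, -21, 8, -5, 0, -5, -3, 3, -25, 13, 14, 0, -2, -4, -6, -4, 0, 1, 0, -4, 0, -2, 0, 0, 3]⟩) (.leaf ⟨6, 6, true, [0, 39, 41, 21, 28, 19], [16,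 6, 31, 25, 11, 41, 2], [9, -22, -20, -7, -59, 4, -6, -9, 2, -2, 13, 3, -10, 11, 26, 4, -1, 2, -2, -5, 3, -5, -1, -2, 0, -1, -2, 0, -1, 2]⟩)) (.node 1 (.leaf ⟨6, 5, true, [41, 8, 35, 30, 26], [42, 37, 38, 6, 38, 19], [-9, 3, -8, 2, -15, -1, 1, -11, -2, -3, 2, 3, -11, 1, 7, -1, -1, 0, 0, 1, 0, -4, 0, -1, 0, -1]⟩) (.leaf ⟨5, 6, true, [35, 18, 42, 6, 42, 20], [22, 30, 36, 43, 10, 10], [14, 0, 1, 3, 10, 1, -2, 12, 3, 5, -3, -5, 11, -1, -8, 1, 1, 0, 0, -1, 0, 4, 0, 1, 0, 1]⟩)))))))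
noncomputable def dF303 : BT Fct := (.node 30 (.node 15 (.node 7 (.node 3 (.node 1 (.leaf ⟨6, 6, true, [35, 8, 42, 37, 4], [0, 2, 33, 19, 2], [12, -96, -66, -38, -115, -14, 2, -15, -4, 14, -2, 9, -44, 34, 38, 2, 1, -4, -6, -8, 2, -7, -2, -6, 1, 0, -4, 0, 4, 0, 1]⟩) (.node 1 (.leaf ⟨6, 6, true, [2, 26, 22, 13, 2, 4], [0, 36, 43, 8, 34], [-13, 98, 67, 37, 116, 14, -2, 16, 4, -14, 2, -10, 46, -34, -39, -2, -1, 4, 6, 8, -2, 7, 2, 6, -1, 0, 4, 0, -4, 0, -1]⟩) (.leaf ⟨6, 6, true, [13, 29, 2, 21, 18, 13], [31, 14, 20, 40, 35, 0], [-6, 2, 6, 3, 7, -4, -3, 0, -8, 2, -1, -3, 6, 2, 6, -2, 0, 1, 0, -1, 0, -1, 0, 0, 0, -1, 1, 0, -1]⟩))) (.node 2 (.node 1 (.leaf ⟨6, 6, true, [41, 32, 36, 31, 40, 21], [29, 31, 32, 38, 14, 39], [5, 2, -5, -4, -6, 4, 3, 1, 8, -2, 1, 2, -8, -2, -7, 2, 0, -1, 0, 1, 0, 1,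 0, 0, 0, 1, -1, 0, 1]⟩) (.leaf ⟨4, 6, true, [33, 4, 6, 38, 22, 40, 27], [8, 33, 8, 41, 19, 12], [-11, 20, 24, 3, 46, -2, 1, 5, 2, -2, 4, 1, 16, -16, -11, -3, -2, 2, 2, 3, -1, 3, 1, 1, 0, 0, 0, 0, -1, 0, -1]⟩)) (.node 1 (.leaf ⟨6, 4, true, [16, 27, 40, 4, 30, 14], [18, 41, 11, 39, 39, 13], [12, -18, -24, -3, -46, 2, -1, -5, -2, 2, -4, -1, -18, 16, 10, 3, 2, -2, -2, -3, 1, -3, -1, -1, 0, 0, 0, 0, 1, 0, 1]⟩) (.leaf ⟨6, 6, true, [18, 0, 35, 29, 26, 38, 6], [10, 39, 41, 23, 20, 26], [14, 5, -7, 20, -2, 2, 0, 3, 1, 10, -5, -2, 11, 1, -3, 1, 0, 1, 1, 0, 0, 0, 0, 0, 0, 2, -1, 0, 0, -1, 1]⟩)))) (.node 4 (.node 2 (.node 1 (.leaf ⟨6, 6, true, [38, 0, 41, 30, 4, 27, 6], [43, 26, 21, 25, 41, 19], [-13, -3, 7, -20, 2, -2, 0, -3, -1, -10, 5, 2, -13, -1, 2, -1, 0, -1, -1, 0, 0, 0, 0, 0, 0, -2, 1, 0,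 0, 1, -1]⟩) (.leaf ⟨6, 6, true, [13, 11, 37, 24, 43], [19, 39, 11, 31, 39, 26], [4, 5, 4, 3, 0, 2, 2, 2, 4, 0, -1, -1, 10, 0, -1, 1, 0, 1, 1, 0, 0, 0, 0, 0, 0, 2, -1, 0, 0, -1]⟩)) (.node 1 (.leaf ⟨6, 6, true, [6, 35, 39, 27, 25, 22], [16, 41, 21, 24, 16, 34], [-5, -3, -3, -4, 1, -2, -2, -1, -4, 0, 1, 0, -8, 0, 0, -1, 0, -1, -1, 0, 0, 0, 0, 0, 0, -2, 1, 0, 0, 1]⟩) (.leaf ⟨4, 6, true, [0, 35, 27, 23, 14], [27, 19, 11, 35, 4], [-16, 47, 34, 26, 76, 5, -6, 11, -5, -5, 12, -9, 43, -17, -2, -2, -2, 5, 3, 1, 0, 1, 2, 2, 0, -1, 0, 0, -3, 0, -1]⟩))) (.node 2 (.node 1 (.leaf ⟨6, 4, true, [2, 12, 43, 36, 21, 18], [12, 18, 33, 16, 34, 0], [15, -45, -33, -27, -75, -5, 6, -10, 5, 5, -12, 8, -41, 17, 1, 2, 2, -5, -3, -1, 0, -1, -2, -2, 0, 1, 0, 0, 3, 0, 1]⟩) (.leaf ⟨6, 6, true, [4, 36, 35, 20, 42, 8],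 [41, 41, 26, 29, 35, 11], [-1, -1, 0, 3, -5, 1, 2, 1, -1, 2, 2, -1, 9, 0, 0, 0, 0, -1, 1, 0, 0, 0, 0, 0, 0, 0, 0, 0, -1, -1]⟩)) (.node 1 (.leaf ⟨6, 6, true, [23, 25, 20, 38, 8], [2, 32, 11, 41, 2, 20], [6, 0, 2, 1, 7, 2, 2, 5, 2, 2, 3, -3, 3, 1, -3, 1, 0, -1, 1, 0, 0, 2, -1, 0, 0, 1, -1, 0, 0, -1]⟩) (.leaf ⟨6, 6, true, [22, 36, 25, 30, 11, 23], [6, 42, 35, 36, 21, 31], [7, 0, -10, 11, -2, 0, 0, 2, -3, 7, -1, -3, 0, 1, -1, 0, 0, 0, 0, 0, 0, -1, 0, 0, 0, 0, 0, 0, 0, 0, 1]⟩))))) (.node 7 (.node 3 (.node 1 (.leaf ⟨6, 6, true, [11, 33, 33, 36, 30, 8], [22, 28, 33, 36, 23, 21], [-8, 2, 11, -12, 3, 0, 0, -1, 3, -7, 1, 2, 2, -1, 0, 0, 0, 0, 0, 0, 0, 1, 0, 0, 0, 0, 0, 0, 0, 0, -1]⟩) (.node 1 (.leaf ⟨6, 6, true, [0, 25, 2, 43, 6, 29], [24, 39, 37, 43, 40, 28], [-2, -21, -10, -10, -23, -8, 2, -10,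 -11, 5, -7, -1, -17, 6, 7, -2, 1, -1, -1, -1, 0, -3, -1, -1, 0, -1, 1, 0, 1, 0, 1]⟩) (.leaf ⟨6, 6, true, [39, 41, 30, 27, 20, 6], [0, 27, 28, 42, 39, 6], [1, 23, 11, 9, 24, 8, -2, 11, 11, -5, 7, 0, 19, -6, -8, 2, -1, 1, 1, 1, 0, 3, 1, 1, 0, 1, -1, 0, -1, 0, -1]⟩))) (.node 2 (.node 1 (.leaf ⟨6, 6, true, [2, 39, 42, 38, 35, 4], [18, 21, 18, 33, 42, 26], [-3, 23, 18, 11, 61, 3, 2, -1, 3, 0, 5, -6, 5, -14, -4, -2, 0, 2, 1, 4, -1, 0, 0, 2, 0, -1, 1, 0, -2]⟩) (.leaf ⟨6, 6, true, [19, 12, 23, 35, 29, 6, 27], [35, 11, 43, 43, 38], [2, -19, -17, -12, -60, -3, -2, 2, -3, 0, -5, 5, -7, 14, 3, 2, 0, -2, -1, -4, 1, 0, 0, -2, 0, 1, -1, 0, 2]⟩)) (.node 1 (.leaf ⟨3, 6, true, [23, 37, 27, 23, 35, 30], [13, 42, 28, 22, 35, 29], [-18, -94, -8, -82, -159, -29, 2, -21, 9, -33, 18, 14, -65, 33, 38, 2, -1,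 -5, -10, -11, 3, -6, -1, -7, -1, -3, 0, 0, 5, 4]⟩) (.leaf ⟨6, 3, true, [4, 24, 13, 35, 41, 28], [28, 31, 10, 34, 42, 13], [17, 98, 9, 81, 160, 29, -2, 22, -9, 33, -18, -15, 63, -33, -39, -2, 1, 5, 10, 11, -3, 6, 1, 7, 1, 3, 0, 0, -5, -4]⟩)))) (.node 4 (.node 2 (.node 1 (.leaf ⟨6, 6, true, [10, 42, 36, 20, 10, 28], [25, 6, 34, 32, 42, 33, 27], [-12, 16, 18, 11, 64, -4, 4, 8, 2, 2, 0, 1, 24, -18, -7, -2, -2, 2, 1, 3, -1, 3, 0, 2, 0, 0, -1, 0, -2]⟩) (.leaf ⟨6, 6, true, [19, 23, 34, 25, 21, 19], [21, 30, 11, 36, 43, 11], [11, -14, -17, -12, -63, 4, -4, -7, -2, -2, 0, -2, -22, 18, 6, 2, 2, -2, -1, -3, 1, -3, 0, -2, 0, 0, 1, 0, 2]⟩)) (.node 1 (.leaf ⟨6, 6, true, [22, 24, 18, 36, 26, 8], [8, 24, 34, 32, 26, 38], [2, -66, -37, -47, -123, -14, 6, -3, 0, 3, -19, 11, -33, 29, 17, 3, 2, -5, -4, -5,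 1, -2, -2, -4, 1, 2, -2, 0, 3, -1]⟩) (.leaf ⟨6, 6, true, [42, 42, 4, 34, 25, 41], [8, 0, 27, 36, 10, 12, 18], [-1, 68, 37, 47, 123, 14, -6, 3, 0, -3, 19, -11, 31, -29, -18, -3, -2, 5, 4, 5, -1, 2, 2, 4, -1, -2, 2, 0, -3, 1]⟩))) (.node 2 (.node 1 (.leaf ⟨6, 5, true, [37, 12, 18, 33, 27], [27, 31, 22, 40, 38, 11], [-5, -57, -23, -46, -81, -10, 9, -14, 1, -1, -8, 9, -42, 21, 18, 0, 3, -4, -3, -2, 0, -3, -2, -3, -1, 0, 0, 0, 2]⟩) (.leaf ⟨5, 6, true, [13, 24, 43, 2, 31, 22], [30, 28, 21, 31, 36], [2, 25, 17, 24, 43, -1, -7, 10, 0, -2, 7, -6, 25, -12, -14, 0, -4, 2, 0, 0, 0, 3, 2, 1, 1]⟩)) (.node 1 (.leaf ⟨6, 6, true, [10, 29, 40, 8, 42], [40, 6, 38, 42, 34, 4], [-2, -8, 1, -4, 17, -2, 6, 5, 2, 5, -3, -2, 4, 0, -1, 1, 0, -1, -1, 0, 0, 2, 0, 0, 0, 1, -1, 0, -1]⟩) (.leaf ⟨6, 6, true, [29, 0,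 8, 34, 22, 30, 2], [6, 32, 28, 6, 19, 20], [1, 11, 0, 3, -16, 2, -6, -4, -2, -5, 3, 1, -4, 0, 0, -1, 0, 1, 1, 0, 0, -2, 0, 0, 0, -1, 1, 0, 1]⟩)))))) (.node 15 (.node 7 (.node 3 (.node 1 (.leaf ⟨5, 6, true, [37, 21, 22, 27, 10], [38, 25, 41, 37, 26, 22], [-17, 89, 61, 43, 170, 17, -1, 21, -7, 2, -8, -8, 55, -34, -26, -3, 0, 5, 8, 10, -3, 3, 1, 6, 0, 1, 0, 0, -5, -2]⟩) (.node 1 (.leaf ⟨6, 5, true, [4, 40, 16, 43, 25, 8], [25, 30, 11, 21, 37], [18, -87, -61, -43, -170, -17, 1, -21, 7, -2, 8, 8, -57, 34, 25, 3, 0, -5, -8, -10, 3, -3, -1, -6, 0, -1, 0, 0, 5, 2]⟩) (.leaf ⟨6, 6, true, [21, 38, 23, 39, 24, 33], [40, 18, 25, 34, 13, 42], [25, -160, -103, -60, -206, -34, 4, -24, -3, 18, -7, 11, -77, 54, 47, 2, 0, -8, -13, -12, 2, -7, -2, -10, 1, 0, -4, 0, 9, 0, 2]⟩))) (.node 2 (.node 1 (.leaf ⟨6,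 6, true, [22, 34, 28, 26, 6, 31], [32, 0, 25, 38, 22, 39, 20], [-26, 163, 104, 59, 207, 34, -4, 25, 3, -18, 7, -12, 77, -54, -48, -2, 0, 8, 13, 12, -2, 7, 2, 10, -1, 0, 4, 0, -9, 0, -2]⟩) (.leaf ⟨6, 6, true, [6, 0, 37, 24, 31, 43, 25], [20, 28, 36, 31, 11, 38], [7, -87, -45, -46, -135, -19, -1, -22, -11, 6, -9, 11, -66, 35, 17, -2, 3, -7, -4, -5, 0, -5, -2, -5, -2, -1, 2, 0, 4, 1, 2]⟩)) (.node 1 (.leaf ⟨6, 6, true, [28, 32, 41, 11, 41, 0], [29, 0, 25, 37, 21, 26, 12], [-11, 112, 53, 59, 164, 17, -8, 23, 2, -2, 12, -13, 65, -46, -27, -3, -4, 8, 6, 7, -1, 5, 3, 6, 1, 0, 0, 0, -6, 0, -1]⟩) (.leaf ⟨6, 6, true, [0, 25, 40, 25, 41, 23], [4, 40, 10, 40, 33, 29], [12, -112, -53, -59, -164, -17, 8, -23, -2, 2, -12, 13, -63, 46, 26, 3, 4, -8, -6, -7, 1, -5, -3, -6, -1, 0, 0, 0, 6, 0, 1]⟩)))) (.node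 4 (.node 2 (.node 1 (.leaf ⟨6, 6, true, [28, 4, 2, 32, 21, 18], [31, 2, 19, 22, 40, 22, 13], [6, 51, 10, 30, 47, 8, -13, 12, -4, 6, 1, -8, 27, -11, 0, -2, 0, 3, 3, 1, 0, -1, 0, 3, 1, -1, 0, 0, -4]⟩) (.leaf ⟨6, 6, true, [41, 41, 37, 23, 25, 21], [21, 34, 30, 13, 37, 18], [-7, -47, -9, -31, -46, -8, 13, -11, 4, -6, -1, 7, -29, 11, -1, 2, 0, -3, -3, -1, 0, 1, 0, -3, -1, 1, 0, 0, 4]⟩)) (.node 1 (.leaf ⟨6, 4, true, [28, 2, 42, 32, 43, 41, 21], [6, 26, 38, 36, 11, 24], [-7, 161, 61, 80, 210, 27, -17, 33, 3, -1, 13, -20, 80, -59, -33, -3, -4, 10, 8, 9, -1, 5, 3, 9, 2, 0, 0, 0, -9, 0, -1]⟩) (.leaf ⟨4, 6, true, [0, 28, 2, 4, 34, 21], [22, 38, 31, 11, 11, 21], [7, -161, -59, -83, -209, -27, 17, -33, -3, 0, -12, 20, -81, 59, 32, 3, 4, -10, -8, -9, 1, -5, -3, -9, -2, 0, 0, 0, 9, 0, 1]⟩))) (.node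 2 (.node 1 (.leaf ⟨6, 6, true, [4, 35, 35, 39, 22, 26], [12, 36, 26, 32, 36], [8, 48, 3, 15, 25, 10, -14, 5, 1, 0, -1, -7, -3, -12, -5, -1, 0, 3, 2, 2, 0, 0, 1, 2, 1, 0, 1, 0, -3, -1]⟩) (.leaf ⟨6, 6, true, [33, 43, 8, 23, 36, 31], [35, 31, 41, 10, 4, 28], [-7, -48, -3, -15, -25, -10, 14, -5, -1, 0, 1, 7, 5, 12, 4, 1, 0, -3, -2, -2, 0, 0, -1, -2, -1, 0, -1, 0, 3, 1]⟩)) (.node 1 (.leaf ⟨6, 6, true, [2, 37, 11, 20, 42, 6], [16, 0, 35, 0, 31, 34, 16], [-8, 8, 7, -15, -4, 4, -6, -2, -10, -5, 6, 4, -9, 0, -4, -1, 0, -1, 2, 0, 0, 0, 1, -1, -1, 0, 1, 0, 0, -1]⟩) (.leaf ⟨6, 6, true, [16, 6, 29, 31, 10, 37, 14], [0, 37, 8, 22, 36, 16], [7, -5, -6, 14, 5, -4, 6, 3, 10, 5, -6, -5, 9, 0, 3, 1, 0, 1, -2, 0, 0, 0, -1, 1, 1, 0, -1, 0, 0, 1]⟩))))) (.node 8 (.node 4 (.node 2 (.node 1 (.leaf ⟨6, 6, true,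 [38, 2, 28, 2, 20, 10, 16], [6, 30, 6, 27, 8, 11], [-6, -2, 7, -5, 3, 0, 1, 2, -1, -1, 1, 1, 0, 1, 1, 0, 0, 0, 0, 0, 0, -1]⟩) (.leaf ⟨6, 6, true, [6, 0, 19, 41, 0, 33, 16], [2, 43, 25, 35, 42], [0, 11, -19, 12, -17, 1, -8, -2, -8, 2, -6, 0, -1, 1, 5, -1, -1, 2, 2, 0, 0, -1, 0, -1, -1, -2, 1]⟩)) (.node 1 (.leaf ⟨6, 6, true, [36, 39, 41, 39, 25, 28], [16, 32, 40, 18, 6, 0], [1, -9, 19, -12, 17, -1, 8, 2, 8, -2, 6, 0, -1, -1, -6, 1, 1, -2, -2, 0, 0, 1, 0, 1, 1, 2, -1]⟩) (.leaf ⟨5, 6, true, [41, 6, 41, 33, 20, 34], [11, 25, 30, 38, 35, 19], [-15, 20, 31, -1, 68, -6, 3, 14, -1, 3, -12, -4, 9, -13, -20, -4, -1, 0, 2, 5, -3, 5, 2, 2, 0, -1, 2, 0, -1, -2]⟩))) (.node 2 (.node 1 (.leaf ⟨6, 5, true, [11, 33, 36, 20, 24, 30], [21, 25, 32, 34, 25, 13], [14, -17, -30, 0, -67, 6, -3, -13, 1, -3, 12,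 3, -9, 13, 19, 4, 1, 0, -2, -5, 3, -5, -2, -2, 0, 1, -2, 0, 1, 2]⟩) (.leaf ⟨6, 6, true, [24, 14, 6, 42], [23, 6, 37, 20, 41, 27], [-3, -65, -31, -31, -87, -23, -1, -8, 3, -1, -5, 2, -35, 16, 11, 0, -2, -4, -5, -4, 0, -1, 0, -4, 0, 0, 0, 0, 4, 0, -1]⟩)) (.node 1 (.leaf ⟨6, 6, true, [43, 0, 43, 23, 34, 29, 30], [0, 39, 40, 8, 2, 25], [4, 65, 31, 31, 87, 23, 1, 8, -3, 1, 5, -2, 37, -16, -12, 0, 2, 4, 5, 4, 0, 1, 0, 4, 0, 0, 0, 0, -4, 0, 1]⟩) (.leaf ⟨6, 5, true, [28, 0, 23, 11, 36, 26, 12], [6, 16, 30, 28, 2, 40], [-9, 63, 49, 33, 131, 14, -6, 5, 0, -7, 24, -9, 35, -28, -18, -3, -2, 4, 3, 5, -1, 1, 2, 4, -1, -1, 2, 0, -3, 1]⟩)))) (.node 4 (.node 2 (.node 1 (.leaf ⟨5, 6, true, [26, 23, 30, 40, 8, 38], [42, 2, 25, 33, 6, 14], [8, -62, -44, -36, -130, -14, 7, -4, -1, 5, -23, 9, -35, 28, 17,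 3, 2, -4, -3, -5, 1, -1, -2, -4, 1, 1, -2, 0, 3, -1]⟩) (.leaf ⟨6, 5, true, [40, 4, 33, 34, 33, 22, 25], [4, 18, 28, 41, 41, 8], [-16, 7, 19, -28, 4, 3, -5, 0, -10, -9, 9, 5, -12, 1, -4, -1, 0, -2, 1, 0, 0, -1, 1, -1, -1, 1, 1, 0, 0, -1]⟩)) (.node 1 (.leaf ⟨5, 6, true, [11, 42, 25, 8, 43, 26], [38, 29, 11, 23, 2, 25], [20, -5, -25, 32, -7, -3, 4, 0, 11, 11, -10, -6, 12, -1, 3, 1, 0, 2, -1, 0, 0, 1, -1, 1, 1, -1, -1, 0, 0, 1]⟩) (.leaf ⟨6, 5, true, [12, 18, 40, 8, 29, 40], [18, 40, 19, 40, 4, 39], [10, -21, -19, -7, -63, 4, 1, -13, -1, -6, 14, 6, -9, 11, 21, 4, 1, 0, -2, -5, 3, -5, -2, -3, 0, 1, -2, 0, 1, 2]⟩))) (.node 2 (.node 1 (.leaf ⟨5, 6, true, [25, 34, 19, 21, 21], [8, 34, 36, 6, 21, 6], [-6, -8, 0, -6, 17, -15, -1, 10, 4, 7, -17, -6, -8, -2, -17, -4, -2, -2, -1, 3, -3, 5, 2, 1, 0,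 -1, 2, 0, 1, -2]⟩) (.leaf ⟨6, 6, true, [20, 28, 39, 31, 25, 13], [8, 28, 11, 32, 43, 27], [-13, 59, 38, 35, 146, 10, -2, 12, 4, 2, 19, -10, 37, -29, -17, -2, -2, 3, 3, 5, -1, 2, 2, 3, -1, 0, 1, 0, -4, 1]⟩)) (.node 1 (.leaf ⟨6, 6, true, [29, 24, 2, 18, 39, 22], [26, 2, 26, 35, 24, 43, 14], [12, -56, -37, -36, -145, -10, 2, -11, -4, -2, -19, 9, -37, 29, 16, 2, 2, -3, -3, -5, 1, -2, -2, -3, 1, 0, -1, 0, 4, -1]⟩) (.leaf ⟨6, 6, true, [18, 43, 30, 41, 39, 10], [13, 34, 26, 40, 40, 22], [1, 38, 6, 22, 43, 11, -4, 5, 1, 6, 2, -1, 17, -10, -4, 0, 1, 2, 4, 1, 0, 0, 0, 2, 0, 0, 0, 0, -3]⟩)))))))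
noncomputable def dF364 : BT Fct := (.node 30 (.node 15 (.node 7 (.node 3 (.node 1 (.leaf ⟨6, 6, true, [22, 42, 22, 19, 20, 30], [14, 2, 22, 32, 34, 36, 10], [-7, 0, -11, 2, -10, -3, -7, -3, -2, -5, -1, 1, 1, 0, 3, -1, 0, -1, 1, 0, 0, -2, -1, 0, 0, -1, 1, 0, 0, -1]⟩) (.node 1 (.leaf ⟨6, 6, true, [4, 40, 38, 6, 19, 2], [18, 18, 23, 33, 43, 23], [6, 2, 12, -3, 11, 3, 7, 4, 2, 5, 1, -2, 1, 0, -4, 1, 0, 1, -1, 0, 0, 2, 1, 0, 0, 1, -1, 0, 0, 1]⟩) (.leaf ⟨6, 6, true, [19, 19, 6, 35, 18, 42], [36, 28, 27, 40, 12, 2], [-14, 12, -1, -6, -12, 1, -11, -1, -11, -5, 1, 7, -7, -2, 5, -2, -1, 1, 2, 0, 0, -2, 0, -1, -1, -2, 2, 0, 0, -1]⟩))) (.node 2 (.node 1 (.leaf ⟨6, 6, true, [0, 42, 23, 29, 20, 31], [40, 36, 28, 43, 14, 39], [13, -9, 2, 5, 13, -1, 11, 2, 11, 5, -1, -8, 7, 2, -6, 2, 1, -1, -2, 0, 0,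 2, 0, 1, 1, 2, -2, 0, 0, 1]⟩) (.leaf ⟨6, 6, true, [20, 0, 34, 21, 25, 2, 28], [31, 2, 18, 35, 38, 35, 0], [-6, -1, 12, -8, 6, 0, 2, -1, -1, -4, 3, 1, -3, -1, 1, 0, 0, 0, 0, 0, 0, -1]⟩)) (.node 1 (.leaf ⟨6, 5, true, [13, 0, 19, 34, 29, 12, 0], [6, 19, 14, 6, 27, 10], [-15, -100, -6, -72, -111, -33, 9, -14, 2, -16, -1, 8, -53, 28, 18, 0, -2, -6, -10, -6, 0, 1, 0, -6, 0, -1, 0, 0, 6]⟩) (.leaf ⟨5, 6, true, [39, 23, 39, 43, 28, 8], [42, 0, 33, 6, 36, 42, 26], [20, 103, -1, 77, 106, 33, -10, 15, -1, 18, 0, -10, 53, -28, -19, 0, 2, 6, 10, 6, 0, -1, 0, 6, 0, 1, 0, 0, -6]⟩)))) (.node 4 (.node 2 (.node 1 (.leaf ⟨6, 6, true, [26, 34, 31, 14, 12, 10], [6, 19, 2, 41, 28, 16], [-1, -1, 10, -6, 8, 0, 3, 1, -2, -1, 2, 0, 3, 0, -1, 0, 0, 0, -1, 0, 0, 3, 0, 0, 0, 0, 0, 0, -1]⟩) (.leaf ⟨6, 6, true, [22,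 18, 14, 38, 43, 23], [11, 25, 30, 26, 35, 27], [2, 3, -10, 6, -8, 0, -3, -1, 2, 1, -2, 0, -5, 0, 0, 0, 0, 0, 1, 0, 0, -3, 0, 0, 0, 0, 0, 0, 1]⟩)) (.node 1 (.leaf ⟨6, 6, true, [24, 24, 41, 31, 14, 2], [6, 33, 12, 26, 41, 2], [-5, -41, -7, -22, -36, -13, -1, -3, 1, -5, -3, 5, -14, 9, 8, 0, -1, -2, -3, -2, 0, -1, 0, -2, 0, 0, 0, 0, 2, -1]⟩) (.leaf ⟨5, 6, true, [20, 22, 42, 40, 43], [35, 22, 14, 34, 33, 30], [19, 46, -6, 39, 20, 24, -6, -1, 5, 1, 14, -9, 23, -8, 13, 4, 2, 5, 4, -2, 3, -5, -2, 3, 1, 1, -2, 0, -5, 2, -1]⟩))) (.node 2 (.node 1 (.leaf ⟨6, 5, true, [29, 21, 39, 20, 31, 29], [4, 35, 11, 18, 21, 30], [-20, -42, 7, -40, -19, -24, 6, 2, -5, -1, -14, 8, -25, 8, -14, -4, -2, -5, -4, 2, -3, 5, 2, -3, -1, -1, 2, 0, 5, -2, 1]⟩) (.leaf ⟨6, 5, true, [2, 34, 14, 35, 21, 6], [22, 39, 30, 11,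 34], [-10, 77, 29, 47, 97, 20, -2, 14, 0, -3, 12, -7, 43, -25, -17, 0, -3, 5, 4, 5, 0, 1, 2, 4, 0, 0, 0, 0, -4]⟩)) (.node 1 (.leaf ⟨5, 6, true, [33, 4, 28, 41, 16, 41], [36, 34, 27, 27, 38, 27], [14, -75, -35, -43, -100, -20, 1, -14, 1, 5, -13, 6, -43, 25, 16, 0, 3, -5, -4, -5, 0, -1, -2, -4, 0, 0, 0, 0, 4]⟩) (.leaf ⟨6, 5, true, [12, 6, 24, 30, 40, 11, 21], [21, 31, 34, 41, 28, 35], [-22, -103, -5, -73, -106, -34, 6, -14, 2, -14, -3, 11, -51, 27, 18, 0, -3, -6, -9, -7, 0, 0, 0, -6, 0, -1, 0, 0, 6]⟩))))) (.node 7 (.node 3 (.node 1 (.leaf ⟨5, 6, true, [0, 38, 12, 20, 18, 12], [12, 18, 2, 29, 22, 42, 26], [34, 140, -2, 104, 136, 45, -10, 19, -1, 21, 2, -17, 68, -36, -24, 0, 4, 8, 12, 9, 0, 0, 0, 8, 0, 1, 0, 0, -8]⟩) (.node 1 (.leaf ⟨6, 5, true, [19, 33, 42, 37, 22, 8], [40, 38, 23, 28, 19],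 [-6, -5, 10, -11, 9, 0, 3, 1, 0, -3, 0, -1, 2, 1, 1, 0, -1, 0, -1, -1, 0, 2, 0, 0, 0, 0, 0, 0, -1]⟩) (.leaf ⟨5, 6, true, [31, 34, 39, 10, 31], [34, 22, 6, 35, 24, 33], [11, 8, -17, 16, -14, 0, -4, 0, 1, 5, -1, -1, -2, -1, -2, 0, 1, 0, 1, 1, 0, -2, 0, 0, 0, 0, 0, 0, 1]⟩))) (.node 2 (.node 1 (.leaf ⟨6, 6, true, [6, 42, 8, 42, 26, 22], [12, 24, 12, 39, 43, 6], [21, 24, -2, 31, 44, 12, -1, 8, 4, 11, 1, -6, 28, -9, -13, 1, 0, 2, 2, 1, 0, 4, 0, 3, 1, 1, -1, 0, -2]⟩) (.leaf ⟨3, 6, true, [34, 43, 19, 6, 24, 30], [24, 11, 6, 30, 38], [-11, 73, 40, 45, 147, 7, -7, 20, -1, -5, -13, -10, 46, -29, -21, -3, -2, 4, 6, 8, -3, 2, 1, 4, 0, 2, 0, 0, -4, -2]⟩)) (.node 1 (.leaf ⟨6, 3, true, [35, 22, 24, 26, 10], [8, 10, 29, 31, 38, 31], [10, -71, -39, -46, -146, -7, 7, -19, 1, 5, 13, 9, -44, 29, 20, 3, 2,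 -4, -6, -8, 3, -2, -1, -4, 0, -2, 0, 0, 4, 2]⟩) (.leaf ⟨6, 6, true, [10, 42, 20, 25, 14, 2], [24, 2, 11, 18, 0, 31, 2], [0, 8, -11, 7, -8, -3, -4, 4, 0, 1, -2, -3, -4, 1, 2, -1, 0, 0, 0, -1, 0, -2, 0, 0, 0, 0, 1]⟩)))) (.node 4 (.node 2 (.node 1 (.leaf ⟨5, 6, true, [37, 41, 37, 43, 20, 14], [11, 19, 40, 39, 41, 33], [16, 30, -29, 30, 4, 26, -9, -11, -8, 7, 12, 3, 6, -9, 23, 2, 6, 4, 6, -2, 2, -9, -2, 1, 0, 0, -2, 0, -3, 0, 1]⟩) (.leaf ⟨6, 5, true, [35, 12, 25, 26, 11], [20, 6, 24, 40, 28, 16, 8], [-15, -28, 29, -30, -4, -26, 9, 11, 8, -7, -12, -3, -8, 9, -24, -2, -6, -4, -6, 2, -2, 9, 2, -1, 0, 0, 2, 0, 3, 0, -1]⟩)) (.node 1 (.leaf ⟨6, 6, true, [35, 37, 33, 37, 38, 2], [14, 12, 34, 21, 12], [-10, -5, 12, -12, 8, 0, -5, 1, -1, -6, 1, 5, -3, 0, 4, 0, 0, 0, 1, -1, 0, -2, 0, 0, 0, 0, 0, 0,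 0, -1]⟩) (.leaf ⟨6, 6, true, [32, 23, 35, 13, 6], [12, 37, 32, 39, 43, 24], [9, 9, -11, 11, -7, 0, 5, 0, 1, 6, -1, -6, 1, 0, -5, 0, 0, 0, -1, 1, 0, 2, 0, 0, 0, 0, 0, 0, 0, 1]⟩))) (.node 2 (.node 1 (.leaf ⟨5, 6, true, [16, 38, 32, 6, 25, 25], [40, 12, 16, 38, 28], [18, 21, -30, 24, -9, 16, -9, 2, -13, 17, -1, -3, 5, 2, 0, 1, 2, 0, 1, 0, 1, -4, -1, 2, 0, 2, 0, 0, -2, 0, 1]⟩) (.leaf ⟨6, 5, true, [30, 12, 29, 42, 31, 34], [11, 21, 28, 43, 27, 21], [-17, -19, 30, -24, 9, -16, 9, -2, 13, -17, 1, 3, -7, -2, -1, -1, -2, 0, -1, 0, -1, 4, 1, -2, 0, -2, 0, 0, 2, 0, -1]⟩)) (.node 1 (.leaf ⟨6, 6, true, [22, 21, 41, 21, 11, 40], [6, 27, 16, 33, 6, 20], [-7, -6, -5, -12, -5, 5, -1, 6, 1, 4, -8, 1, -1, 3, 3, 1, 0, 0, 1, 0, 0, -1, 0, 0, 0, 0, -1, 0, 0, -1]⟩) (.leaf ⟨6, 6, true, [37, 35, 22, 40, 38], [6,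 0, 10, 41, 39, 23, 27], [8, 8, 5, 12, 5, -5, 1, -6, -1, -4, 8, -1, -1, -3, -4, -1, 0, 0, -1, 0, 0, 1, 0, 0, 0, 0, 1, 0, 0, 1]⟩)))))) (.node 15 (.node 7 (.node 3 (.node 1 (.leaf ⟨3, 6, true, [6, 31, 21, 6, 20, 0], [27, 10, 13, 36, 20, 41, 29], [10, 41, 1, 13, 24, 9, -13, 4, 0, 1, -2, -8, -4, -11, -5, -1, 0, 3, 2, 2, 0, 0, 1, 2, 1, 0, 1, 0, -3, -1]⟩) (.node 1 (.leaf ⟨6, 3, true, [13, 22, 42, 21, 14, 12], [4, 21, 6, 20, 30, 6], [-9, -39, -1, -13, -24, -9, 13, -4, 0, -1, 2, 8, 2, 11, 4, 1, 0, -3, -2, -2, 0, 0, -1, -2, -1, 0, -1, 0, 3, 1]⟩) (.leaf ⟨6, 6, true, [4, 27, 38, 10, 27, 42], [10, 41, 41, 29, 20, 18], [-7, -59, -13, -23, -65, -12, 13, -6, 1, -3, 1, 8, -3, 22, 9, 2, 0, -4, -4, -5, 1, -1, -1, -3, -1, 0, -1, 0, 4, 2]⟩))) (.node 2 (.node 1 (.leaf ⟨6, 6, true, [13, 38, 35, 22, 8], [14,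 0, 43, 24, 41, 28, 6], [6, 61, 14, 22, 66, 12, -13, 7, -1, 3, -1, -9, 5, -22, -10, -2, 0, 4, 4, 5, -1, 1, 1, 3, 1, 0, 1, 0, -4, -2]⟩) (.leaf ⟨3, 6, true, [24, 21, 40, 14, 38, 4], [14, 13, 42, 33, 41, 33, 13], [3, 3, 28, 2, 52, -6, 11, 6, 17, -5, 2, -5, 19, -12, -12, 0, -1, 2, 1, 2, -1, 8, 1, 0, 1, -1, -1, 0, 0, 0, -1]⟩)) (.node 1 (.leaf ⟨6, 3, true, [30, 2, 26, 8, 6, 26, 2], [39, 41, 20, 25, 0], [-4, 0, -27, -3, -51, 6, -11, -5, -17, 5, -2, 4, -19, 12, 11, 0, 1, -2, -1, -2, 1, -8, -1, 0, -1, 1, 1, 0, 0, 0, 1]⟩) (.leaf ⟨6, 6, true, [23, 6, 27, 34, 32], [39, 24, 2, 43, 34, 11], [-10, -10, -31, -11, -52, 3, -13, -6, -21, 6, -3, 3, -26, 10, 12, -1, 1, -3, -2, -2, 1, -7, -1, -1, -1, -1, 2, 0, 0, 1, 1]⟩)))) (.node 4 (.node 2 (.node 1 (.leaf ⟨6, 6, true, [13, 18, 42, 14, 23, 6], [33, 4, 35,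 26, 6, 22], [9, 13, 32, 10, 53, -3, 13, 7, 21, -6, 3, -4, 26, -10, -13, 1, -1, 3, 2, 2, -1, 7, 1, 1, 1, 1, -2, 0, 0, -1, -1]⟩) (.leaf ⟨6, 6, true, [31, 0, 28, 32, 35, 18, 8], [22, 35, 41, 26, 29, 26], [14, -15, -31, 8, -44, 6, -8, -4, -12, 11, -4, 4, -6, 15, 15, 1, 2, -1, -2, -2, 1, -5, -1, -1, 0, 0, 0, 0, 0, 0, 1]⟩)) (.node 1 (.leaf ⟨6, 6, true, [13, 22, 36, 34, 41, 0], [21, 6, 25, 14, 22, 43, 25], [-15, 18, 32, -9, 45, -6, 8, 5, 12, -11, 4, -5, 6, -15, -16, -1, -2, 1, 2, 2, -1, 5, 1, 1, 0, 0, 0, 0, 0, 0, -1]⟩) (.leaf ⟨6, 6, true, [21, 14, 41, 34, 38, 2], [22, 2, 25, 41, 36, 29, 8], [-12, -42, 31, -15, 49, -17, 27, 5, 17, -3, 3, 5, 23, -5, -10, 0, -2, -1, 0, 2, -2, 8, 0, -2, 0, -1, -2, 0, 3, 0, -1]⟩))) (.node 2 (.node 1 (.leaf ⟨6, 6, true, [37, 0, 31, 41, 30, 28, 20], [8, 6, 31, 36,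 35, 36], [11, 46, -30, 14, -48, 17, -27, -4, -17, 3, -3, -6, -25, 5, 9, 0, 2, 1, 0, -2, 2, -8, 0, 2, 0, 1, 2, 0, -3, 0, 1]⟩) (.leaf ⟨6, 6, true, [11, 36, 19, 38, 19, 16], [37, 18, 37, 19, 34, 18], [-4, 0, 28, 3, 62, -3, 13, 8, 19, -1, 4, -2, 23, -15, -12, 1, -3, 2, 1, 2, -1, 8, 1, 0, 1, -1, -2, 0, 0, 0, -1]⟩)) (.node 1 (.leaf ⟨6, 6, true, [19, 38, 26, 36, 26, 24], [0, 35, 42, 39, 33, 34], [5, 0, -28, -3, -62, 3, -13, -8, -19, 1, -4, 2, -21, 15, 11, -1, 3, -2, -1, -2, 1, -8, -1, 0, -1, 1, 2, 0, 0, 0, 1]⟩) (.leaf ⟨6, 6, true, [22, 27, 38, 26, 11, 24], [22, 42, 14, 22, 32, 2], [0, 3, 24, 5, 56, -5, 14, 8, 18, -2, 4, -3, 21, -14, -12, 1, -3, 2, 1, 2, -1, 8, 1, 0, 1, -1, -2, 0, 0, 0, -1]⟩))))) (.node 8 (.node 4 (.node 2 (.node 1 (.leaf ⟨6, 6, true, [2, 27, 42, 32, 38, 13], [11, 34, 18, 10,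 40, 23], [-31, 20, 34, 19, 102, -5, 9, 17, 0, -5, -11, -3, 40, -12, -11, -2, -2, 0, 2, 5, -3, 1, 0, 1, -1, 2, -1, 0, 0, -1]⟩) (.leaf ⟨6, 6, true, [35, 38, 4, 38, 23, 13], [37, 33, 29, 37, 22, 18], [30, -18, -33, -20, -101, 5, -9, -16, 0, 5, 11, 2, -38, 12, 10, 2, 2, 0, -2, -5, 3, -1, 0, -1, 1, -2, 1, 0, 0, 1]⟩)) (.node 1 (.leaf ⟨6, 5, true, [2, 20, 40, 0, 42], [40, 2, 29, 19, 4, 36, 28], [-15, -16, 19, -27, -16, -17, 6, -2, 12, -16, 4, 2, -9, 2, 0, 0, -2, -1, -3, -2, 0, 2, 1, -2, 0, 0, 0, 0, 2, 1, -1]⟩) (.leaf ⟨5, 6, true, [4, 40, 28, 33, 19], [12, 14, 35, 8, 39, 6], [10, -16, -20, 2, -21, 6, -3, -1, -12, 11, -4, 1, -8, 7, 4, 0, 1, -1, 0, 0, 0, -2, -1, 0, 0, 0, 0, 0, 0, -1, 1]⟩))) (.node 2 (.node 1 (.leaf ⟨6, 6, true, [22, 2, 25, 35, 30, 39, 6], [0, 18, 42, 32, 37, 6], [2, -42, -27, -13,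 -85, -1, -7, -10, -5, -6, 4, 10, -12, 23, 25, 2, 1, -1, -5, -6, 2, -4, 0, -3, -1, 0, 0, 0, 1, 1]⟩) (.leaf ⟨6, 3, true, [4, 0, 35, 39, 28, 26, 19], [4, 23, 40, 30, 8, 26], [-8, -56, -19, -19, -47, -14, 17, -6, -6, 16, -7, 12, -17, 16, 9, 0, 1, -5, -2, -1, -1, -2, -2, -3, -1, -1, -1, 0, 4, 0, 1]⟩)) (.node 1 (.leaf ⟨3, 6, true, [0, 40, 10, 42, 19, 19], [32, 38, 35, 40, 21, 34], [5, 76, 32, 25, 85, 14, -17, 10, 7, -13, 6, -15, 23, -24, -15, -1, -1, 6, 4, 4, 0, 3, 2, 4, 1, 1, 1, 0, -5, -1, -1]⟩) (.leaf ⟨5, 6, true, [43, 36, 27, 10, 28], [39, 14, 30, 28, 2], [6, 81, 16, 36, 63, 21, -15, 13, -9, 2, 1, -8, 14, -21, -7, -1, 1, 5, 6, 4, 0, -2, 1, 4, 1, 0, 0, 0, -5, -1]⟩)))) (.node 4 (.node 2 (.node 1 (.leaf ⟨6, 5, true, [22, 25, 11, 18, 34], [4, 27, 25, 26, 36, 6], [-5, -79, -16, -36, -63, -21,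 15, -13, 9, -2, -1, 8, -16, 21, 6, 1, -1, -5, -6, -4, 0, 2, -1, -4, -1, 0, 0, 0, 5, 1]⟩) (.leaf ⟨6, 3, true, [10, 33, 41, 36, 33, 12], [38, 41, 39, 43, 6], [-11, 7, 11, -1, 4, 0, 1, 2, 11, -11, 10, -2, 15, -3, 3, 2, -2, 1, -1, -2, 1, 1, 1, 0, 0, 0, -1, 0, -1, 1, -1]⟩)) (.node 1 (.leaf ⟨3, 6, true, [26, 35, 31, 39, 4, 30], [10, 22, 35, 20, 42, 25], [14, 25, -2, 19, 30, 7, -5, 2, -9, 9, -8, -2, -1, -5, -8, -2, 2, 1, 3, 4, -1, -1, -1, 2, 0, 0, 1, 0, -1, -1, 1]⟩) (.leaf ⟨6, 6, true, [20, 26, 25, 42, 6], [25, 35, 23, 29, 33, 23], [-1, 7, 25, 5, 49, -4, 11, 7, 17, -5, 4, -3, 17, -14, -10, 0, -1, 1, 1, 2, -1, 7, 1, 0, 1, -1, -1, 0, -1, 0, -1]⟩))) (.node 2 (.node 1 (.leaf ⟨6, 3, true, [22, 41, 39, 34, 38, 35], [16, 38, 2, 23, 13, 6], [3, -6, -20, 8, -52, 8, -9, -5, -7, -7, 4, 4, 8, 12, 19, 2,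 1, 0, -3, -4, 2, -5, 0, -1, 0, 0, 0, 0, -1, 1]⟩) (.leaf ⟨3, 6, true, [6, 42, 36, 24, 29, 33], [23, 39, 21, 34, 18, 34], [2, -8, 7, -14, 11, -11, 9, 1, 6, 4, -4, -1, -14, -3, -15, -1, -1, -1, 1, 1, -1, 4, 0, 0, 0, 0, 0, 0, 2]⟩)) (.node 1 (.leaf ⟨6, 6, true, [18, 16, 18, 41, 41], [4, 26, 35, 28, 8, 35], [-2, -1, -2, 0, -4, 1, -1, -3, 1, -3, 1, 0, -3, -1, 1, -1, 0, 0, 0, 0, 0, -1, 0, 0, 0, 0, 1, 0, -1]⟩) (.leaf ⟨6, 6, true, [2, 30, 42, 27, 13, 19], [6, 24, 33, 33, 6], [3, 1, 2, 0, 4, -1, 1, 3, -1, 3, -1, 0, 5, 1, -2, 1, 0, 0, 0, 0, 0, 1, 0, 0, 0, 0, -1, 0, 1]⟩)))))))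
noncomputable def dF425 : BT Fct := (.node 30 (.node 15 (.node 7 (.node 3 (.node 1 (.leaf ⟨5, 6, true, [39, 27, 4, 30, 20], [26, 0, 34, 28, 27, 33, 0], [-16, -27, 47, -35, 47, -16, 16, 4, 16, -12, 6, 3, -3, -11, -12, -1, -2, -1, 0, 2, -2, 8, 1, -2, 1, 0, -1, 0, 2, -2, -1]⟩) (.node 1 (.leaf ⟨6, 5, true, [19, 16, 13, 41, 25, 30], [21, 31, 26, 38], [15, 29, -46, 34, -46, 16, -16, -3, -16, 12, -6, -4, 5, 11, 11, 1, 2, 1, 0, -2, 2, -8, -1, 2, -1, 0, 1, 0, -2, 2, 1]⟩) (.leaf ⟨6, 6, true, [2, 30, 10, 24, 24, 4], [2, 10, 40, 32, 12, 6], [10, -8, -18, -3, -58, 3, -4, -12, 0, -9, 18, 0, -13, 11, 21, 3, 0, 1, -3, -6, 3, -5, -1, -2, 1, -1, 0, 0, 0, 2]⟩))) (.node 2 (.node 1 (.leaf ⟨6, 6, true, [0, 24, 29, 13, 40, 12], [6, 0, 21, 31, 22, 34], [6, -4, 28, -21, 52, -4, 19, 15, 13, 11, -20, 2, 10, -5,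 -26, 0, 3, -3, 2, 7, -3, 8, -1, 2, 1, 6, -2, 0, -1, -3, -1]⟩) (.leaf ⟨6, 6, true, [32, 27, 27, 39, 31, 25], [4, 37, 14, 6, 28, 25], [-7, 6, -27, 20, -51, 4, -19, -14, -13, -11, 20, -3, -8, 5, 25, 0, -3, 3, -2, -7, 3, -8, 1, -2, -1, -6, 2, 0, 1, 3, 1]⟩)) (.node 1 (.leaf ⟨6, 5, true, [11, 28, 8, 42], [13, 41, 0, 38, 0], [5, -8, -27, -14, -53, -5, -4, -12, -6, 8, -8, 3, -32, 13, 6, -1, 1, -2, -1, 0, 0, -3, -1, -2, 1, -1, 1, 0, 1, -1, 1]⟩) (.leaf ⟨5, 6, true, [38, 6, 26, 31, 40, 43], [36, 31, 14, 43, 0], [-5, -23, 15, -4, 12, -6, 5, 8, 8, -9, 6, -1, 15, -4, -2, 1, -2, 0, -2, -2, 0, 3, 1, 0, -1, 1, -1, 0, 1, 1, -1]⟩)))) (.node 4 (.node 2 (.node 1 (.leaf ⟨6, 6, true, [29, 2, 22, 30, 26, 40, 13], [26, 20, 6, 37, 28, 18], [-5, -142, -59, -84, -224, -28, 9, -32, 1, -18, 8, 24, -61, 50, 54, 4,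 0, -6, -13, -16, 4, -9, -1, -10, 0, 0, -1, 0, 8, 2, -1]⟩) (.leaf ⟨6, 6, true, [37, 40, 30, 6, 8], [10, 13, 29, 39, 18, 12], [4, 146, 60, 83, 225, 28, -9, 33, -1, 18, -8, -25, 59, -50, -55, -4, 0, 6, 13, 16, -4, 9, 1, 10, 0, 0, 1, 0, -8, -2, 1]⟩)) (.node 1 (.leaf ⟨6, 6, true, [40, 0, 25, 28, 37, 18, 30], [36, 39, 23, 10, 41, 19], [34, 148, -6, 109, 134, 44, -11, 21, 1, 27, 4, -17, 70, -37, -22, 0, 4, 8, 12, 8, 0, 1, 0, 8, 0, 1, 0, 0, -8, -1]⟩) (.leaf ⟨6, 6, true, [21, 42, 22, 33, 29, 4], [37, 32, 40, 2, 28, 10], [-33, -146, 6, -109, -134, -44, 11, -21, -1, -27, -4, 17, -72, 37, 21, 0, -4, -8, -12, -8, 0, -1, 0, -8, 0, -1, 0, 0, 8, 1]⟩))) (.node 2 (.node 1 (.leaf ⟨6, 5, true, [19, 43, 36, 43, 16, 21], [18, 33, 4, 27, 37, 26], [-37, -146, 7, -107, -131, -45, 11, -16, -2, -26, -3, 15, -65,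 35, 23, 0, -4, -8, -12, -8, 0, -1, 0, -8, 0, -1, 0, 0, 8]⟩) (.leaf ⟨5, 6, true, [40, 19, 36, 36, 22], [26, 30, 6, 42, 38], [39, 179, 5, 125, 172, 56, -12, 20, 0, 27, 5, -17, 82, -44, -29, 0, 5, 10, 15, 10, 0, 1, 0, 10, 0, 1, 0, 0, -10]⟩)) (.node 1 (.leaf ⟨6, 6, true, [0, 33, 29, 12, 40, 10], [0, 18, 18, 32, 42, 29], [-4, 1, 10, -1, 3, 1, 6, 0, -3, 1, 5, 0, 7, -3, 2, 0, 0, -1, 1, 0, 0, 0, 0, 0, 0, 0, 0, 0, -1, -2]⟩) (.leaf ⟨6, 6, true, [20, 4, 42, 8, 35, 25, 22], [6, 42, 23, 30, 22], [3, 2, -9, 0, -2, -1, -6, 1, 3, -1, -5, -1, -7, 3, -3, 0, 0, 1, -1, 0, 0, 0, 0, 0, 0, 0, 0, 0, 1, 2]⟩))))) (.node 7 (.node 3 (.node 1 (.leaf ⟨5, 6, true, [23, 31, 43, 31, 14, 2], [6, 26, 2, 30, 33, 16], [-4, 62, 26, 38, 116, 7, -3, 20, -3, 13, -13, -9, 38, -26, -29, -3, -1, 2, 6, 9, -3, 5, 1, 5, 0, 1, 0, 0,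 -3, -3]⟩) (.node 1 (.leaf ⟨6, 5, true, [41, 4, 40, 28, 6, 4], [2, 30, 42, 30, 22], [3, -59, -25, -39, -115, -7, 3, -19, 3, -13, 13, 8, -38, 26, 28, 3, 1, -2, -6, -9, 3, -5, -1, -5, 0, -1, 0, 0, 3, 3]⟩) (.leaf ⟨6, 6, true, [6, 23, 30, 20, 0, 2], [2, 19, 2, 34, 13, 20], [-8, 15, 31, 0, 72, -12, 15, 22, 4, 8, -24, 0, 13, -15, -46, -4, -2, -2, 3, 7, -4, 12, 2, 3, 0, 1, 1, 0, 2, -3]⟩))) (.node 2 (.node 1 (.leaf ⟨6, 6, true, [21, 18, 34, 12, 28, 4], [0, 34, 42, 41, 38, 19], [7, -13, -30, -1, -71, 12, -15, -21, -4, -8, 24, -1, -11, 15, 45, 4, 2, 2, -3, -7, 4, -12, -2, -3, 0, -1, -1, 0, -2, 3]⟩) (.leaf ⟨6, 6, true, [22, 35, 35, 28, 38, 42], [19, 2, 28, 35, 43, 21, 28], [0, -7, -1, 1, -7, -1, 4, -4, 2, -7, -1, -3, -4, 0, 7, -1, -1, 0, -1, -1, 0, -2, 0, 0, -2, 0, 1]⟩)) (.node 1 (.leaf ⟨6, 3, true,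 [35, 30, 32, 35, 43, 29], [26, 29, 26, 11, 42, 19], [17, 75, 6, 65, 150, 26, 1, 21, -6, 32, -22, -10, 41, -28, -33, -2, 2, 2, 9, 11, -3, 5, 0, 7, 1, 1, -1, 0, -5, -3]⟩) (.leaf ⟨3, 6, true, [18, 18, 39, 28, 14, 2], [6, 29, 12, 42, 38, 14], [-10, -59, -11, -53, -155, -20, -5, -21, 5, -35, 24, 9, -33, 29, 33, 3, -2, -1, -9, -12, 4, -6, 0, -6, -1, -1, 1, 0, 4, 4]⟩)))) (.node 4 (.node 2 (.node 1 (.leaf ⟨6, 6, true, [0, 41, 42, 22, 6, 2], [11, 41, 11, 28, 23], [-9, 7, 30, -6, 77, -12, 17, 21, 6, 9, -25, -1, 10, -14, -42, -3, -2, -2, 3, 7, -4, 12, 2, 3, 0, 1, -1, 0, 2, -3]⟩) (.leaf ⟨6, 6, true, [35, 20, 36, 26, 10, 6], [2, 13, 26, 30, 6, 4], [10, -5, -30, 6, -77, 12, -17, -21, -6, -9, 25, 1, -12, 14, 41, 3, 2, 2, -3, -7, 4, -12, -2, -3, 0, -1, 1, 0, -2, 3]⟩)) (.node 1 (.leaf ⟨6, 6, true, [20,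 6, 20, 39, 19, 38, 10], [29, 18, 34, 24, 27, 6, 23], [3, 63, 21, 39, 110, 7, 1, 14, 2, 8, -15, -14, 32, -23, -27, -3, -1, 3, 4, 10, -3, 5, 1, 5, 0, 1, 0, 0, -4, -1]⟩) (.leaf ⟨6, 6, true, [43, 31, 19, 43, 39, 18], [38, 4, 32, 16, 37, 25, 20], [-2, -61, -21, -39, -110, -7, -1, -14, -2, -8, 15, 14, -34, 23, 26, 3, 1, -3, -4, -10, 3, -5, -1, -5, 0, -1, 0, 0, 4, 1]⟩))) (.node 2 (.node 1 (.leaf ⟨6, 6, true, [29, 0, 31, 35, 27, 39, 29], [30, 35, 27, 30, 43, 33], [-33, 28, 66, -17, 65, -13, -2, 10, 4, -18, -7, -6, 17, -16, -25, -4, -3, 1, 0, 6, -3, 7, 2, 2, -1, 0, 3, 0, -1, -1]⟩) (.leaf ⟨6, 6, true, [19, 24, 33, 40, 8, 38], [31, 8, 43, 8, 35, 21], [32, -26, -65, 16, -64, 13, 2, -9, -4, 18, 7, 5, -15, 16, 24, 4, 3, -1, 0, -6, 3, -7, -2, -2, 1, 0, -3, 0, 1, 1]⟩)) (.node 1 (.leaf ⟨6, 6, true, [4,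 29, 37, 28, 6], [12, 35, 27, 24, 18], [-17, -91, -13, -69, -177, -27, 0, -16, 4, -34, 13, 9, -34, 40, 30, 4, -3, -4, -12, -14, 4, -3, 1, -7, -1, -1, 0, 0, 6, 4]⟩) (.leaf ⟨6, 6, true, [4, 24, 30, 29, 34, 13], [6, 21, 13, 36, 14, 28], [18, 91, 13, 69, 177, 27, 0, 16, -4, 34, -13, -9, 36, -40, -31, -4, 3, 4, 12, 14, -4, 3, -1, 7, 1, 1, 0, 0, -6, -4]⟩)))))) (.node 15 (.node 7 (.node 3 (.node 1 (.leaf ⟨6, 6, true, [18, 42, 31, 16, 20, 16], [6, 32, 25, 6, 8, 28], [-11, 6, 0, -3, -4, 0, -3, -6, -5, -1, 0, 1, -3, 0, 3, -1, -1, 1, 0, 0, 0, -2, 0, 0, 0, -1, 1]⟩) (.node 1 (.leaf ⟨6, 6, true, [11, 29, 36, 22, 4, 6], [36, 31, 37, 6, 42], [-12, 179, 71, 88, 245, 31, -18, 37, 4, -7, 18, -23, 94, -70, -37, -3, -5, 12, 8, 10, -1, 8, 4, 10, 2, 0, 0, 0, -10, 0, -2]⟩) (.leaf ⟨6, 6, true, [2, 30, 37, 25,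 10, 19], [4, 25, 11, 38, 22, 18], [13, -177, -71, -88, -245, -31, 18, -37, -4, 7, -18, 23, -96, 70, 36, 3, 5, -12, -8, -10, 1, -8, -4, -10, -2, 0, 0, 0, 10, 0, 2]⟩))) (.node 2 (.node 1 (.leaf ⟨5, 6, true, [2, 16, 6, 21, 35, 26], [13, 6, 42, 16, 21], [35, 27, -52, 44, -8, 13, -7, 0, -3, 28, -16, -8, -8, -1, -7, 0, 3, 0, 5, 2, 0, -1, -2, 2, 0, 0, -1, 0, -2, 0, 2]⟩) (.leaf ⟨6, 5, true, [21, 14, 25, 43, 16, 10], [27, 42, 14, 10, 4, 6], [-36, -25, 53, -45, 9, -13, 7, 1, 3, -28, 16, 7, 10, 1, 6, 0, -3, 0, -5, -2, 0, 1, 2, -2, 0, 0, 1, 0, 2, 0, -2]⟩)) (.node 1 (.leaf ⟨6, 4, true, [11, 0, 22, 42, 26, 20, 8], [2, 0, 41, 32, 40, 31, 25], [-10, -6, -2, -15, -4, 7, -1, 6, 0, 6, -8, -1, 4, 4, 3, 1, 0, 0, 2, 0, 0, -1, 0, 0, 0, 0, -2, 0, 0, -1]⟩) (.leaf ⟨4, 6, true, [20, 29, 37, 24, 33, 25], [36, 30,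 11, 41, 41, 4], [18, 7, -6, 23, 3, -7, 0, -5, -3, 0, 6, -1, -7, -3, -6, -1, 0, 0, -2, 0, 0, 1, 0, 0, 0, 0, 2, 0, 0, 1, 1]⟩)))) (.node 4 (.node 2 (.node 1 (.leaf ⟨6, 5, true, [19, 10, 2, 38, 38, 2], [6, 19, 32, 39, 18, 6, 24], [-15, -14, 32, -27, 2, -16, 8, 1, 14, -18, 4, 4, -6, -1, -1, -1, -2, 0, 0, 0, -1, 4, 1, -2, 0, -2, 0, 0, 1, 0, -1]⟩) (.leaf ⟨5, 6, true, [35, 41, 35, 28, 32, 29], [43, 27, 38, 35, 28, 11], [23, 49, -32, 53, 33, 27, -11, 3, -14, 23, -4, -8, 23, -8, -5, 1, 3, 2, 3, 2, 1, -4, -1, 4, 0, 2, 0, 0, -3, 0, 1]⟩)) (.node 1 (.leaf ⟨6, 6, true, [6, 20, 6, 39, 29, 0], [32, 41, 35, 43, 27, 6], [6, 0, 2, -3, 6, -2, 9, 7, 8, 0, -5, -1, 5, -2, 0, 2, 0, 1, 0, 1, 0, 1, 0, 0, 1, 2, -2, 0, 0, -1, -1]⟩) (.leaf ⟨6, 6, true, [2, 6, 38, 40, 33, 4], [0, 34, 34, 26, 10, 30], [-7, 3, -1, 2,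 -5, 2, -9, -6, -8, 0, 5, 0, -5, 2, -1, -2, 0, -1, 0, -1, 0, -1, 0, 0, -1, -2, 2, 0, 0, 1, 1]⟩))) (.node 2 (.node 1 (.leaf ⟨6, 6, true, [24, 42, 36, 33, 30, 2], [32, 30, 10, 39, 19], [5, -4, -7, 5, -24, 3, 4, -7, 0, -7, 11, -4, -3, 4, 0, 1, -1, -1, -1, -2, 1, -1, 0, 0, 0, 0, 1]⟩) (.leaf ⟨6, 6, true, [28, 10, 23, 4, 38, 0], [8, 31, 41, 22, 33, 23], [-6, 8, 8, -6, 25, -3, -4, 8, 0, 7, -11, 3, 1, -4, -1, -1, 1, 1, 1, 2, -1, 1, 0, 0, 0, 0, -1]⟩)) (.node 1 (.leaf ⟨6, 6, true, [21, 39, 28, 8, 42, 0], [42, 0, 39, 20, 34, 2, 20], [0, 4, -6, 3, -27, 0, -2, -5, 0, -8, 5, 1, -2, 6, 1, 1, -1, 0, 0, -2, 1, -2, 0, 0, 0, 0, 1]⟩) (.leaf ⟨6, 6, true, [24, 12, 35, 10, 33, 31], [4, 43, 8, 29, 38, 20], [1, -4, 6, -3, 27, 0, 2, 5, 0, 8, -5, -1, 4, -6, -2, -1, 1, 0, 0, 2, -1, 2, 0, 0, 0, 0, -1]⟩))))) (.node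 8 (.node 4 (.node 2 (.node 1 (.leaf ⟨6, 6, true, [21, 34, 20, 35, 20, 11], [35, 30, 38, 43, 40, 19], [-5, -1, 7, -4, 16, -2, 1, 2, 0, 2, -4, 1, -2, -4, -2, -1, 0, 0, 0, 2, -1]⟩) (.leaf ⟨6, 6, true, [2, 42, 29, 10, 38, 2], [25, 19, 34, 39, 13, 4], [6, 3, -7, 4, -16, 2, -1, -2, 0, -2, 4, -1, 0, 4, 1, 1, 0, 0, 0, -2, 1]⟩)) (.node 1 (.leaf ⟨6, 5, true, [2, 41, 43, 43, 23, 6], [20, 37, 11, 27, 39, 36], [-40, -149, 10, -105, -130, -38, 10, -16, -1, -29, 3, 12, -65, 43, 25, 3, -4, -8, -12, -8, 0, -1, 0, -8, -1, -1, 0, 0, 8]⟩) (.leaf ⟨5, 6, true, [12, 0, 35, 24, 27], [14, 25, 23, 30, 37, 28], [42, 182, 2, 123, 171, 49, -11, 20, -1, 30, -1, -14, 82, -52, -31, -3, 5, 10, 15, 10, 0, 1, 0, 10, 1, 1, 0, 0, -10]⟩))) (.node 2 (.node 1 (.leaf ⟨6, 6, true, [26, 40, 25, 10, 38, 28], [26, 2, 20, 2, 14,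 24, 11], [-6, -2, 10, -2, 13, -2, 4, -3, -1, 0, 1, 0, -5, -2, -3, -1, 0, -1, -1, 2, -1, 1, 0, 0, 0, 0, 1, 0, -1]⟩) (.leaf ⟨4, 6, true, [19, 2, 22, 11, 42, 26, 29], [36, 43, 13, 34, 20], [-21, 34, 36, 13, 90, 8, 0, 9, 1, -7, 8, -10, 32, -21, -11, 0, -2, 4, 2, 4, -1, 4, 2, 2, 0, 0, 0, 0, -2, -1, -1]⟩)) (.node 1 (.leaf ⟨5, 6, true, [28, 40, 11, 18, 22, 37], [12, 34, 42, 42, 34, 27], [36, 147, -10, 112, 138, 48, -10, 15, 2, 25, 4, -19, 69, -36, -22, 1, 4, 8, 12, 8, 0, 1, 0, 8, 0, 1, 0, 0, -8, -1]⟩) (.leaf ⟨6, 5, true, [13, 0, 42, 32, 22, 39, 28], [8, 37, 19, 12, 41, 29], [-35, -147, 10, -112, -138, -48, 10, -15, -2, -25, -4, 19, -67, 36, 21, -1, -4, -8, -12, -8, 0, -1, 0, -8, 0, -1, 0, 0, 8, 1]⟩)))) (.node 4 (.node 2 (.node 1 (.leaf ⟨6, 6, true, [13, 18, 40, 13, 42, 22], [42, 31, 18, 12,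 43, 29], [-4, -19, -17, -11, -58, 0, -2, 2, -2, -2, -3, 4, -5, 17, 5, 3, 0, -2, -1, -4, 1, 0, 0, -2, 0, 1, -1, 0, 2, -1]⟩) (.leaf ⟨6, 6, true, [38, 38, 40, 24, 24, 24], [19, 39, 41, 12, 25, 10], [3, 21, 18, 10, 59, 0, 2, -1, 2, 2, 3, -5, 7, -17, -6, -3, 0, 2, 1, 4, -1, 0, 0, 2, 0, -1, 1, 0, -2, 1]⟩)) (.node 1 (.leaf ⟨6, 5, true, [39, 22, 27, 4, 35, 43], [39, 43, 36, 42, 26], [-46, -147, 21, -112, -93, -48, 12, -11, -1, -22, -9, 13, -63, 31, 19, -1, -4, -8, -12, -4, -2, 1, 0, -8, 0, -1, 0, 0, 8, -1]⟩) (.leaf ⟨5, 6, true, [38, 42, 39, 25, 29], [40, 36, 30, 35, 29, 25], [48, 180, -9, 130, 134, 59, -13, 15, -1, 23, 11, -15, 80, -40, -25, 1, 5, 10, 15, 6, 2, -1, 0, 10, 0, 1, 0, 0, -10, 1]⟩))) (.node 2 (.node 1 (.leaf ⟨6, 6, true, [22, 41, 31, 18, 28, 8], [8, 38, 29, 21, 19, 13], [-15, 157,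 81, 71, 196, 27, -8, 30, 7, -18, -1, -18, 78, -50, -52, -1, -3, 7, 11, 11, -2, 9, 3, 11, -1, 1, 3, 0, -8, -2, -2]⟩) (.leaf ⟨6, 6, true, [0, 20, 30, 13, 39, 8], [29, 30, 25, 40, 23], [14, -153, -80, -72, -195, -27, 8, -29, -7, 18, 1, 17, -80, 50, 51, 1, 3, -7, -11, -11, 2, -9, -3, -11, 1, -1, -3, 0, 8, 2, 2]⟩)) (.node 1 (.leaf ⟨6, 6, true, [30, 0, 30, 42, 13, 41], [12, 26, 12, 40, 34], [-6, 16, 31, 1, 94, -7, 4, 4, 2, 9, -7, -4, 10, -27, -12, -7, 0, 2, 1, 8, -3, 2, 0, 2, 0, -1, 1, 0, -2, 1]⟩) (.leaf ⟨6, 6, true, [41, 35, 37, 38, 33, 19], [16, 4, 40, 43, 35, 29, 18], [5, -14, -30, -2, -93, 7, -4, -3, -2, -9, 7, 3, -8, 27, 11, 7, 0, -2, -1, -8, 3, -2, 0, -2, 0, 1, -1, 0, 2, -1]⟩)))))))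
noncomputable def dF486 : BT Fct := (.node 30 (.node 15 (.node 7 (.node 3 (.node 1 (.leaf ⟨6, 6, true, [2, 29, 23, 42, 21, 35], [31, 2, 32, 0, 2, 22, 24], [-8, 7, 4, -1, 3, 0, 2, 3, -3, 1, -1, -4, 1, 3, 0, 0, -1, 2, 0, 2, -1, 0, 0, -1, 0, 0, 1]⟩) (.node 1 (.leaf ⟨6, 6, true, [29, 6, 35, 6, 35, 32, 8], [16, 33, 27, 36, 34, 20], [9, -7, -4, 1, -3, 0, -2, -3, 3, -1, 1, 4, 1, -3, -1, 0, 1, -2, 0, -2, 1, 0, 0, 1, 0, 0, -1]⟩) (.leaf ⟨6, 5, true, [2, 29, 8, 41, 32, 14], [0, 10, 32, 43, 39, 6], [-4, 31, 18, 8, 54, 3, -1, 8, 0, 6, -1, 0, 16, -16, -11, -3, 0, 1, 2, 4, -1, 1, 0, 2, 0, 1, 0, 0, -2]⟩))) (.node 2 (.node 1 (.leaf ⟨5, 6, true, [43, 43, 39, 6, 28], [0, 32, 31, 41, 28, 4], [15, 5, -24, 22, -22, 8, -3, -4, 1, 1, 0, -5, 1, 7, 5, 3, 1, 1, 1, -2, 1, -1, 0, 0, 0, -1]⟩) (.leaf ⟨6, 5, true, [43,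 18, 35, 41, 4, 27], [4, 43, 39, 36, 34, 4], [-23, 10, 48, -21, 45, -17, 6, 11, 5, -10, -12, -3, -3, -5, -31, -3, -5, -2, -2, 3, -2, 10, 2, 1, 0, 1, 1, 0, 1, 0, -1]⟩)) (.node 1 (.leaf ⟨5, 6, true, [14, 38, 8, 6, 22, 14], [26, 40, 34, 19, 42], [30, -7, -60, 29, -51, 17, -8, -11, -3, 14, 10, 1, 3, 5, 30, 3, 5, 2, 2, -3, 2, -10, -2, -1, 0, -1, -1, 0, -1, 0, 1]⟩) (.leaf ⟨4, 6, true, [21, 32, 36, 38, 21, 38], [4, 39, 21, 4, 30, 10], [-13, 13, 18, 4, 24, 6, 0, 2, 2, -10, 13, 0, 16, -3, -3, 1, -2, 2, 1, -1, 1, 1, 1, 1, 0, 0, 0, 0, -1, 0, -1]⟩)))) (.node 4 (.node 2 (.node 1 (.leaf ⟨6, 4, true, [29, 4, 41, 12], [12, 25, 22, 35, 24, 0], [14, -11, -18, -4, -24, -6, 0, -2, -2, 10, -13, 0, -18, 3, 2, -1, 2, -2, -1, 1, -1, -1, -1, -1, 0, 0, 0, 0, 1, 0, 1]⟩) (.leaf ⟨6, 6, true, [6, 24, 20, 40, 24, 24],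 [2, 33, 37, 41, 22, 25], [-20, 10, 40, -1, 99, -9, 10, 17, 1, 10, -22, 1, 19, -18, -31, -5, -1, -1, 1, 10, -5, 7, 1, 2, 0, 1, 1, 0, 1, -2]⟩)) (.node 1 (.leaf ⟨6, 6, true, [2, 0, 39, 35, 28, 40, 23], [0, 19, 28, 43, 28, 18], [19, -6, -39, 0, -98, 9, -10, -16, -1, -10, 22, -2, -21, 18, 30, 5, 1, 1, -1, -10, 5, -7, -1, -2, 0, -1, -1, 0, -1, 2]⟩) (.leaf ⟨6, 6, true, [0, 19, 43, 18, 22, 30], [8, 43, 21, 6, 18, 30], [12, -12, -46, 4, -131, 8, -6, -7, -2, -13, 13, 5, -8, 31, 16, 8, -1, -2, -1, -12, 5, -4, 0, -2, 0, 1, -1, 0, 2, -1]⟩))) (.node 2 (.node 1 (.leaf ⟨6, 6, true, [4, 43, 43, 12, 35], [31, 20, 24, 42, 18, 0], [-11, 12, 46, -4, 131, -8, 6, 7, 2, 13, -13, -5, 10, -31, -17, -8, 1, 2, 1, 12, -5, 4, 0, 2, 0, -1, 1, 0, -2, 1]⟩) (.leaf ⟨6, 5, true, [18, 11, 33, 19, 40, 42], [23, 27, 30, 10,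 38, 26], [-41, -142, 13, -110, -115, -47, 12, -14, -4, -22, -6, 14, -66, 35, 22, -1, -4, -8, -12, -6, -1, 0, -1, -8, 0, -1, 0, 0, 8]⟩)) (.node 1 (.leaf ⟨5, 6, true, [2, 41, 42, 11], [6, 24, 27, 36, 39, 13], [41, 175, 4, 125, 157, 58, -12, 19, 1, 21, 9, -16, 83, -44, -28, 1, 5, 10, 15, 8, 1, 0, 1, 10, 0, 1, 0, 0, -10]⟩) (.leaf ⟨6, 6, true, [26, 30, 42, 33, 38, 29], [6, 38, 11, 30, 43, 20], [14, 5, -18, 10, -36, 3, -1, -6, -2, -5, 8, 1, -4, 11, 6, 2, 0, 0, 0, -4, 2, -1, 0, -1]⟩))))) (.node 7 (.node 3 (.node 1 (.leaf ⟨6, 6, true, [37, 42, 36, 6, 19], [38, 40, 13, 18, 11, 11], [-13, -5, 18, -10, 36, -3, 1, 6, 2, 5, -8, -1, 6, -11, -7, -2, 0, 0, 0, 4, -2, 1, 0, 1]⟩) (.node 1 (.leaf ⟨6, 6, true, [2, 25, 34, 33, 20, 20], [27, 4, 27, 38, 43, 25, 31], [4, -11, -28, -3, -88, 9, -3, -1, -2, -9,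 8, -2, -8, 29, 13, 8, 0, -2, -1, -8, 3, -2, 0, -2, -1, 1, -1, 0, 2, -1]⟩) (.leaf ⟨6, 6, true, [34, 0, 42, 41, 37, 34, 22], [6, 8, 23, 41, 41, 22], [-5, 15, 29, 2, 89, -9, 3, 2, 2, 9, -8, 1, 6, -29, -14, -8, 0, 2, 1, 8, -3, 2, 0, 2, 1, -1, 1, 0, -2, 1]⟩))) (.node 2 (.node 1 (.leaf ⟨5, 6, true, [42, 13, 11, 25, 10], [2, 30, 13, 34, 6, 27], [40, 177, 5, 124, 160, 57, -12, 23, 2, 22, 9, -19, 87, -44, -26, 1, 5, 10, 15, 8, 1, 0, 1, 10, 0, 0, 0, 0, -10]⟩) (.leaf ⟨6, 5, true, [25, 19, 37, 35, 32, 6], [2, 36, 41, 25, 43, 10], [-41, -175, -4, -125, -159, -57, 12, -22, -2, -22, -9, 18, -85, 44, 25, -1, -5, -10, -15, -8, -1, 0, -1, -10, 0, 0, 0, 0, 10]⟩)) (.node 1 (.leaf ⟨6, 6, true, [39, 37, 40, 26, 34, 19], [0, 35, 14, 24, 33], [-7, 12, 30, 5, 89, -7, 1, 1, 3, 7, -6, 0, 12, -24, -12, -7, 0, 2,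 1, 8, -3, 2, 0, 2, 1, -1, 1, 0, -3, 1]⟩) (.leaf ⟨6, 6, true, [8, 25, 14, 34, 0], [38, 41, 18, 38, 25, 22], [8, -10, -30, -5, -89, 7, -1, -1, -3, -7, 6, 0, -14, 24, 11, 7, 0, -2, -1, -8, 3, -2, 0, -2, -1, 1, -1, 0, 3, -1]⟩)))) (.node 4 (.node 2 (.node 1 (.leaf ⟨5, 6, true, [14, 35, 41, 8, 30, 20], [25, 20, 31, 43, 21, 39], [33, 139, -1, 104, 133, 48, -10, 16, 0, 24, 5, -12, 62, -35, -24, 1, 4, 8, 12, 8, 0, 1, 1, 8, 0, 1, 0, 0, -9]⟩) (.leaf ⟨6, 5, true, [29, 40, 35, 22, 40, 4], [18, 22, 30, 37, 27, 18], [-32, -139, 1, -104, -133, -48, 10, -16, 0, -24, -5, 12, -60, 35, 23, -1, -4, -8, -12, -8, 0, -1, -1, -8, 0, -1, 0, 0, 9]⟩)) (.node 1 (.leaf ⟨6, 6, true, [35, 37, 43, 32, 23, 2], [8, 35, 33, 37, 20, 30], [6, -19, -32, -3, -97, 8, -2, -4, -2, -8, 7, 4, -10, 26, 13, 7, 0, -2, -1, -8, 3, -2,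 0, -2, 0, 1, -1, 0, 1, -1]⟩) (.leaf ⟨6, 6, true, [30, 21, 36, 32, 6, 34], [2, 0, 21, 32, 40, 34, 0], [-7, 21, 33, 2, 98, -8, 2, 5, 2, 8, -7, -5, 12, -26, -14, -7, 0, 2, 1, 8, -3, 2, 0, 2, 0, -1, 1, 0, -1, 1]⟩))) (.node 2 (.node 1 (.leaf ⟨6, 6, true, [40, 43, 19, 40, 4, 26], [8, 13, 35, 26, 12, 28], [-14, -20, -4, -20, -24, -9, 1, 6, -3, 5, -13, 5, -11, 5, 1, 0, 0, -2, -1, 0, -1, 2, 0, -2, 0, 1, -1, 0, 1, -1]⟩) (.leaf ⟨6, 6, true, [18, 12, 37, 43, 41, 6], [27, 41, 18, 42, 41], [15, 22, 4, 20, 24, 9, -1, -6, 3, -5, 13, -5, 9, -5, -2, 0, 0, 2, 1, 0, 1, -2, 0, 2, 0, -1, 1, 0, -1, 1]⟩)) (.node 1 (.leaf ⟨6, 5, true, [20, 40, 10, 13], [37, 21, 29, 19, 31], [6, 2, -10, 5, -22, 2, -1, -4, 1, 0, 4, -2, -1, 6, 6, 1, 0, 0, 0, -3, 1, -1, 0, 0, 0, 0, 0, 0, -1]⟩) (.leaf ⟨5, 6, true, [29, 10, 4, 36,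 11], [40, 39, 42, 19, 8], [-2, 0, 4, -1, 19, -2, 0, 4, 0, 2, -5, 1, 1, -6, -7, -1, 0, 0, 0, 3, -1, 1, 0, 0, 0, 0, 0, 0, 1]⟩)))))) (.node 15 (.node 7 (.node 3 (.node 1 (.leaf ⟨6, 6, true, [16, 0, 39, 18, 16, 6, 21], [29, 38, 8, 26, 31, 2], [5, 21, 17, 11, 58, 0, 2, -2, 1, 2, 4, -4, 4, -16, -4, -3, 0, 2, 1, 4, -1, 0, 0, 2, 0, -1, 1, 0, -3, 1]⟩) (.node 1 (.leaf ⟨6, 6, true, [10, 2, 43, 26, 6, 35, 28], [20, 28, 43, 35, 11, 29], [-6, -17, -16, -12, -57, 0, -2, 3, -1, -2, -4, 3, -6, 16, 3, 3, 0, -2, -1, -4, 1, 0, 0, -2, 0, 1, -1, 0, 3, -1]⟩) (.leaf ⟨6, 6, true, [27, 8, 11, 42, 33, 4], [41, 26, 39, 20, 14, 19], [2, 20, 18, 13, 59, 3, 1, -4, 2, 2, 4, -7, 13, -14, -4, -2, 0, 2, 1, 4, -1, 0, 0, 2, 0, -1, 1, 0, -3, 1]⟩))) (.node 2 (.node 1 (.leaf ⟨6, 6, true, [18, 0, 42, 29, 42, 32, 19], [0, 32,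 43, 10, 8, 26], [-1, -20, -18, -13, -59, -3, -1, 4, -2, -2, -4, 7, -11, 14, 3, 2, 0, -2, -1, -4, 1, 0, 0, -2, 0, 1, -1, 0, 3, -1]⟩) (.leaf ⟨6, 5, true, [29, 10, 16, 39, 36], [31, 24, 26, 34, 39, 30], [-39, -142, 10, -110, -119, -51, 13, -15, -5, -20, -8, 15, -70, 35, 24, -2, -4, -8, -12, -6, -1, 0, -1, -8, 0, -1, 0, 0, 7]⟩)) (.node 1 (.leaf ⟨5, 6, true, [0, 4, 43, 24, 12, 20], [13, 40, 16, 28], [36, 110, -16, 88, 81, 40, -11, 11, 6, 17, 7, -12, 53, -26, -20, 2, 3, 6, 9, 4, 1, 0, 1, 6, 0, 1, 0, 0, -5]⟩) (.leaf ⟨5, 6, true, [21, 6, 12, 39, 27, 38], [42, 18, 11, 24, 21], [13, 6, -32, 21, -39, 0, -4, -5, -1, 2, 0, -3, 2, 3, 9, 1, 0, 1, 1, -4, 2, -2, 0, 0, 0, -1, 0, 0, 0, -1]⟩)))) (.node 4 (.node 2 (.node 1 (.leaf ⟨6, 5, true, [2, 38, 29, 35, 19, 26], [37, 41, 32, 8, 34, 18], [-14, -2, 33,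 -22, 40, 0, 4, 6, 1, -2, 0, 2, -4, -3, -10, -1, 0, -1, -1, 4, -2, 2, 0, 0, 0, 1, 0, 0, 0, 1]⟩) (.leaf ⟨6, 6, true, [6, 24, 35, 37, 30, 24], [36, 13, 18, 11, 6, 27], [-6, 17, 18, 10, 50, -2, 6, 12, -1, 3, -10, -1, 19, -8, -19, -2, 0, -1, 1, 4, -2, 4, 1, 2, 0, 1, 1, 0, 1, -3]⟩)) (.node 1 (.leaf ⟨6, 6, true, [28, 37, 13, 10, 43], [19, 2, 36, 23, 38, 8, 20], [7, -17, -18, -10, -50, 2, -6, -12, 1, -3, 10, 1, -17, 8, 18, 2, 0, 1, -1, -4, 2, -4, -1, -2, 0, -1, -1, 0, -1, 3]⟩) (.leaf ⟨6, 6, true, [28, 0, 41, 31, 29, 22, 29], [24, 2, 23, 39, 24, 38, 20], [4, -14, -21, -10, -57, 3, -5, -9, -2, -2, 11, -1, -24, 11, 22, 2, 0, 1, -1, -4, 2, -4, -1, -2, 0, -1, -1, 0, -1, 1]⟩))) (.node 2 (.node 1 (.leaf ⟨6, 6, true, [23, 23, 20, 42, 25, 22], [10, 43, 26, 43, 28, 38], [-5, 16, 22, 9, 58, -3, 5, 10, 2,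 2, -11, 0, 26, -11, -23, -2, 0, -1, 1, 4, -2, 4, 1, 2, 0, 1, 1, 0, 1, -1]⟩) (.leaf ⟨6, 5, true, [11, 30, 36, 6, 19, 29], [39, 23, 19, 13, 40, 16], [11, 32, 0, 21, 12, 21, -5, 2, 1, -9, 17, -4, 19, 2, 1, 4, 1, 1, 2, -2, 2, -2, 0, 2, 0, 1, 0, 0, -2, 0, -1]⟩)) (.node 1 (.leaf ⟨5, 6, true, [13, 14, 41, 41, 42], [8, 10, 26, 34, 41, 12], [1, 36, 6, 27, 61, 1, 0, 6, -2, 17, -16, -3, 15, -20, -12, -4, 1, 3, 4, 6, -2, 2, 0, 2, 0, -1, 0, 0, -2, 0, 1]⟩) (.leaf ⟨6, 6, true, [2, 0, 33, 34, 28, 40, 21], [6, 29, 42, 38, 8, 23], [6, -12, -15, -17, -56, 2, -7, -1, -2, 2, -1, -1, -17, 19, -2, 3, 1, -2, 0, -2, 1, -2, 0, -2, 2, 0, 0, 0, 2]⟩))))) (.node 7 (.node 3 (.node 1 (.leaf ⟨6, 6, true, [30, 0, 37, 20, 32, 19], [36, 29, 43, 18, 22, 18], [-5, 14, 15, 17, 56, -2, 7, 1, 2, -2, 1, 1, 15, -19, 1, -3, -1,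 2, 0, 2, -1, 2, 0, 2, -2, 0, 0, 0, -2]⟩) (.node 1 (.leaf ⟨5, 6, true, [24, 10, 38, 36, 42, 2], [20, 0, 35, 35, 19, 28, 14], [-8, 52, 26, 28, 106, 5, -5, 17, 1, 13, -15, -7, 28, -24, -26, -4, -1, 2, 5, 6, -3, 6, 2, 4, 0, -1, 2, 0, -3, -2]⟩) (.leaf ⟨6, 5, true, [18, 11, 28, 40, 35, 39], [26, 26, 40, 12, 34, 14], [9, -50, -26, -28, -106, -5, 5, -17, -1, -13, 15, 7, -30, 24, 25, 4, 1, -2, -5, -6, 3, -6, -2, -4, 0, 1, -2, 0, 3, 2]⟩))) (.node 2 (.node 1 (.leaf ⟨6, 6, true, [35, 41, 26, 21, 42], [8, 32, 41, 39, 13, 26], [-18, 82, 23, 46, 91, 20, -5, 10, -4, 0, 13, -6, 38, -26, -13, -1, -4, 6, 4, 5, 0, 0, 2, 3, 0, -1, 1, 0, -4]⟩) (.leaf ⟨6, 6, true, [36, 19, 29, 40, 6, 21], [22, 36, 42, 38, 22, 12], [17, -80, -22, -47, -90, -20, 5, -9, 4, 0, -13, 5, -36, 26, 12, 1, 4, -6, -4, -5, 0, 0, -2, -3,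 0, 1, -1, 0, 4]⟩)) (.node 1 (.leaf ⟨5, 6, true, [42, 0, 6, 38, 31, 18, 14], [43, 0, 10, 42, 41, 37, 25], [6, 18, 0, 18, 43, 8, -12, -1, -12, 6, 21, -4, 5, -10, -7, -2, -2, 0, -2, 1, 0, -2, 1, 2, -2, 1, 2, 0, -1, 1, 1]⟩) (.leaf ⟨6, 5, true, [23, 35, 43, 41, 21, 24], [33, 27, 30, 6, 37, 12], [-5, -16, 0, -18, -43, -8, 12, 1, 12, -6, -21, 4, -7, 10, 6, 2, 2, 0, 2, -1, 0, 2, -1, -2, 2, -1, -2, 0, 1, -1, -1]⟩)))) (.node 4 (.node 2 (.node 1 (.leaf ⟨6, 6, true, [21, 0, 36, 30, 22, 43], [29, 20, 2, 18, 31, 39], [-1, 106, 40, 61, 150, 22, 6, 27, 9, 11, -32, -11, 62, -34, -32, -1, 3, 6, 13, 12, -3, 8, 0, 7, 2, -1, -2, 0, -6, -3, -1]⟩) (.leaf ⟨6, 6, true, [0, 2, 33, 33, 38, 20, 18], [14, 42, 27, 35, 28, 30], [2, -106, -40, -61, -150, -22, -6, -27, -9, -11, 32, 11, -60, 34, 31, 1, -3, -6, -13, -12,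 3, -8, 0, -7, -2, 1, 2, 0, 6, 3, 1]⟩)) (.node 1 (.leaf ⟨5, 6, true, [0, 40, 12, 35, 36, 2], [41, 6, 25, 38, 30, 36, 26], [-12, -160, -54, -88, -205, -41, 17, -31, 2, -22, 8, 28, -62, 40, 61, 1, -2, -6, -16, -16, 3, -6, -1, -10, -2, 0, -1, 0, 7, 2, -1]⟩) (.leaf ⟨6, 5, true, [29, 0, 38, 29, 20, 11, 12], [2, 11, 41, 37, 42], [11, 163, 55, 87, 206, 41, -17, 32, -2, 22, -8, -29, 62, -40, -62, -1, 2, 6, 16, 16, -3, 6, 1, 10, 2, 0, 1, 0, -7, -2, 1]⟩))) (.node 2 (.node 1 (.leaf ⟨6, 6, true, [14, 38, 38, 35, 40, 23], [18, 30, 21, 40, 40, 16], [5, -62, -33, -31, -114, -7, 3, -18, 1, -1, 12, 8, -31, 24, 24, 3, 1, -4, -5, -9, 3, -3, -1, -5, 0, -1, 0, 0, 3, 1]⟩) (.leaf ⟨6, 6, true, [24, 40, 6, 21, 40, 42], [22, 32, 25, 35, 35, 11], [-6, 65, 34, 30, 115, 7, -3, 19, -1, 1, -12, -9, 31, -24, -25, -3,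 -1, 4, 5, 9, -3, 3, 1, 5, 0, 1, 0, 0, -3, -1]⟩)) (.node 1 (.leaf ⟨6, 3, true, [0, 35, 40, 34, 20, 22], [19, 33, 28, 42, 6, 27], [2, 57, 8, 31, 35, 12, 7, 11, 11, 4, -20, -1, 28, -10, -2, 2, 4, 4, 8, 3, 0, 2, -1, 2, 2, -1, -2, 0, -3, -2, -1]⟩) (.leaf ⟨3, 6, true, [2, 33, 43, 28, 24, 30], [16, 6, 23, 43, 37, 6], [0, -54, -6, -29, -37, -15, -7, -11, -9, -6, 20, 1, -28, 10, 1, -2, -4, -4, -8, -3, 0, -2, 1, -2, -2, 1, 2, 0, 3, 2, 1]⟩)))))))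
noncomputable def dF546 : BT Fct := (.node 30 (.node 15 (.node 7 (.node 3 (.node 1 (.leaf ⟨6, 6, true, [18, 38, 40, 22, 10, 0], [12, 4, 38, 18, 20], [10, 45, 8, 30, 38, 13, 11, 12, 14, 4, -18, -5, 36, -8, -5, 3, 4, 4, 8, 3, 0, 4, -1, 2, 2, 0, -3, 0, -3, -2, -1]⟩) (.node 1 (.leaf ⟨6, 6, true, [25, 25, 11, 21, 2], [0, 35, 22, 43, 35, 18], [-3, 12, 14, 18, 54, -2, 7, 1, 2, 2, 3, 1, 16, -19, 0, -3, -1, 1, 0, 2, -1, 3, 0, 2, -2, 0, 0, 0, -2, -1]⟩) (.leaf ⟨6, 5, true, [37, 41, 24, 27, 38, 23], [26, 0, 43, 33, 36, 41, 14], [-23, 75, 41, 33, 107, 19, 3, 11, 5, -3, 20, -8, 32, -28, -17, -1, -3, 4, 2, 5, 0, 0, 2, 4, 1, 1, 0, 0, -4]⟩))) (.node 2 (.node 1 (.leaf ⟨5, 6, true, [30, 16, 39, 28, 30, 14], [28, 38, 18, 43, 18, 28], [28, -41, -35, -11, -69, -8, -5, -7, -6, 6, -19, 5, -15, 19, 11, 1, 4,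 -2, 1, -3, 0, 0, -2, -2, -1, -1, 0, 0, 2]⟩) (.leaf ⟨6, 6, true, [39, 30, 23, 28, 38, 20], [19, 30, 40, 32, 20, 11], [6, -76, -23, -52, -96, -21, 5, -16, 0, -2, -11, 8, -45, 26, 19, 0, 3, -5, -4, -5, 0, -3, -2, -4, 0, 0, 0, 0, 4]⟩)) (.node 1 (.leaf ⟨6, 6, true, [6, 4, 19, 38, 41, 38, 6], [38, 23, 16, 32, 4], [11, 107, 6, 73, 100, 34, -13, 10, -14, 9, -1, -7, 52, -22, -8, 0, 2, 8, 11, 6, 0, -1, 0, 5, -2, -2, 1, 0, -6]⟩) (.leaf ⟨6, 6, true, [0, 13, 16, 30, 39, 14], [43, 2, 40, 43, 39, 31, 8], [-12, -104, -5, -74, -99, -34, 13, -9, 14, -9, 1, 6, -52, 22, 7, 0, -2, -8, -11, -6, 0, 1, 0, -5, 2, 2, -1, 0, 6]⟩)))) (.node 4 (.node 2 (.node 1 (.leaf ⟨6, 6, true, [29, 12, 41, 35, 4], [34, 16, 30, 2, 22, 16], [46, 29, -27, 47, 6, 16, -8, 1, -8, 18, -20, 1, 27, 3, 2, 2, 6, 3, 8, 1, 0, -1, -2, 2, -1,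 1, -1, 0, -3, -1, 1]⟩) (.leaf ⟨5, 6, true, [37, 21, 6, 24, 30, 6], [37, 31, 0, 42, 37, 2], [30, 79, -34, 81, 30, 30, -15, 3, 9, 14, 2, -8, 37, -16, -7, 1, 2, 5, 6, 1, 1, -2, 2, 4, -1, 0, 1, 0, -3, 0, -1]⟩)) (.node 1 (.leaf ⟨5, 3, true, [22, 34, 11, 29, 38, 13], [10, 40, 29, 35, 36, 0], [18, 71, -2, 65, 118, 19, -1, 16, -9, 32, -21, -11, 47, -23, -34, -2, 0, 3, 7, 9, -3, 6, 1, 5, 1, 3, 0, 0, -3, -4]⟩) (.leaf ⟨3, 5, true, [33, 39, 8, 36, 22], [10, 40, 43, 6, 20, 29], [-10, -70, -5, -60, -138, -19, -1, -18, 8, -35, 22, 11, -45, 28, 36, 3, 0, -3, -8, -11, 4, -7, -1, -5, -1, -3, 0, 0, 3, 5]⟩))) (.node 2 (.node 1 (.leaf ⟨6, 6, true, [24, 35, 16, 23, 43, 2], [20, 2, 34, 40, 40, 20, 0], [-30, -141, -4, -98, -139, -45, 9, -16, -1, -21, -5, 15, -63, 36, 23, 0, -4, -8, -12, -8, 0, -1, 0, -8, 0,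 -1, 0, 0, 8]⟩) (.leaf ⟨6, 6, true, [22, 18, 40, 42, 11, 27], [23, 34, 8, 10, 6, 25], [29, 144, 5, 97, 140, 45, -9, 17, 1, 21, 5, -16, 63, -36, -24, 0, 4, 8, 12, 8, 0, 1, 0, 8, 0, 1, 0, 0, -8]⟩)) (.node 1 (.leaf ⟨6, 6, true, [23, 20, 29, 41, 20, 2], [32, 2, 14, 11, 22, 21, 2], [-2, -72, -10, -34, -70, -22, 11, -1, 5, -1, -5, 6, -16, 18, 16, 1, -1, -5, -7, -4, 0, 2, 0, -5, 0, -1, -1, 0, 3]⟩) (.leaf ⟨6, 5, true, [28, 37, 2, 43, 32, 0], [23, 8, 38, 40, 33, 28], [-42, -153, 12, -118, -130, -46, 13, -18, 0, -30, -4, 16, -70, 36, 24, 0, -4, -8, -12, -8, 0, -3, 0, -8, 0, -1, 0, 0, 8, 1]⟩))))) (.node 7 (.node 3 (.node 1 (.leaf ⟨5, 6, true, [37, 20, 6, 32, 0], [22, 37, 30, 28, 40], [53, 189, -18, 148, 162, 57, -17, 22, 1, 37, 3, -21, 87, -45, -30, 0, 5, 10, 15, 10, 0, 3, 0, 10, 0, 1, 0, 0, -10,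 -1]⟩) (.node 1 (.leaf ⟨6, 5, true, [18, 33, 33, 38, 21, 10], [32, 0, 26, 37, 10, 30, 24], [-36, -152, 3, -111, -134, -45, 12, -21, 0, -29, -6, 16, -72, 34, 23, 0, -4, -8, -12, -8, 0, -1, 0, -8, -1, -1, 0, 0, 8, 1]⟩) (.leaf ⟨5, 6, true, [24, 42, 20, 22, 11, 30], [32, 23, 35, 30, 18, 29], [39, 186, 8, 130, 173, 56, -13, 26, -2, 30, 8, -19, 89, -43, -29, 0, 5, 10, 15, 10, 0, 1, 0, 10, 1, 1, 0, 0, -10, -1]⟩))) (.node 2 (.node 1 (.leaf ⟨5, 5, true, [40, 39, 2, 30, 29], [38, 43, 37, 16, 40, 19], [2, -51, -45, 0, -64, 2, 6, -5, -12, 14, -3, 3, 6, 22, 13, 3, 2, -4, -4, -5, 2, -6, -2, -1, -1, 2, -2, 0, 3, 2, 1]⟩) (.leaf ⟨5, 5, true, [11, 34, 24, 0, 33, 24], [12, 10, 25, 32, 43, 12], [-1, 21, 32, -17, 21, -13, -5, 2, 14, -15, 1, -2, -23, -13, -9, -3, -3, 2, 1, 3, -2, 6, 2, -1, 1, -2, 2, 0, -1,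 -2, -1]⟩)) (.node 1 (.leaf ⟨6, 5, true, [22, 0, 27, 39, 26, 13, 4], [42, 2, 32, 30, 38, 21], [-13, -13, 1, -19, -4, 2, -4, 7, 3, -1, -5, 0, -2, 0, 5, 1, 0, 0, 1, 0, 0, -1, 0, 0, 0, 0, -2, 0, 0, -1]⟩) (.leaf ⟨5, 6, true, [4, 14, 39, 24, 31, 11], [12, 0, 27, 38, 26, 23, 0], [11, -18, -8, -2, -36, -13, 6, -10, -2, -2, 4, 2, -15, 9, -1, -1, -1, -2, -4, -2, 0, 1, 0, -2, 0, 0, 2, 0, 2, 1]⟩)))) (.node 4 (.node 2 (.node 1 (.leaf ⟨4, 6, true, [16, 29, 12, 36, 27], [25, 36, 30, 42, 30, 18], [8, 40, 26, 35, 104, 14, -4, 15, 0, 7, 8, -16, 32, -22, -19, 1, 0, 3, 3, 3, 0, 3, 1, 5, 2, 1, -2, 0, -4, 0, 1]⟩) (.leaf ⟨6, 4, true, [35, 2, 21, 22, 38, 20, 28], [0, 26, 37, 31, 12, 21], [-9, -37, -25, -36, -103, -14, 4, -14, 0, -7, -8, 15, -32, 22, 18, -1, 0, -3, -3, -3, 0, -3, -1, -5, -2, -1, 2, 0, 4, 0, -1]⟩))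 (.node 1 (.leaf ⟨6, 6, true, [33, 0, 29, 39, 41, 39, 12], [43, 0, 20, 33, 35, 27, 20], [12, -1, -7, 13, 4, -9, -1, -3, 1, -2, 6, -1, -11, -2, -1, -1, 0, 0, -2, 0, 0, -1, 0, 0, 0, 0, 2, 0, -1, 1, 1]⟩) (.leaf ⟨6, 6, true, [26, 41, 14, 19, 28, 13], [42, 12, 28, 38, 19, 38], [-13, 3, 8, -14, -3, 9, 1, 4, -1, 2, -6, 0, 13, 2, 0, 1, 0, 0, 2, 0, 0, 1, 0, 0, 0, 0, -2, 0, 1, -1, -1]⟩))) (.node 2 (.node 1 (.leaf ⟨6, 6, true, [42, 33, 37, 20, 13], [38, 4, 35, 16, 33, 38, 6], [10, 65, 10, 36, 77, 21, -7, 3, 0, 2, 5, -7, 22, -19, -18, 0, 2, 4, 7, 4, 0, 1, 0, 4, 0, 2, 0, 0, -3, -1]⟩) (.leaf ⟨6, 6, true, [18, 31, 2, 19, 20, 37], [42, 4, 14, 29, 36, 20, 26], [21, -54, -38, -27, -87, 3, 1, -18, -1, 2, -6, 12, -39, 29, 10, 3, 6, -4, 1, -3, 1, -5, -3, -2, -1, 2, 0, 0, 3, -1, 1]⟩)) (.node 1 (.leaf ⟨6, 6,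 true, [21, 40, 30, 24, 37, 32], [43, 8, 16, 27, 36, 32], [-20, 56, 38, 27, 87, -3, -1, 18, 1, -2, 6, -12, 37, -29, -11, -3, -6, 4, -1, 3, -1, 5, 3, 2, 1, -2, 0, 0, -3, 1, -1]⟩) (.leaf ⟨6, 6, true, [10, 36, 36, 43, 19, 13], [43, 41, 18, 28, 24, 16], [-31, -22, 17, -28, -11, -14, 7, -3, 8, -10, 14, -1, -21, 0, -2, -1, -6, -2, -7, -1, 0, 0, 2, -2, 1, 1, 0, 0, 2]⟩)))))) (.node 15 (.node 7 (.node 3 (.node 1 (.leaf ⟨6, 6, true, [30, 10, 39, 43, 18, 6], [10, 16, 22, 14, 39, 12], [30, 26, -16, 27, 12, 14, -7, 4, -8, 10, -14, 0, 19, 0, 1, 1, 6, 2, 7, 1, 0, 0, -2, 2, -1, -1, 0, 0, -2]⟩) (.node 1 (.leaf ⟨5, 6, true, [40, 0, 37, 35, 33, 29, 24], [0, 43, 32, 29, 39, 29], [-3, 33, 18, 20, 70, 1, -2, 7, -5, 16, -16, 1, 15, -20, -10, -4, 1, 3, 4, 5, -2, 3, 0, 2, 0, -1, 0, 0, -3, 0, 1]⟩) (.leaf ⟨6, 5,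 true, [2, 6, 39, 20, 18, 14], [38, 0, 35, 16, 39, 12, 24], [4, -31, -18, -20, -70, -1, 2, -7, 5, -16, 16, -1, -17, 20, 9, 4, -1, -3, -4, -5, 2, -3, 0, -2, 0, 1, 0, 0, 3, 0, -1]⟩))) (.node 2 (.node 1 (.leaf ⟨6, 6, true, [21, 4, 19, 40, 19, 34], [0, 37, 23, 30, 19, 6], [-6, 87, 24, 52, 93, 20, -2, 11, -1, 4, 12, -9, 37, -24, -20, 0, -3, 5, 4, 5, 0, 3, 2, 4, 0, 0, 0, 0, -4, 1, -1]⟩) (.leaf ⟨6, 6, true, [6, 31, 20, 18, 36, 0], [10, 18, 32, 43, 33, 29, 19], [5, -84, -23, -53, -92, -20, 2, -10, 1, -4, -12, 8, -37, 24, 19, 0, 3, -5, -4, -5, 0, -3, -2, -4, 0, 0, 0, 0, 4, -1, 1]⟩)) (.node 1 (.leaf ⟨6, 6, true, [21, 30, 22, 2, 21, 18], [37, 0, 35, 26, 38, 27, 14], [-1, 2, 18, -12, 15, 1, 11, 3, 1, 1, 5, -4, -2, -1, -4, 1, 0, 1, 0, 0, 0, 2, 1, 0, 0, 1, -2, 0, 0, 1]⟩) (.leaf ⟨6, 6, true, [23, 0,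 25, 39, 22, 6, 18], [35, 0, 6, 31, 34, 23, 14], [0, 2, -17, 11, -14, -1, -11, -2, -1, -1, -5, 3, 0, 1, 3, -1, 0, -1, 0, 0, 0, -2, -1, 0, 0, -1, 2, 0, 0, -1]⟩)))) (.node 4 (.node 2 (.node 1 (.leaf ⟨6, 6, true, [29, 10, 23, 34, 20, 14, 6], [34, 0, 37, 31, 2, 23, 26], [20, 46, -8, 23, -7, 27, -7, -3, -3, -5, 23, 1, 1, -3, 0, 3, 4, 3, 6, -3, 3, -4, -1, 2, 0, 1, 0, 0, -2, 1]⟩) (.leaf ⟨6, 6, true, [22, 36, 29, 34, 27, 8], [40, 0, 33, 41, 25, 10, 23], [-21, -43, 9, -24, 8, -27, 7, 4, 3, 5, -23, -2, -1, 3, -1, -3, -4, -3, -6, 3, -3, 4, 1, -2, 0, -1, 0, 0, 2, -1]⟩)) (.node 1 (.leaf ⟨6, 6, true, [20, 20, 42, 33, 34], [18, 8, 38, 40, 36, 39, 18], [0, -24, -23, -11, -70, 1, -2, 0, -4, -4, 2, 3, -1, 22, 7, 4, 0, -2, -2, -6, 2, 1, 0, -2, 0, 1, -1, 0, 2, -1]⟩) (.leaf ⟨6, 6, true, [22, 0, 38, 32, 37,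 40, 10], [18, 35, 41, 21, 26, 18], [1, 26, 23, 11, 70, -1, 2, 0, 4, 4, -2, -3, -1, -22, -8, -4, 0, 2, 2, 6, -2, -1, 0, 2, 0, -1, 1, 0, -2, 1]⟩))) (.node 2 (.node 1 (.leaf ⟨6, 6, true, [38, 12, 26, 43, 18, 21], [34, 36, 6, 21, 8, 24], [-5, -4, 4, -6, 10, 2, 2, 1, -2, 0, 0, -5, 7, 2, 2, 1, 0, 0, -1, 0, 0, 1, 0, 0, -1]⟩) (.leaf ⟨6, 5, true, [16, 43, 13, 22, 41, 25], [26, 25, 35, 41, 23, 11], [-41, -232, -48, -130, -231, -54, 19, -27, -14, -14, -8, 18, -76, 65, 42, 3, -3, -14, -20, -15, 2, -6, -2, -11, -1, 1, -2, 0, 13, 2, 1]⟩)) (.node 1 (.leaf ⟨5, 6, true, [38, 25, 29, 27], [14, 40, 32, 2, 21, 21], [42, 202, 35, 113, 188, 43, -18, 24, 16, 13, 6, -17, 59, -56, -38, -3, 2, 12, 17, 13, -2, 6, 2, 9, 1, -1, 2, 0, -11, -2, -1]⟩) (.leaf ⟨6, 6, true, [8, 24, 37, 30, 13, 25], [6, 27, 21, 42, 42],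 [-6, 21, 25, 5, 75, -1, 1, -1, 2, 4, -1, -6, 3, -23, -8, -4, 0, 2, 2, 6, -2, -1, 0, 2, 0, -1, 1, 0, -2, 1]⟩))))) (.node 8 (.node 4 (.node 2 (.node 1 (.leaf ⟨6, 6, true, [21, 16, 35, 41, 31, 32], [22, 31, 36, 23, 12, 4], [5, -18, -24, -6, -74, 1, -1, 2, -2, -4, 1, 5, -3, 23, 7, 4, 0, -2, -2, -6, 2, 1, 0, -2, 0, 1, -1, 0, 2, -1]⟩) (.leaf ⟨6, 5, true, [14, 23, 34, 36, 21, 6], [8, 34, 29, 38, 14, 6], [-27, 9, 50, -26, 49, -17, 6, 12, 2, -9, -12, -5, -7, -7, -31, -3, -5, -2, -2, 3, -2, 10, 2, 1, 0, 1, 1, 0, 1, 0, -1]⟩)) (.node 1 (.leaf ⟨5, 6, true, [2, 14, 38, 36, 20, 4], [38, 27, 6, 37, 31, 25], [34, -6, -62, 34, -55, 17, -8, -12, 0, 13, 10, 3, 7, 7, 30, 3, 5, 2, 2, -3, 2, -10, -2, -1, 0, -1, -1, 0, -1, 0, 1]⟩) (.leaf ⟨6, 6, true, [2, 43, 13, 27, 40, 6], [39, 36, 30, 34, 20, 30], [-7, -28,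 -20, -17, -65, 1, -2, 0, -4, -4, 1, 2, 4, 20, 7, 4, 0, -2, -2, -6, 2, 1, 0, -2, 0, 1, -1, 0, 2, -1]⟩))) (.node 2 (.node 1 (.leaf ⟨6, 6, true, [4, 20, 12, 40, 42, 16], [2, 13, 38, 35, 41, 26], [5, -23, -39, -7, -101, 2, -4, -6, -8, -8, 10, -1, -1, 32, 14, 6, 0, -2, -2, -10, 4, 1, -1, -3, 0, 1, -1, 0, 2, -1]⟩) (.leaf ⟨6, 6, true, [29, 16, 37, 31, 14, 13], [29, 23, 8, 40, 16, 34], [-4, 25, 39, 7, 101, -2, 4, 6, 8, 8, -10, 1, -1, -32, -15, -6, 0, 2, 2, 10, -4, -1, 1, 3, 0, -1, 1, 0, -2, 1]⟩)) (.node 1 (.leaf ⟨6, 6, true, [39, 14, 43, 26, 43, 2], [23, 41, 37, 30, 22, 34], [-10, -31, -17, -22, -56, 3, -2, 3, -9, -5, 2, -4, 8, 23, 10, 5, 0, -2, -3, -6, 2, 3, -1, -2, -1, 1, -1, 0, 2, -1]⟩) (.leaf ⟨6, 6, true, [13, 22, 12, 37, 29, 14], [4, 6, 42, 42, 24, 24], [2, 5, -5, 4, -17, 8, -1, -4, -1,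 -5, 5, -5, -4, 6, 6, 4, 0, 0, 1, -2, 1, -2, 0, -1, -1]⟩)))) (.node 4 (.node 2 (.node 1 (.leaf ⟨6, 6, true, [16, 22, 42, 37, 38, 0], [37, 2, 38, 31, 37, 32, 13], [-1, -3, 5, -4, 17, -8, 1, 4, 1, 5, -5, 5, 2, -6, -7, -4, 0, 0, -1, 2, -1, 2, 0, 1, 1]⟩) (.leaf ⟨6, 6, true, [12, 38, 35, 11, 25, 8], [21, 21, 28, 42, 39, 23], [-14, -29, -12, -23, -46, 2, -1, 4, -4, -1, -3, -1, 7, 18, 8, 4, 0, -2, -2, -4, 1, 2, 0, -2, -2, 1, -1, 0, 2, -1]⟩)) (.node 1 (.leaf ⟨6, 5, true, [0, 29, 37, 27, 19, 31], [39, 29, 23, 41, 23, 37], [-38, -146, 7, -110, -129, -46, 12, -15, -6, -23, -4, 13, -62, 38, 24, 0, -4, -8, -12, -8, 0, 1, -1, -8, 0, -2, 0, 0, 8]⟩) (.leaf ⟨5, 6, true, [10, 34, 29, 13, 8], [27, 40, 29, 34, 18, 14], [38, 179, 10, 125, 171, 57, -12, 20, 3, 22, 7, -15, 79, -47, -30, 0, 5, 10, 15, 10, 0,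 -1, 1, 10, 0, 2, 0, 0, -10]⟩))) (.node 2 (.node 1 (.leaf ⟨5, 6, true, [4, 38, 41, 29, 20, 19], [16, 40, 8, 34, 0], [19, -40, -79, 6, -113, 18, -11, -12, -8, 8, 9, 3, 5, 23, 38, 7, 5, 0, 0, -9, 4, -8, -2, -3, 0, -1, -2, 0, 1, -1, 1]⟩) (.leaf ⟨3, 5, true, [0, 30, 2, 32, 11, 0], [6, 38, 19, 24, 43, 29], [-34, -180, -15, -122, -187, -56, 11, -22, -5, -33, -5, 16, -68, 50, 33, 1, -4, -10, -15, -12, 1, 0, -1, -11, 0, -1, 0, 0, 10]⟩)) (.node 1 (.leaf ⟨5, 3, true, [41, 21, 31, 11, 6, 21], [35, 2, 30, 6, 32], [30, 116, -3, 82, 108, 34, -8, 14, 8, 29, 2, -11, 34, -32, -24, -1, 2, 6, 9, 8, -1, 0, 1, 7, 0, 1, 0, 0, -6]⟩) (.leaf ⟨6, 5, true, [12, 37, 11, 20, 35, 18], [8, 2, 37, 31, 37, 35, 22], [-12, -6, 6, -11, 22, -9, 3, 5, 0, 3, -5, 2, 2, -7, -5, -4, 0, 0, -1, 2, -1, 2, 0, 1, 1, 0, 0, 0, 0, -1]⟩)))))))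
noncomputable def dF607 : BT Fct := (.node 30 (.node 15 (.node 7 (.node 3 (.node 1 (.leaf ⟨5, 6, true, [10, 12, 35, 19, 23], [30, 8, 22, 35, 11, 25, 18], [10, 6, 0, 7, -19, 9, -2, -5, -1, -5, 6, -1, -2, 7, 4, 4, 0, 0, 1, -2, 1, -2, 0, -1, -1, 0, 0, 0, 0, 1]⟩) (.node 1 (.leaf ⟨6, 5, true, [35, 39, 30, 35, 36, 14], [13, 32, 41, 31, 39, 22], [-1, -12, -7, -7, 9, 2, 0, -3, 0, 0, -4, -6, 9, 0, 3, 1, 0, 0, -2, 0, 0, 3, 0, 0, -1, 0, 0, 0, 0, -1]⟩) (.leaf ⟨5, 6, true, [2, 43, 39, 39, 24, 11], [2, 24, 36, 26, 28, 23], [6, 15, 0, 12, -14, -2, -1, 4, 1, 2, 3, 4, -9, 0, -4, -1, 0, 0, 2, 0, 0, -3, 0, 0, 1, 0, 0, 0, 0, 1]⟩))) (.node 2 (.node 1 (.leaf ⟨6, 6, true, [8, 28, 36, 19, 14, 18], [12, 6, 20, 36, 23, 42, 10], [-4, 16, 38, 3, 104, -1, 2, 7, 4, 12, -10, -2, 7, -30, -18, -6, 0, 2, 3, 10, -4, 1,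 1, 3, 0, -1, 1, 0, -2]⟩) (.leaf ⟨6, 6, true, [33, 2, 25, 18, 34, 40, 27], [2, 36, 36, 32, 40, 2], [5, -16, -38, -3, -104, 1, -2, -7, -4, -12, 10, 2, -5, 30, 17, 6, 0, -2, -3, -10, 4, -1, -1, -3, 0, 1, -1, 0, 2]⟩)) (.node 1 (.leaf ⟨5, 6, true, [40, 19, 25, 6, 21], [40, 13, 38, 20, 24, 23], [28, 20, -52, 48, -1, 14, -9, 1, -14, 18, -10, -8, 12, 3, 2, 1, 2, 1, 3, 0, 1, -3, -1, 1, 1, 1, -1, 0, -2, -1, 1]⟩) (.leaf ⟨6, 6, true, [16, 24, 2, 20, 10, 2], [6, 20, 20, 42, 32, 19], [3, 6, -4, 0, -15, -3, -6, -4, -2, -5, 1, 6, -11, -2, -2, -2, 1, 0, 1, 0, 0, -1, 0, 0, 1, 0, 1, 0, 0, -1]⟩)))) (.node 4 (.node 2 (.node 1 (.leaf ⟨6, 6, true, [35, 21, 34, 36, 26, 8], [37, 26, 35, 4, 27, 6], [-2, -6, 4, 0, 15, 3, 6, 4, 2, 5, -1, -6, 13, 2, 1, 2, -1, 0, -1, 0, 0, 1, 0, 0, -1, 0, -1, 0, 0, 1]⟩) (.leaf ⟨3,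 6, true, [30, 37, 24, 29, 14], [36, 25, 13, 2, 20, 31], [10, -73, -60, -27, -166, -13, -3, -11, -6, -14, -1, 8, -14, 45, 21, 6, 0, -5, -7, -13, 4, -1, 0, -6, 0, 2, -1, 0, 5]⟩)) (.node 1 (.leaf ⟨6, 3, true, [43, 11, 40, 40, 22, 37], [19, 14, 27, 36, 31], [-9, 75, 60, 27, 166, 13, 3, 11, 6, 14, 1, -8, 12, -45, -22, -6, 0, 5, 7, 13, -4, 1, 0, 6, 0, -2, 1, 0, -5]⟩) (.leaf ⟨6, 5, true, [21, 35, 38, 33, 22, 2], [39, 31, 41, 11, 31, 16], [-25, -28, 51, -52, 6, -14, 14, -4, 12, -18, 12, 7, -9, -4, -4, -1, -2, -1, -4, 0, -1, 5, 1, 0, -1, -1, 1, 0, 2, 0, -1]⟩))) (.node 2 (.node 1 (.leaf ⟨5, 6, true, [12, 34, 8, 42, 28, 14], [38, 40, 38, 28, 20, 12], [17, -5, -46, 23, -40, 3, -10, 1, -13, 11, -11, -3, -8, 13, 8, 1, 1, -1, 1, -2, 1, -5, -1, -2, 1, 1, -1, 0, 0, 0, 1]⟩) (.leaf ⟨6, 6, true, [2, 4, 23,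 24, 38, 18, 12], [39, 10, 43, 22, 40, 12], [-10, -2, 6, -11, 6, 2, -2, 0, -9, -5, -1, -5, 5, 1, 3, 0, 1, 0, -1, 0, 0, 1, 0, 0, -1, 0, 1, 0, 0, -1]⟩)) (.node 1 (.leaf ⟨6, 6, true, [39, 23, 32, 25, 0], [40, 4, 37, 30, 25, 35, 23], [11, 2, -6, 11, -6, -2, 2, 0, 9, 5, 1, 5, -3, -1, -4, 0, -1, 0, 1, 0, 0, -1, 0, 0, 1, 0, -1, 0, 0, 1]⟩) (.leaf ⟨6, 6, true, [21, 11, 8, 43, 21, 18], [2, 36, 19, 26, 32, 6], [2, -10, -2, -1, 6, -2, 6, -1, 0, 5, 5, -2, -3, -4, -4, 0, -1, -1, 0, 0, 0, 2, 0, 1, 0, 0, -1, 0, 0, -1]⟩))))) (.node 7 (.node 3 (.node 1 (.leaf ⟨6, 6, true, [10, 33, 10, 39, 34, 36], [19, 4, 20, 35, 26, 24, 0], [-3, 12, 3, 0, -5, 2, -6, 2, 0, -5, -5, 1, 5, 4, 3, 0, 1, 1, 0, 0, 0, -2, 0, -1, 0, 0, 1, 0, 0, 1]⟩) (.node 1 (.leaf ⟨6, 6, true, [20, 32, 34, 23, 25, 19], [40, 42, 29, 43, 38], [-25,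 -22, 45, -45, 7, -26, 10, 7, 8, -16, -10, 1, -18, 7, -26, -2, -6, -4, -5, 1, -2, 10, 2, -1, 0, 1, 1, 0, 3, 0, -1]⟩) (.leaf ⟨6, 6, true, [35, 30, 39, 14, 28, 14], [19, 33, 33, 40, 6, 26], [24, 24, -44, 44, -6, 26, -10, -6, -8, 16, 10, -2, 20, -7, 25, 2, 6, 4, 5, -1, 2, -10, -2, 1, 0, -1, -1, 0, -3, 0, 1]⟩))) (.node 2 (.node 1 (.leaf ⟨6, 6, true, [43, 12, 27, 36, 18, 41, 26], [28, 0, 26, 38, 36, 39, 22], [-20, 11, 13, -8, 23, -2, -4, 3, 2, 1, -11, 3, -2, -11, 0, -3, -1, 2, 1, 4, -2, -1, 0, 0, -1, -1, 1]⟩) (.leaf ⟨6, 6, true, [11, 40, 28, 34, 6, 21], [39, 2, 42, 30, 26, 38, 18], [19, -7, -12, 7, -22, 2, 4, -2, -2, -1, 11, -4, 0, 11, -1, 3, 1, -2, -1, -4, 2, 1, 0, 0, 1, 1, -1]⟩)) (.node 1 (.leaf ⟨6, 6, true, [8, 41, 39, 39, 24, 6], [26, 36, 24, 37, 43, 21], [0, 15, -9, 10, -23, -1, -10, -2,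 1, -3, -2, 8, -13, -1, 4, -2, -1, 2, 2, 0, 0, -3, 0, -1, 0, -1, 1]⟩) (.leaf ⟨5, 6, true, [2, 20, 39, 41, 22, 27], [0, 40, 43, 30, 16, 20], [23, 27, -51, 50, -6, 12, -9, 3, -10, 13, -10, -5, 8, 3, 6, 1, 1, 1, 2, 0, 1, -5, -1, 1, 1, 1, -1, 0, -2, -1, 1]⟩)))) (.node 4 (.node 2 (.node 1 (.leaf ⟨6, 5, true, [6, 27, 41, 36, 6, 2], [18, 26, 37, 8, 28, 8], [-24, -23, 52, -51, 7, -12, 9, -2, 10, -13, 10, 4, -10, -3, -7, -1, -1, -1, -2, 0, -1, 5, 1, -1, -1, -1, 1, 0, 2, 1, -1]⟩) (.leaf ⟨6, 6, true, [36, 6, 21, 27, 10], [10, 19, 27, 38, 23, 31], [1, 6, -5, 7, -11, 5, 2, -3, 3, 0, 5, -8, -6, 6, 6, 5, -2, 0, 1, -2, 1, -2, 0, -1, -1, 0, -1]⟩)) (.node 1 (.leaf ⟨6, 6, true, [26, 4, 19, 41, 35, 27, 19], [6, 28, 32, 36, 11, 13], [0, -4, 5, -7, 11, -5, -2, 3, -3, 0, -5, 8, 4, -6, -7, -5, 2, 0, -1, 2, -1,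 2, 0, 1, 1, 0, 1]⟩) (.leaf ⟨6, 6, true, [29, 0, 14, 35, 22, 10, 28], [12, 40, 42, 28, 22], [9, 38, 10, 27, 42, -2, -1, 0, 7, 3, 3, 0, -14, -18, -7, -4, -1, 2, 3, 4, -1, -4, 0, 1, 2, -1, 1, 0, -2, 1]⟩))) (.node 2 (.node 1 (.leaf ⟨6, 5, true, [8, 27, 33, 36, 30, 8], [31, 28, 13, 42, 11], [-27, -15, 49, -44, -2, -15, 8, 0, 15, -18, 10, 8, -14, -2, 0, -1, -2, -1, -3, 0, -1, 1, 1, -1, -1, -1, 1, 0, 2, 1, -1]⟩) (.leaf ⟨6, 5, true, [20, 43, 37, 42, 22, 13], [23, 36, 38, 18, 12], [-38, -142, 6, -107, -131, -47, 12, -14, -4, -23, -5, 12, -62, 38, 27, 0, -4, -8, -12, -8, 0, -1, -1, -8, 0, -2, 0, 0, 8]⟩)) (.node 1 (.leaf ⟨5, 6, true, [2, 22, 18, 6, 29, 10], [21, 34, 39, 36, 43, 4], [40, 175, 6, 125, 172, 58, -13, 18, 2, 24, 7, -14, 79, -47, -33, 0, 5, 10, 15, 10, 0, 1, 1, 10, 0, 2, 0, 0, -10]⟩)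 (.leaf ⟨6, 6, true, [2, 42, 30, 27, 6, 24], [28, 23, 35, 23, 39, 0], [-4, 29, 38, 10, 98, -3, 5, 7, 10, 8, -10, 2, -2, -31, -12, -6, 0, 2, 2, 10, -4, -3, 1, 3, 0, -1, 1, 0, -2, 1]⟩)))))) (.node 15 (.node 7 (.node 3 (.node 1 (.leaf ⟨6, 6, true, [26, 40, 6, 38, 43, 6], [19, 2, 31, 27, 41, 33, 4], [-14, 118, 50, 64, 157, 16, -12, 24, 5, 0, 12, -10, 59, -46, -22, -3, -4, 8, 7, 7, -1, 3, 3, 5, 1, 0, 0, 0, -7, 0, -1]⟩) (.node 1 (.leaf ⟨6, 6, true, [43, 4, 8, 38, 23, 40], [35, 31, 41, 16, 8, 11], [15, -118, -50, -64, -157, -16, 12, -24, -5, 0, -12, 10, -57, 46, 21, 3, 4, -8, -7, -7, 1, -3, -3, -5, -1, 0, 0, 0, 7, 0, 1]⟩) (.leaf ⟨6, 6, true, [34, 23, 35, 39, 19, 36], [36, 18, 22, 11, 32], [-2, -17, -24, -8, -74, 1, -5, 1, -2, -2, 1, 3, -3, 23, 12, 4, 0, -1, -2, -6, 2, 0, 0, -2, 0, 1, -1, 0, 2,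 -2]⟩))) (.node 2 (.node 1 (.leaf ⟨6, 6, true, [21, 16, 36, 13], [23, 42, 35, 18, 41, 21], [1, 21, 25, 7, 75, -1, 5, 0, 2, 2, -1, -4, 1, -23, -13, -4, 0, 1, 2, 6, -2, 0, 0, 2, 0, -1, 1, 0, -2, 2]⟩) (.leaf ⟨5, 6, true, [12, 40, 35, 30, 18, 14], [4, 39, 23, 8, 6, 21], [44, 249, 28, 163, 253, 79, -13, 27, 1, 30, 10, -20, 115, -60, -37, 0, 7, 14, 20, 14, 0, 1, 0, 14, 0, 1, 0, 0, -14]⟩)) (.node 1 (.leaf ⟨6, 5, true, [42, 34, 23, 8, 40, 6], [12, 27, 24, 34, 41, 13], [-45, -247, -27, -164, -252, -79, 13, -26, -1, -30, -10, 19, -113, 60, 36, 0, -7, -14, -20, -14, 0, -1, 0, -14, 0, -1, 0, 0, 14]⟩) (.leaf ⟨6, 6, true, [8, 0, 42, 41, 38, 36, 4], [33, 35, 36, 14, 21, 22], [-43, 99, 106, 13, 159, 3, -1, 21, 16, -19, 26, 0, 43, -47, -26, -5, -6, 7, 4, 7, -2, 7, 4, 4, 0, -1, 1, 0, -5, 1, -2]⟩)))) (.node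 4 (.node 2 (.node 1 (.leaf ⟨6, 6, true, [28, 24, 13, 37, 34, 32], [34, 22, 21, 25, 34, 6], [44, -99, -106, -13, -159, -3, 1, -21, -16, 19, -26, 0, -41, 47, 25, 5, 6, -7, -4, -7, 2, -7, -4, -4, 0, 1, -1, 0, 5, -1, 2]⟩) (.leaf ⟨6, 6, true, [38, 6, 33, 23, 41, 21, 23], [0, 39, 31, 39, 26, 23], [-48, -152, 19, -127, -127, -45, 14, -21, 0, -32, -4, 16, -77, 37, 23, 0, -5, -8, -12, -8, 0, -3, 0, -8, 0, -1, 0, 0, 8, 1]⟩)) (.node 1 (.leaf ⟨6, 6, true, [38, 28, 38, 13, 21, 25], [26, 29, 38, 0, 42, 14], [49, 154, -19, 127, 127, 45, -14, 21, 0, 32, 4, -16, 75, -37, -24, 0, 5, 8, 12, 8, 0, 3, 0, 8, 0, 1, 0, 0, -8, -1]⟩) (.leaf ⟨6, 5, true, [24, 40, 38, 38, 43, 16], [4, 40, 42, 16, 18, 18], [2, 68, 26, 43, 119, 14, -8, 3, 7, 1, 19, -14, 32, -28, -20, -3, -3, 4, 2, 5, -1, 3, 2, 4, -1, -1, 2, 0, -3,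 1]⟩))) (.node 2 (.node 1 (.leaf ⟨5, 6, true, [8, 38, 0, 37, 19, 31], [18, 30, 43, 4, 28, 18], [7, -32, -27, -16, -86, -3, 5, 2, -7, 4, -19, 9, -15, 19, 14, 3, 4, -2, 1, -3, 1, -3, -2, -2, 1, 1, -2, 0, 1, -1]⟩) (.leaf ⟨3, 6, true, [39, 2, 16, 24, 2, 21, 21], [6, 27, 18, 42, 2, 29], [-37, -175, -5, -124, -223, -48, 13, -26, -6, -56, 8, 21, -53, 59, 39, 4, -4, -9, -18, -18, 4, 0, 0, -11, 0, -1, 0, 0, 10, 3, -1]⟩)) (.node 1 (.leaf ⟨6, 3, true, [19, 31, 37, 28, 18, 37], [24, 41, 25, 21, 43, 27], [38, 177, 5, 124, 223, 48, -13, 26, 6, 56, -8, -21, 51, -59, -40, -4, 4, 9, 18, 18, -4, 0, 0, 11, 0, 1, 0, 0, -10, -3, 1]⟩) (.leaf ⟨6, 6, true, [0, 37, 42, 30, 43, 23], [26, 40, 38, 29, 20, 10], [-36, 8, 68, -39, 57, -16, 9, 12, -3, -13, -10, 0, -8, -5, -31, -3, -5, -2, -2, 3, -2, 10, 2, 1, 0, 1, 1,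 0, 1, 0, -1]⟩))))) (.node 8 (.node 4 (.node 2 (.node 1 (.leaf ⟨6, 6, true, [37, 12, 25, 37, 28, 28, 26], [27, 29, 29, 38, 26, 24], [-26, -23, 71, -41, 57, -29, 22, 13, 24, -21, -6, -1, 4, -9, -34, -2, -6, -3, -4, 3, -3, 18, 3, -2, 1, 0, 0, 0, 2, 0, -2]⟩) (.leaf ⟨6, 6, true, [32, 29, 19, 35, 18, 2], [2, 18, 34, 31, 34, 19], [25, 25, -70, 40, -56, 29, -22, -12, -24, 21, 6, 0, -2, 9, 33, 2, 6, 3, 4, -3, 3, -18, -3, 2, -1, 0, 0, 0, -2, 0, 2]⟩)) (.node 1 (.leaf ⟨6, 6, true, [38, 27, 27, 2, 18, 20], [36, 23, 32, 35, 4, 26], [-17, 31, 60, -25, 72, -13, -2, 14, 4, -12, -11, -7, -8, -16, -34, -4, -5, 0, -1, 6, -3, 12, 3, 2, 0, 1, 2, 0, -1, -2, -1]⟩) (.leaf ⟨6, 6, true, [39, 12, 27, 43, 22, 16], [39, 21, 39, 24, 40, 28], [16, -27, -59, 24, -71, 13, 2, -13, -4, 12, 11, 6, 6, 16, 33, 4, 5, 0, 1,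 -6, 3, -12, -3, -2, 0, -1, -2, 0, 1, 2, 1]⟩))) (.node 2 (.node 1 (.leaf ⟨5, 6, true, [10, 39, 30, 10, 23, 19], [13, 33, 11, 20, 39, 13], [1, 176, 62, 108, 298, 33, -9, 33, -1, 31, 2, -14, 77, -78, -47, -7, -2, 10, 16, 19, -5, 7, 2, 10, 1, 1, 0, 0, -11, -4, -1]⟩) (.leaf ⟨6, 5, true, [4, 42, 36, 10, 28, 28], [31, 27, 27, 10, 38], [-2, -174, -61, -109, -297, -33, 9, -32, 1, -31, -2, 13, -75, 78, 46, 7, 2, -10, -16, -19, 5, -7, -2, -10, -1, -1, 0, 0, 11, 4, 1]⟩)) (.node 1 (.leaf ⟨6, 6, true, [12, 23, 34, 33, 43, 18], [12, 35, 22, 43, 36, 18], [-9, 57, 21, 36, 79, 13, -1, 3, -14, 7, 4, -7, 27, -18, -8, -2, -1, 4, 3, 3, 0, 0, 1, 3, 0, -2, 1, 0, -3, 0, 1]⟩) (.leaf ⟨6, 6, true, [43, 23, 37, 20, 28, 0], [2, 8, 24, 12, 42, 24], [8, -54, -20, -37, -78, -13, 1, -2, 14, -7, -4, 6, -27, 18, 7, 2, 1,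 -4, -3, -3, 0, 0, -1, -3, 0, 2, -1, 0, 3, 0, -1]⟩)))) (.node 4 (.node 2 (.node 1 (.leaf ⟨6, 6, true, [38, 8, 34, 30, 39, 19], [26, 25, 42, 41, 12, 16], [-6, 63, 42, 33, 137, 10, -10, 8, 0, 0, 17, -4, 40, -30, -24, -8, 0, 4, 2, 7, -2, 4, 2, 5, 0, -1, 2, 0, -3, 1]⟩) (.leaf ⟨6, 6, true, [39, 42, 33, 6, 43, 11], [23, 0, 38, 42, 27, 39, 18], [5, -60, -41, -34, -136, -10, 10, -7, 0, 0, -17, 3, -40, 30, 23, 8, 0, -4, -2, -7, 2, -4, -2, -5, 0, 1, -2, 0, 3, -1]⟩)) (.node 1 (.leaf ⟨6, 6, true, [11, 34, 16, 42, 42, 19], [2, 22, 12, 41, 2, 28], [-36, 10, 62, -23, 47, -2, 7, 5, 0, -25, 16, 5, 26, -7, 5, 0, -2, 3, -2, 0, 0, 2, 2, 0, 0, -1, 0, 0, 0, 0, -2]⟩) (.leaf ⟨6, 6, true, [33, 27, 10, 35, 16], [40, 27, 34, 24, 21, 21], [37, -8, -62, 23, -47, 2, -7, -5, 0, 25, -16, -5, -28, 7, -6, 0, 2, -3, 2,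 0, 0, -2, -2, 0, 0, 1, 0, 0, 0, 0, 2]⟩))) (.node 2 (.node 1 (.leaf ⟨5, 6, true, [29, 36, 39, 40, 43, 21], [41, 13, 22, 13, 0], [-10, -34, 27, -44, -25, -11, 7, -6, -4, -16, 6, 11, -23, 9, 5, 0, 1, -2, -3, -2, 0, 1, 0, -2, 0, 1, -1, 0, 2]⟩) (.leaf ⟨6, 6, true, [20, 6, 28, 25, 41, 28], [0, 37, 2, 20, 6, 29], [-32, -23, 58, -57, 5, -13, 10, -4, 10, -19, 11, 10, -14, -1, -4, -1, -2, -1, -3, 0, -1, 5, 1, -1, -1, -1, 1, 0, 2, 0, -1]⟩)) (.node 1 (.leaf ⟨6, 6, true, [20, 16, 24, 26, 37, 43], [6, 16, 10, 43, 26, 24], [33, 23, -58, 57, -5, 13, -10, 4, -10, 19, -11, -10, 16, 1, 3, 1, 2, 1, 3, 0, 1, -5, -1, 1, 1, 1, -1, 0, -2, 0, 1]⟩) (.leaf ⟨5, 6, true, [24, 35, 28, 19, 39, 30], [31, 12, 35, 19, 37, 43, 14], [22, -13, -65, 31, -91, 14, -3, -17, -6, 10, 11, 8, 4, 16, 34, 3, 5, 1, 2, -6, 3, -13, -3,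 -2, 0, -2, -1, 0, 2, 2]⟩)))))))
noncomputable def dF668 : BT Fct := (.node 30 (.node 15 (.node 7 (.node 3 (.node 1 (.leaf ⟨6, 5, true, [11, 37, 20, 39, 33, 19], [12, 34, 37, 43, 32, 11], [-23, 15, 66, -32, 92, -14, 3, 18, 6, -10, -11, -9, -2, -16, -35, -3, -5, -1, -2, 6, -3, 13, 3, 2, 0, 2, 1, 0, -2, -2]⟩) (.node 1 (.leaf ⟨6, 6, true, [6, 43, 8, 39, 40, 26], [30, 11, 40, 21, 4], [-22, -130, 2, -99, -133, -41, 15, -15, 4, -9, -1, 11, -68, 37, 20, 1, -4, -7, -13, -9, 0, 3, 1, -8, 0, 0, -1, 0, 8, 1, -1]⟩) (.leaf ⟨6, 6, true, [28, 13, 35, 32, 30], [4, 39, 27, 19, 41, 21], [21, 133, -1, 98, 134, 41, -15, 16, -4, 9, 1, -12, 68, -37, -21, -1, 4, 7, 13, 9, 0, -3, -1, 8, 0, 0, 1, 0, -8, -1, 1]⟩))) (.node 2 (.node 1 (.leaf ⟨6, 6, true, [4, 2, 21, 42, 29, 26, 25], [22, 41, 30, 8, 25, 10], [35, -87,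 -96, -20, -163, 8, 1, -29, -12, 15, -3, 8, -45, 41, 47, 4, 9, -4, -2, -8, 3, -14, -5, -4, -1, -1, -1, 0, 4, 0, 2]⟩) (.leaf ⟨6, 6, true, [4, 11, 23, 14, 40, 23], [39, 31, 37, 22, 32, 43], [-36, 91, 97, 19, 164, -8, -1, 30, 12, -15, 3, -9, 43, -41, -48, -4, -9, 4, 2, 8, -3, 14, 5, 4, 1, 1, 1, 0, -4, 0, -2]⟩)) (.node 1 (.leaf ⟨6, 6, true, [29, 27, 30, 41, 22, 26], [24, 2, 33, 37, 33, 39, 21], [24, 178, 16, 111, 177, 55, -12, 21, 3, 18, 6, -18, 83, -48, -28, 0, 4, 10, 15, 10, 0, 1, 0, 10, 0, 1, 0, 0, -10, 0, -1]⟩) (.leaf ⟨6, 6, true, [29, 31, 43, 22, 28, 26], [35, 19, 43, 20, 20, 34], [-25, -176, -15, -112, -176, -55, 12, -20, -3, -18, -6, 17, -81, 48, 27, 0, -4, -10, -15, -10, 0, -1, 0, -10, 0, -1, 0, 0, 10, 0, 1]⟩)))) (.node 4 (.node 2 (.node 1 (.leaf ⟨6, 5, true, [43, 0, 43, 11, 41, 33,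 21], [6, 32, 36, 12, 35, 11], [-27, -32, 49, -49, 8, -14, 8, 0, 8, -16, 10, 3, -6, -4, -8, -1, -2, -1, -2, 1, -1, 4, 1, -1, -1, -1, 1, 0, 2, 1, -1]⟩) (.leaf ⟨5, 6, true, [39, 31, 40, 30, 34, 23], [18, 29, 23, 34, 24, 26], [31, 34, -55, 53, -11, 14, -9, 0, -7, 18, -11, -4, 6, 4, 7, 1, 2, 1, 2, -1, 1, -4, -1, 1, 1, 1, -1, 0, -2, -1, 1]⟩)) (.node 1 (.leaf ⟨6, 6, true, [2, 40, 24, 42, 6, 19], [22, 11, 39, 43, 39, 29, 25], [-15, -5, 24, -17, 37, -2, 1, 1, 0, -3, 2, 1, -1, -7, -4, -1, 0, 0, 1, 2, -1, 0, 0, 0, 0, 1, 0, 0, 1, -2]⟩) (.leaf ⟨6, 6, true, [42, 4, 40, 28, 36, 6, 8], [18, 34, 39, 40, 20, 6], [16, 5, -24, 17, -37, 2, -1, -1, 0, 3, -2, -1, 3, 7, 3, 1, 0, 0, -1, -2, 1, 0, 0, 0, 0, -1, 0, 0, -1, 2]⟩))) (.node 2 (.node 1 (.leaf ⟨6, 6, true, [28, 24, 36, 19, 30, 13], [32, 2, 23, 34, 21,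 18], [-14, 4, 48, -10, 83, -7, 13, 10, 16, -9, 6, -3, 17, -22, -14, -1, -1, 1, 3, 4, -2, 6, 1, 0, 1, 0, -1, 0, 0, -2, -1]⟩) (.leaf ⟨6, 6, true, [21, 0, 38, 18, 30, 42, 29], [26, 22, 34, 20, 40], [15, -2, -48, 10, -83, 7, -13, -10, -16, 9, -6, 3, -19, 22, 13, 1, 1, -1, -3, -4, 2, -6, -1, 0, -1, 0, 1, 0, 0, 2, 1]⟩)) (.node 1 (.leaf ⟨6, 5, true, [4, 24, 42, 36, 21, 0], [19, 40, 12, 42, 18, 0], [14, -21, -38, 13, -47, 5, -10, -5, -11, 11, -5, 3, -4, 12, 18, 1, 2, -1, -2, -2, 1, -7, -1, -1, 0, 0, 0, 0, 0, 0, 1]⟩) (.leaf ⟨5, 6, true, [41, 36, 39, 26, 31, 31], [4, 20, 37, 43, 25, 4], [-19, -11, 37, -38, 10, -16, 13, 2, 11, -16, 5, 0, -13, -3, -14, -1, -3, -1, -1, 0, -1, 7, 1, -1, 0, 0, 0, 0, 2, 0, -1]⟩))))) (.node 7 (.node 3 (.node 1 (.leaf ⟨6, 6, true, [22, 11, 36, 32, 20, 16], [21, 24, 37,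 25, 43, 11], [14, 31, -36, 34, -6, 24, -10, -3, -1, 10, 10, 0, 14, -8, 28, 2, 5, 4, 5, -1, 2, -10, -3, 1, 0, -1, -1, 0, -3]⟩) (.node 1 (.leaf ⟨6, 6, true, [24, 40, 37, 19, 23, 14], [13, 32, 27, 36, 13, 23], [-15, -27, 37, -35, 7, -24, 10, 4, 1, -10, -10, -1, -16, 8, -29, -2, -5, -4, -5, 1, -2, 10, 3, -1, 0, 1, 1, 0, 3]⟩) (.leaf ⟨6, 6, true, [34, 43, 33, 37, 21, 22], [43, 26, 13, 40, 20, 41], [0, -131, -42, -73, -117, -47, 0, -5, 9, 2, -28, 3, -59, 31, 11, -4, 0, -9, -8, -4, -3, 1, 0, -5, -1, -1, 2, 0, 7, -3, 1]⟩))) (.node 2 (.node 1 (.leaf ⟨6, 6, true, [27, 41, 28, 13, 10, 38], [26, 35, 31, 2, 39, 23], [-1, 135, 43, 72, 118, 47, 0, 6, -9, -2, 28, -4, 57, -31, -12, 4, 0, 9, 8, 4, 3, -1, 0, 5, 1, 1, -2, 0, -7, 3, -1]⟩) (.leaf ⟨6, 6, true, [34, 13, 42, 20, 31, 34], [25, 6, 34, 21, 37, 27],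 [22, -2, -18, 24, -3, 1, 4, 1, 4, 9, -2, -5, 5, 3, -4, 2, 0, 0, -1, 0, 0, 1, 0, 1, 1, 0, -1, 0, 0, 0, 1]⟩)) (.node 1 (.leaf ⟨3, 6, true, [10, 40, 6, 38, 31, 23], [25, 0, 35, 11, 18, 36, 10], [-10, -112, -54, -50, -178, -32, -2, -19, -10, -33, -4, 10, -30, 50, 43, 4, -2, -6, -13, -15, 4, -4, -1, -8, 1, -1, -1, 0, 6, 1]⟩) (.leaf ⟨6, 6, true, [6, 0, 20, 39, 11, 18, 2], [38, 2, 21, 36, 10, 32, 27], [21, 235, 75, 121, 282, 54, -17, 38, 7, 12, -2, -24, 90, -72, -65, -4, 1, 12, 17, 18, -3, 10, 4, 14, 0, 3, 1, 0, -13, -2, -1]⟩)))) (.node 4 (.node 2 (.node 1 (.leaf ⟨6, 6, true, [35, 41, 31, 6, 40, 16], [18, 2, 4, 36, 34, 30, 18], [-22, -233, -74, -122, -281, -54, 17, -37, -7, -12, 2, 23, -88, 72, 64, 4, -1, -12, -17, -18, 3, -10, -4, -14, 0, -3, -1, 0, 13, 2, 1]⟩) (.leaf ⟨6, 5, true, [23, 14,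 10, 13, 43], [0, 35, 39, 43, 21, 28], [7, -48, -88, 11, -137, 0, -11, -18, -3, 8, 5, 7, -18, 23, 49, 1, 4, -1, 0, -8, 3, -17, -3, -5, -1, -3, -1, 0, 4, 2]⟩)) (.node 1 (.leaf ⟨5, 6, true, [34, 40, 35, 36, 25, 16], [0, 42, 6, 34, 43, 22], [-2, 82, 94, 11, 175, 11, 9, 22, 2, -5, -4, -10, 35, -32, -55, -1, -3, 3, 3, 10, -3, 17, 3, 7, 1, 3, 1, 0, -6, -2]⟩) (.leaf ⟨5, 6, true, [16, 24, 33, 38, 38, 25], [2, 20, 36, 32, 4, 41, 22], [48, 143, -58, 137, 94, 44, -20, 21, -9, 37, -4, -20, 64, -22, -9, 1, 4, 7, 11, 6, 1, -5, -1, 7, 2, 2, -2, 0, -8, -2, 1]⟩))) (.node 2 (.node 1 (.leaf ⟨6, 5, true, [40, 6, 39, 31, 16, 24, 2], [6, 24, 35, 39, 16, 14], [-49, -139, 59, -138, -93, -44, 20, -20, 9, -37, 4, 19, -66, 22, 8, -1, -4, -7, -11, -6, -1, 5, 1, -7, -2, -2, 2, 0, 8, 2, -1]⟩) (.leaf ⟨6, 5, true, [21,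 0, 22, 41, 31, 24, 18], [38, 22, 24, 21, 42, 8], [6, 28, -6, 39, 34, 8, -1, 7, -5, 9, -1, -8, 18, -10, 3, 0, 1, 3, 3, 2, 0, -2, 0, 2, 0, -2, 0, 0, -3, 0, 1]⟩)) (.node 1 (.leaf ⟨5, 6, true, [31, 23, 38, 16, 24, 8], [22, 28, 10, 22, 38, 23], [-1, -25, -1, -34, -39, -8, 0, -6, 6, -7, 0, 6, -18, 10, -4, 0, -1, -3, -3, -2, 0, 2, 0, -2, 0, 2, 0, 0, 3, 0, -1]⟩) (.leaf ⟨5, 6, true, [18, 20, 2, 42, 42, 22], [34, 12, 42, 37, 43, 24, 31], [1, -85, -38, -40, -149, -9, 4, -24, -10, -12, 17, 23, -36, 33, 48, 3, 5, -3, -4, -10, 3, -13, -3, -6, 0, -1, -2, 0, 5, 2]⟩)))))) (.node 15 (.node 7 (.node 3 (.node 1 (.leaf ⟨6, 5, true, [2, 21, 40, 30, 37, 33], [12, 42, 21, 40, 25, 27], [0, 85, 38, 40, 149, 9, -4, 24, 10, 12, -17, -23, 38, -33, -49, -3, -5, 3, 4, 10, -3, 13, 3, 6, 0, 1, 2, 0, -5, -2]⟩) (.node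 1 (.leaf ⟨6, 6, true, [4, 35, 25, 2, 41, 4], [39, 8, 10, 18, 42, 33], [51, 208, -11, 166, 202, 66, -16, 29, -2, 40, 4, -26, 99, -52, -31, 0, 6, 12, 18, 12, 0, -1, 0, 12, 0, 1, 0, 0, -12, -1, 1]⟩) (.leaf ⟨6, 6, true, [13, 39, 28, 37, 20, 8], [0, 40, 2, 24, 34, 4], [-50, -206, 11, -166, -202, -66, 16, -29, 2, -40, -4, 26, -101, 52, 30, 0, -6, -12, -18, -12, 0, 1, 0, -12, 0, -1, 0, 0, 12, 1, -1]⟩))) (.node 2 (.node 1 (.leaf ⟨6, 6, true, [8, 37, 35, 39, 41, 12], [28, 31, 8, 34, 22, 35], [6, 128, 66, 79, 225, 33, -9, 28, 1, 0, 21, -28, 77, -53, -37, 1, -3, 9, 6, 7, 0, 7, 3, 11, 3, 1, -2, 0, -9]⟩) (.leaf ⟨6, 6, true, [27, 16, 6, 19, 36, 25], [35, 13, 42, 35, 41, 32], [-5, -128, -66, -79, -225, -33, 9, -28, -1, 0, -21, 28, -75, 53, 36, -1, 3, -9, -6, -7, 0, -7, -3, -11, -3, -1, 2, 0, 9]⟩)) (.node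 1 (.leaf ⟨6, 6, true, [29, 35, 36, 10, 42], [37, 27, 11, 13, 4], [14, -41, -44, -4, -74, -9, -5, -5, -11, 6, -11, 0, -27, 22, 12, 1, -1, -3, -3, -5, 1, -4, -1, -3, 1, 1, -1, 0, 2, 0, 1]⟩) (.leaf ⟨6, 6, true, [31, 23, 8, 37], [0, 39, 10, 37, 34, 28], [-13, 41, 44, 4, 74, 9, 5, 5, 11, -6, 11, 0, 29, -22, -13, -1, 1, 3, 3, 5, -1, 4, 1, 3, -1, -1, 1, 0, -2, 0, -1]⟩)))) (.node 4 (.node 2 (.node 1 (.leaf ⟨6, 6, true, [35, 16, 42, 33, 42, 2], [38, 6, 25, 42, 14, 29], [19, -95, -65, -33, -114, -11, 4, -16, -5, 14, 1, 6, -46, 34, 32, 2, 1, -5, -7, -8, 2, -8, -2, -5, 1, 0, -3, 0, 5, 1, 1]⟩) (.leaf ⟨6, 6, true, [2, 0, 33, 20, 36, 4, 29], [20, 22, 42, 41, 35, 28], [-2, 18, 34, 2, 101, -9, 5, 3, 0, 7, -6, -5, 10, -27, -14, -7, 0, 2, 0, 8, -3, 2, 0, 3, 0, -1, 1, 0, -1, 1]⟩)) (.node 1 (.leaf ⟨6, 6,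 true, [30, 12, 42, 19, 32, 39], [28, 37, 21, 32, 0, 2], [3, -18, -34, -2, -101, 9, -5, -3, 0, -7, 6, 5, -8, 27, 13, 7, 0, -2, 0, -8, 3, -2, 0, -3, 0, 1, -1, 0, 1, -1]⟩) (.leaf ⟨6, 6, true, [13, 26, 28, 37, 32, 4], [0, 8, 27, 42, 8, 10], [4, 182, 60, 103, 202, 58, -10, 16, -6, -4, 17, -14, 98, -58, -22, 0, 6, 12, 17, 11, 0, -2, -1, 12, -1, -1, 3, 0, -12, 0, -1]⟩))) (.node 2 (.node 1 (.leaf ⟨6, 6, true, [6, 38, 8, 10, 33, 25], [33, 36, 20, 20, 14], [-5, -180, -59, -104, -201, -58, 10, -15, 6, 4, -17, 13, -96, 58, 21, 0, -6, -12, -17, -11, 0, 2, 1, -12, 1, 1, -3, 0, 12, 0, 1]⟩) (.leaf ⟨6, 6, true, [19, 6, 41, 14, 28, 38], [16, 42, 19, 42, 42, 20], [-1, -81, 7, -59, -40, -29, 5, -19, 1, -11, 10, 5, -44, 17, 9, -3, -1, -5, -8, -4, -1, 1, 0, -4, -1, -1, 2, 0, 5, 1]⟩)) (.node 1 (.leaf ⟨6, 6,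 true, [28, 0, 2, 23, 34, 33, 24], [11, 35, 43, 6, 32, 18], [0, 84, -6, 58, 41, 29, -5, 20, -1, 11, -10, -6, 44, -17, -10, 3, 1, 5, 8, 4, 1, -1, 0, 4, 1, 1, -2, 0, -5, -1]⟩) (.leaf ⟨6, 6, true, [28, 40, 27, 29, 18, 42], [4, 19, 22, 34, 16, 31], [7, -56, -22, -27, -42, -5, 12, -11, 4, 10, 13, 7, -17, 13, 20, 1, 2, -2, -4, -3, 1, -3, -1, -3, 0, -1, -2, 0, 3, 1]⟩))))) (.node 8 (.node 4 (.node 2 (.node 1 (.leaf ⟨6, 6, true, [2, 16, 38, 42, 22, 6], [33, 10, 38, 23, 38, 31], [-50, -205, 10, -157, -173, -53, 32, -35, 2, -40, -5, 24, -104, 50, 23, 2, -5, -11, -16, -9, 0, -1, 0, -11, -1, 0, 0, 0, 12, 1]⟩) (.leaf ⟨6, 6, true, [19, 43, 36, 6, 23], [8, 24, 41, 34, 38, 8], [51, 205, -10, 157, 173, 53, -32, 35, -2, 40, 5, -24, 106, -50, -24, -2, 5, 11, 16, 9, 0, 1, 0, 11, 1, 0, 0, 0, -12, -1]⟩)) (.node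 1 (.leaf ⟨6, 6, true, [26, 2, 31, 29, 35, 37, 22], [6, 14, 6, 24, 6, 22], [7, 1, 4, 3, 0, 1, 5, -1, 2, 0, 4, -2, 10, 1, 0, 1, 0, 1, 0, 0, 0, 2, 0, 1, 0, 1, -1, 0, -1, -1]⟩) (.leaf ⟨6, 6, true, [0, 11, 33, 43, 41, 13], [38, 25, 38, 12, 37, 26], [-8, 1, -3, -4, 1, -1, -5, 2, -2, 0, -4, 1, -8, -1, -1, -1, 0, -1, 0, 0, 0, -2, 0, -1, 0, -1, 1, 0, 1, 1]⟩))) (.node 2 (.node 1 (.leaf ⟨6, 6, true, [16, 38, 21, 40, 38, 23], [40, 27, 37, 35, 20, 31], [-7, -124, -26, -73, -82, -50, 12, -1, 4, 11, -27, 2, -66, 35, -7, -3, -7, -10, -13, -2, -3, 8, 2, -6, 1, 1, -3, 0, 9, -2, 1]⟩) (.leaf ⟨6, 6, true, [13, 0, 41, 33, 40, 38, 4], [14, 30, 16, 34, 43, 22], [6, 127, 27, 72, 83, 50, -12, 2, -4, -11, 27, -3, 66, -35, 6, 3, 7, 10, 13, 2, 3, -8, -2, 6, -1, -1, 3, 0, -9, 2, -1]⟩)) (.node 1 (.leaf ⟨6, 6, true,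 [0, 37, 42, 24, 11, 21], [19, 37, 37, 41, 25, 6], [35, -44, -77, 14, -120, 19, -3, -27, -6, 13, 23, 5, -12, 18, 50, 5, 7, 0, -1, -10, 5, -12, -3, -3, 0, -3, -1, 0, 0, 1, 1]⟩) (.leaf ⟨6, 6, true, [30, 0, 38, 32, 16, 8, 11], [30, 2, 31, 34, 16, 18], [-1, 56, 1, 45, 25, 22, -2, 17, -4, -2, 13, -4, 42, -2, -12, 4, -3, 3, 1, -1, 2, 5, 2, 3, 0, 1, -2, 0, -2, -1]⟩)))) (.node 4 (.node 2 (.node 1 (.leaf ⟨6, 6, true, [13, 11, 26, 41, 33, 6], [31, 6, 33, 28, 37, 38, 13], [0, -52, 0, -46, -24, -22, 2, -16, 4, 2, -13, 3, -44, 2, 11, -4, 3, -3, -1, 1, -2, -5, -2, -3, 0, -1, 2, 0, 2, 1]⟩) (.leaf ⟨6, 6, true, [30, 43, 33, 35, 38, 14], [39, 4, 36, 38, 36], [-37, -175, 10, -144, -143, -75, 21, -5, -1, -11, -27, 12, -105, 52, -9, -3, -11, -14, -20, -8, -2, 13, 3, -10, 1, 2, -2, 0, 12]⟩)) (.node 1 (.leaf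 ⟨6, 6, true, [2, 39, 35, 24, 19, 19], [19, 14, 21, 41, 41, 35], [38, 177, -10, 144, 143, 75, -21, 5, 1, 11, 27, -12, 103, -52, 8, 3, 11, 14, 20, 8, 2, -13, -3, 10, -1, -2, 2, 0, -12]⟩) (.leaf ⟨6, 6, true, [0, 28, 37, 19, 20, 10], [25, 41, 31, 24, 34, 23], [-19, -25, 35, -47, -24, -13, 6, -8, 8, -21, 23, 3, -21, 4, 16, 1, -2, 1, -4, -3, 1, 0, 0, -1, -1, -2, 0, 0, 1]⟩))) (.node 2 (.node 1 (.leaf ⟨6, 6, true, [22, 39, 10, 27, 23, 24], [25, 20, 23, 11, 2, 29], [18, 29, -34, 46, 25, 13, -6, 9, -8, 21, -23, -4, 19, -4, -17, -1, 2, -1, 4, 3, -1, 0, 0, 1, 1, 2, 0, 0, -1]⟩) (.leaf ⟨6, 6, true, [38, 6, 32, 34, 2, 24, 11], [6, 14, 26, 2, 40], [-14, -16, 19, -16, 15, -7, 9, 5, 10, -8, 8, -4, 7, -1, 1, 1, -2, 0, -2, -1, 0, 4, 1, 0, 0, 0, -1, 0, 0, -1, -1]⟩)) (.node 1 (.leaf ⟨6, 6, true, [38, 36, 19,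 40, 38, 4], [26, 31, 11, 41, 26, 28], [15, 18, -19, 16, -15, 7, -9, -5, -10, 8, -8, 4, -9, 1, -2, -1, 2, 0, 2, 1, 0, -4, -1, 0, 0, 0, 1, 0, 0, 1, 1]⟩) (.leaf ⟨6, 6, true, [40, 0, 43, 36, 31, 38, 6], [30, 41, 37, 20, 41, 14], [28, 57, 19, 37, 66, 25, 8, 3, -6, -2, 16, -7, 34, -3, -12, 3, 3, 2, 3, 0, 2, 3, 0, 5, 1, 1, -1, 0, -4, -1, 1]⟩)))))))
noncomputable def dF729 : BT Fct := (.node 30 (.node 15 (.node 7 (.node 3 (.node 1 (.leaf ⟨6, 6, true, [24, 24, 12, 38, 28, 13], [2, 33, 34, 30, 28, 16], [-27, -57, -19, -37, -66, -25, -8, -3, 6, 2, -16, 7, -32, 3, 11, -3, -3, -2, -3, 0, -2, -3, 0, -5, -1, -1, 1, 0, 4, 1, -1]⟩) (.node 1 (.leaf ⟨6, 6, true, [36, 6, 20, 35, 11, 31, 18], [4, 20, 42, 30, 33, 2], [-29, -30, 42, -48, 17, -26, 16, 8, 10, -10, -7, -5, -16, 6, -27, -1, -8, -5, -5, 1, -2, 11,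 2, -1, -1, 1, 0, 0, 3, 0, -1]⟩) (.leaf ⟨6, 6, true, [0, 43, 31, 22, 22], [28, 30, 37, 32, 42, 18], [28, 34, -41, 47, -16, 26, -16, -7, -10, 10, 7, 4, 14, -6, 26, 1, 8, 5, 5, -1, 2, -11, -2, 1, 1, -1, 0, 0, -3, 0, 1]⟩))) (.node 2 (.node 1 (.leaf ⟨6, 5, true, [4, 11, 33, 40, 14, 29], [6, 31, 34, 28, 39, 32], [-44, -141, 23, -133, -102, -64, 17, 4, 0, -13, -23, 10, -83, 42, -15, -3, -11, -13, -17, -6, -2, 12, 3, -9, 1, 3, -2, 0, 10]⟩) (.leaf ⟨5, 6, true, [0, 35, 39, 8, 24], [28, 35, 23, 23, 37, 39], [49, 144, -30, 138, 97, 64, -18, -3, 1, 15, 22, -12, 83, -42, 14, 3, 11, 13, 17, 6, 2, -12, -3, 9, -1, -3, 2, 0, -10]⟩)) (.node 1 (.leaf ⟨6, 6, true, [0, 30, 38, 2, 43, 23], [31, 21, 42, 37, 27, 23], [0, 50, 17, 12, 27, 8, -17, 8, 8, -18, 7, -9, 13, -13, -6, 0, -2, 4, 2, 0, 1, 0, 2, 1, 1, 1,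 1, 0, -3, 0, -1]⟩) (.leaf ⟨6, 6, true, [28, 26, 41, 22, 29, 29], [22, 11, 43, 28, 2, 22], [1, -50, -17, -12, -27, -8, 17, -8, -8, 18, -7, 9, -11, 13, 5, 0, 2, -4, -2, 0, -1, 0, -2, -1, -1, -1, -1, 0, 3, 0, 1]⟩)))) (.node 4 (.node 2 (.node 1 (.leaf ⟨6, 6, true, [38, 0, 40, 24, 35, 26, 23], [19, 0, 8, 21, 34, 28, 13], [44, 334, 41, 229, 326, 102, -28, 40, -5, 29, 21, -31, 182, -96, -45, 0, 10, 20, 30, 19, 0, 0, -1, 19, -1, 0, 3, 0, -20, -1, -1]⟩) (.leaf ⟨6, 6, true, [36, 0, 14, 43, 40, 34, 30], [43, 0, 21, 25, 32, 43, 26], [-43, -332, -41, -229, -326, -102, 28, -40, 5, -29, -21, 31, -184, 96, 44, 0, -10, -20, -30, -19, 0, 0, 1, -19, 1, 0, -3, 0, 20, 1, 1]⟩)) (.node 1 (.leaf ⟨6, 6, true, [42, 10, 29, 38, 23, 16, 2], [41, 10, 28, 32, 38, 34, 23], [47, 142, -21, 124, 137, 45, -9, 22, 1, 38,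 10, -22, 82, -39, -25, 1, 3, 7, 12, 8, 0, 4, 0, 8, -1, 1, -1, 0, -8, -1]⟩) (.leaf ⟨6, 6, true, [0, 16, 40, 18, 10, 25], [29, 23, 41, 26, 36, 8], [-46, -142, 21, -124, -137, -45, 9, -22, -1, -38, -10, 22, -80, 39, 24, -1, -3, -7, -12, -8, 0, -4, 0, -8, 1, -1, 1, 0, 8, 1]⟩))) (.node 2 (.node 1 (.leaf ⟨6, 6, true, [13, 22, 39, 19, 39, 29], [43, 32, 38, 21, 19, 12], [0, -20, 19, -37, 24, -17, -10, -9, 3, -7, 8, -3, -39, -6, 3, -5, -1, -1, -3, 1, -2, 1, 1, -2, -1, -1, 3, 0, 1, -1]⟩) (.leaf ⟨6, 6, true, [6, 21, 36, 23, 10, 27], [2, 43, 39, 6, 43, 23], [1, 20, -19, 37, -24, 17, 10, 9, -3, 7, -8, 3, 41, 6, -4, 5, 1, 1, 3, -1, 2, -1, -1, 2, 1, 1, -3, 0, -1, 1]⟩)) (.node 1 (.leaf ⟨6, 6, true, [42, 24, 28, 39, 23], [41, 32, 35, 35, 41, 26], [-25, -15, -14, -21, -62, -17, -4, -2, 0, -3, -11, 16,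 -6, 6, 13, -4, -1, -1, 1, 0, -1, -3, 0, -6, -3, -1, 2, 0, 3, 0, -1]⟩) (.leaf ⟨6, 6, true, [26, 4, 26, 38, 26, 32, 18], [32, 13, 38, 30, 6, 37], [24, 17, 15, 20, 63, 17, 4, 3, 0, 3, 11, -17, 8, -6, -14, 4, 1, 1, -1, 0, 1, 3, 0, 6, 3, 1, -2, 0, -3, 0, 1]⟩))))) (.node 7 (.node 3 (.node 1 (.leaf ⟨6, 6, true, [0, 33, 40, 14, 6, 2], [6, 31, 38, 29, 36, 2], [10, 28, -45, 42, -5, 12, -9, 4, -9, 10, -9, -5, 11, 2, 11, 1, 1, 1, 3, 0, 1, -7, -1, 0, 1, 0, -1, 0, -2, -1, 1]⟩) (.node 1 (.leaf ⟨6, 6, true, [40, 40, 37, 31, 23, 30], [4, 24, 39, 25, 34, 22], [-11, -24, 46, -43, 6, -12, 9, -3, 9, -10, 9, 4, -13, -2, -12, -1, -1, -1, -3, 0, -1, 7, 1, 0, -1, 0, 1, 0, 2, 1, -1]⟩) (.leaf ⟨6, 6, true, [12, 34, 33, 21, 29, 6], [0, 13, 35, 19, 22, 10], [46, 186, -24, 137, 108, 57, -18, 11, 2, 26, 13, -18, 80,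 -34, -15, 2, 5, 10, 16, 3, 3, -3, 0, 9, 0, 1, -1, 0, -11, 1]⟩))) (.node 2 (.node 1 (.leaf ⟨6, 6, true, [14, 27, 11, 31, 41, 16], [6, 29, 19, 14, 35, 13], [-45, -186, 24, -137, -108, -57, 18, -11, -2, -26, -13, 18, -78, 34, 14, -2, -5, -10, -16, -3, -3, 3, 0, -9, 0, -1, 1, 0, 11, -1]⟩) (.leaf ⟨6, 5, true, [24, 2, 40, 30, 27, 2, 4], [40, 0, 25, 14, 35, 21, 14], [7, -9, -32, 3, -70, 6, -3, -9, 6, -2, 11, 2, -12, 13, 24, 4, 1, 0, -1, -5, 3, -7, -2, -3, 0, 1, -2, 0, 0, 2]⟩)) (.node 1 (.leaf ⟨5, 6, true, [40, 30, 19, 27, 0], [0, 2, 30, 21, 34, 37, 12], [4, 45, 26, 27, 102, 5, -1, 13, -5, 9, -12, -7, 29, -22, -30, -4, 0, 2, 4, 7, -3, 7, 2, 5, 0, -1, 2, 0, -2, -2]⟩) (.leaf ⟨6, 6, true, [28, 36, 25, 23, 20, 11], [0, 6, 35, 37, 21, 18], [-38, -184, 2, -140, -140, -77, 20, -4, 3, -2, -27, 9, -96,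 48, -7, -2, -12, -15, -19, -8, -2, 14, 3, -11, 1, 2, -3, 0, 11, -1]⟩)))) (.node 4 (.node 2 (.node 1 (.leaf ⟨6, 6, true, [25, 32, 6, 29, 36, 13], [21, 13, 10, 24, 37, 29], [37, 188, -1, 139, 141, 77, -20, 5, -3, 2, 27, -10, 94, -48, 6, 2, 12, 15, 19, 8, 2, -14, -3, 11, -1, -2, 3, 0, -11, 1]⟩) (.leaf ⟨6, 6, true, [6, 37, 14, 24, 42, 19], [42, 6, 30, 39, 2], [6, -19, -30, 1, -87, -1, -5, 4, 2, -3, 0, 11, -3, 19, 8, 3, 0, -2, 0, -6, 2, -1, 0, -3, 1, 1, -1, 0, 2, -2]⟩)) (.node 1 (.leaf ⟨6, 6, true, [16, 43, 26, 19, 37, 28], [33, 0, 20, 23, 38, 23, 12], [-5, 21, 30, -1, 87, 1, 5, -4, -2, 3, 0, -11, 1, -19, -9, -3, 0, 2, 0, 6, -2, 1, 0, 3, -1, -1, 1, 0, -2, 2]⟩) (.leaf ⟨6, 6, true, [21, 4, 34, 23, 37, 25, 28], [2, 8, 43, 12, 34, 24], [5, -70, -30, -46, -108, -24, 0, -13, 3, -1, -12, 13, -52,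 23, 20, -1, 3, -5, -2, -5, 0, -5, -2, -5, 1, 0, 0, 0, 4, 0, -1]⟩))) (.node 2 (.node 1 (.leaf ⟨6, 6, true, [19, 12, 38, 36, 43, 14], [18, 2, 39, 30, 40, 42, 18], [-4, 72, 30, 46, 108, 24, 0, 13, -3, 1, 12, -13, 50, -23, -21, 1, -3, 5, 2, 5, 0, 5, 2, 5, -1, 0, 0, 0, -4, 0, 1]⟩) (.leaf ⟨6, 6, true, [12, 26, 25, 34, 27, 28], [10, 2, 32, 38, 27, 39, 18], [-29, -53, 25, -65, -57, -17, 1, -12, 9, -24, 18, 6, -48, 12, 29, 0, 0, -1, -5, -4, 1, -3, -1, -4, -1, -4, 0, 0, 2, 2]⟩)) (.node 1 (.leaf ⟨6, 6, true, [42, 0, 29, 42, 32, 8, 23], [43, 20, 10, 31, 2, 27], [30, 55, -25, 65, 57, 17, -1, 12, -9, 24, -18, -6, 46, -12, -30, 0, 0, 1, 5, 4, -1, 3, 1, 4, 1, 4, 0, 0, -2, -2]⟩) (.leaf ⟨6, 6, true, [24, 0, 29, 40, 33, 25, 23], [38, 12, 23, 41, 28, 37, 19], [-15, 13, 27, -3, 38, 4, 0, 0, 10, -11, 7, -4,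 15, -10, 0, 0, 0, 4, 1, 1, 0, 4, 1, 1, 0, -1, 0, 0, -2, 0, -1]⟩)))))) (.node 15 (.node 7 (.node 3 (.node 1 (.leaf ⟨6, 6, true, [23, 11, 39, 35, 23, 29], [31, 20, 20, 2, 18, 37], [16, -13, -27, 3, -38, -4, 0, 0, -10, 11, -7, 4, -13, 10, -1, 0, 0, -4, -1, -1, 0, -4, -1, -1, 0, 1, 0, 0, 2, 0, 1]⟩) (.node 1 (.leaf ⟨6, 6, true, [23, 0, 38, 25, 4, 38, 0], [37, 0, 34, 28, 10, 34, 28], [-36, 90, 83, 42, 265, 8, 3, 38, 1, 4, -26, -14, 77, -51, -47, -7, -1, 4, 9, 17, -7, 11, 2, 7, 0, 2, 1, 0, -6, -5]⟩) (.leaf ⟨6, 6, true, [29, 0, 14, 40, 43, 43, 24], [39, 40, 31, 41, 25, 13], [-10, 37, 36, 11, 90, 10, 0, 5, -3, -4, 3, -3, 28, -17, -8, -1, 2, 4, 5, 5, -1, 5, 0, 2, 0, 0, 0, 0, -4, -2]⟩))) (.node 2 (.node 1 (.leaf ⟨6, 6, true, [13, 22, 42, 39, 34, 26], [20, 23, 28, 37, 43, 20], [9, -33, -35, -12,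 -89, -10, 0, -4, 3, 4, -3, 2, -30, 17, 7, 1, -2, -4, -5, -5, 1, -5, 0, -2, 0, 0, 0, 0, 4, 2]⟩) (.leaf ⟨6, 6, true, [10, 36, 25, 26, 38, 12], [11, 6, 42, 29, 38, 29, 10], [-12, 42, 49, 11, 103, 9, 4, 9, 13, -3, 11, -11, 27, -22, -13, 0, 0, 5, 3, 5, -1, 8, 1, 4, 1, 0, -1, 0, -4, -2, -1]⟩)) (.node 1 (.leaf ⟨6, 6, true, [16, 24, 43, 13, 27, 24], [30, 37, 33, 6, 37, 12], [11, -39, -48, -12, -102, -9, -4, -8, -13, 3, -11, 10, -27, 22, 12, 0, 0, -5, -3, -5, 1, -8, -1, -4, -1, 0, 1, 0, 4, 2, 1]⟩) (.leaf ⟨6, 6, true, [6, 24, 2, 31, 14, 0], [2, 30, 35, 28, 6, 8], [-9, -34, 1, -21, 4, -11, 10, -2, -2, 15, -10, 0, -17, 6, 2, -2, 2, -1, 1, 3, -2, 3, -1, -2, -1, -1, 0, 0, 2, -3, 1]⟩)))) (.node 4 (.node 2 (.node 1 (.leaf ⟨6, 6, true, [14, 6, 29, 34, 31, 2], [4, 14, 30, 2, 25, 6], [8, 36, 0, 20, -3,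 11, -10, 3, 2, -15, 10, -1, 19, -6, -3, 2, -2, 1, -1, -3, 2, -3, 1, 2, 1, 1, 0, 0, -2, 3, -1]⟩) (.leaf ⟨6, 6, true, [20, 0, 38, 22, 26, 43, 16], [19, 2, 10, 18, 37, 32, 19], [-13, 122, 58, 65, 186, 21, -15, 25, 4, -15, -3, -13, 67, -45, -25, -2, -3, 7, 7, 8, -2, 2, 2, 7, 1, 2, 0, 0, -7, -1, -1]⟩)) (.node 1 (.leaf ⟨6, 6, true, [38, 0, 33, 40, 22, 10, 29], [37, 2, 25, 21, 2, 19, 8], [12, -119, -57, -66, -185, -21, 15, -24, -4, 15, 3, 12, -67, 45, 24, 2, 3, -7, -7, -8, 2, -2, -2, -7, -1, -2, 0, 0, 7, 1, 1]⟩) (.leaf ⟨6, 6, true, [13, 39, 42, 39, 11, 23], [25, 0, 39, 21, 18, 39], [-30, 82, 78, 15, 129, -3, 0, 21, 5, -7, 19, 1, 28, -37, -26, -5, -7, 3, 3, 6, -2, 2, 3, 3, 0, 0, 1, 0, -3, 1, -1]⟩))) (.node 2 (.node 1 (.leaf ⟨6, 6, true, [41, 0, 33, 23, 32, 39, 23], [13, 40, 14, 39, 25, 8], [29,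 -78, -77, -16, -128, 3, 0, -20, -5, 7, -19, -2, -30, 37, 25, 5, 7, -3, -3, -6, 2, -2, -3, -3, 0, 0, -1, 0, 3, -1, 1]⟩) (.leaf ⟨6, 6, true, [36, 10, 33, 38, 22, 42], [33, 35, 2, 38, 34, 19], [21, -28, -27, 3, -32, -8, 3, -8, -10, 9, -4, 0, -11, 7, 3, -1, -1, -4, -3, -1, 0, -6, -1, -1, 0, 0, 1, 0, 1, 2, 1]⟩)) (.node 1 (.leaf ⟨6, 6, true, [32, 2, 18, 43, 31, 26, 30], [29, 6, 38, 37, 19, 42, 0], [-20, 28, 27, -3, 32, 8, -3, 8, 10, -9, 4, 0, 13, -7, -4, 1, 1, 4, 3, 1, 0, 6, 1, 1, 0, 0, -1, 0, -1, -2, -1]⟩) (.leaf ⟨3, 6, true, [12, 33, 43, 25, 20, 11], [30, 0, 30, 26, 40, 20, 28], [7, -31, 18, -35, 15, -14, 21, 12, 17, 8, -19, 5, -4, 3, -22, 0, 2, -6, 0, 5, -3, 5, -1, 0, 1, 7, -2, 0, 1, -3, -1]⟩))))) (.node 7 (.node 3 (.node 1 (.leaf ⟨6, 3, true, [18, 0, 29, 40, 22, 37, 24], [41, 25, 30, 40,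 25, 25], [-8, 35, -17, 34, -14, 14, -21, -11, -17, -8, 19, -6, 2, -3, 21, 0, -2, 6, 0, -5, 3, -5, 1, 0, -1, -7, 2, 0, -1, 3, 1]⟩) (.node 1 (.leaf ⟨6, 6, true, [38, 2, 30, 27, 21, 38, 30], [10, 39, 6, 31, 39, 4], [25, 15, -31, 47, 52, 8, 7, 12, -7, 38, -18, -9, 35, -12, -27, 0, -1, -2, 4, 4, -2, 5, 1, 2, 0, 4, -1, 0, -1, -3]⟩) (.leaf ⟨6, 6, true, [10, 33, 35, 21, 31, 37], [20, 2, 21, 28, 38, 18, 12], [-24, -15, 31, -47, -52, -8, -7, -12, 7, -38, 18, 9, -33, 12, 26, 0, 1, 2, -4, -4, 2, -5, -1, -2, 0, -4, 1, 0, 1, 3]⟩))) (.node 2 (.node 1 (.leaf ⟨3, 6, true, [10, 40, 35, 28, 6, 20], [22, 22, 38, 33, 25, 16], [-11, 44, 26, 27, 90, 3, -7, 7, -6, -1, 3, -6, 20, -15, 2, -1, -2, 2, 4, 3, -1, -3, -1, 1, 0, 0, 0, 0, -3, -1]⟩) (.leaf ⟨6, 3, true, [4, 25, 20, 39, 23, 23], [22, 27, 10, 40, 4, 42],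 [12, -42, -26, -27, -90, -3, 7, -7, 6, 1, -3, 6, -22, 15, -3, 1, 2, -2, -4, -3, 1, 3, 1, -1, 0, 0, 0, 0, 3, 1]⟩)) (.node 1 (.leaf ⟨6, 5, true, [25, 29, 26, 39, 26, 30], [23, 0, 13, 36, 38, 24, 6], [12, -54, -110, 22, -188, 6, -21, -23, -9, -3, 11, 11, -9, 34, 69, 3, 4, -2, -3, -12, 5, -24, -3, -6, -1, -2, -2, 0, 3, 3]⟩) (.leaf ⟨5, 6, true, [0, 35, 41, 37, 24, 0], [31, 4, 27, 38, 27, 28, 24], [-11, 24, 97, -39, 145, -17, 22, 20, 11, 2, -13, -10, -8, -25, -65, -3, -5, 0, 0, 10, -5, 24, 3, 4, 1, 2, 2, 0, -1, -3]⟩)))) (.node 4 (.node 2 (.node 1 (.leaf ⟨6, 6, true, [21, 0, 18, 2, 19, 25, 2], [29, 37, 27, 24, 35, 39], [-8, -36, 1, -18, 2, -12, 9, -3, -1, 16, -11, 4, -14, 5, 4, -2, 2, -1, 1, 3, -2, 3, -1, -2, -1, -1, 0, 0, 1, -3, 1]⟩) (.leaf ⟨3, 6, true, [30, 40, 10, 13, 10], [33, 0, 16, 10,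 34, 30, 11], [-8, -94, -23, -47, -69, -32, 13, -11, -1, 12, -21, 12, -29, 18, 16, -2, 1, -4, -4, -1, -2, 2, -2, -5, -1, 0, 0, 0, 4, -3, 1]⟩)) (.node 1 (.leaf ⟨6, 3, true, [29, 37, 38, 32, 24, 11], [13, 42, 11, 33, 14], [7, 96, 24, 46, 70, 32, -13, 12, 1, -12, 21, -13, 31, -18, -17, 2, -1, 4, 4, 1, 2, -2, 2, 5, 1, 0, 0, 0, -4, 3, -1]⟩) (.leaf ⟨5, 6, true, [25, 41, 19, 40, 40, 19], [33, 13, 21, 35, 18, 6, 14], [9, -65, -16, -40, -100, -9, 1, -6, -2, -1, 13, 4, -27, 24, 22, 4, 1, -4, -5, -10, 3, -2, -2, -4, 0, 0, 0, 0, 3, 1]⟩))) (.node 2 (.node 1 (.leaf ⟨6, 5, true, [10, 41, 20, 37, 38, 18], [27, 23, 26, 2, 31, 22], [-8, 67, 16, 40, 100, 9, -1, 6, 2, 1, -13, -4, 25, -24, -23, -4, -1, 4, 5, 10, -3, 2, 2, 4, 0, 0, 0, 0, -3, -1]⟩) (.leaf ⟨3, 6, true, [40, 22, 43, 29, 13, 40], [36, 4, 27, 30,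 34, 32, 25], [-1, -104, -63, -68, -209, -27, 1, -13, -4, -6, -20, 21, -54, 45, 33, 3, 1, -8, -7, -10, 2, -7, -2, -8, 0, 2, -1, 0, 6, -1]⟩)) (.node 1 (.leaf ⟨6, 3, true, [21, 35, 36, 25, 30, 12], [30, 24, 27, 34, 14, 6], [0, 108, 64, 67, 210, 27, -1, 14, 4, 6, 20, -22, 52, -45, -34, -3, -1, 8, 7, 10, -2, 7, 2, 8, 0, -2, 1, 0, -6, 1]⟩) (.leaf ⟨3, 6, true, [11, 2, 27, 38, 18, 36, 16], [20, 35, 24, 26, 21, 8], [34, -41, -85, 20, -111, 0, -2, 2, -16, 13, -23, 2, 13, 40, 1, 6, 1, -7, -3, -9, 3, 0, 0, -2, 1, 4, -2, 0, 3, -1, -1]⟩)))))))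
noncomputable def dF789 : BT Fct := (.node 30 (.node 15 (.node 7 (.node 3 (.node 1 (.leaf ⟨6, 3, true, [12, 26, 28, 31, 34, 21], [33, 11, 24, 35, 0, 42], [-35, 43, 86, -21, 112, 0, 2, -1, 16, -13, 23, -3, -11, -40, -2, -6, -1, 7, 3, 9, -3, 0, 0, 2, -1, -4, 2, 0, -3, 1, 1]⟩) (.node 1 (.leaf ⟨5, 6, true, [43, 24, 2, 43, 8, 30], [39, 11, 24, 43, 18, 39, 21], [25, 97, -8, 73, 90, 27, -14, 22, -20, 24, -17, -12, 48, -23, -28, -1, 0, 4, 8, 6, -1, 0, 2, 6, 2, 4, 0, 0, -5, -3, -1]⟩) (.leaf ⟨6, 5, true, [40, 0, 18, 12, 34, 13, 22], [41, 43, 21, 30, 39, 31], [-24, -95, 8, -73, -90, -27, 14, -22, 20, -24, 17, 12, -50, 23, 27, 1, 0, -4, -8, -6, 1, 0, -2, -6, -2, -4, 0, 0, 5, 3, 1]⟩))) (.node 2 (.node 1 (.leaf ⟨6, 6, true, [40, 43, 33, 42, 37, 26], [20, 11, 26, 34, 24, 40, 23], [22, -53, -44, -21,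 -133, -6, -5, -18, 1, 1, 13, 13, -46, 22, 17, 2, 1, -3, -2, -9, 3, -4, -1, -4, 1, -1, 0, 0, 2, 2]⟩) (.leaf ⟨6, 6, true, [10, 0, 33, 34, 32, 20, 29], [32, 31, 38, 23, 13, 23], [-21, 55, 44, 21, 133, 6, 5, 18, -1, -1, -13, -13, 44, -22, -18, -2, -1, 3, 2, 9, -3, 4, 1, 4, -1, 1, 0, 0, -2, -2]⟩)) (.node 1 (.leaf ⟨6, 6, true, [41, 11, 2, 43], [6, 40, 12, 11, 33], [-14, -12, -35, -6, -84, 1, -17, -20, -12, -14, 11, 4, -20, 15, 35, 0, -2, 2, -1, -7, 3, -7, 0, -5, -1, -6, 2, 0, 1, 1]⟩) (.leaf ⟨6, 6, true, [35, 39, 20, 14, 19, 2], [19, 25, 40, 2, 39, 41], [-27, -193, -18, -144, -197, -74, 16, -15, -1, -7, -8, 7, -108, 60, 13, 1, -12, -14, -21, -14, 1, 10, 2, -13, 2, 1, -3, 0, 11]⟩)))) (.node 4 (.node 2 (.node 1 (.leaf ⟨6, 6, true, [2, 35, 42, 19, 26, 4], [38, 4, 35, 37, 31, 38, 27], [28, 193,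 18, 144, 197, 74, -16, 15, 1, 7, 8, -7, 110, -60, -14, -1, 12, 14, 21, 14, -1, -10, -2, 13, -2, -1, 3, 0, -11]⟩) (.leaf ⟨5, 6, true, [43, 43, 43, 27, 10, 26], [6, 11, 41, 21, 26, 10], [-14, -236, -61, -125, -273, -63, 28, -32, 4, -20, 5, 31, -73, 60, 76, 2, -3, -11, -22, -20, 3, -3, -1, -15, -2, -1, -2, 0, 10, 2, -2]⟩)) (.node 1 (.leaf ⟨6, 5, true, [2, 29, 8, 19, 37, 0], [11, 35, 26, 32, 41, 27], [15, 236, 61, 125, 273, 63, -28, 32, -4, 20, -5, -31, 75, -60, -77, -2, 3, 11, 22, 20, -3, 3, 1, 15, 2, 1, 2, 0, -10, -2, 2]⟩) (.leaf ⟨6, 5, true, [41, 12, 29, 11, 38, 42], [43, 32, 13, 41, 24, 30], [-11, -62, -25, -33, -128, 4, 3, -19, -8, -14, 23, 13, -11, 32, 41, 6, 3, -3, -8, -12, 6, -12, -3, -1, -2, -2, -2, 0, 2, 7, 1]⟩))) (.node 2 (.node 1 (.leaf ⟨5, 6, true, [25, 40, 35, 19, 35, 27], [12,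 40, 38, 18, 16, 27], [19, 97, 25, 59, 163, 7, -6, 23, 8, 19, -23, -17, 28, -41, -47, -6, -2, 5, 11, 14, -6, 12, 3, 3, 2, 2, 2, 0, -4, -7, -1]⟩) (.leaf ⟨6, 6, true, [33, 38, 16, 34, 38, 28], [42, 21, 16, 42, 41, 25], [30, -28, 5, -49, -24, 1, 12, -1, 15, 21, -6, 7, -30, 2, -18, 1, 4, -4, 0, 4, -1, 6, -1, 2, 2, 4, -1, 0, -1, -3, -1]⟩)) (.node 1 (.leaf ⟨6, 6, true, [37, 20, 2, 33, 37, 8], [27, 0, 10, 34, 39, 29, 23], [-29, 30, -5, 49, 24, -1, -12, 1, -15, -21, 6, -7, 28, -2, 17, -1, -4, 4, 0, -4, 1, -6, 1, -2, -2, -4, 1, 0, 1, 3, 1]⟩) (.leaf ⟨6, 3, true, [23, 4, 37, 27, 43, 36, 13], [10, 27, 35, 2, 42], [-15, 28, 11, 9, 49, 4, -6, 2, -4, 3, 0, -1, 10, -14, -4, -2, 0, 1, 4, 4, -1, -1, -1, 3, 0, -2, 1, 0, -2, -2]⟩))))) (.node 7 (.node 3 (.node 1 (.leaf ⟨3, 6, true, [34, 43, 35, 42, 23, 25],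 [12, 2, 23, 35, 42, 35, 24], [22, -42, -22, -13, -87, -8, 6, -6, 3, -6, 0, 3, -15, 23, 8, 3, 0, -2, -6, -7, 2, 0, 1, -4, 0, 2, -1, 0, 3, 3]⟩) (.node 1 (.leaf ⟨6, 6, true, [27, 0, 39, 28, 11, 37, 2], [19, 30, 40, 27, 20, 31], [-56, -211, 11, -161, -169, -67, 19, -30, -7, -18, -30, 34, -94, 48, 37, -3, -2, -9, -14, -7, -2, -1, -3, -10, 0, -2, 1, 0, 10, -2, 1]⟩) (.leaf ⟨6, 6, true, [34, 42, 38, 14, 13, 20], [37, 39, 18, 41, 16, 2], [55, 214, -10, 160, 170, 67, -19, 31, 7, 18, 30, -35, 94, -48, -38, 3, 2, 9, 14, 7, 2, 1, 3, 10, 0, 2, -1, 0, -10, 2, -1]⟩))) (.node 2 (.node 1 (.leaf ⟨6, 3, true, [6, 0, 36, 35, 2, 39, 26], [21, 35, 37, 16, 6], [-48, 72, 105, -4, 198, -12, 4, 35, 6, -4, -21, -9, 41, -35, -57, -5, -7, 2, 4, 14, -6, 15, 2, 7, 0, 1, 0, 0, -2, -2, -1]⟩) (.leaf ⟨3, 6, true, [28, 16,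 34, 39, 35, 28], [27, 38, 31, 36, 40, 36], [48, -82, -109, -5, -219, 6, -2, -37, -6, 4, 19, 11, -48, 40, 58, 5, 7, -3, -5, -15, 6, -15, -2, -8, 0, -1, 0, 0, 3, 2, 1]⟩)) (.node 1 (.leaf ⟨6, 6, true, [6, 0, 28, 30, 42, 29, 29], [20, 39, 42, 36, 10], [49, 270, 22, 188, 286, 74, -21, 49, 7, 23, 17, -41, 132, -75, -67, 0, 1, 12, 19, 16, -1, 6, 5, 16, 0, 2, -1, 0, -13, 0, -1]⟩) (.leaf ⟨6, 6, true, [2, 16, 31, 37, 31, 22], [29, 6, 33, 16, 43, 24, 10], [5, -27, -6, -16, -58, -2, -1, -11, 1, -10, 6, 3, -21, 15, 6, 4, -1, -3, -2, -4, 1, -1, 0, -2, -1, -1, 0, 0, 2, 1]⟩)))) (.node 4 (.node 2 (.node 1 (.leaf ⟨6, 6, true, [2, 0, 38, 30, 42, 32, 8], [22, 25, 30, 35, 41, 37], [-4, 29, 6, 16, 58, 2, 1, 11, -1, 10, -6, -3, 19, -15, -7, -4, 1, 3, 2, 4, -1, 1, 0, 2, 1, 1, 0, 0, -2, -1]⟩) (.leaf ⟨6, 6, true,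 [19, 31, 40, 25, 30, 12], [12, 21, 26, 6, 37, 8], [-10, 86, 38, 44, 173, 10, -4, 26, 1, 14, -19, -9, 56, -40, -36, -7, 0, 6, 7, 13, -4, 6, 2, 8, 1, 1, 0, 0, -5, -3]⟩)) (.node 1 (.leaf ⟨6, 6, true, [2, 36, 16, 21, 14, 6], [25, 18, 30, 41, 8, 18], [9, -84, -37, -45, -172, -10, 4, -25, -1, -14, 19, 8, -54, 40, 35, 7, 0, -6, -7, -13, 4, -6, -2, -8, -1, -1, 0, 0, 5, 3]⟩) (.leaf ⟨6, 6, true, [0, 19, 37, 43, 14, 0], [32, 43, 41, 35, 37, 10], [-47, 48, 96, -24, 149, -9, 9, 21, 9, -7, -4, -3, 17, -33, -30, -6, -2, 2, 4, 10, -5, 10, 3, 4, -1, -2, 2, 0, -2, -3, -1]⟩))) (.node 2 (.node 1 (.leaf ⟨6, 6, true, [21, 25, 30, 34, 41, 25], [8, 11, 19, 27, 39, 19, 24], [51, 207, -6, 155, 172, 68, -21, 29, 7, 21, 33, -32, 96, -49, -39, 3, 1, 8, 14, 7, 2, 0, 3, 11, 0, 2, -1, 0, -11, 2, -1]⟩) (.leaf ⟨6, 6,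 true, [6, 40, 39, 22, 26, 8], [39, 39, 35, 10, 6, 25], [-50, -207, 6, -155, -172, -68, 21, -29, -7, -21, -33, 32, -94, 49, 38, -3, -1, -8, -14, -7, -2, 0, -3, -11, 0, -2, 1, 0, 11, -2, 1]⟩)) (.node 1 (.leaf ⟨6, 3, true, [12, 36, 33, 40, 12, 0], [36, 31, 14, 25, 41, 11], [7, 62, 33, 33, 102, 4, 1, 0, 4, 10, 4, 0, -1, -31, -14, -5, 0, 4, 5, 8, -2, -1, 0, 5, 2, -2, 1, 0, -4, -1]⟩) (.leaf ⟨3, 6, true, [6, 35, 31, 37, 16, 10], [4, 13, 41, 32, 37, 13], [-1, -74, -46, -39, -141, -8, -1, -4, -7, -11, -5, 2, -4, 41, 18, 6, 0, -5, -7, -11, 3, 0, 0, -6, -2, 2, -1, 0, 5, 2]⟩)))))) (.node 15 (.node 7 (.node 3 (.node 1 (.leaf ⟨6, 6, true, [10, 10, 34, 39, 26, 14], [14, 29, 40, 16, 33, 19], [-30, -92, 5, -93, -133, -30, 4, -18, 7, -29, 9, 14, -54, 26, 39, 1, -1, -3, -10, -9, 2, -3, -2, -5, -1, -4, 0,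 0, 5, 2]⟩) (.node 1 (.leaf ⟨6, 6, true, [27, 22, 11, 39, 23, 35], [4, 27, 19, 41, 39, 19], [29, 94, -4, 92, 134, 30, -4, 19, -7, 29, -9, -15, 56, -26, -40, -1, 1, 3, 10, 9, -2, 3, 2, 5, 1, 4, 0, 0, -5, -2]⟩) (.leaf ⟨6, 6, true, [23, 36, 42, 24, 37, 4], [24, 4, 36, 43, 33, 37], [2, 14, 10, -1, 9, 3, -2, -1, -4, -1, -1, -2, -1, -1, -2, -1, 2, 1, 1, 1, 0, 1, 0, 2, 0, -1, 1, 0, -1, 0, -1]⟩))) (.node 2 (.node 1 (.leaf ⟨6, 3, true, [19, 19, 34, 18, 36, 12], [30, 34, 29, 33, 41], [-1, -54, -10, -42, -85, -9, 7, -13, -2, -4, 14, 8, -39, 18, 22, 3, 0, -2, -5, -4, 2, -3, -2, -3, 0, 0, -2, 0, 3, 1, -1]⟩) (.leaf ⟨3, 6, true, [40, 43, 37, 33, 11], [12, 33, 35, 19, 6, 2], [-1, 69, 24, 48, 129, 10, -7, 17, 3, 7, -14, -12, 46, -27, -28, -4, 0, 3, 7, 7, -3, 4, 2, 4, 0, 0, 2, 0, -4, -2, 1]⟩)) (.node 1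 (.leaf ⟨6, 6, true, [28, 0, 32, 35, 22, 38, 2], [10, 4, 29, 39, 14, 20, 14], [-20, 73, 46, 4, 1, 34, -13, -11, 3, -37, 48, 7, 14, -20, 36, 4, 6, 8, 7, -4, 5, -12, -3, 3, -2, -5, 3, 0, -7, 5, -2]⟩) (.leaf ⟨6, 6, true, [18, 27, 38, 14, 28, 11], [38, 37, 22, 42, 33, 20], [21, -71, -46, -4, -1, -34, 13, 11, -3, 37, -48, -7, -16, 20, -37, -4, -6, -8, -7, 4, -5, 12, 3, -3, 2, 5, -3, 0, 7, -5, 2]⟩)))) (.node 4 (.node 2 (.node 1 (.leaf ⟨6, 6, true, [36, 42, 36, 30, 36, 6], [6, 33, 37, 35, 23, 8], [6, 32, 17, 19, 53, 3, 1, -1, 7, 1, 4, -6, -3, -18, -5, -3, 0, 2, 1, 4, -1, -2, 0, 2, 0, -1, 1, 0, -2, 2]⟩) (.leaf ⟨6, 6, true, [41, 8, 30, 39, 30, 23], [6, 21, 10, 26, 2, 28], [-5, -30, -17, -19, -53, -3, -1, 1, -7, -1, -4, 6, 1, 18, 4, 3, 0, -2, -1, -4, 1, 2, 0, -2, 0, 1, -1, 0, 2, -2]⟩)) (.node 1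 (.leaf ⟨5, 6, true, [13, 38, 35, 23, 33, 26], [37, 38, 42, 26, 20, 25], [43, 88, -66, 106, 24, 46, -4, 7, -4, 34, 0, -8, 55, -5, -5, 4, 6, 3, 5, 0, 3, -9, -1, 6, -1, 4, -2, 0, -4, 4, 1]⟩) (.leaf ⟨6, 5, true, [4, 32, 23, 37, 32, 8], [29, 37, 27, 13, 20, 16], [-44, -86, 67, -107, -23, -46, 4, -6, 4, -34, 0, 7, -53, 5, 4, -4, -6, -3, -5, 0, -3, 9, 1, -6, 1, -4, 2, 0, 4, -4, -1]⟩))) (.node 2 (.node 1 (.leaf ⟨6, 6, true, [33, 2, 21, 8, 41, 26], [40, 43, 33, 8, 6], [22, -109, -82, -54, -268, -11, 5, -34, 2, -10, 16, 10, -63, 57, 42, 9, 2, -7, -11, -17, 6, -7, -1, -9, -1, -1, 0, 0, 7, 4]⟩) (.leaf ⟨6, 6, true, [33, 19, 34, 31, 2, 33], [39, 2, 10, 20, 36, 23, 12], [-23, 111, 83, 53, 269, 11, -5, 35, -2, 10, -16, -11, 65, -57, -43, -9, -2, 7, 11, 17, -6, 7, 1, 9, 1, 1, 0, 0, -7, -4]⟩)) (.node 1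 (.leaf ⟨3, 6, true, [40, 34, 2, 26, 4], [16, 24, 39, 24, 12, 16], [-17, -174, -59, -118, -324, -44, -2, -39, 1, -48, 11, 30, -88, 74, 80, 5, 0, -7, -20, -22, 6, -10, -3, -12, -2, -3, 0, 0, 9, 5]⟩) (.leaf ⟨6, 6, true, [2, 38, 40, 28, 20, 18], [22, 39, 42, 13, 37, 14], [20, 65, 11, 39, 43, 22, -9, 17, 10, -14, 17, -15, 26, -9, -10, 3, 0, 2, 1, -2, 2, -1, 2, 2, 1, 2, -1, 0, -2, 3, -1]⟩))))) (.node 8 (.node 4 (.node 2 (.node 1 (.leaf ⟨6, 6, true, [4, 16, 42, 26, 24, 13], [0, 24, 29, 2, 29, 11], [-21, -63, -10, -40, -42, -22, 9, -16, -10, 14, -17, 14, -24, 9, 9, -3, 0, -2, -1, 2, -2, 1, -2, -2, -1, -2, 1, 0, 2, -3, 1]⟩) (.leaf ⟨6, 6, true, [12, 0, 34, 20, 41, 28, 23], [38, 0, 18, 18, 41, 33, 16], [28, -115, -67, -54, -244, -17, 6, -28, 9, -22, 1, 14, -58, 51, 19, 7, 1, -8, -11, -14, 4, -1,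 1, -8, -1, 0, 0, 0, 8, 4]⟩)) (.node 1 (.leaf ⟨6, 6, true, [0, 37, 18, 40, 21, 16], [22, 2, 33, 21, 29, 38, 2], [-29, 119, 68, 53, 245, 17, -6, 29, -9, 22, -1, -15, 56, -51, -20, -7, -1, 8, 11, 14, -4, 1, -1, 8, 1, 0, 0, 0, -8, -4]⟩) (.leaf ⟨6, 6, true, [31, 18, 37, 38, 19, 24], [0, 36, 34, 31, 39, 21], [6, 39, -4, 20, 0, 11, -11, 3, 4, -21, 9, -6, 16, -4, 0, 2, -1, 2, -1, -3, 2, -2, 1, 1, 1, 0, 0, 0, -1, 3, -1]⟩))) (.node 2 (.node 1 (.leaf ⟨6, 6, true, [33, 23, 34, 26, 8, 20], [33, 0, 40, 22, 35, 23, 16], [9, 202, 76, 135, 392, 41, 0, 49, 1, 44, -25, -39, 113, -85, -92, -7, -1, 8, 21, 27, -8, 12, 4, 13, 2, 4, 0, 0, -10, -6]⟩) (.leaf ⟨6, 6, true, [4, 43, 41, 25, 32, 6], [25, 19, 39, 26, 36, 18], [-10, -198, -75, -136, -391, -41, 0, -48, -1, -44, 25, 38, -115, 85, 91, 7, 1, -8, -21, -27,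 8, -12, -4, -13, -2, -4, 0, 0, 10, 6]⟩)) (.node 1 (.leaf ⟨6, 6, true, [39, 0, 42, 4, 40, 16, 25], [37, 22, 34, 29, 37, 23], [-42, -88, -9, -93, -148, -36, -3, -22, 5, -35, 8, 16, -58, 27, 46, 0, -1, -4, -9, -9, 2, -6, -3, -5, -1, -6, 1, 0, 5, 1]⟩) (.leaf ⟨6, 6, true, [22, 2, 16, 0, 41, 24, 30], [14, 27, 36, 10, 34, 23], [41, 90, 10, 92, 149, 36, 3, 23, -5, 35, -8, -17, 60, -27, -47, 0, 1, 4, 9, 9, -2, 6, 3, 5, 1, 6, -1, 0, -5, -1]⟩)))) (.node 4 (.node 2 (.node 1 (.leaf ⟨6, 6, true, [12, 19, 38, 22, 21, 40], [6, 31, 20, 36, 27, 30], [32, 105, 14, 89, 164, 30, 0, 19, 0, 25, -7, -22, 51, -36, -59, 1, -1, 1, 13, 11, -3, 6, 3, 6, 1, 3, 0, 0, -5, -2]⟩) (.leaf ⟨6, 6, true, [4, 38, 23, 11, 43], [20, 11, 38, 28, 26, 2], [-33, -102, -13, -90, -163, -30, 0, -18, 0, -25, 7, 21, -51, 36, 58, -1, 1,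 -1, -13, -11, 3, -6, -3, -6, -1, -3, 0, 0, 5, 2]⟩)) (.node 1 (.leaf ⟨6, 6, true, [22, 37, 33, 29, 21, 43], [41, 0, 27, 28, 43, 11, 21], [-36, -111, 35, -78, 42, -43, 27, -1, -6, 22, -46, 13, -36, -1, -27, -7, -2, -7, 0, 8, -7, 7, 0, -4, 2, 2, 1, 0, 5, -6, 1]⟩) (.leaf ⟨6, 6, true, [23, 6, 16, 43, 20, 36, 29], [37, 42, 29, 22, 37, 23], [37, 113, -35, 78, -42, 43, -27, 1, 6, -22, 46, -13, 34, 1, 26, 7, 2, 7, 0, -8, 7, -7, 0, 4, -2, -2, -1, 0, -5, 6, -1]⟩))) (.node 2 (.node 1 (.leaf ⟨6, 6, true, [2, 38, 42, 27, 11, 13], [13, 19, 40, 37, 18, 27], [-35, -73, 17, -87, -96, -31, 4, -14, 7, -25, 8, 11, -52, 17, 36, 0, -1, -2, -8, -6, 1, -2, -2, -4, -1, -4, 0, 0, 3, 1]⟩) (.leaf ⟨6, 6, true, [24, 40, 28, 25, 18, 6], [43, 39, 37, 21, 35, 16], [34, 76, -16, 86, 97, 31, -4, 15, -7, 25, -8, -12, 52,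 -17, -37, 0, 1, 2, 8, 6, -1, 2, 2, 4, 1, 4, 0, 0, -3, -1]⟩)) (.node 1 (.leaf ⟨3, 6, true, [12, 39, 40, 22, 42, 21], [10, 24, 27, 35, 28, 33, 25], [-4, 40, 37, 7, 1, 2, -2, -2, 10, -35, 5, -3, 13, -5, -16, 3, -2, 0, 1, 0, 0, 5, 2, 1, -2, 0, 3, 0, -1, 0, -1]⟩) (.leaf ⟨6, 3, true, [40, 0, 24, 28, 37, 27, 25], [28, 21, 10, 43, 33, 28], [3, -38, -36, -8, 0, -2, 2, 3, -10, 35, -5, 2, -11, 5, 15, -3, 2, 0, -1, 0, 0, -5, -2, -1, 2, 0, -3, 0, 1, 0, 1]⟩)))))))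
noncomputable def dF850 : BT Fct := (.node 30 (.node 15 (.node 7 (.node 3 (.node 1 (.leaf ⟨6, 6, true, [2, 20, 13, 27, 2, 19], [4, 36, 6, 25, 18], [-34, -3, 51, -32, 66, -25, -3, 16, -3, -7, -28, -1, -16, 1, -35, -6, -4, -4, 0, 8, -5, 8, 0, 2, -2, 1, 2, 0, 1]⟩) (.node 1 (.leaf ⟨6, 6, true, [6, 19, 26, 8, 39, 10], [19, 16, 18, 38, 38, 20], [33, 6, -50, 31, -65, 25, 3, -15, 3, 7, 28, 0, 16, -1, 34, 6, 4, 4, 0, -8, 5, -8, 0, -2, 2, -1, -2, 0, -1]⟩) (.leaf ⟨6, 6, true, [12, 0, 11, 38, 43, 39, 22], [0, 6, 42, 37, 12, 24], [20, 203, 59, 145, 345, 49, 0, 48, 1, 45, -12, -35, 99, -75, -89, -5, 0, 7, 22, 23, -6, 9, 5, 12, 2, 5, 0, 0, -10, -5, -1]⟩))) (.node 2 (.node 1 (.leaf ⟨6, 6, true, [12, 40, 32, 43, 33, 16], [23, 30, 13, 36, 25, 31], [-21, -199, -58, -146, -344, -49, 0, -47, -1, -45, 12,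 34, -101, 75, 88, 5, 0, -7, -22, -23, 6, -9, -5, -12, -2, -5, 0, 0, 10, 5, 1]⟩) (.leaf ⟨6, 6, true, [36, 35, 31, 39, 26, 11], [4, 6, 8, 18, 30, 2], [18, -95, -58, -34, -126, -11, 5, -19, -6, 10, 3, 13, -45, 32, 36, 1, 2, -4, -6, -8, 2, -9, -2, -6, 1, 0, -2, 0, 5, 0, 1]⟩)) (.node 1 (.leaf ⟨6, 6, true, [43, 8, 38, 40, 33, 6], [24, 12, 35, 16, 37], [-27, -190, -18, -141, -202, -73, 15, -16, 0, -7, -7, 7, -109, 59, 14, 1, -12, -14, -21, -14, 1, 8, 2, -13, 2, 1, -2, 0, 11]⟩) (.leaf ⟨5, 6, true, [29, 34, 39, 43, 21, 19], [6, 24, 30, 11, 11, 2], [-2, 142, 59, 88, 256, 23, -7, 28, -2, 25, 2, -10, 58, -72, -41, -7, -3, 8, 13, 17, -5, 5, 2, 8, 1, 1, 1, 0, -9, -4, -1]⟩)))) (.node 4 (.node 2 (.node 1 (.leaf ⟨6, 6, true, [0, 35, 13, 23, 26, 12], [24, 16, 38, 18, 18, 13], [-19, -128, 1, -96, -138,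 -41, 16, -17, 4, -9, 0, 10, -68, 36, 21, 1, -4, -7, -13, -9, 0, 1, 1, -8, 0, 0, 0, 0, 8, 1, -1]⟩) (.leaf ⟨6, 6, true, [38, 36, 24, 36, 34, 25], [18, 21, 6, 41, 10], [20, 130, -1, 96, 138, 41, -16, 17, -4, 9, 0, -10, 66, -36, -22, -1, 4, 7, 13, 9, 0, -1, -1, 8, 0, 0, 0, 0, -8, -1, 1]⟩)) (.node 1 (.leaf ⟨6, 5, true, [10, 41, 41, 4, 41, 25], [32, 0, 24, 36, 33, 28, 23], [1, -30, 0, -18, -48, -9, 5, -5, 0, -7, -1, 9, -13, 9, 10, -1, 0, -2, -4, -2, 0, -3, -1, -2, 0, 0, 2, 0, 2]⟩) (.leaf ⟨5, 6, true, [6, 39, 12, 20, 31], [18, 29, 10, 35, 29, 10], [1, 32, -1, 19, 46, 9, -5, 6, 0, 7, 1, -10, 13, -9, -11, 1, 0, 2, 4, 2, 0, 3, 1, 2, 0, 0, -2, 0, -2]⟩))) (.node 2 (.node 1 (.leaf ⟨6, 6, true, [23, 30, 35, 14, 10, 26], [2, 18, 33, 19, 2], [-19, 24, 47, 7, 91, -21, 3, 27, 9, 7, -26, -13, 23, -16, -48,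 -6, -7, -2, -1, 8, -5, 14, 4, 3, 0, -1, 4, 0, 0, -2, -1]⟩) (.leaf ⟨6, 6, true, [16, 29, 43, 34, 34, 25], [19, 2, 43, 41, 18, 43, 29], [20, -24, -47, -7, -91, 21, -3, -27, -9, -7, 26, 13, -21, 16, 47, 6, 7, 2, 1, -8, 5, -14, -4, -3, 0, 1, -4, 0, 0, 2, 1]⟩)) (.node 1 (.leaf ⟨6, 6, true, [2, 27, 24, 20, 2], [8, 11, 30, 29, 35, 21], [18, 109, 24, 67, 112, 39, -7, 7, 2, 9, 14, -9, 55, -34, -1, 1, 3, 8, 9, 4, 2, -5, -2, 7, 1, 2, -2, 0, -9, 2, -1]⟩) (.leaf ⟨6, 6, true, [39, 36, 18, 37, 40], [2, 31, 25, 22, 13, 2], [-19, -106, -23, -68, -111, -39, 7, -6, -2, -9, -14, 8, -55, 34, 0, -1, -3, -8, -9, -4, -2, 5, 2, -7, -1, -2, 2, 0, 9, -2, 1]⟩))))) (.node 7 (.node 3 (.node 1 (.leaf ⟨6, 6, true, [2, 32, 27, 23, 16, 2], [16, 4, 42, 28, 37, 31], [-28, -14, 52, -39, 65, -16, 8, 14, 3, 0, -14, 0, -13,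 -8, -23, -5, -2, -3, -2, 7, -5, 6, 2, 0, 0, 0, 2, 0, 1, -1]⟩) (.node 1 (.leaf ⟨6, 5, true, [8, 23, 10, 43, 28, 8], [40, 34, 32, 37, 43, 27], [16, 20, 6, 15, 29, 21, 4, 4, 0, -6, 19, -11, 26, 2, -2, 6, 2, -1, 0, -2, 2, 0, 0, 3, 0, 2, -1, 0, -2, 0, -1]⟩) (.leaf ⟨5, 6, true, [0, 31, 43, 41, 38, 0], [2, 39, 43, 2, 34, 19], [-21, -52, -7, -40, -66, -32, -1, -7, 0, 1, -19, 14, -43, 7, 6, -6, -3, -1, -3, 0, -2, 0, 0, -5, 0, -2, 1, 0, 4, 0, 1]⟩))) (.node 2 (.node 1 (.leaf ⟨6, 6, true, [2, 4, 29, 20, 2], [25, 39, 32, 43, 16, 36], [43, 27, -32, 47, 2, 13, -11, -2, -14, 17, -17, 1, 21, 1, 4, 1, 6, 2, 7, 1, 0, -2, -2, 2, -1, -1, 0, 0, -3, 0, 1]⟩) (.leaf ⟨5, 6, true, [0, 16, 38, 23, 6, 23], [4, 34, 30, 36, 38, 8], [23, -7, -59, 24, -45, 11, -8, -10, -8, 17, 7, -4, -11, 9, 24, 2, 2, 1, 1, -3, 2, -9,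 -2, -1, 1, 0, -1, 0, -2, 0, 1]⟩)) (.node 1 (.leaf ⟨6, 5, true, [2, 10, 39, 16, 33, 0], [37, 39, 19, 25, 37], [-24, 11, 60, -25, 46, -11, 8, 11, 8, -17, -7, 3, 9, -9, -25, -2, -2, -1, -1, 3, -2, 9, 2, 1, -1, 0, 1, 0, 2, 0, -1]⟩) (.leaf ⟨6, 6, true, [39, 31, 21, 14, 40, 23], [20, 32, 19, 38, 33, 21], [-5, -119, -26, -74, -80, -50, 11, -3, 4, 10, -29, 2, -75, 34, -6, -3, -7, -9, -14, -2, -3, 7, 2, -6, 1, 1, -2, 0, 9, -1, 1]⟩)))) (.node 4 (.node 2 (.node 1 (.leaf ⟨6, 6, true, [22, 39, 18, 33, 21], [34, 36, 30, 40, 33, 26], [6, 121, 26, 74, 80, 50, -11, 3, -4, -10, 29, -2, 73, -34, 5, 3, 7, 9, 14, 2, 3, -7, -2, 6, -1, -1, 2, 0, -9, 1, -1]⟩) (.leaf ⟨6, 5, true, [0, 35, 10, 33, 10, 6], [42, 21, 26, 43, 25, 21], [-14, 6, 25, -20, -39, -10, -3, -3, 5, -25, 12, 1, -6, 0, 6, 0, -2, 1, -3, -3, 1,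 0, 1, -1, -1, -1, 3, 0, 0, 1, -1]⟩)) (.node 1 (.leaf ⟨5, 6, true, [0, 13, 38, 20, 32, 21], [40, 34, 29, 40, 36, 8], [25, 30, -31, 50, 71, 21, -1, 7, -4, 32, -13, -6, 23, -9, -12, 0, 3, 1, 6, 5, -1, 0, -1, 3, 1, 1, -3, 0, -2, -1, 1]⟩) (.leaf ⟨6, 5, true, [10, 12, 38, 14, 30, 13], [12, 32, 34, 38, 35, 19], [-12, 7, 40, -11, 37, -14, 5, 8, 7, -9, -10, -2, 10, -8, -26, -2, -3, -1, -1, 3, -2, 9, 2, 1, 0, 0, 2, 0, 1, -1, -1]⟩))) (.node 2 (.node 1 (.leaf ⟨5, 6, true, [6, 0, 42, 36, 20, 30, 27], [11, 35, 23, 16, 33], [19, -4, -52, 19, -43, 14, -7, -8, -5, 13, 8, 0, -10, 8, 25, 2, 3, 1, 1, -3, 2, -9, -2, -1, 0, 0, -2, 0, -1, 1, 1]⟩) (.leaf ⟨6, 6, true, [35, 43, 41, 14, 24, 30], [33, 25, 27, 42, 4, 35], [15, 111, 14, 72, 48, 28, -10, 2, 2, -16, 15, -7, 60, -27, -9, 3, 1, 8, 8, 1, 3, 1, 0, 6, -1,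 0, 2, 0, -6, -1, -1]⟩)) (.node 1 (.leaf ⟨6, 6, true, [2, 6, 39, 21, 28, 10], [21, 37, 37, 37, 33, 37], [-14, -109, -14, -72, -48, -28, 10, -2, -2, 16, -15, 7, -62, 27, 8, -3, -1, -8, -8, -1, -3, -1, 0, -6, 1, 0, -2, 0, 6, 1, 1]⟩) (.leaf ⟨6, 6, true, [2, 14, 24, 18, 6, 2], [42, 19, 32, 39, 31, 24], [-4, -113, -15, -74, -118, -33, 10, -11, 3, -5, -8, 15, -47, 34, 17, 0, -1, -7, -10, -7, 0, 1, 0, -7, 0, 0, -1, 0, 9, 0, -1]⟩)))))) (.node 15 (.node 7 (.node 3 (.node 1 (.leaf ⟨6, 6, true, [20, 6, 12, 29, 8, 42, 24], [18, 30, 20, 40, 23, 33], [3, 115, 16, 73, 119, 33, -10, 12, -3, 5, 8, -16, 49, -34, -18, 0, 1, 7, 10, 7, 0, -1, 0, 7, 0, 0, 1, 0, -9, 0, 1]⟩) (.node 1 (.leaf ⟨6, 6, true, [38, 43, 2, 18, 43, 12], [11, 38, 27, 43, 37, 11], [-7, -20, -27, -12, -98, 2, -7, -7, -6, -19, 13, 5, -6,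 29, 23, 6, 0, -2, -2, -11, 4, -4, -1, -3, 0, 1, 0, 0, 2, -1, -1]⟩) (.leaf ⟨6, 6, true, [22, 29, 40, 35, 43, 32], [40, 23, 30, 18, 10, 2], [18, 25, -37, 33, 6, 15, -6, -4, -11, 22, 8, -3, 1, -8, 15, -1, 2, 2, 3, 1, 1, -9, -2, 1, 1, 1, 0, 0, -4]⟩))) (.node 2 (.node 1 (.leaf ⟨6, 6, true, [19, 0, 26, 41, 16, 35, 22], [27, 29, 21, 39, 37, 23], [-17, -25, 37, -33, -6, -15, 6, 4, 11, -22, -8, 3, 1, 8, -16, 1, -2, -2, -3, -1, -1, 9, 2, -1, -1, -1, 0, 0, 4]⟩) (.leaf ⟨6, 6, true, [36, 39, 40, 18, 0], [2, 40, 33, 41, 8, 2], [18, -204, -123, -109, -408, -31, 7, -44, 0, -14, 24, 25, -92, 93, 67, 10, 3, -11, -17, -28, 9, -7, -2, -15, 0, -1, -1, 0, 12, 3]⟩)) (.node 1 (.leaf ⟨6, 6, true, [6, 39, 34, 42, 14, 4], [4, 19, 41, 38, 37], [-19, 206, 124, 108, 409, 31, -7, 45, 0, 14, -24, -26, 94, -93, -68,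 -10, -3, 11, 17, 28, -9, 7, 2, 15, 0, 1, 1, 0, -12, -3]⟩) (.leaf ⟨5, 6, true, [24, 26, 35, 32, 36, 34], [19, 28, 30, 41, 24, 6], [24, -142, -79, -67, -230, -29, 5, -34, 6, -7, -5, 12, -80, 48, 52, 1, 3, -7, -10, -15, 3, -8, -3, -9, -2, -1, 1, 0, 7, 2]⟩)))) (.node 4 (.node 2 (.node 1 (.leaf ⟨6, 5, true, [10, 10, 33, 34, 19, 21, 14], [33, 4, 6, 18, 42, 38, 2], [-23, 144, 79, 67, 230, 29, -5, 34, -6, 7, 5, -12, 78, -48, -53, -1, -3, 7, 10, 15, -3, 8, 3, 9, 2, 1, -1, 0, -7, -2]⟩) (.leaf ⟨6, 6, true, [8, 36, 38, 40, 24, 24], [22, 40, 29, 13, 34, 4], [15, -95, -67, -40, -188, -18, -6, -33, -13, 8, 1, 10, -74, 45, 34, 0, 2, -6, -6, -12, 3, -8, -3, -7, -1, -3, 2, 0, 5, 3, 2]⟩)) (.node 1 (.leaf ⟨6, 6, true, [13, 23, 38, 43, 36, 20], [10, 0, 33, 21, 36, 28, 21], [-16, 97, 68, 39, 189, 18, 6, 34,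 13, -8, -1, -11, 76, -45, -35, 0, -2, 6, 6, 12, -3, 8, 3, 7, 1, 3, -2, 0, -5, -3, -2]⟩) (.leaf ⟨5, 6, true, [23, 14, 35, 30, 43, 26], [22, 28, 42, 18, 36], [2, 5, 3, 0, 8, 0, 7, 10, 2, 8, 4, -8, 6, -3, -2, 1, 0, 1, 1, 0, 0, 2, 0, 0, 0, 1, -2]⟩))) (.node 2 (.node 1 (.leaf ⟨6, 5, true, [4, 34, 43, 31, 36, 2], [20, 0, 41, 31, 34, 42, 6], [-3, -2, -2, -1, -7, 0, -7, -9, -2, -8, -4, 7, -6, 3, 1, -1, 0, -1, -1, 0, 0, -2, 0, 0, 0, -1, 2]⟩) (.leaf ⟨3, 6, true, [2, 30, 36, 20, 19, 19], [39, 28, 11, 6, 25, 2], [-25, -293, -69, -195, -383, -96, 19, -27, -3, -29, -15, 26, -143, 110, 38, 5, -10, -20, -30, -27, 4, 8, 2, -20, 1, 3, -3, 0, 18, 1]⟩)) (.node 1 (.leaf ⟨6, 3, true, [0, 36, 31, 34, 31, 6], [8, 21, 34, 37, 42, 0], [24, 295, 70, 194, 384, 96, -19, 28, 3, 29, 15, -27, 145, -110, -39, -5, 10,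 20, 30, 27, -4, -8, -2, 20, -1, -3, 3, 0, -18, -1]⟩) (.leaf ⟨6, 6, true, [13, 24, 38, 27, 30, 29], [0, 38, 28, 11, 27, 12], [-30, -194, 21, -171, -194, -64, 6, -36, 1, -39, 4, 23, -112, 44, 46, -1, -1, -8, -11, -12, 0, 3, -2, -13, 1, -5, 2, 0, 9, -3, -1]⟩))))) (.node 8 (.node 4 (.node 2 (.node 1 (.leaf ⟨6, 6, true, [19, 23, 39, 4, 42], [32, 2, 39, 32, 24, 42, 0], [29, 197, -20, 170, 195, 64, -6, 37, -1, 39, -4, -24, 112, -44, -47, 1, 1, 8, 11, 12, 0, -3, 2, 13, -1, 5, -2, 0, -9, 3, 1]⟩) (.leaf ⟨5, 6, true, [26, 13, 19, 35, 23, 13], [2, 29, 40, 13, 39, 29], [-1, 102, 34, 60, 119, 30, -7, 18, -4, 7, 5, -2, 57, -29, -12, 0, 3, 6, 10, 6, 0, -1, 0, 6, -1, 0, 0, 0, -6, -1]⟩)) (.node 1 (.leaf ⟨6, 6, true, [18, 38, 31, 36, 40, 20], [19, 4, 40, 23, 40, 25, 26], [27, -92, -101, -33, -255, -15,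 -5, -28, -13, -9, 8, 20, -70, 57, 49, 5, 1, -7, -8, -18, 6, -14, -2, -10, -1, -1, 1, 0, 7, 4]⟩) (.leaf ⟨6, 6, true, [40, 13, 35, 32, 14, 31], [25, 12, 38, 24, 11, 26], [-1, -37, -8, -36, -44, -11, 11, -7, 8, 5, 7, 2, -34, 8, 10, 1, 1, 0, -1, -4, 1, 2, -1, -3, 0, -2, 0, 0, 3, 1, -1]⟩))) (.node 2 (.node 1 (.leaf ⟨6, 6, true, [16, 28, 39, 27, 8, 20], [36, 21, 31, 36, 41, 16], [0, 39, 9, 35, 45, 11, -11, 8, -8, -5, -7, -3, 36, -8, -11, -1, -1, 0, 1, 4, -1, -2, 1, 3, 0, 2, 0, 0, -3, -1, 1]⟩) (.leaf ⟨6, 6, true, [35, 33, 42, 23, 41, 39], [22, 12, 37, 21, 40, 35, 25], [2, 51, 7, 34, 46, 13, -3, 5, 3, 1, -2, -4, 20, -9, -7, 1, -1, 2, 4, 4, 0, -1, -1, 2, 0, 2, -2, 0, -3]⟩)) (.node 1 (.leaf ⟨6, 6, true, [33, 26, 34, 29, 6, 2], [32, 43, 41, 24, 10, 34], [-3, -47, -6, -35, -45, -13, 3, -4, -3, -1,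 2, 3, -22, 9, 6, -1, 1, -2, -4, -4, 0, 1, 1, -2, 0, -2, 2, 0, 3]⟩) (.leaf ⟨6, 6, true, [4, 29, 38, 11, 8, 0], [26, 10, 28, 43, 37, 43], [-13, 2, 10, -17, -50, -4, 5, 4, 2, -12, 1, -3, 16, 11, -25, 2, -1, -3, -1, -2, 1, 11, 2, 1, -1, 1, 2, 0, 0, -1, -1]⟩)))) (.node 4 (.node 2 (.node 1 (.leaf ⟨6, 6, true, [0, 11, 29, 34, 22, 11], [16, 20, 40, 8, 35, 0], [-11, 127, 63, 76, 225, 31, -1, 29, -6, 8, -1, -22, 86, -46, -48, -2, -4, 7, 7, 14, -3, 9, 3, 10, -1, 1, 0, 0, -7, -2, 1]⟩) (.leaf ⟨6, 6, true, [14, 43, 10, 24, 20], [12, 19, 35, 6, 29, 12], [12, -127, -63, -76, -225, -31, 1, -29, 6, -8, 1, 22, -84, 46, 47, 2, 4, -7, -7, -14, 3, -9, -3, -10, 1, -1, 0, 0, 7, 2, -1]⟩)) (.node 1 (.leaf ⟨6, 5, true, [31, 2, 22, 34, 27, 2, 23], [8, 43, 41, 25, 33, 26], [-1, -54, -9, -19, -26, -8, 20, -11, -9,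 12, -5, 10, -20, 15, 7, 0, 2, -4, -3, 0, -1, 0, -2, -1, -2, -1, -1, 0, 3, 1, 1]⟩) (.leaf ⟨5, 6, true, [11, 31, 42, 35, 33, 23], [12, 38, 2, 22, 18], [5, 56, 3, 23, 23, 8, -21, 11, 10, -10, 4, -11, 20, -15, -8, 0, -2, 4, 3, 0, 1, 0, 2, 1, 2, 1, 1, 0, -3, -1, -1]⟩))) (.node 2 (.node 1 (.leaf ⟨6, 6, true, [8, 11, 23, 32, 40, 27, 28], [0, 31, 37, 20, 31, 25], [0, 90, 6, 61, 74, 22, -6, 6, -4, 9, 13, -7, 35, -25, -23, -1, -4, 4, 5, 5, 0, 2, 2, 4, -1, -1, 1, 0, -4, 1]⟩) (.leaf ⟨5, 6, true, [16, 36, 42, 23, 30, 27], [2, 0, 22, 40, 24, 21, 18], [33, 90, -21, 87, 96, 34, -18, 6, -12, 24, -7, -4, 44, -32, -2, -2, 7, 7, 10, 8, -1, -5, -1, 6, 1, -1, 0, 0, -6, -2, 1]⟩)) (.node 1 (.leaf ⟨6, 5, true, [29, 0, 40, 27, 35, 21, 11], [14, 28, 31, 34, 6, 4], [-32, -90, 21, -87, -96, -34, 18, -6, 12, -24,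 7, 4, -42, 32, 1, 2, -7, -7, -10, -8, 1, 5, 1, -6, -1, 1, 0, 0, 6, 2, -1]⟩) (.leaf ⟨6, 6, true, [22, 0, 36, 42, 25, 10, 26], [39, 31, 16, 13, 25], [18, 82, -1, 78, 144, 21, -6, 23, -11, 27, -35, -13, 49, -28, -45, -4, 1, 1, 8, 12, -4, 6, 1, 7, 1, 2, 0, 0, -4, -2]⟩)))))))
noncomputable def dF911 : BT Fct := (.node 30 (.node 15 (.node 7 (.node 3 (.node 1 (.leaf ⟨6, 6, true, [6, 11, 34, 42, 38, 16], [29, 0, 43, 36, 27, 33, 6], [-29, 57, 92, 4, 164, 5, 6, 16, 3, -7, 0, -6, 48, -36, -41, -4, -2, 3, 6, 12, -4, 10, 2, 6, -1, 0, 1, 0, -4, -1, -1]⟩) (.node 1 (.leaf ⟨6, 6, true, [38, 26, 40, 11, 43, 38], [25, 18, 16, 35, 19, 26], [30, -57, -92, -4, -164, -5, -6, -16, -3, 7, 0, 6, -46, 36, 40, 4, 2, -3, -6, -12, 4, -10, -2, -6, 1, 0, -1, 0, 4, 1, 1]⟩) (.leaf ⟨6, 6, true, [11, 33, 11, 40, 14], [21,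 0, 21, 34, 27, 11, 30], [0, 78, 96, 18, 259, 6, 23, 32, 20, 27, -28, -9, 36, -58, -65, -8, 1, 0, 10, 24, -9, 10, 0, 10, 1, 6, -1, 0, -7, -4, -1]⟩))) (.node 2 (.node 1 (.leaf ⟨6, 6, true, [43, 2, 19, 36, 20, 20], [12, 11, 42, 32, 10], [-1, -76, -95, -19, -258, -6, -23, -31, -20, -27, 28, 8, -34, 58, 64, 8, -1, 0, -10, -24, 9, -10, 0, -10, -1, -6, 1, 0, 7, 4, 1]⟩) (.leaf ⟨6, 6, true, [0, 6, 28, 36, 18, 20], [31, 42, 21, 32, 40, 16], [2, 63, 21, 54, 105, 2, -11, 8, -4, 1, -8, -7, 34, -28, -27, -5, -1, 1, 4, 9, -3, 4, 0, 5, 0, 0, 3, 0, -3, -3]⟩)) (.node 1 (.leaf ⟨6, 6, true, [16, 8, 24, 41, 41, 42], [8, 35, 2, 27, 37, 28], [-3, -60, -20, -55, -104, -2, 11, -7, 4, -1, 8, 6, -34, 28, 26, 5, 1, -1, -4, -9, 3, -4, 0, -5, 0, 0, -3, 0, 3, 3]⟩) (.leaf ⟨6, 6, true, [0, 41, 13, 38, 40, 16], [41, 41,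 24, 20, 40, 24], [19, 184, 11, 150, 248, 53, -16, 33, -16, 28, -10, -27, 108, -55, -46, -2, -1, 10, 15, 16, -2, 3, 2, 12, 1, 2, -1, 0, -11, -4, 1]⟩)))) (.node 4 (.node 2 (.node 1 (.leaf ⟨6, 6, true, [8, 13, 24, 35, 25, 26], [12, 2, 23, 6, 8], [-18, -184, -11, -150, -248, -53, 16, -33, 16, -28, 10, 27, -106, 55, 45, 2, 1, -10, -15, -16, 2, -3, -2, -12, -1, -2, 1, 0, 11, 4, -1]⟩) (.leaf ⟨6, 5, true, [8, 6, 24, 20, 2], [36, 20, 12, 28, 37], [-11, 51, 52, 23, 146, 3, 4, 12, 7, 6, -11, -9, 11, -40, -35, -7, -2, 1, 4, 13, -5, 4, 1, 6, 0, 0, 1, 0, -3, -1]⟩)) (.node 1 (.leaf ⟨5, 6, true, [37, 38, 35, 26, 8, 18], [41, 20, 6, 16, 12], [13, -49, -53, -22, -148, -3, -4, -11, -7, -6, 11, 8, -11, 40, 34, 7, 2, -1, -4, -13, 5, -4, -1, -6, 0, 0, -1, 0, 3, 1]⟩) (.leaf ⟨6, 5, true, [10, 39, 34, 41, 8],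 [19, 25, 38, 16, 25, 18], [-60, -237, -3, -164, -181, -79, 26, -21, 0, -29, -23, 17, -110, 47, 9, -1, -8, -15, -18, -6, -3, 5, 1, -12, -1, 1, 0, 0, 15, -3]⟩))) (.node 2 (.node 1 (.leaf ⟨5, 6, true, [4, 29, 11, 38, 31, 20], [41, 16, 41, 38, 6], [63, 207, -15, 150, 137, 68, -26, 17, 3, 30, 20, -16, 93, -38, -5, 1, 7, 13, 15, 4, 3, -5, -1, 10, 1, -1, 0, 0, -13, 3]⟩) (.leaf ⟨6, 6, true, [34, 41, 26, 20, 19, 11], [32, 34, 41, 30, 8, 23], [26, 48, -23, 58, 78, 5, -10, 12, -10, 34, -29, -16, 12, -17, -26, -5, 1, 0, 7, 8, -3, 2, -1, 5, 0, 1, 1, 0, -4, -2, 1]⟩)) (.node 1 (.leaf ⟨6, 6, true, [0, 27, 36, 34, 39, 22], [2, 32, 22, 22, 6], [15, -53, -28, -32, -62, -5, 9, -4, -3, 18, -12, 2, -35, 12, -7, -1, 4, -3, -2, 1, -1, 4, 0, -1, 0, 0, -1, 0, 4, -1, 1]⟩) (.leaf ⟨6, 6, true, [43, 27, 31, 36, 25,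 43], [26, 4, 40, 14, 24, 37], [4, -23, -32, -4, -67, 13, -15, -22, -1, -8, 25, -2, -8, 15, 49, 4, 2, 2, -3, -7, 4, -12, -2, -3, 0, -1, -1, 0, -4, 3]⟩))))) (.node 7 (.node 3 (.node 1 (.leaf ⟨6, 6, true, [4, 39, 33, 34, 39, 11], [35, 12, 20, 37, 24, 39], [-5, 25, 33, 3, 68, -13, 15, 23, 1, 8, -25, 1, 10, -15, -50, -4, -2, -2, 3, 7, -4, 12, 2, 3, 0, 1, 1, 0, 4, -3]⟩) (.node 1 (.leaf ⟨6, 6, true, [10, 21, 6, 36, 31, 14], [26, 41, 20, 34, 33, 2], [-3, -39, 12, -7, 17, -16, 23, 1, 10, 7, -4, 6, 3, 0, -5, -1, 0, -2, 0, 2, -2, 5, -1, -2, 0, -2, -1, 0, 3]⟩) (.leaf ⟨6, 6, true, [24, 0, 41, 31, 40, 40, 29], [34, 6, 22, 26, 14], [4, 39, -12, 7, -17, 16, -23, -1, -10, -7, 4, -6, -1, 0, 4, 1, 0, 2, 0, -2, 2, -5, 1, 2, 0, 2, 1, 0, -3]⟩))) (.node 2 (.node 1 (.leaf ⟨6, 6, true, [12, 10, 30, 40, 34, 23],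 [28, 27, 41, 10, 25, 8], [-12, -39, 7, -40, -110, -18, -6, -10, 5, -37, 16, 7, -20, 22, 17, 2, -3, -1, -8, -9, 3, -2, 1, -4, -1, -1, 1, 0, 3, 4]⟩) (.leaf ⟨6, 6, true, [20, 40, 16, 32, 26, 22], [24, 18, 39, 37, 43, 26], [11, 43, -6, 39, 111, 18, 6, 11, -5, 37, -16, -8, 18, -22, -18, -2, 3, 1, 8, 9, -3, 2, -1, 4, 1, 1, -1, 0, -3, -4]⟩)) (.node 1 (.leaf ⟨6, 6, true, [24, 4, 35, 27, 41, 38, 28], [8, 41, 28, 24, 40, 24], [-19, 23, 40, -15, 34, -12, 7, 6, 3, -7, -8, -5, 16, -14, -34, -6, 0, -1, -1, 6, -2, 12, 2, 3, -1, 0, 4, 0, -2, 0, -1]⟩) (.leaf ⟨6, 6, true, [11, 37, 24, 43, 25, 11], [43, 6, 23, 34, 26, 21], [18, -20, -39, 14, -33, 12, -7, -5, -3, 7, 8, 4, -16, 14, 33, 6, 0, 1, 1, -6, 2, -12, -2, -3, 1, 0, -4, 0, 2, 0, 1]⟩)))) (.node 4 (.node 2 (.node 1 (.leaf ⟨6, 6, true, [21, 0, 25, 40,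 42, 18, 26], [30, 10, 20, 38, 25, 36, 20], [-43, 67, 72, -5, 97, -13, -1, 26, 0, -8, 5, 9, 10, -33, -22, -6, -6, 1, 1, 6, -3, 3, 3, 1, 0, 1, 1, 0, -2, 0, -1]⟩) (.leaf ⟨6, 6, true, [24, 12, 34, 8, 42, 32], [6, 27, 33, 38, 36, 21], [44, -65, -72, 5, -97, 13, 1, -26, 0, 8, -5, -9, -12, 33, 21, 6, 6, -1, -1, -6, 3, -3, -3, -1, 0, -1, -1, 0, 2, 0, 1]⟩)) (.node 1 (.leaf ⟨6, 6, true, [21, 6, 34, 40, 23, 32, 26], [22, 4, 34, 20, 13, 38, 26], [3, 10, -12, 7, -13, -1, -4, 1, 0, -1, -2, -1, -6, 3, 0, -1, 1, 0, 0, 0, 0, -1, 0, 0, 0, 0, 1]⟩) (.leaf ⟨6, 6, true, [28, 40, 32, 18, 6, 32], [35, 32, 23, 36, 29, 14], [-4, -8, 13, -8, 14, 1, 4, 0, 0, 1, 2, 0, 8, -3, -1, 1, -1, 0, 0, 0, 0, 1, 0, 0, 0, 0, -1]⟩))) (.node 2 (.node 1 (.leaf ⟨6, 6, true, [21, 37, 10, 24, 30, 25], [36, 21, 43, 8, 24, 38, 29], [-31,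 87, 78, 14, 121, -3, -3, 19, 3, -11, 18, 1, 19, -36, -24, -6, -6, 3, 3, 6, -2, 0, 3, 3, 0, 0, 2, 0, -3, 1, -1]⟩) (.leaf ⟨6, 6, true, [38, 40, 25, 39, 20, 32], [14, 16, 25, 43, 35, 20], [30, -83, -77, -15, -120, 3, 3, -18, -3, 11, -18, -2, -21, 36, 23, 6, 6, -3, -3, -6, 2, 0, -3, -3, 0, 0, -2, 0, 3, -1, 1]⟩)) (.node 1 (.leaf ⟨6, 6, true, [10, 22, 2, 23, 32, 16], [18, 4, 2, 27, 37, 43, 2], [19, -15, -40, 15, -42, 12, -10, -8, -6, 1, 7, 5, -24, 16, 35, 5, 1, 1, 1, -6, 2, -14, -2, -3, 1, 0, -3, 0, 2, 0, 1]⟩) (.leaf ⟨6, 6, true, [39, 40, 31, 8, 34], [8, 18, 32, 42, 28, 21], [-10, -1, 41, -6, 68, -4, 15, 7, 17, -5, 6, 0, 21, -17, -10, 1, -3, 2, 1, 2, -1, 8, 0, 0, 1, -1, -2, 0, 0, 0, -1]⟩)))))) (.node 15 (.node 7 (.node 3 (.node 1 (.leaf ⟨6, 6, true, [6, 32, 10, 42, 41, 12], [37, 0, 40, 14,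 30, 34, 24], [3, -27, -20, -1, -21, -5, 8, -3, -17, 21, -16, 11, -23, 11, 4, -3, 4, -4, 1, 3, -2, -4, -4, -1, -1, -1, 1, 0, 3, -1, 2]⟩) (.node 1 (.leaf ⟨6, 6, true, [35, 33, 39, 14, 13, 20], [24, 43, 23, 30, 41], [-4, 29, 21, 0, 22, 5, -8, 4, 17, -21, 16, -12, 25, -11, -5, 3, -4, 4, -1, -3, 2, 4, 4, 1, 1, 1, -1, 0, -3, 1, -2]⟩) (.leaf ⟨6, 6, true, [14, 20, 39, 41, 22, 27], [41, 6, 14, 27, 39, 13, 20], [-47, 154, 115, 43, 221, 6, -2, 45, 10, -18, 12, -1, 70, -68, -37, -5, -8, 8, 5, 11, -3, 7, 4, 6, 2, 2, 0, 0, -6, -1, -3]⟩))) (.node 2 (.node 1 (.leaf ⟨6, 6, true, [22, 6, 34, 22, 40, 4], [14, 4, 26, 18, 36, 29, 10], [46, -151, -114, -44, -220, -6, 2, -44, -10, 18, -12, 0, -70, 68, 36, 5, 8, -8, -5, -11, 3, -7, -4, -6, -2, -2, 0, 0, 6, 1, 3]⟩) (.leaf ⟨6, 6, true, [35, 41, 36, 26, 10, 18],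 [10, 0, 38, 43, 27, 38], [4, 52, -14, 8, -37, 13, -29, -4, -13, -15, 1, -5, -18, 3, 6, -1, 1, 2, 0, -2, 2, -7, 0, 2, 0, 2, 3, 0, -3]⟩)) (.node 1 (.leaf ⟨6, 6, true, [34, 4, 31, 41, 23, 36, 29], [29, 26, 38, 40, 13, 24], [-5, -49, 15, -9, 38, -13, 29, 5, 13, 15, -1, 4, 18, -3, -7, 1, -1, -2, 0, 2, -2, 7, 0, -2, 0, -2, -3, 0, 3]⟩) (.leaf ⟨6, 6, true, [36, 0, 35, 23, 40, 35], [35, 6, 28, 33, 42, 11], [12, -4, -39, -29, -84, 11, -17, -4, -14, 4, -10, -6, -41, 14, 0, -1, 5, -1, -2, -1, 1, -2, 0, 1, 0, 2, 1, 0, 1, -1, 1]⟩)))) (.node 4 (.node 2 (.node 1 (.leaf ⟨6, 6, true, [26, 16, 39, 35, 33, 11], [18, 36, 18, 24, 26, 38], [-13, 6, 40, 28, 85, -11, 17, 5, 14, -4, 10, 5, 43, -14, -1, 1, -5, 1, 2, 1, -1, 2, 0, -1, 0, -2, -1, 0, -1, 1, -1]⟩) (.leaf ⟨6, 6, true, [29, 18, 39, 10, 23, 30], [39, 19,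 37, 21, 39, 21, 18], [-27, -199, -78, -151, -399, -56, -7, -55, -9, -46, 1, 37, -129, 88, 100, 3, 2, -8, -23, -23, 6, -14, -7, -14, -1, -6, 2, 0, 10, 5, 2]⟩)) (.node 1 (.leaf ⟨6, 6, true, [24, 0, 42, 41, 38, 43, 19], [14, 2, 25, 41, 36, 34, 18], [28, 201, 78, 151, 399, 56, 7, 55, 9, 46, -1, -37, 127, -88, -101, -3, -2, 8, 23, 23, -6, 14, 7, 14, 1, 6, -2, 0, -10, -5, -2]⟩) (.leaf ⟨6, 6, true, [35, 2, 32, 8, 43, 36, 30], [41, 21, 36, 14, 40, 42], [37, -58, -70, 2, -92, 11, 0, -23, -1, 6, -4, -10, -11, 35, 21, 6, 6, -1, -1, -6, 3, -3, -3, -1, 0, -1, -1, 0, 2, 0, 1]⟩))) (.node 2 (.node 1 (.leaf ⟨6, 6, true, [0, 4, 43, 28, 39, 25], [18, 0, 21, 40, 11, 8, 25], [63, -166, -154, -30, -263, 5, -7, -52, -16, 18, -7, 6, -95, 83, 72, 10, 9, -7, -4, -17, 5, -20, -6, -10, -1, -2, -3, 0, 8, 1, 4]⟩)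 (.leaf ⟨6, 6, true, [39, 14, 6, 31, 36, 21], [38, 0, 42, 20, 38, 16, 0], [-62, 168, 154, 30, 263, -5, 7, 52, 16, -18, 7, -6, 93, -83, -73, -10, -9, 7, 4, 17, -5, 20, 6, 10, 1, 2, 3, 0, -8, -1, -4]⟩)) (.node 1 (.leaf ⟨6, 6, true, [33, 0, 23, 35, 43, 21, 6], [28, 4, 14, 42, 39, 28, 8], [-19, 105, 94, 40, 170, 7, 8, 23, 22, -20, 4, -10, 61, -49, -48, -2, -3, 6, 7, 10, -3, 14, 3, 6, -1, -1, 3, 0, -4, 0, -2]⟩) (.leaf ⟨6, 6, true, [32, 21, 37, 28, 27, 20], [6, 22, 26, 42, 42, 14], [20, -103, -94, -40, -170, -7, -8, -23, -22, 20, -4, 10, -63, 49, 47, 2, 3, -6, -7, -10, 3, -14, -3, -6, 1, 1, -3, 0, 4, 0, 2]⟩))))) (.node 8 (.node 4 (.node 2 (.node 1 (.leaf ⟨6, 6, true, [38, 2, 25, 38, 14, 21], [22, 2, 31, 10, 38, 23, 28], [-47, -256, -42, -161, -333, -68, 30, -38, -18, -47, -1, 39, -90, 87, 58,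 4, -2, -16, -23, -23, 4, -4, -2, -16, -2, -2, 0, 0, 16, 4]⟩) (.leaf ⟨6, 6, true, [42, 0, 8, 39, 26, 35, 23], [27, 41, 41, 11, 33, 25], [46, 258, 43, 160, 334, 68, -30, 39, 18, 47, 1, -40, 92, -87, -59, -4, 2, 16, 23, 23, -4, 4, 2, 16, 2, 2, 0, 0, -16, -4]⟩)) (.node 1 (.leaf ⟨6, 5, true, [0, 2, 24, 6, 29, 38, 28], [34, 34, 43, 27, 37, 28], [-16, -92, -13, -54, -109, -30, 20, -14, 3, -8, -5, 18, -39, 30, 14, 0, 0, -7, -7, -6, 0, 0, -1, -6, -2, -1, 0, 0, 7, 2]⟩) (.leaf ⟨5, 6, true, [0, 39, 28, 31, 22, 4], [27, 31, 36, 11, 19, 21], [10, 59, 13, 28, 74, 19, -17, 10, -3, 3, 5, -14, 22, -21, -10, 0, -1, 5, 4, 4, 0, 0, 1, 4, 2, 1, 0, 0, -5, -2]⟩))) (.node 2 (.node 1 (.leaf ⟨6, 6, true, [28, 8, 32, 10, 40, 19, 26], [43, 41, 33, 23, 42, 2], [28, -98, -95, -40, -184, -8, -5, -26, -20, 14, -1, 5,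 -72, 50, 44, 1, 4, -7, -8, -10, 3, -15, -3, -4, 1, 1, -2, 0, 4, 0, 2]⟩) (.leaf ⟨6, 6, true, [39, 4, 26, 2, 23, 29, 6], [35, 0, 42, 38, 14, 27, 28], [-27, 98, 95, 40, 184, 8, 5, 26, 20, -14, 1, -5, 74, -50, -45, -1, -4, 7, 8, 10, -3, 15, 3, 4, -1, -1, 2, 0, -4, 0, -2]⟩)) (.node 1 (.leaf ⟨6, 3, true, [40, 4, 39, 16, 32, 10], [42, 40, 2, 22, 22], [1, 27, 5, 10, 10, 3, -5, 0, -3, -6, 4, 0, -2, -4, 0, -1, 1, 0, 1, 1, 0, -2, 0, 1, 0, 0, 0, 0, -1]⟩) (.leaf ⟨3, 6, true, [18, 8, 18, 36, 26, 29, 25], [21, 24, 28, 33, 41, 41], [2, -7, -1, 1, 7, -1, 3, 2, 1, 8, -4, -2, 9, 1, -3, 1, -1, 1, 0, 0, 0, 2]⟩)))) (.node 4 (.node 2 (.node 1 (.leaf ⟨6, 6, true, [0, 39, 34, 8, 36, 4], [14, 27, 29, 38, 26, 33], [-14, -61, -2, -36, -19, -26, 23, -5, 2, 17, -13, 11, -38, 9, -6, -3, 1, -6, 0, 2, -3, 2, -2, -3,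 -1, -1, 0, 0, 5, -1, 1]⟩) (.leaf ⟨6, 6, true, [8, 27, 39, 28, 26, 14], [38, 11, 16, 6, 4], [15, 63, 2, 36, 19, 26, -23, 5, -2, -17, 13, -11, 36, -9, 5, 3, -1, 6, 0, -2, 3, -2, 2, 3, 1, 1, 0, 0, -5, 1, -1]⟩)) (.node 1 (.leaf ⟨6, 6, true, [24, 43, 6, 36, 12], [36, 21, 12, 20, 6, 42], [-15, -108, -17, -51, -72, -30, 9, -17, -15, 5, 12, 16, -53, 21, 10, -4, -2, -9, -9, -2, -2, -4, -1, -5, -3, 0, 2, 0, 6, 1, 2]⟩) (.leaf ⟨6, 6, true, [24, 2, 24, 12, 0, 39, 22], [8, 42, 35, 42, 25], [16, 108, 17, 51, 72, 30, -9, 17, 15, -5, -12, -16, 55, -21, -11, 4, 2, 9, 9, 2, 2, 4, 1, 5, 3, 0, -2, 0, -6, -1, -2]⟩))) (.node 2 (.node 1 (.leaf ⟨6, 6, true, [20, 36, 36, 40, 36], [33, 19, 19, 40, 11, 22], [5, 58, -14, 29, 33, 21, -21, 2, -30, 15, -11, -3, -17, -5, -1, -4, 4, 1, 5, 6, -1, -9, -2, 4, -1, 1, 3, 0,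 -3, -3, 2]⟩) (.leaf ⟨6, 6, true, [34, 0, 14, 30, 22, 43, 10], [6, 43, 35, 43, 19, 16], [-4, -58, 14, -29, -33, -21, 21, -2, 30, -15, 11, 3, 19, 5, 0, 4, -4, -1, -5, -6, 1, 9, 2, -4, 1, -1, -3, 0, 3, 3, -2]⟩)) (.node 1 (.leaf ⟨6, 6, true, [4, 29, 39, 20, 18, 35], [6, 0, 36, 38, 32, 39, 4], [-26, 104, 44, 38, 115, 20, -12, 20, -3, -15, 9, -3, 54, -36, -10, -1, -3, 8, 6, 5, 0, 2, 2, 4, 1, -1, 1, 0, -4, -3, -2]⟩) (.leaf ⟨6, 6, true, [30, 6, 35, 23, 37, 30, 13], [23, 0, 29, 41, 23, 43, 20], [27, -102, -44, -38, -115, -20, 12, -20, 3, 15, -9, 3, -56, 36, 9, 1, 3, -8, -6, -5, 0, -2, -2, -4, -1, 1, -1, 0, 4, 3, 2]⟩)))))))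
noncomputable def dF972 : BT Fct := (.node 30 (.node 15 (.node 7 (.node 3 (.node 1 (.leaf ⟨6, 6, true, [16, 19, 32, 19, 39, 13], [36, 0, 13, 19, 2, 30, 12], [2, 185, 123, 105, 396, 30, 14, 61, 15, 27, -12, -35, 102, -79, -124, -6, -7, 4, 18, 24, -8, 23, 9, 13, 1, 7, 0, 0, -7, -6, -3]⟩) (.node 1 (.leaf ⟨6, 6, true, [22, 2, 13, 25, 31, 34, 18], [11, 41, 25, 36, 35, 31], [-1, -185, -123, -105, -396, -30, -14, -61, -15, -27, 12, 35, -100, 79, 123, 6, 7, -4, -18, -24, 8, -23, -9, -13, -1, -7, 0, 0, 7, 6, 3]⟩) (.leaf ⟨5, 6, true, [10, 42, 24, 18, 24], [2, 0, 43, 23, 21, 40, 30], [8, 55, 26, 34, 91, 1, -2, 12, 1, 7, -10, -3, 19, -23, -31, -5, 0, 2, 5, 7, -3, 5, 2, 5, 1, -1, 2, 0, -2, -2]⟩))) (.node 2 (.node 1 (.leaf ⟨6, 5, true, [2, 35, 39, 31, 8, 19], [0, 25, 19, 25, 39, 10], [-7, -53, -26,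 -34, -91, -1, 2, -12, -1, -7, 10, 3, -21, 23, 30, 5, 0, -2, -5, -7, 3, -5, -2, -5, -1, 1, -2, 0, 2, 2]⟩) (.leaf ⟨6, 6, true, [29, 42, 30, 16, 39, 30], [29, 38, 24, 35, 36, 43], [-30, -150, 9, -165, -219, -49, -21, -37, -11, -51, 5, 20, -121, 47, 53, -1, 0, -6, -11, -14, 2, -3, -1, -11, 1, -3, 4, 0, 6, -3, -2]⟩)) (.node 1 (.leaf ⟨6, 6, true, [8, 22, 14, 35, 30, 28], [25, 0, 28, 2, 28, 43, 2], [29, 154, -8, 164, 220, 49, 21, 38, 11, 51, -5, -21, 119, -47, -54, 1, 0, 6, 11, 14, -2, 3, 1, 11, -1, 3, -4, 0, -6, 3, 2]⟩) (.leaf ⟨6, 6, true, [31, 19, 37, 20, 4, 28], [32, 4, 11, 28, 38, 25, 16], [-1, 80, 56, 30, 42, 13, -3, 0, 22, -44, 38, -10, 31, -27, 0, 3, -2, 8, 3, -2, 3, 0, 1, 2, 0, -2, 3, 0, -4, 4, -3]⟩)))) (.node 4 (.node 2 (.node 1 (.leaf ⟨6, 5, true, [42, 2, 35, 24, 37, 32, 24], [13,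 20, 20, 35, 14, 21], [-22, 143, 99, 70, 284, 34, 0, 42, 1, 7, 16, -16, 102, -60, -64, 1, -6, 8, 11, 15, -3, 13, 4, 11, 1, 2, -3, 0, -7, -2, -1]⟩) (.leaf ⟨5, 6, true, [23, 0, 40, 29, 39, 28, 22], [11, 4, 34, 21, 33, 42, 25], [22, -110, -82, -55, -242, -23, 0, -37, -4, -8, -13, 14, -85, 51, 58, -1, 7, -6, -8, -13, 3, -13, -4, -9, -1, -2, 3, 0, 5, 2, 1]⟩)) (.node 1 (.leaf ⟨6, 3, true, [20, 14, 18, 42, 18, 23], [0, 11, 40, 34, 32, 11], [-6, -39, 13, -5, 27, -17, 26, 1, 13, 10, -4, 3, 6, -2, -5, 0, -2, -2, 0, 2, -2, 5, -1, -2, 0, -2, -2, 0, 3]⟩) (.leaf ⟨3, 6, true, [30, 39, 28, 18, 23, 8], [12, 0, 43, 25, 14, 41, 23], [12, 40, -22, 8, -50, 18, -28, -3, -14, -13, 5, -2, -5, 7, 7, 1, 2, 2, -1, -4, 3, -6, 1, 2, 0, 2, 2, 0, -3, 1]⟩))) (.node 2 (.node 1 (.leaf ⟨6, 6, true, [21, 2, 14, 27, 24, 39,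 20], [34, 0, 23, 30, 34, 23, 26], [-41, 56, 72, -4, 102, -12, 1, 23, 1, 0, 7, 7, 14, -31, -21, -5, -7, 1, 1, 6, -3, 3, 3, 1, 0, 1, 0, 0, -2, 0, -1]⟩) (.leaf ⟨6, 6, true, [6, 2, 21, 38, 10, 43, 29], [28, 6, 31, 11, 18, 34, 27], [42, -54, -72, 4, -102, 12, -1, -23, -1, 0, -7, -7, -16, 31, 20, 5, 7, -1, -1, -6, 3, -3, -3, -1, 0, -1, 0, 0, 2, 0, 1]⟩)) (.node 1 (.leaf ⟨6, 6, true, [28, 6, 32, 29, 36, 33], [6, 24, 21, 36, 33, 11], [24, -51, -75, -1, -53, 0, -5, -8, -20, 33, -18, -6, -22, 27, 22, 0, 1, -3, -4, 0, 0, -8, -2, -1, 1, 2, -4, 0, 0, -1, 2]⟩) (.leaf ⟨6, 6, true, [21, 2, 30, 41, 24, 40, 12], [41, 23, 29, 43, 16, 41], [-68, 168, 154, 28, 264, -7, 8, 53, 14, -22, 6, -8, 90, -83, -69, -10, -9, 7, 4, 17, -5, 20, 6, 8, 1, 2, 3, 0, -8, -1, -4]⟩))))) (.node 7 (.node 3 (.node 1 (.leaf ⟨6, 6,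 true, [23, 20, 25, 39, 24, 41], [33, 0, 21, 39, 10, 18, 31], [67, -166, -153, -29, -263, 7, -8, -52, -14, 22, -6, 7, -88, 83, 68, 10, 9, -7, -4, -17, 5, -20, -6, -8, -1, -2, -3, 0, 8, 1, 4]⟩) (.node 1 (.leaf ⟨6, 6, true, [20, 23, 29, 41, 30, 21], [12, 0, 26, 39, 25, 41, 2], [16, 51, -37, 24, -67, 14, -26, -5, -11, -6, -1, -8, -11, 8, 11, 1, 0, 2, -1, -4, 3, -6, 0, 1, 0, 1, 2, 0, -4, 2]⟩) (.leaf ⟨6, 6, true, [21, 18, 43, 29, 20, 34], [20, 41, 20, 18, 32, 27], [-17, -47, 38, -25, 68, -14, 26, 6, 11, 6, 1, 7, 9, -8, -12, -1, 0, -2, 1, 4, -3, 6, 0, -1, 0, -1, -2, 0, 4, -2]⟩))) (.node 2 (.node 1 (.leaf ⟨6, 6, true, [14, 39, 41, 27, 33, 16], [2, 13, 23, 40, 18, 18], [-27, 101, 64, 68, 214, 15, -9, 16, 9, -10, 33, -12, 77, -42, -9, 0, -7, 6, 5, 4, 0, -1, 2, 3, -1, 0, 1, 0, -8, 2, -1]⟩) (.leaf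 ⟨6, 6, true, [22, 22, 12, 36, 33, 38], [30, 23, 34, 30, 11, 39], [26, -98, -63, -69, -213, -15, 9, -15, -9, 10, -33, 11, -77, 42, 8, 0, 7, -6, -5, -4, 0, 1, -2, -3, 1, 0, -1, 0, 8, -2, 1]⟩)) (.node 1 (.leaf ⟨6, 6, true, [24, 0, 6, 43, 39, 31, 14], [24, 37, 28, 35, 35, 0], [37, -134, -121, -34, -245, 0, 0, -46, -16, 23, 16, 13, -72, 53, 69, 4, 9, -7, -5, -15, 5, -16, -5, -8, -3, -4, 0, 0, 4, 2, 3]⟩) (.leaf ⟨6, 6, true, [21, 2, 23, 11, 28, 14], [24, 21, 43, 10, 36, 28], [-38, 138, 122, 33, 246, 0, 0, 47, 16, -23, -16, -14, 70, -53, -70, -4, -9, 7, 5, 15, -5, 16, 5, 8, 3, 4, 0, 0, -4, -2, -3]⟩)))) (.node 4 (.node 2 (.node 1 (.leaf ⟨6, 6, true, [35, 0, 36, 20, 26, 40, 23], [4, 40, 16, 38, 20, 20], [-22, 12, 37, -21, 21, 5, 1, -3, 10, -15, 21, -3, -11, -9, 17, 1, 1, 3, 1, 0, 1, -1, -1, 0,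 -2, -4, -1, 0, -2, 2, 1]⟩) (.leaf ⟨6, 6, true, [42, 37, 42, 27, 19], [22, 8, 34, 39, 36, 34], [23, -10, -37, 21, -21, -5, -1, 3, -10, 15, -21, 3, 9, 9, -18, -1, -1, -3, -1, 0, -1, 1, 1, 0, 2, 4, 1, 0, 2, -2, -1]⟩)) (.node 1 (.leaf ⟨6, 6, true, [0, 31, 38, 42, 34, 30], [11, 42, 26, 26, 37, 19], [-4, 43, 24, 0, 38, 9, -10, 2, 6, -16, 8, -5, 6, -15, -2, 1, -3, 4, 1, 0, 1, 2, 0, 2, 0, 1, 0, 0, -3, 0, -1]⟩) (.leaf ⟨6, 6, true, [8, 0, 12, 29, 36, 19, 21], [11, 11, 33, 35, 12, 0], [-3, -81, -49, -32, -140, -18, 20, -12, 2, 9, 0, 13, -39, 38, 12, 6, -1, -8, -1, -10, 2, -1, -2, -5, -1, 0, -3, 0, 7, -2, 1]⟩))) (.node 2 (.node 1 (.leaf ⟨6, 6, true, [13, 39, 25, 22, 12], [13, 41, 38, 42, 12, 21], [2, 83, 50, 31, 141, 18, -20, 13, -2, -9, 0, -14, 41, -38, -13, -6, 1, 8, 1, 10, -2, 1, 2, 5, 1, 0, 3,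 0, -7, 2, -1]⟩) (.leaf ⟨6, 6, true, [38, 31, 19, 12, 35, 28], [4, 2, 33, 6, 16, 6], [-2, 66, 28, 66, 145, 17, 17, 12, 11, 17, 6, -13, 57, -34, -21, 0, 0, 5, 10, 9, -2, 5, -1, 5, 0, -2, -1, 0, -7, 0, 1]⟩)) (.node 1 (.leaf ⟨6, 6, true, [34, 13, 43, 41], [32, 42, 38, 34, 19, 21], [1, -63, -27, -67, -144, -17, -17, -11, -11, -17, -6, 12, -57, 34, 20, 0, 0, -5, -10, -9, 2, -5, 1, -5, 0, 2, 1, 0, 7, 0, -1]⟩) (.leaf ⟨6, 6, true, [38, 31, 13, 18, 39, 0], [4, 40, 11, 8], [25, 38, -45, 51, 10, 22, -13, -5, -14, 18, -7, -5, 11, -3, -2, -2, 6, 0, 9, 4, 0, -7, -3, 3, -2, -1, 2, 0, -4, -1, 3]⟩)))))) (.node 15 (.node 7 (.node 3 (.node 1 (.leaf ⟨6, 6, true, [22, 26, 33, 38, 31, 23], [43, 13, 25, 29, 31, 34], [-18, 126, 83, 62, 110, 17, -10, 5, 27, -56, 50, -13, 68, -40, 8, 5, -7, 11, 5, -3, 4, -3, 1,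 3, 0, -2, 3, 0, -8, 4, -4]⟩) (.node 1 (.leaf ⟨6, 6, true, [21, 2, 18, 16, 38, 37], [39, 28, 8, 40, 26, 34], [17, -122, -82, -63, -109, -17, 10, -4, -27, 56, -50, 12, -70, 40, -9, -5, 7, -11, -5, 3, -4, 3, -1, -3, 0, 2, -3, 0, 8, -4, 4]⟩) (.leaf ⟨6, 6, true, [35, 4, 32, 14, 42, 19, 11], [22, 22, 32, 39, 39, 12], [-8, -341, -90, -224, -435, -80, 26, -61, 12, -6, 13, 41, -186, 104, 98, 4, 3, -17, -26, -27, 4, -11, -5, -23, 0, -3, -3, 0, 19, 6]⟩))) (.node 2 (.node 1 (.leaf ⟨6, 6, true, [27, 0, 18, 12, 41, 27, 11], [33, 28, 42, 19, 23, 11], [9, 341, 90, 224, 435, 80, -26, 61, -12, 6, -13, -41, 188, -104, -99, -4, -3, 17, 26, 27, -4, 11, 5, 23, 0, 3, 3, 0, -19, -6]⟩) (.leaf ⟨6, 6, true, [14, 43, 25, 37, 23, 16], [18, 11, 42, 25, 34, 28], [-19, -17, 76, -32, 49, -17, 20, 10, 23, -24, 1, -1,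 12, -6, -29, 2, -6, -1, -2, 1, -2, 15, 3, -2, 0, -1, 0, 0, 3, 1, -2]⟩)) (.node 1 (.leaf ⟨6, 6, true, [23, 39, 23, 19, 6, 22], [39, 8, 30, 20, 41, 22, 6], [20, 17, -76, 32, -49, 17, -20, -10, -23, 24, -1, 1, -10, 6, 28, -2, 6, 1, 2, -1, 2, -15, -3, 2, 0, 1, 0, 0, -3, -1, 2]⟩) (.leaf ⟨6, 5, true, [37, 18, 24, 32, 43, 0], [43, 38, 32, 36, 31], [-44, -95, 58, -85, -3, -48, 36, 1, 9, 1, -21, 14, -41, 4, -28, -5, -3, -9, -4, 3, -5, 12, 0, -4, -1, -1, 1, 0, 8, -1]⟩)))) (.node 4 (.node 2 (.node 1 (.leaf ⟨5, 6, true, [24, 41, 19, 23, 40, 26], [38, 29, 38, 30, 32, 19], [38, 62, -58, 59, -32, 37, -33, -5, -9, -6, 21, -10, 24, 5, 32, 5, 2, 7, 1, -5, 5, -12, 0, 2, 1, 1, -1, 0, -6, 1]⟩) (.leaf ⟨6, 6, true, [23, 41, 18, 11, 31, 23], [42, 2, 19, 37, 0, 33, 11], [-53, -132, 34, -135, -216, -48, 9, -18,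 -1, -60, 7, 34, -71, 49, 44, 1, -2, -6, -17, -16, 3, 0, -1, -8, -2, -3, 2, 0, 8, 4, -1]⟩)) (.node 1 (.leaf ⟨6, 3, true, [6, 2, 21, 39, 18, 27, 10], [0, 2, 40, 18, 35, 28], [-7, -50, 1, -28, -70, -8, -2, -3, -11, -13, -9, 8, -3, 18, 2, -1, -1, -4, -7, -3, 0, 2, 1, -2, 0, 0, 2, 0, 2]⟩) (.leaf ⟨3, 6, true, [33, 39, 37, 29, 26, 12], [8, 6, 27, 14, 41, 27, 30], [4, 53, 8, 25, 95, 4, 4, 5, 10, 18, 7, -10, 3, -22, -6, 0, 1, 4, 8, 5, -1, -1, -1, 2, 0, 0, -2, 0, -2, -1]⟩))) (.node 2 (.node 1 (.leaf ⟨6, 6, true, [42, 35, 42, 33, 13], [12, 0, 34, 25, 42, 37, 21], [-23, 83, 33, 33, 126, 12, -11, 16, -24, 8, -18, -5, 33, -28, -19, -8, 3, 3, 6, 10, -3, -3, 0, 7, 0, 2, 2, 0, -5, -3, 1]⟩) (.leaf ⟨6, 6, true, [34, 33, 31, 41, 6, 4], [32, 6, 16, 41, 14], [24, -81, -33, -33, -126, -12, 11, -16, 24, -8,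 18, 5, -35, 28, 18, 8, -3, -3, -6, -10, 3, 3, 0, -7, 0, -2, -2, 0, 5, 3, -1]⟩)) (.node 1 (.leaf ⟨6, 6, true, [28, 36, 8, 34, 31, 28], [43, 26, 32, 38, 25, 43], [33, 186, 47, 116, 225, 34, -5, 25, 9, 22, -3, -23, 82, -63, -58, -5, 1, 9, 12, 15, -3, 12, 2, 11, 0, 0, 3, 0, -9, 0, -1]⟩) (.leaf ⟨6, 6, true, [41, 23, 43, 25, 16, 23], [27, 31, 16, 43, 16, 23], [7, 245, 95, 161, 212, 58, -18, 8, 36, -58, 62, -23, 143, -84, 0, 6, 0, 21, 18, 4, 4, -6, 0, 11, -1, -5, 7, 0, -15, 4, -5]⟩))))) (.node 7 (.node 3 (.node 1 (.leaf ⟨6, 6, true, [6, 8, 27, 39, 24, 12], [23, 30, 27, 34, 43, 21], [11, 101, 16, 69, 190, 33, 4, 23, -12, 45, -27, -16, 51, -40, -50, -3, 3, 2, 10, 14, -4, 7, 0, 9, 1, 3, 1, 0, -5, -4]⟩) (.node 1 (.leaf ⟨6, 6, true, [19, 2, 33, 34, 33, 23, 28], [11, 22, 20, 23, 41, 23], [-12, -98,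 -15, -70, -189, -33, -4, -22, 12, -45, 27, 15, -51, 40, 49, 3, -3, -2, -10, -14, 4, -7, 0, -9, -1, -3, -1, 0, 5, 4]⟩) (.leaf ⟨5, 6, true, [6, 37, 16, 40, 29, 30], [31, 2, 22, 37, 37, 39], [44, 172, 16, 121, 143, 43, -11, 23, 10, 19, -3, -21, 75, -38, -48, 2, 1, 7, 12, 9, -1, 10, 2, 8, -1, 1, 2, 0, -7, 0, -1]⟩))) (.node 2 (.node 1 (.leaf ⟨6, 5, true, [6, 33, 21, 19, 2, 0], [23, 33, 35, 25, 6, 27], [-43, -170, -16, -121, -143, -43, 11, -23, -10, -19, 3, 21, -77, 38, 47, -2, -1, -7, -12, -9, 1, -10, -2, -8, 1, -1, -2, 0, 7, 0, 1]⟩) (.leaf ⟨6, 5, true, [2, 27, 31, 42, 41, 6], [4, 37, 32, 35, 36, 29], [-11, 55, 59, 12, 121, -7, 12, 21, 18, -6, -7, -10, 24, -27, -40, 0, -4, 2, 4, 6, -2, 11, 2, 4, 0, 0, -1, 0, -1, 1, -1]⟩)) (.node 1 (.leaf ⟨5, 6, true, [8, 0, 28, 37, 18, 34, 6], [11, 18, 20,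 19, 42, 37], [5, -88, -59, -38, -156, -4, -9, -25, -18, 1, 7, 14, -41, 36, 44, 0, 3, -4, -7, -8, 2, -11, -2, -6, 0, 0, 1, 0, 3, -1, 1]⟩) (.leaf ⟨6, 6, true, [21, 31, 39, 14, 26, 21], [20, 43, 31, 24, 40, 8], [10, -43, -60, -15, -167, -4, -3, -8, -1, -13, 12, 6, -26, 42, 22, 9, -3, -4, -4, -14, 5, -4, 0, -4, 0, 1, -2, 0, 4, -1]⟩)))) (.node 4 (.node 2 (.node 1 (.leaf ⟨6, 6, true, [28, 4, 40, 39, 10, 25, 20], [39, 28, 35, 20, 6, 29], [-9, 45, 60, 15, 167, 4, 3, 8, 1, 13, -12, -6, 24, -42, -23, -9, 3, 4, 4, 14, -5, 4, 0, 4, 0, -1, 2, 0, -4, 1]⟩) (.leaf ⟨6, 6, true, [30, 0, 19, 41, 22, 19, 16], [19, 42, 29, 12, 11], [-10, -78, 26, -64, -46, -44, 11, 9, 12, -15, -16, 1, -50, 20, -16, -2, -9, -6, -12, -2, -2, 9, 4, -4, 2, 0, -1, 0, 7, 0, -1]⟩)) (.node 1 (.leaf ⟨6, 6, true, [39, 36, 25, 32, 24],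 [4, 26, 37, 33, 39, 21], [20, 90, -19, 53, -12, 24, -35, 4, -3, -22, 10, -3, 14, -6, 9, 1, -2, 8, 2, -2, 3, -6, 2, 2, 1, 0, 2, 0, -5, 1, -1]⟩) (.leaf ⟨6, 6, true, [6, 37, 8, 38, 20, 11], [2, 11, 26, 36, 10, 20], [-19, -88, 19, -53, 12, -24, 35, -4, 3, 22, -10, 3, -16, 6, -10, -1, 2, -8, -2, 2, -3, 6, -2, -2, -1, 0, -2, 0, 5, -1, 1]⟩))) (.node 2 (.node 1 (.leaf ⟨6, 6, true, [4, 33, 42, 23, 28, 2], [27, 2, 23, 13, 42, 21, 13], [-19, 58, 64, -6, 69, -1, -5, 21, -3, -14, -8, -7, 5, -22, -30, -3, -2, 1, 2, 5, -2, 7, 3, 3, 1, 0, 2, 0, -2, -1, -1]⟩) (.leaf ⟨6, 6, true, [39, 30, 13, 10, 37, 18], [12, 39, 0, 39, 41, 32], [20, -56, -64, 6, -69, 1, 5, -21, 3, 14, 8, 7, -7, 22, 29, 3, 2, -1, -2, -5, 2, -7, -3, -3, -1, 0, -2, 0, 2, 1, 1]⟩)) (.node 1 (.leaf ⟨6, 6, true, [20, 14, 22, 34, 14, 26], [33,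 8, 10, 38, 4], [-1, -86, -16, -53, -80, -24, 11, -9, 0, -1, -7, 9, -41, 21, 4, 0, -1, -6, -6, -5, 0, 2, 0, -5, 1, 0, -1, 0, 6]⟩) (.leaf ⟨6, 6, true, [39, 0, 22, 32, 23, 43, 29], [30, 23, 32, 38, 32, 21], [-46, -74, 40, -82, -60, -55, 9, 1, 7, -15, -28, 16, -52, 6, -14, -8, -6, -4, -7, 0, -4, 9, 2, -6, 0, -2, 3, 0, 7]⟩)))))))
noncomputable def dF1032 : BT Fct := (.node 30 (.node 15 (.node 7 (.node 3 (.node 1 (.leaf ⟨6, 6, true, [8, 0, 28, 43, 32, 12, 28], [27, 0, 16, 26, 39, 13, 18], [47, 74, -40, 82, 60, 55, -9, -1, -7, 15, 28, -16, 54, -6, 13, 8, 6, 4, 7, 0, 4, -9, -2, 6, 0, 2, -3, 0, -7]⟩) (.node 1 (.leaf ⟨6, 6, true, [2, 0, 27, 14, 21, 43, 8], [33, 8, 23, 40, 20, 37], [0, -30, -12, -17, -39, -11, 3, -4, -1, -1, -1, -1, -23, 7, 4, 0, -1, -2, -3, -2, 0, -1, 0, -2, 1, 0, 1, 0, 1]⟩) (.leaf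 ⟨6, 6, true, [10, 35, 26, 25, 18, 10], [21, 2, 23, 10, 22, 36, 30], [1, 30, 12, 17, 39, 11, -3, 4, 1, 1, 1, 1, 25, -7, -5, 0, 1, 2, 3, 2, 0, 1, 0, 2, -1, 0, -1, 0, -1]⟩))) (.node 2 (.node 1 (.leaf ⟨5, 5, true, [30, 37, 13, 23, 10, 10], [6, 13, 10, 29, 38, 14], [2, -33, -19, -13, -44, -11, 1, -6, -1, 3, -3, -2, -21, 8, 4, 0, -1, -2, -3, -2, 0, -1, 0, -2, 1, 0, 1, 0, 1]⟩) (.leaf ⟨5, 5, true, [32, 25, 40, 36, 35, 18], [6, 21, 37, 42, 31, 10], [10, 101, 25, 61, 117, 33, -6, 14, 0, 5, 4, -5, 55, -26, -15, 0, 3, 6, 9, 6, 0, 1, 0, 6, -1, 0, -1, 0, -5]⟩)) (.node 1 (.leaf ⟨6, 6, true, [24, 35, 31, 20, 28, 16], [23, 43, 39, 36, 21, 14], [45, -102, -75, -29, -151, -5, 7, -26, -2, 12, -20, -7, -46, 50, 3, 3, 7, -7, -3, -5, 1, 2, -3, -3, -2, -1, 2, 0, 5, 1, 2]⟩) (.leaf ⟨6, 6, true, [43, 22, 24, 42,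 26, 16], [24, 12, 24, 38, 40, 35], [12, 60, 7, 28, 35, 17, -21, 0, 2, -22, 17, -13, 16, -9, 9, 1, -1, 6, -2, 0, 2, -3, 1, 3, 1, 0, 2, 0, -5, 1, -1]⟩)))) (.node 4 (.node 2 (.node 1 (.leaf ⟨6, 6, true, [28, 19, 41, 39, 20, 28], [30, 6, 37, 23, 29, 6], [-2, -33, -12, -16, -72, -18, 25, 5, 9, 4, -8, 10, -21, 19, -21, 4, -2, -7, 1, -4, 0, 8, -1, -2, -1, 1, -1, 0, 6, -2]⟩) (.leaf ⟨6, 6, true, [24, 38, 42, 32, 30], [28, 0, 19, 38, 43, 31, 13], [1, 35, 13, 15, 73, 18, -25, -4, -9, -4, 8, -11, 23, -19, 20, -4, 2, 7, -1, 4, 0, -8, 1, 2, 1, -1, 1, 0, -6, 2]⟩)) (.node 1 (.leaf ⟨6, 5, true, [29, 41, 27, 19, 29], [39, 8, 24, 34, 21, 4], [-28, -75, 27, -69, -50, -32, 14, -6, 4, -1, -9, 5, -48, 13, 7, -2, -1, -3, -4, 0, -2, 8, 0, -6, -1, -2, 1, 0, 3, -2]⟩) (.leaf ⟨5, 6, true, [10, 21, 31, 40, 16, 34],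 [29, 18, 27, 40, 28], [28, 44, -39, 51, 9, 21, -13, 2, -2, 0, 7, -3, 31, -4, -3, 2, 0, 1, 1, -2, 2, -8, 0, 4, 1, 2, -1, 0, -1, 2]⟩))) (.node 2 (.node 1 (.leaf ⟨3, 6, true, [13, 29, 32, 42, 33, 22], [20, 0, 25, 30, 42, 29, 18], [-10, 106, 63, 25, 139, 6, -3, 22, 9, -4, 0, -12, 10, -40, -29, -2, -1, 6, 9, 8, -2, 5, 2, 5, 1, -1, 0, 0, -4, -1, -1]⟩) (.leaf ⟨6, 3, true, [39, 33, 2, 19, 22, 0], [39, 34, 21, 42, 13, 11], [9, -104, -62, -26, -138, -6, 3, -21, -9, 4, 0, 11, -8, 40, 28, 2, 1, -6, -9, -8, 2, -5, -2, -5, -1, 1, 0, 0, 4, 1, 1]⟩)) (.node 1 (.leaf ⟨6, 6, true, [41, 13, 36, 23, 40, 20, 25], [10, 4, 10, 26, 10, 40, 28], [-24, 7, 44, -32, -21, 4, 5, 2, 11, -50, 28, 12, 28, 3, -2, 5, -3, 0, -7, -7, 3, -1, 3, 0, 1, 0, 0, 0, 4, 4, -2]⟩) (.leaf ⟨6, 5, true, [13, 2, 20, 40, 22, 33], [34, 36,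 29, 6, 21], [-16, -23, 44, -47, -13, -24, 14, 11, 13, -24, -7, 7, -2, -3, -17, -1, -3, -2, -4, 0, -1, 8, 2, -1, 1, 1, 0, 0, 3, 0, -2]⟩))))) (.node 7 (.node 3 (.node 1 (.leaf ⟨5, 6, true, [33, 43, 36, 25, 34, 28], [29, 6, 18, 34, 23, 39], [10, -10, -44, 21, -22, 13, -11, -15, -13, 19, 7, -3, -15, 12, 21, 1, 2, 0, 1, -2, 1, -8, -2, -1, -1, -1, 0, 0, -1, 0, 2]⟩) (.node 1 (.leaf ⟨6, 6, true, [43, 18, 33, 34, 6, 28], [33, 16, 39, 35, 28, 27], [20, 40, -8, 51, 102, 10, 0, 15, 2, 30, -26, -13, 27, -22, -37, -2, 1, 0, 5, 8, -3, 8, 1, 4, 2, 1, -1, 0, -2, -1]⟩) (.leaf ⟨6, 6, true, [43, 2, 37, 26, 40, 35, 30], [16, 4, 29, 38, 41, 29, 23], [-29, 38, 92, -28, 59, -18, -8, 25, 27, -45, -13, -7, 27, -15, -48, -1, -6, 1, -1, 2, -2, 18, 6, 1, 1, 0, 2, 0, 2, -1, -2]⟩))) (.node 2 (.node 1 (.leaf ⟨6, 6,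 true, [26, 8, 35, 19, 40, 18], [22, 35, 43, 6, 39, 39], [28, -34, -91, 27, -58, 18, 8, -24, -27, 45, 13, 6, -29, 15, 47, 1, 6, -1, 1, -2, 2, -18, -6, -1, -1, 0, -2, 0, -2, 1, 2]⟩) (.leaf ⟨6, 6, true, [37, 2, 18, 10, 39, 30, 20], [42, 14, 39, 19, 36, 31], [-3, 51, 46, 28, 111, -8, 5, 25, -11, 5, -24, -4, 34, -33, -42, -6, -5, 0, 1, 7, -4, 12, 4, 5, 0, 4, 1, 0, -2, -4, -2]⟩)) (.node 1 (.leaf ⟨6, 5, true, [0, 21, 38, 23, 39, 30], [12, 40, 16, 27, 39, 22], [-31, 19, 53, -25, 62, -19, 15, 11, 30, -15, 9, -6, 0, -19, -17, 1, -4, 1, 1, 1, -1, 8, 2, 0, 0, 0, -1, 0, 0, 1, -2]⟩) (.leaf ⟨5, 6, true, [2, 14, 13, 35, 32, 23], [2, 20, 29, 35, 24, 18], [26, -51, -54, 0, -99, 8, -12, -14, -30, 10, -9, 9, -17, 28, 21, -1, 3, -3, -4, -3, 1, -8, -2, -2, 0, 0, 1, 0, 2, -1, 2]⟩)))) (.node 4 (.node 2 (.node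 1 (.leaf ⟨6, 6, true, [19, 0, 8, 43, 16, 32, 22], [4, 28, 6, 28, 38, 11], [-13, -159, -63, -85, -258, -34, 18, -27, -8, -3, -2, 27, -79, 64, 32, 4, 0, -13, -9, -15, 2, -3, -2, -10, -1, 0, 0, 0, 10, -3, 1]⟩) (.leaf ⟨6, 5, true, [41, 25, 12, 23, 34, 26], [2, 24, 37, 30, 38, 24], [-8, -94, -33, -73, -116, -27, -3, -9, -11, -1, -22, 9, -54, 31, 31, -3, 7, -6, -7, -5, 0, -8, -3, -3, 1, 2, 1, 0, 3, -2, 1]⟩)) (.node 1 (.leaf ⟨5, 6, true, [34, 0, 40, 18, 34, 27, 23], [14, 2, 27, 41, 10, 33, 22], [6, 94, 39, 69, 119, 27, 4, 9, 10, -1, 23, -8, 54, -31, -32, 3, -7, 6, 7, 5, 0, 8, 3, 3, -1, -2, -1, 0, -3, 2, -1]⟩) (.leaf ⟨6, 6, true, [21, 21, 32, 41, 25, 39], [41, 42, 42, 26, 37, 39], [-43, 44, 86, -11, 106, -5, 6, 24, -4, -19, -14, -3, 43, -13, -38, -1, -3, 0, 2, 5, -3, 13, 3, 3, 0, 2, 1, 0, -1,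 -3, -1]⟩))) (.node 2 (.node 1 (.leaf ⟨6, 6, true, [36, 40, 42, 29, 13, 10], [30, 21, 34, 11, 30, 14], [42, -42, -85, 10, -105, 5, -6, -23, 4, 19, 14, 2, -41, 13, 37, 1, 3, 0, -2, -5, 3, -13, -3, -3, 0, -2, -1, 0, 1, 3, 1]⟩) (.leaf ⟨6, 6, true, [19, 2, 22, 12, 2, 20, 8], [28, 33, 36, 22, 43, 30], [65, 173, -44, 151, 191, 62, -29, 20, -2, 37, 5, -41, 83, -45, -32, 2, 1, 10, 14, 12, 0, -3, 3, 9, 3, 4, -1, 0, -12, -3]⟩)) (.node 1 (.leaf ⟨6, 6, true, [21, 22, 42, 24, 29, 11], [29, 22, 27, 2, 29, 41], [-64, -173, 44, -151, -191, -62, 29, -20, 2, -37, -5, 41, -81, 45, 31, -2, -1, -10, -14, -12, 0, 3, -3, -9, -3, -4, 1, 0, 12, 3]⟩) (.leaf ⟨3, 6, true, [40, 40, 36, 29, 18, 22], [21, 34, 0, 41, 36, 29], [17, 106, 1, 51, 80, 23, -22, 8, 9, -5, 20, -18, 25, -23, 5, 3, 0, 9, 6, 2, 2, -4, 1, 4, 1,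 1, -1, 0, -7, 0, -1]⟩)))))) (.node 15 (.node 7 (.node 3 (.node 1 (.leaf ⟨6, 3, true, [16, 19, 31, 40, 33, 16], [21, 25, 10, 41, 31, 35], [-16, -106, -1, -51, -80, -23, 22, -8, -9, 5, -20, 18, -23, 23, -6, -3, 0, -9, -6, -2, -2, 4, -1, -4, -1, -1, 1, 0, 7, 0, 1]⟩) (.node 1 (.leaf ⟨6, 6, true, [22, 39, 25, 32, 10, 10], [6, 25, 29, 39, 24, 23], [-32, 47, 72, 8, -5, 1, -10, -10, 19, -67, 49, 0, 39, -13, 28, 3, -6, 6, -3, -8, 4, -5, 1, -2, 0, -2, 6, 0, -5, 3, -4]⟩) (.leaf ⟨6, 6, true, [36, 40, 43, 14, 2], [28, 2, 39, 25, 41, 23, 2], [31, -45, -71, -9, 6, -1, 10, 11, -19, 67, -49, -1, -37, 13, -29, -3, 6, -6, 3, 8, -4, 5, -1, 2, 0, 2, -6, 0, 5, -3, 4]⟩))) (.node 2 (.node 1 (.leaf ⟨6, 6, true, [24, 34, 30, 10, 32, 18], [39, 25, 28, 38, 40, 4], [42, 65, -51, 44, -92, 34, -36, -11, -6, -27, 34,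 -13, 9, 14, 38, 8, 1, 7, -1, -12, 8, -10, 1, 1, 1, 0, 0, 0, -7, 3, -1]⟩) (.leaf ⟨6, 6, true, [38, 35, 31, 21, 25, 22], [33, 28, 10, 39, 27, 14], [-41, -63, 51, -44, 92, -34, 36, 11, 6, 27, -34, 13, -11, -14, -39, -8, -1, -7, 1, 12, -8, 10, -1, -1, -1, 0, 0, 0, 7, -3, 1]⟩)) (.node 1 (.leaf ⟨6, 6, true, [26, 37, 40, 11, 18, 21], [2, 41, 32, 38, 33, 26], [36, -165, -86, -73, -224, -28, 12, -34, -4, 7, -22, -7, -86, 67, 13, 3, 5, -11, -9, -9, 1, 2, -3, -7, -1, -1, 3, 0, 7, 1, 2]⟩) (.leaf ⟨6, 6, true, [0, 37, 11, 34, 19, 20], [11, 27, 22, 19, 40, 27], [-37, 169, 87, 72, 225, 28, -12, 35, 4, -7, 22, 6, 84, -67, -14, -3, -5, 11, 9, 9, -1, -2, 3, 7, 1, 1, -3, 0, -7, -1, -2]⟩)))) (.node 4 (.node 2 (.node 1 (.leaf ⟨6, 6, true, [19, 28, 43, 10, 6, 26], [10, 2, 30, 0, 43, 41, 8], [-29, 15, 73, 3,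 88, -12, 34, 16, 16, 8, -4, 7, 23, -23, -61, 0, -9, -3, 5, 6, -4, 20, 4, -1, -2, -2, -1, 0, 5, 0, -1]⟩) (.leaf ⟨6, 6, true, [14, 31, 35, 10, 16, 26], [24, 10, 37, 25, 32, 4], [-26, -126, -2, -98, -107, -56, 11, -6, 10, -12, -15, -1, -65, 24, -12, -1, -7, -9, -12, -5, -2, 13, 3, -7, 1, 0, 0, 0, 9, -2, -1]⟩)) (.node 1 (.leaf ⟨6, 6, true, [4, 30, 24, 36, 11, 25], [35, 43, 23, 36, 28, 18], [27, 128, 2, 98, 107, 56, -11, 6, -10, 12, 15, 1, 63, -24, 11, 1, 7, 9, 12, 5, 2, -13, -3, 7, -1, 0, 0, 0, -9, 2, 1]⟩) (.leaf ⟨6, 6, true, [27, 40, 20, 11, 36, 14], [0, 26, 39, 30, 42, 24], [-24, 14, 64, -25, 47, -11, 9, 14, 0, -15, -4, 1, 6, -10, -27, -2, -2, -2, 0, 3, -2, 8, 2, 1, 0, 0, 2, 0, 1, -1, -1]⟩))) (.node 2 (.node 1 (.leaf ⟨6, 6, true, [38, 35, 11, 13, 21], [6, 10, 42, 18, 35, 24], [23, -12,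 -63, 24, -46, 11, -9, -13, 0, 15, 4, -2, -4, 10, 26, 2, 2, 2, 0, -3, 2, -8, -2, -1, 0, 0, -2, 0, -1, 1, 1]⟩) (.leaf ⟨6, 6, true, [14, 27, 4, 36, 21, 19], [42, 27, 42, 6, 18], [-2, 41, 48, 43, 157, 12, 23, 23, 3, 25, -12, -7, 64, -31, -41, 0, 1, 1, 5, 9, -3, 12, 1, 5, 0, 0, -1, 0, -1, 0, -1]⟩)) (.node 1 (.leaf ⟨6, 6, true, [14, 2, 25, 42, 28, 12, 25], [26, 0, 41, 11, 39, 25, 0], [1, -39, -47, -44, -156, -12, -23, -22, -3, -25, 12, 6, -62, 31, 40, 0, -1, -1, -5, -9, 3, -12, -1, -5, 0, 0, 1, 0, 1, 0, 1]⟩) (.leaf ⟨6, 6, true, [8, 35, 31, 29, 6, 27], [2, 20, 29, 42, 36, 19], [-1, 27, 28, 5, 83, 8, -17, -1, -4, 6, 0, -10, 2, -24, 16, -7, 3, 8, 1, 9, -2, 0, 0, 0, 0, -2, 2, 0, -7]⟩))))) (.node 8 (.node 4 (.node 2 (.node 1 (.leaf ⟨6, 6, true, [16, 2, 40, 43, 39, 28, 12], [13, 43, 27, 36, 10, 19],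 [-31, -169, -53, -115, -224, -30, -6, -37, -27, -19, 3, 21, -97, 60, 62, 0, 1, -9, -12, -13, 3, -20, -3, -9, -1, 0, 0, 0, 7, 1, 2]⟩) (.leaf ⟨6, 6, true, [8, 29, 6, 24, 2, 30], [31, 18, 16, 38, 16, 29], [32, 171, 53, 115, 224, 30, 6, 37, 27, 19, -3, -21, 95, -60, -63, 0, -1, 9, 12, 13, -3, 20, 3, 9, 1, 0, 0, 0, -7, -1, -2]⟩)) (.node 1 (.leaf ⟨6, 6, true, [6, 10, 37, 43, 32, 12], [2, 30, 20, 39, 29, 33], [22, 15, -12, 40, 41, -4, 7, 13, 23, 14, -2, -12, 25, -15, -14, 2, -4, 2, 1, 2, -1, 10, 1, 0, 1, -1, -2, 0, 0, -1, -1]⟩) (.leaf ⟨6, 6, true, [40, 20, 40, 20, 32, 34], [4, 28, 41, 19, 37, 0], [35, 89, -77, 89, 10, 46, -29, 2, -25, 39, -6, -5, 31, 0, 26, 2, 6, 7, 8, 1, 3, -16, -3, 5, -1, 0, -2, 0, -7, 2, 2]⟩))) (.node 2 (.node 1 (.leaf ⟨6, 6, true, [16, 35, 27, 14, 23, 34], [27, 33, 28, 41,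 22, 6], [-36, -86, 78, -90, -9, -46, 29, -1, 25, -39, 6, 4, -31, 0, -27, -2, -6, -7, -8, -1, -3, 16, 3, -5, 1, 0, 2, 0, 7, -2, -2]⟩) (.leaf ⟨6, 6, true, [12, 28, 39, 23, 41, 8], [32, 0, 2, 27, 39, 16, 20], [3, -4, -60, 20, -56, 10, -17, -13, -8, 9, 5, 3, -15, 13, 32, 1, 1, 1, 3, -3, 2, -15, -2, -2, -1, -1, -1, 0, 0, 0, 1]⟩)) (.node 1 (.leaf ⟨6, 6, true, [43, 4, 28, 34, 41, 19, 8], [22, 0, 40, 10, 8, 43, 6], [-4, 7, 61, -21, 57, -10, 17, 14, 8, -9, -5, -4, 15, -13, -33, -1, -1, -1, -3, 3, -2, 15, 2, 2, 1, 1, 1, 0, 0, 0, -1]⟩) (.leaf ⟨6, 6, true, [20, 2, 27, 8, 6, 31], [21, 27, 33, 35, 24, 28], [-17, -116, 22, -81, -59, -26, 19, -22, 21, -22, 16, 11, -36, 10, 22, 1, -2, -3, -7, -5, 0, 3, 0, -6, -1, -3, -1, 0, 4, 2, -1]⟩)))) (.node 4 (.node 2 (.node 1 (.leaf ⟨6, 6, true, [12, 41, 34, 19,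 43, 32], [30, 34, 21, 34, 14, 29], [16, 119, -21, 80, 60, 26, -19, 23, -21, 22, -16, -12, 36, -10, -23, -1, 2, 3, 7, 5, 0, -3, 0, 6, 1, 3, 1, 0, -4, -2, 1]⟩) (.leaf ⟨6, 6, true, [35, 35, 31, 37, 25, 21], [42, 0, 18, 28, 40, 28, 23], [3, 82, 24, 53, 147, 29, -1, 25, 6, 3, 9, -5, 71, -33, -2, 2, 1, 7, 5, 9, -1, -2, 1, 6, 1, 3, -4, 0, -6, -3, -1]⟩)) (.node 1 (.leaf ⟨6, 6, true, [41, 0, 16, 19, 12, 42, 29], [12, 0, 43, 29, 34, 21, 10], [-4, -79, -23, -54, -146, -29, 1, -24, -6, -3, -9, 4, -71, 33, 1, -2, -1, -7, -5, -9, 1, 2, -1, -6, -1, -3, 4, 0, 6, 3, 1]⟩) (.leaf ⟨5, 6, true, [32, 25, 4, 36, 6], [12, 2, 26, 29, 32, 38, 25], [30, 93, -15, 87, 151, 43, -5, 14, -4, 35, -10, -6, 59, -25, -18, 0, 5, 5, 11, 9, -1, 0, -1, 7, 0, 1, -4, 0, -5, -1, 1]⟩))) (.node 2 (.node 1 (.leaf ⟨6, 5, true, [22,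 2, 43, 43, 36, 31, 6], [12, 39, 32, 25, 14], [-31, -90, 16, -88, -150, -43, 5, -13, 4, -35, 10, 5, -59, 25, 17, 0, -5, -5, -11, -9, 1, 0, 1, -7, 0, -1, 4, 0, 5, 1, -1]⟩) (.leaf ⟨6, 6, true, [8, 6, 14, 38, 34, 19], [8, 6, 29, 35, 11, 18], [-4, 71, 11, 38, 95, 13, 3, 8, 22, 4, 18, -11, 28, -27, 1, 3, 0, 6, 8, 2, 1, -2, 0, 3, 0, 0, -3, 0, -5, 1, -1]⟩)) (.node 1 (.leaf ⟨6, 6, true, [43, 2, 33, 12, 40, 26, 11], [0, 26, 41, 22, 11, 28], [5, -69, -11, -38, -95, -13, -3, -8, -22, -4, -18, 11, -30, 27, -2, -3, 0, -6, -8, -2, -1, 2, 0, -3, 0, 0, 3, 0, 5, -1, 1]⟩) (.leaf ⟨6, 6, true, [10, 0, 38, 29, 41, 0, 31], [28, 19, 35, 10, 32, 32], [-25, -13, -10, -34, -29, -16, -12, 8, -16, 9, -10, 16, -37, -3, 33, -7, 4, -2, -2, 0, -1, -14, -3, -1, 1, 3, 0, 0, -2, -2, 1]⟩)))))))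
noncomputable def dF1093 : BT Fct := (.node 30 (.node 15 (.node 7 (.node 3 (.node 1 (.leaf ⟨6, 3, true, [25, 2, 34, 21, 38, 20, 11], [33, 0, 20, 38, 18, 39, 14], [9, -17, -43, -2, -7, 2, -15, 3, -20, 26, -26, -1, -12, 8, 23, -4, 9, -1, 2, 3, -1, -10, -5, 3, 1, 2, 0, 0, -3, -4, 2]⟩) (.node 1 (.leaf ⟨3, 6, true, [0, 21, 12, 38, 24, 18], [19, 2, 37, 33, 42, 6, 18], [-7, 23, 44, 4, 4, -5, 15, -3, 20, -26, 25, 1, 12, -7, -24, 4, -9, 1, -2, -3, 1, 10, 5, -3, -1, -2, 0, 0, 3, 4, -2]⟩) (.leaf ⟨6, 6, true, [4, 35, 11, 39, 21, 24], [27, 28, 33, 34, 23, 33], [-36, 36, 34, 5, 57, 6, -6, 9, -13, -8, -8, 2, 30, -4, -3, 0, -1, 1, 4, 2, -1, 1, 0, 1, -1, 1, 0, 0, -2, -3]⟩))) (.node 2 (.node 1 (.leaf ⟨6, 6, true, [8, 22, 35, 32, 29, 26], [25, 0, 41, 18, 2, 4, 28], [37, -34, -34, -5, -57, -6, 6, -9, 13,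 8, 8, -2, -32, 4, 2, 0, 1, -1, -4, -2, 1, -1, 0, -1, 1, -1, 0, 0, 2, 3]⟩) (.leaf ⟨6, 6, true, [23, 40, 36, 36, 25, 4], [42, 19, 40, 33, 31, 6], [4, -78, -82, -17, -94, -11, -1, -28, -11, 32, -13, 11, -29, 19, 38, -1, 2, -1, -1, -1, 0, -7, -4, -4, -1, -2, -1, 0, 1, -3, 2]⟩)) (.node 1 (.leaf ⟨5, 6, true, [11, 38, 41, 26, 6, 4], [6, 19, 32, 34, 19, 23], [30, 290, 6, 232, 416, 85, -27, 53, -24, 56, -19, -39, 172, -94, -58, -7, 2, 19, 26, 28, -4, 0, 2, 20, 2, 3, -3, 0, -19, -7, 2]⟩) (.leaf ⟨6, 5, true, [14, 23, 18, 25, 39, 19], [0, 6, 27, 40, 39, 10], [-29, -290, -6, -232, -416, -85, 27, -53, 24, -56, 19, 39, -170, 94, 57, 7, -2, -19, -26, -28, 4, 0, -2, -20, -2, -3, 3, 0, 19, 7, -2]⟩)))) (.node 4 (.node 2 (.node 1 (.leaf ⟨6, 6, true, [6, 2, 24, 38, 41, 19, 23], [24, 40, 13, 16, 26, 36], [-28,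 -308, -51, -185, -306, -101, 14, -25, 5, -28, -18, 20, -157, 81, 44, 0, -13, -17, -28, -17, 0, -1, 2, -18, 2, -1, -3, 0, 18]⟩) (.leaf ⟨6, 6, true, [39, 2, 31, 21, 37, 33, 21], [32, 2, 24, 38, 35, 33, 27], [29, 310, 51, 185, 306, 101, -14, 25, -5, 28, 18, -20, 155, -81, -45, 0, 13, 17, 28, 17, 0, 1, -2, 18, -2, 1, 3, 0, -18]⟩)) (.node 1 (.leaf ⟨6, 6, true, [22, 11, 41, 37, 22, 31], [36, 0, 30, 41, 22, 38, 20], [11, 79, -7, 55, 36, 30, -18, 1, -3, -6, 22, -10, 35, -15, 20, 3, 1, 7, 5, -1, 3, -8, -1, 4, -2, -1, 0, 0, -7, 2]⟩) (.leaf ⟨6, 6, true, [19, 20, 40, 31, 22, 41], [12, 27, 41, 12, 37, 6], [-12, -77, 8, -56, -35, -30, 18, 0, 3, 6, -22, 9, -33, 15, -21, -3, -1, -7, -5, 1, -3, 8, 1, -4, 2, 1, 0, 0, 7, -2]⟩))) (.node 2 (.node 1 (.leaf ⟨6, 5, true, [30, 6, 30, 25, 13, 43, 19], [10, 40,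 6, 35, 22, 29], [20, 18, -41, 29, -46, 18, -6, -16, 4, -2, 28, 2, 10, 8, 40, 6, 3, 4, 2, -6, 5, -12, -3, -2, -1, 1, -4, 0, -2, 3]⟩) (.leaf ⟨5, 6, true, [34, 34, 11, 18, 34, 25], [41, 24, 21, 41, 23, 42], [-24, -82, 23, -69, -33, -40, 9, 8, -1, -2, -31, 3, -44, 10, -31, -6, -5, -8, -8, 2, -5, 12, 3, -2, 1, -1, 4, 0, 6, -3]⟩)) (.node 1 (.leaf ⟨5, 6, true, [0, 40, 18, 14, 30, 0], [25, 0, 41, 24, 40, 26, 13], [4, -33, -55, 19, -48, -3, -10, -4, -17, -6, -6, -2, 6, 23, 32, 2, 0, -1, -3, -5, 2, -5, -2, -2, 0, -1, -2, 0, 0, -2, 1]⟩) (.leaf ⟨5, 6, true, [43, 14, 34, 34, 28], [39, 31, 2, 28, 39, 23], [30, 70, -14, 58, 94, 29, -28, -1, -9, 6, 9, -15, 27, -31, 15, -4, 3, 9, 2, 7, 0, -9, 0, 4, 2, -1, 2, 0, -9, 2]⟩))))) (.node 7 (.node 3 (.node 1 (.leaf ⟨6, 6, true, [41, 33, 6, 18, 42, 25], [6, 25,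 26, 6, 40, 35], [17, 26, -1, 3, 8, 17, 4, -7, 12, 23, 14, 4, -10, -15, -4, 0, 3, 3, 5, 2, 0, -4, 0, 1, 0, 0, 0, 0, -1, 2]⟩) (.node 1 (.leaf ⟨6, 6, true, [28, 23, 37, 24, 6, 29], [8, 2, 22, 26, 42, 22, 0], [-56, -35, 45, -68, -3, -52, 15, 5, 31, -12, -11, 7, -41, -14, -7, -5, -7, 0, -2, 0, -3, 8, 2, -5, 0, -3, 0, 0, 4, 1, -1]⟩) (.leaf ⟨6, 6, true, [32, 38, 32, 38, 19, 11], [24, 35, 33, 6, 29, 36], [55, 37, -44, 67, 4, 52, -15, -4, -31, 12, 11, -8, 43, 14, 6, 5, 7, 0, 2, 0, 3, -8, -2, 5, 0, 3, 0, 0, -4, -1, 1]⟩))) (.node 2 (.node 1 (.leaf ⟨6, 6, true, [29, 2, 35, 24, 41, 28, 20], [18, 10, 43, 39, 18, 32, 8], [15, 93, 13, 59, 74, 30, -13, 9, -3, -12, 13, -10, 52, -21, -12, 2, -1, 5, 5, 1, 2, -3, 1, 6, 1, 1, -1, 0, -5, 2, -1]⟩) (.leaf ⟨6, 6, true, [2, 27, 28, 2, 25, 2], [12, 38, 32, 38, 28,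 18], [-16, -90, -12, -60, -73, -30, 13, -8, 3, 12, -13, 9, -52, 21, 11, -2, 1, -5, -5, -1, -2, 3, -1, -6, -1, -1, 1, 0, 5, -2, 1]⟩)) (.node 1 (.leaf ⟨6, 6, true, [23, 16, 37, 27, 28, 6], [27, 24, 38, 16, 14, 20], [33, 120, 9, 59, 62, 50, -23, 3, 9, 6, 27, -12, 39, -32, -4, 3, 2, 10, 7, 2, 3, -6, 2, 6, 1, 2, 0, 0, -9, 3, -1]⟩) (.leaf ⟨6, 6, true, [34, 26, 16, 2, 31, 12], [28, 34, 27, 21, 23, 36], [-34, -117, -8, -60, -61, -50, 23, -2, -9, -6, -27, 11, -39, 32, 3, -3, -2, -10, -7, -2, -3, 6, -2, -6, -1, -2, 0, 0, 9, -3, 1]⟩)))) (.node 4 (.node 2 (.node 1 (.leaf ⟨6, 6, true, [8, 6, 24, 36, 19, 27], [28, 2, 23, 41, 20, 22, 11], [-5, -155, -20, -72, -139, -19, 19, -36, 7, -32, 18, 2, -40, 49, 19, 9, -6, -5, -9, -11, 3, 2, 1, -8, -1, -4, -2, 0, 8, 3]⟩) (.leaf ⟨6, 6, true, [31, 0, 14, 43, 6,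 22, 24], [24, 0, 41, 8, 25, 36, 10], [6, 157, 20, 72, 139, 19, -19, 36, -7, 32, -18, -2, 38, -49, -20, -9, 6, 5, 9, 11, -3, -2, -1, 8, 1, 4, 2, 0, -8, -3]⟩)) (.node 1 (.leaf ⟨5, 6, true, [16, 6, 32, 25, 34, 28], [38, 32, 16, 21, 34, 24], [-39, -72, 4, -57, -153, -21, -9, -14, -23, -62, 6, 23, -21, 46, 61, 3, 0, -2, -12, -15, 5, -5, -3, -4, -2, -3, 0, 0, 1, 2]⟩) (.leaf ⟨6, 5, true, [43, 28, 6, 32, 39, 27], [13, 18, 43, 8, 36, 28], [38, 74, -3, 56, 154, 21, 9, 15, 23, 62, -6, -24, 23, -46, -62, -3, 0, 2, 12, 15, -5, 5, 3, 4, 2, 3, 0, 0, -1, -2]⟩))) (.node 2 (.node 1 (.leaf ⟨6, 5, true, [21, 4, 36, 11, 25, 39], [21, 39, 43, 29, 35, 30], [13, 122, 12, 83, 92, 49, -10, 1, -5, -5, 27, -8, 64, -32, 4, 4, 3, 9, 11, 4, 3, -7, -2, 6, -1, 1, -1, 0, -9, 1]⟩) (.leaf ⟨5, 6, true, [38, 32, 43, 29, 39,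 22], [20, 19, 41, 35, 18, 4], [-8, -119, -19, -78, -97, -49, 9, 0, 6, 7, -28, 6, -64, 32, -5, -4, -3, -9, -11, -4, -3, 7, 2, -6, 1, -1, 1, 0, 9, -1]⟩)) (.node 1 (.leaf ⟨5, 6, true, [4, 29, 41, 16, 35, 27], [6, 36, 39, 27, 31, 26], [-17, 53, 39, 10, 142, -6, 5, 23, 5, 16, -19, -10, 26, -24, -41, -3, -5, 2, 6, 10, -4, 9, 0, 6, 0, 1, -2, 0, -1, -1, -1]⟩) (.leaf ⟨6, 5, true, [22, 43, 16, 23, 43, 27], [4, 26, 38, 16, 12, 16], [16, -51, -38, -11, -141, 6, -5, -22, -5, -16, 19, 9, -24, 24, 40, 3, 5, -2, -6, -10, 4, -9, 0, -6, 0, -1, 2, 0, 1, 1, 1]⟩)))))) (.node 15 (.node 7 (.node 3 (.node 1 (.leaf ⟨6, 6, true, [38, 33, 26, 19], [36, 0, 40, 19, 40, 32, 8], [-54, -123, 25, -121, -78, -49, -5, -19, 0, -24, -3, 16, -78, 14, 38, -5, -6, -2, -6, -1, -3, -1, -1, -9, 0, -5, 1, 0, 5, -4, -1]⟩) (.node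 1 (.leaf ⟨6, 6, true, [0, 36, 24, 39, 42, 8], [18, 16, 29, 30, 39], [53, 127, -24, 120, 79, 49, 5, 20, 0, 24, 3, -17, 76, -14, -39, 5, 6, 2, 6, 1, 3, 1, 1, 9, 0, 5, -1, 0, -5, 4, 1]⟩) (.leaf ⟨6, 6, true, [20, 0, 26, 11, 41, 25, 22], [18, 0, 35, 39, 43, 30, 21], [15, 163, 57, 119, 238, 42, -5, 8, 18, 5, 39, -18, 89, -61, -51, -1, -9, 11, 10, 10, -1, 11, 5, 7, -2, -3, 1, 0, -6, 3, -1]⟩))) (.node 2 (.node 1 (.leaf ⟨6, 6, true, [42, 26, 31, 38, 11, 23], [28, 35, 20, 40, 43, 0], [-16, -160, -56, -120, -237, -42, 5, -7, -18, -5, -39, 17, -89, 61, 50, 1, 9, -11, -10, -10, 1, -11, -5, -7, 2, 3, -1, 0, 6, -3, 1]⟩) (.leaf ⟨6, 6, true, [0, 37, 39, 31, 36, 6], [6, 28, 38, 18, 22, 25], [0, 110, 54, 65, 204, 22, 2, 33, 1, 23, -10, -26, 57, -41, -49, -2, -2, 5, 10, 14, -4, 10, 1, 8, -1, 0, 0, 0, -6,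 -1, 1]⟩)) (.node 1 (.leaf ⟨6, 6, true, [29, 23, 32, 39, 29, 6], [0, 16, 41, 20, 18, 25], [-1, -108, -53, -66, -203, -22, -2, -32, -1, -23, 10, 25, -55, 41, 48, 2, 2, -5, -10, -14, 4, -10, -1, -8, 1, 0, 0, 0, 6, 1, -1]⟩) (.leaf ⟨6, 6, true, [18, 26, 35, 40, 42, 27], [43, 2, 26, 37, 30, 14], [38, 40, -41, 56, 63, 19, -1, 6, 7, 41, 3, -19, -5, -19, -4, -1, 1, 4, 6, 7, -1, -3, -3, 3, -1, -2, -1, 0, -3, 2, 2]⟩)))) (.node 4 (.node 2 (.node 1 (.leaf ⟨6, 6, true, [10, 20, 29, 37, 25, 39], [14, 22, 42, 22, 18, 13], [-39, -36, 42, -57, -62, -19, 1, -5, -7, -41, -3, 18, 3, 19, 3, 1, -1, -4, -6, -7, 1, 3, 3, -3, 1, 2, 1, 0, 3, -2, -2]⟩) (.leaf ⟨6, 6, true, [28, 18, 14, 38, 25, 6], [35, 12, 38, 43, 33, 30], [-1, 103, 48, 68, 184, 21, 3, 24, 3, 13, -1, -11, 60, -40, -44, -2, -5, 6, 6, 12, -3, 8, 3,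 8, -1, 1, -1, 0, -5, -1, 1]⟩)) (.node 1 (.leaf ⟨6, 6, true, [30, 2, 19, 6, 27], [32, 29, 39, 13, 18, 4], [2, -103, -48, -68, -184, -21, -3, -24, -3, -13, 1, 11, -58, 40, 43, 2, 5, -6, -6, -12, 3, -8, -3, -8, 1, -1, 1, 0, 5, 1, -1]⟩) (.leaf ⟨6, 6, true, [18, 18, 2, 33, 36, 43], [25, 27, 38, 40, 11, 31], [-10, -210, -40, -148, -204, -70, 23, -14, 8, 7, -28, 8, -118, 43, -11, -2, -3, -13, -16, -6, -3, 17, 3, -10, 1, -1, -1, 0, 15, -3]⟩))) (.node 2 (.node 1 (.leaf ⟨5, 6, true, [26, 0, 39, 4, 30, 38, 14], [21, 8, 20, 38, 24, 28], [18, 61, -11, 56, 76, 30, -2, 7, -10, 21, -3, -1, 32, -23, -1, 0, 5, 4, 8, 6, -1, -4, -1, 4, 0, 0, 0, 0, -5, -2, 1]⟩) (.leaf ⟨6, 5, true, [38, 18, 37, 39, 42, 41, 27], [41, 20, 40, 42, 25, 2], [-19, -58, 12, -57, -75, -30, 2, -6, 10, -21, 3, 0, -32, 23, 0, 0, -5,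 -4, -8, -6, 1, 4, 1, -4, 0, 0, 0, 0, 5, 2, -1]⟩)) (.node 1 (.leaf ⟨5, 6, true, [24, 20, 42, 10, 24, 22], [33, 35, 13, 37, 35], [66, -159, -156, -31, -263, 8, -9, -53, -15, 20, -6, 7, -98, 83, 65, 10, 10, -6, -2, -17, 5, -19, -6, -10, -1, 0, -3, 0, 8, 1, 4]⟩) (.leaf ⟨6, 5, true, [0, 39, 28, 20, 25, 13], [25, 22, 36, 38, 32, 12], [-65, 159, 156, 31, 263, -8, 9, 53, 15, -20, 6, -7, 100, -83, -66, -10, -10, 6, 2, 17, -5, 19, 6, 10, 1, 0, 3, 0, -8, -1, -4]⟩))))) (.node 8 (.node 4 (.node 2 (.node 1 (.leaf ⟨6, 6, true, [16, 10, 26, 40, 20, 30, 23], [11, 23, 29, 2, 20, 4], [-34, -60, 48, -65, -101, -35, 16, -13, 14, -39, 31, 9, -38, 10, -2, 3, -13, -2, -9, -8, 1, 8, 4, -8, -1, -3, 3, 0, 5, 3, -2]⟩) (.leaf ⟨6, 6, true, [0, 24, 23, 38, 25, 21], [26, 22, 36, 43, 31, 41], [-7, -42, 0, -30, -29, -11,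 16, 3, 6, 2, 4, 3, -14, 5, 5, 2, -2, -1, -3, -3, 0, 1, 1, -4, 0, 2, -3, 0, 3, 1]⟩)) (.node 1 (.leaf ⟨6, 6, true, [12, 41, 39, 21, 35, 28], [10, 19, 16, 34, 41, 6], [8, 42, 0, 30, 29, 11, -16, -3, -6, -2, -4, -3, 16, -5, -6, -2, 2, 1, 3, 3, 0, -1, -1, 4, 0, -2, 3, 0, -3, -1]⟩) (.leaf ⟨6, 6, true, [35, 22, 20, 38, 20, 43, 22], [6, 30, 13, 18, 40, 25], [5, -235, -49, -167, -277, -70, 2, -45, 1, -15, -13, 24, -151, 57, 48, -1, 1, -12, -11, -14, 0, 1, -4, -15, 1, -4, 2, 0, 11, -3]⟩))) (.node 2 (.node 1 (.leaf ⟨6, 6, true, [12, 0, 35, 23, 34, 28, 22], [19, 0, 43, 26, 41, 26, 23], [-6, 238, 50, 166, 278, 70, -2, 46, -1, 15, 13, -25, 151, -57, -49, 1, -1, 12, 11, 14, 0, -1, 4, 15, -1, 4, -2, 0, -11, 3]⟩) (.leaf ⟨6, 6, true, [30, 25, 34, 19, 8, 41], [10, 24, 32, 6, 37, 23], [17, 124, 37, 71, 129,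 31, -25, 0, 6, -12, 35, -12, 52, -35, -37, -1, -10, 7, 2, 3, 1, 6, 6, 4, -2, -1, 2, 0, -1, 3, -2]⟩)) (.node 1 (.leaf ⟨6, 6, true, [24, 4, 26, 19, 2, 33, 11], [34, 23, 34, 41, 6, 30], [-28, 15, 42, 3, 102, -8, 13, 22, 3, -2, -14, -15, 44, -12, -8, -1, -3, -1, -3, 7, -3, 6, 1, 1, -1, 0, -1, 0, -1, -2]⟩) (.leaf ⟨6, 6, true, [4, 18, 28, 40, 18, 2], [42, 21, 36, 32, 34, 33], [29, -13, -42, -3, -102, 8, -13, -22, -3, 2, 14, 15, -46, 12, 7, 1, 3, 1, 3, -7, 3, -6, -1, -1, 1, 0, 1, 0, 1, 2]⟩)))) (.node 4 (.node 2 (.node 1 (.leaf ⟨6, 6, true, [6, 0, 8, 24, 40, 36, 30], [35, 11, 33, 27, 42, 26, 4], [74, 177, -69, 151, 57, 69, -32, 12, 12, 19, 50, -41, 51, -25, 16, 6, 2, 12, 8, 1, 6, -10, -3, 9, -3, -4, -2, 0, -10, 8, 1]⟩) (.leaf ⟨6, 6, true, [16, 0, 32, 35, 19, 23, 23], [21, 0, 26, 30, 43, 28, 11],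 [-75, -174, 70, -152, -56, -69, 32, -11, -12, -19, -50, 40, -51, 25, -17, -6, -2, -12, -8, -1, -6, 10, 3, -9, 3, 4, 2, 0, 10, -8, -1]⟩)) (.node 1 (.leaf ⟨6, 6, true, [2, 37, 32, 36, 14, 18], [18, 35, 12, 36, 35, 2], [16, 56, 8, 20, 45, 23, 0, -2, 10, 22, 15, -2, 5, -22, -8, 0, 3, 4, 7, 4, 0, -5, 0, 3, 0, 0, 0, 0, -3, 2]⟩) (.leaf ⟨6, 6, true, [41, 0, 22, 22, 42, 42, 8], [40, 26, 39, 27, 4], [-14, 0, 7, 16, 26, -9, -6, 11, -12, -23, -12, -8, 27, 9, -1, 0, -3, -2, -3, 0, 0, 3, 0, 1, 0, 0, 0, 0, -1, -2]⟩))) (.node 2 (.node 1 (.leaf ⟨6, 6, true, [20, 11, 40, 32, 40, 40], [25, 43, 40, 18, 30, 40], [15, 0, -7, -16, -26, 9, 6, -11, 12, 23, 12, 8, -25, -9, 0, 0, 3, 2, 3, 0, 0, -3, 0, -1, 0, 0, 0, 0, 1, 2]⟩) (.leaf ⟨6, 6, true, [6, 20, 31, 2, 42, 24], [32, 42, 10, 36, 42, 30], [1, 88, 64, 44, 143,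 32, 1, 17, -5, 3, 14, -6, 66, -25, -25, 2, 2, 3, 10, 6, 0, 0, 0, 5, 0, 2, -2, 0, -4]⟩)) (.node 1 (.leaf ⟨6, 6, true, [36, 26, 6, 23, 2, 22], [30, 0, 37, 18, 2, 25, 22], [-17, -120, -45, -49, -164, -30, -2, -18, -13, -40, -3, 11, -15, 52, 50, 4, -3, -7, -14, -14, 4, -6, -1, -8, 0, 0, -1, 0, 5, 0, -1]⟩) (.leaf ⟨6, 6, true, [36, 2, 40, 42, 16, 29, 30], [11, 2, 20, 2, 26], [34, 91, -5, 107, 154, 38, -7, -6, 12, 20, 40, -13, 60, -34, -22, 1, -8, 7, 6, 4, 1, 3, 3, 2, -1, -3, -2, 0, -3, 4]⟩)))))))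
noncomputable def dF1154 : BT Fct := (.node 30 (.node 15 (.node 7 (.node 3 (.node 1 (.leaf ⟨6, 6, true, [20, 2, 26, 35, 41, 22, 30], [31, 39, 19, 32, 38, 19], [-33, -91, 5, -107, -154, -38, 7, 6, -12, -20, -40, 13, -58, 34, 21, -1, 8, -7, -6, -4, -1, -3, -3, -2, 1, 3, 2, 0, 3, -4]⟩) (.node 1 (.leaf ⟨6, 5, true, [38, 42, 40, 26, 42, 8], [36, 2, 34, 39, 41, 20, 26], [-53, -5, 90, -66, 5, -8, 15, 3, 17, -51, 22, 11, 10, 3, -3, 3, -3, 0, -6, -3, 1, 7, 3, -2, -2, -1, 0, 0, 4, 2, -2]⟩) (.leaf ⟨5, 6, true, [34, 4, 8, 25, 42, 25, 14], [31, 2, 39, 31, 20, 35, 16], [57, 7, -96, 70, -8, 8, -16, -3, -16, 53, -23, -12, -10, -3, 2, -3, 3, 0, 6, 3, -1, -7, -3, 2, 2, 1, 0, 0, -4, -2, 2]⟩))) (.node 2 (.node 1 (.leaf ⟨6, 6, true, [8, 41, 42, 42, 18, 2], [27, 0, 43, 33, 40, 36, 8], [47, 100, -36, 93, 95,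 39, -11, 11, 7, 26, 15, -28, 27, -31, -12, 1, -1, 6, 7, 6, 1, -6, -2, 7, -1, -1, -1, 0, -6, 5, 1]⟩) (.leaf ⟨6, 6, true, [41, 39, 41, 29, 36, 21], [2, 31, 18, 36, 31], [-46, -100, 36, -93, -95, -39, 11, -11, -7, -26, -15, 28, -25, 31, 11, -1, 1, -6, -7, -6, -1, 6, 2, -7, 1, 1, 1, 0, 6, -5, -1]⟩)) (.node 1 (.leaf ⟨6, 6, true, [29, 36, 34, 39, 42, 6], [40, 30, 35, 35, 22, 32], [14, 25, -16, 47, 100, -4, -1, 11, -11, 55, -40, -18, -6, -18, -27, -8, 3, -1, 10, 15, -6, 7, -2, 3, -1, 0, 1, 0, -5, -6, 2]⟩) (.leaf ⟨6, 6, true, [36, 34, 30, 10, 4, 26], [23, 30, 36, 23, 18, 43], [83, 20, -93, 109, 9, 55, -16, -41, 4, 23, 32, -15, 13, 15, 18, 9, 0, 5, 8, -5, 4, -9, -1, -1, -3, -6, -2, 0, 0, 4, 3]⟩)))) (.node 4 (.node 2 (.node 1 (.leaf ⟨6, 6, true, [28, 35, 10, 24, 35, 24], [27, 11, 31, 35, 37], [-84,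 -16, 94, -110, -8, -55, 16, 42, -4, -23, -32, 14, -15, -15, -19, -9, 0, -5, -8, 5, -4, 9, 1, 1, 3, 6, 2, 0, 0, -4, -3]⟩) (.leaf ⟨6, 6, true, [0, 27, 21, 39, 29, 26], [13, 2, 19, 32, 24, 34, 16], [-25, -26, 26, -23, 23, -8, 5, 12, -11, -3, -13, 1, 14, 14, -9, 1, -2, -4, -2, -1, -1, 5, 1, -1, 1, 1, -2, 0, 2, -2]⟩)) (.node 1 (.leaf ⟨6, 6, true, [10, 28, 38, 22, 31, 14], [2, 4, 35, 20, 38, 16], [24, 28, -25, 22, -22, 8, -5, -11, 11, 3, 13, -2, -12, -14, 8, -1, 2, 4, 2, 1, 1, -5, -1, 1, -1, -1, 2, 0, -2, 2]⟩) (.leaf ⟨6, 6, true, [36, 4, 27, 37, 29, 27, 13], [22, 14, 43, 23, 28, 4], [-17, -168, -40, -122, -238, -54, -4, -32, -8, -16, 21, 2, -110, 68, 51, 4, -10, -11, -22, -19, 5, -2, 0, -14, 2, 0, -3, 0, 7, 3]⟩))) (.node 2 (.node 1 (.leaf ⟨6, 6, true, [25, 41, 37, 42, 22, 38], [26, 0, 19, 38,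 16, 31, 16], [16, 172, 41, 121, 239, 54, 4, 33, 8, 16, -21, -3, 108, -68, -52, -4, 10, 11, 22, 19, -5, 2, 0, 14, -2, 0, 3, 0, -7, -3]⟩) (.leaf ⟨6, 6, true, [29, 43, 33, 19, 28, 6], [21, 37, 21, 10, 40, 35], [45, 104, -35, 94, 95, 37, -14, 14, 8, 26, 14, -28, 29, -34, -10, 1, -1, 6, 7, 6, 1, -6, -2, 7, 0, -1, -1, 0, -8, 5, 1]⟩)) (.node 1 (.leaf ⟨6, 6, true, [36, 0, 18, 37, 19, 37, 24], [21, 35, 2, 22, 41, 28], [-46, -101, 36, -95, -94, -37, 14, -13, -8, -26, -14, 27, -29, 34, 9, -1, 1, -6, -7, -6, -1, 6, 2, -7, 0, 1, 1, 0, 8, -5, -1]⟩) (.leaf ⟨6, 5, true, [19, 37, 6, 32, 18, 10], [42, 12, 25, 37, 32, 35, 25], [-27, 25, 48, -17, 82, 9, 0, 11, -9, -8, 0, -9, 17, -9, -10, -1, 1, 0, 0, 6, -2, 3, 0, 2, -1, 1, 1, 0, -3]⟩))))) (.node 7 (.node 3 (.node 1 (.leaf ⟨5, 6, true, [18, 20, 39, 32, 29,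 29], [8, 14, 20, 34, 10, 18], [30, 9, -37, 36, -43, 2, -1, -6, 7, 9, 2, 6, 0, 0, 4, 1, 0, 2, 3, -4, 2, -3, 0, 0, 1, -1, -1, 0, 1]⟩) (.node 1 (.leaf ⟨6, 5, true, [8, 0, 34, 21, 42, 14, 27], [41, 13, 37, 20, 2, 22], [-35, -62, 61, -59, 89, -17, 36, 6, 3, 19, -8, -3, -2, -4, -23, -2, 2, -8, -1, 8, -5, 8, -2, 0, -1, 1, -2, 0, 3, -1, 1]⟩) (.leaf ⟨5, 6, true, [30, 40, 38, 29, 34], [8, 6, 26, 38, 19, 13, 28], [44, 98, -62, 86, -56, 28, -39, -1, -3, -14, 8, -2, 19, -5, 17, 2, -1, 10, 4, -6, 5, -8, 2, 2, 1, -1, 2, 0, -5, 1, -1]⟩))) (.node 2 (.node 1 (.leaf ⟨6, 6, true, [12, 43, 31, 34, 42, 21], [22, 4, 19, 27, 6, 38, 28], [8, 80, 19, 53, 126, 11, 0, 14, 23, 3, 18, -19, 39, -28, -1, 3, -2, 7, 7, 5, 0, 1, 0, 3, 1, -1, -3, 0, -5, 0, -2]⟩) (.leaf ⟨6, 5, true, [21, 19, 34, 32, 4], [30, 0, 35, 22, 42,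 25, 14], [-17, -55, 33, -26, 32, -27, 31, -3, 23, -5, -1, 1, 11, 1, -9, 0, -4, -3, -2, 1, -2, 9, 0, -3, 0, -2, -2, 0, 4, 1, -2]⟩)) (.node 1 (.leaf ⟨5, 6, true, [42, 36, 29, 8, 10], [0, 33, 35, 18, 20], [22, 89, -27, 48, 6, 38, -33, 7, -24, 8, 2, -4, 6, -10, 3, 0, 5, 5, 5, 1, 2, -9, 0, 5, 0, 2, 2, 0, -6, -1, 2]⟩) (.leaf ⟨6, 6, true, [6, 13, 16, 39, 18, 4], [42, 19, 38, 18, 42, 8], [-20, -90, 14, -76, -91, -54, -2, -2, -18, -11, -2, -8, -63, 26, 6, -2, -15, -10, -19, -10, 1, 10, 4, -7, 2, 4, -2, 0, 3, -1, -3]⟩)))) (.node 4 (.node 2 (.node 1 (.leaf ⟨6, 6, true, [19, 0, 38, 25, 26, 20, 18], [0, 19, 38, 16, 12, 6], [19, 93, -13, 75, 92, 54, 2, 3, 18, 11, 2, 7, 63, -26, -7, 2, 15, 10, 19, 10, -1, -10, -4, 7, -2, -4, 2, 0, -3, 1, 3]⟩) (.leaf ⟨6, 6, true, [8, 0, 19, 32, 6, 42, 28], [40, 6, 35,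 22, 42, 16, 14], [-1, -61, 35, -45, 0, -35, 18, 18, 20, -10, -9, -15, -28, 15, -25, 0, -10, -6, -11, 0, -2, 11, 4, 0, 2, 1, -3, 0, 5, 0, -2]⟩)) (.node 1 (.leaf ⟨6, 6, true, [35, 23, 43, 23, 20, 4], [25, 0, 36, 16, 19, 36, 24], [0, 63, -34, 44, 1, 35, -18, -17, -20, 10, 9, 14, 30, -15, 24, 0, 10, 6, 11, 0, 2, -11, -4, 0, -2, -1, 3, 0, -5, 0, 2]⟩) (.leaf ⟨6, 6, true, [2, 22, 8, 42, 14, 4], [10, 2, 30, 35, 41, 31, 11], [32, 143, -43, 135, 104, 43, -19, 15, -14, 29, 3, -24, 68, -29, -23, 0, -2, 6, 10, 7, 1, -3, 1, 7, 0, 0, 0, 0, -8, 1]⟩))) (.node 2 (.node 1 (.leaf ⟨6, 6, true, [26, 35, 28, 34, 14, 40], [0, 14, 43, 8, 23, 2], [-31, -143, 43, -135, -104, -43, 19, -15, 14, -29, -3, 24, -66, 29, 22, 0, 2, -6, -10, -7, -1, 3, -1, -7, 0, 0, 0, 0, 8, -1]⟩) (.leaf ⟨6, 6, true, [28, 0, 12, 37, 43,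 25, 27], [40, 42, 24, 24, 42, 2], [-37, -16, 132, -85, 141, -37, 37, 17, 12, 8, -21, -8, -37, -22, -66, -5, -5, -1, 0, 12, -7, 33, 3, 0, 0, 0, 3, 0, 0, -5]⟩)) (.node 1 (.leaf ⟨6, 6, true, [40, 35, 31, 27, 40, 27], [16, 6, 18, 14, 39, 24, 19], [36, 20, -131, 84, -140, 37, -37, -16, -12, -8, 21, 7, 35, 22, 65, 5, 5, 1, 0, -12, 7, -33, -3, 0, 0, 0, -3, 0, 0, 5]⟩) (.leaf ⟨6, 6, true, [35, 0, 10, 19, 30, 43, 27], [13, 32, 38, 33, 6, 29], [37, 21, -124, 82, -131, 38, -36, -16, -9, -6, 20, 12, 45, 22, 62, 5, 5, 1, 1, -12, 7, -31, -3, 0, -1, 0, -4, 0, 1, 5]⟩)))))) (.node 15 (.node 7 (.node 3 (.node 1 (.leaf ⟨6, 6, true, [10, 30, 24, 2, 19, 22], [43, 11, 32, 40, 14, 42], [-38, -17, 125, -83, 132, -38, 36, 17, 9, 6, -20, -13, -47, -22, -63, -5, -5, -1, -1, 12, -7, 31, 3, 0, 1, 0, 4, 0, -1, -5]⟩)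 (.node 1 (.leaf ⟨6, 6, true, [32, 23, 10, 41, 18, 16], [28, 31, 40, 34, 31, 2], [57, -407, -198, -196, -500, -72, 20, -71, -5, 29, -36, 17, -220, 133, 59, 8, 5, -22, -22, -25, 2, -2, -3, -20, 0, -3, -4, 0, 25, -2, 4]⟩) (.leaf ⟨6, 6, true, [31, 35, 24, 24, 43], [32, 6, 20, 35, 18, 32], [7, -74, -61, -58, -182, -12, -18, -26, -18, 0, -6, 7, -87, 42, 23, -1, 2, -7, -6, -9, 2, -9, -1, -5, -2, 1, 3, 0, 3, 1, 2]⟩))) (.node 2 (.node 1 (.leaf ⟨6, 6, true, [34, 8, 33, 34, 31, 27, 12], [36, 8, 26, 34, 6, 23, 28], [7, 171, 14, 116, 157, 46, -10, 12, -6, 14, 20, -16, 69, -50, -39, -1, -4, 9, 13, 10, 0, 2, 2, 9, -1, -1, 2, 0, -11, 1, 1]⟩) (.leaf ⟨6, 6, true, [40, 12, 19, 37, 22, 35, 28], [36, 20, 41, 39, 10, 20], [-6, -169, -14, -116, -157, -46, 10, -12, 6, -14, -20, 16, -71, 50, 38, 1, 4, -9, -13,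 -10, 0, -2, -2, -9, 1, 1, -2, 0, 11, -1, -1]⟩)) (.node 1 (.leaf ⟨6, 6, true, [20, 10, 42, 29, 11, 40, 28], [38, 18, 6, 39, 25, 33], [-4, -8, 29, -19, 72, -20, 15, 8, 11, 10, -13, -2, -1, -20, -9, -5, 0, 1, -2, 7, -3, 4, 0, 0, 1, 1, -1, 0, 1, 0, -1]⟩) (.leaf ⟨6, 6, true, [18, 0, 43, 11, 27, 40, 21], [38, 18, 37, 38, 26, 0], [5, 8, -29, 19, -72, 20, -15, -8, -11, -10, 13, 2, 3, 20, 8, 5, 0, -1, 2, -7, 3, -4, 0, 0, -1, -1, 1, 0, -1, 0, 1]⟩)))) (.node 4 (.node 2 (.node 1 (.leaf ⟨6, 6, true, [29, 11, 26, 13, 43, 31, 24], [18, 10, 36, 43, 20, 34, 21], [13, -94, -59, -48, -196, -17, 1, -28, -2, -1, 7, 24, -71, 35, 27, 1, 1, -6, -5, -12, 3, -4, -1, -7, 1, -4, 1, 0, 5, 2]⟩) (.leaf ⟨6, 6, true, [29, 37, 14, 27, 42, 22], [21, 12, 34, 29, 30, 34], [-14, 97, 60, 47, 197, 17, -1, 29, 2, 1, -7, -25,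 71, -35, -28, -1, -1, 6, 5, 12, -3, 4, 1, 7, -1, 4, -1, 0, -5, -2]⟩)) (.node 1 (.leaf ⟨6, 6, true, [30, 24, 42, 36, 42, 41], [6, 0, 40, 35, 29, 38, 24], [18, 45, -60, 51, -63, 47, -23, -33, -17, 7, 40, 2, 24, 1, 61, 5, 11, 6, 7, -7, 6, -20, -6, -1, -2, -1, 2, 0, -8, 3, 1]⟩) (.leaf ⟨6, 6, true, [27, 6, 16, 41, 32, 35, 14], [16, 40, 31, 42, 21, 23], [-19, -41, 61, -52, 64, -47, 23, 34, 17, -7, -40, -3, -26, -1, -62, -5, -11, -6, -7, 7, -6, 20, 6, 1, 2, 1, -2, 0, 8, -3, -1]⟩))) (.node 2 (.node 1 (.leaf ⟨6, 6, true, [0, 34, 40, 40, 18, 8], [29, 11, 35, 24, 6, 18], [-28, -109, 16, -73, 17, -55, 16, 13, 5, 8, -40, -2, -47, 18, -19, -6, -8, -8, -11, 5, -6, 12, 3, -4, 1, 2, -3, 0, 7, -5, 1]⟩) (.leaf ⟨6, 6, true, [11, 19, 32, 39, 35, 10], [0, 36, 18, 35, 43, 6], [-48, -236, 17, -189, -230, -79,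 23, -31, -1, -42, 0, 29, -115, 62, 38, -1, -4, -14, -20, -14, 0, 1, -1, -14, 0, 0, -1, 0, 14]⟩)) (.node 1 (.leaf ⟨6, 6, true, [24, 10, 32, 14, 34, 6, 29], [42, 13, 34, 38, 28, 33], [47, 239, -16, 188, 231, 79, -23, 32, 1, 42, 0, -30, 115, -62, -39, 1, 4, 14, 20, 14, 0, -1, 1, 14, 0, 0, 1, 0, -14]⟩) (.leaf ⟨6, 6, true, [35, 0, 30, 16, 39, 8, 6], [6, 20, 16, 35, 13, 27], [-3, -2, 17, -10, 27, -22, 19, 17, 4, 11, -29, 5, -10, -6, -45, -4, -2, -4, 2, 5, -4, 10, 2, 1, 0, 1, 1, 0, 6, -3]⟩))))) (.node 8 (.node 4 (.node 2 (.node 1 (.leaf ⟨6, 6, true, [8, 0, 32, 34, 21, 43, 16], [39, 4, 34, 31, 12, 34], [2, 4, -16, 9, -26, 22, -19, -16, -4, -11, 29, -6, 12, 6, 44, 4, 2, 4, -2, -5, 4, -10, -2, -1, 0, -1, -1, 0, -6, 3]⟩) (.leaf ⟨6, 6, true, [16, 28, 4, 34, 31, 25], [43, 0, 26, 40, 30, 37], [1, -43,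 -46, -17, -58, -8, 2, -3, -9, 17, -7, 8, -32, 15, 11, -2, 2, -4, -2, -1, -1, -3, 0, -4, -1, -1, 0, 0, 4, -1, 1]⟩)) (.node 1 (.leaf ⟨6, 6, true, [19, 32, 25, 40, 31, 23], [20, 37, 31, 25, 37, 8], [0, 45, 46, 17, 58, 8, -2, 3, 9, -17, 7, -8, 30, -15, -12, 2, -2, 4, 2, 1, 1, 3, 0, 4, 1, 1, 0, 0, -4, 1, -1]⟩) (.leaf ⟨6, 6, true, [35, 38, 26, 36, 20, 33], [27, 27, 43, 26, 14, 28], [64, 163, 16, 144, 196, 56, 17, 44, 12, 39, -7, -25, 114, -38, -78, 5, 7, 2, 9, 10, 0, 7, 1, 16, 1, 11, -3, 0, -8, 3, 1]⟩))) (.node 2 (.node 1 (.leaf ⟨6, 6, true, [20, 33, 12, 38, 38, 24], [30, 13, 36, 23, 34, 29, 18], [-67, -146, 78, -118, -21, -80, 48, 16, 19, 6, -29, 11, -56, 18, -68, -2, -21, -16, -12, 0, -6, 33, 7, -11, -1, 0, -4, 0, 14, -1, -1]⟩) (.leaf ⟨6, 6, true, [6, 41, 18, 11, 6, 30], [36, 25, 28, 40,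 20, 32], [-21, 26, 27, -1, 81, -6, 12, 23, 0, 6, -26, -2, 15, -19, -37, -4, -2, -1, 4, 8, -4, 10, 2, 4, 0, -2, 0, 0, 1, -3]⟩)) (.node 1 (.leaf ⟨6, 6, true, [31, 0, 38, 24, 18, 23, 2], [22, 37, 37, 41, 31, 10], [20, -23, -26, 0, -80, 6, -12, -22, 0, -6, 26, 1, -15, 19, 36, 4, 2, 1, -4, -8, 4, -10, -2, -4, 0, 2, 0, 0, -1, 3]⟩) (.leaf ⟨6, 6, true, [21, 32, 35, 24, 22, 32], [18, 43, 28, 20, 43, 19], [5, 118, -28, 77, -13, 35, -46, 0, -9, -35, 29, -9, 31, -11, 34, 3, -5, 13, 2, -6, 6, -12, 3, 2, 1, -4, 2, 0, -8, 2, -1]⟩)))) (.node 4 (.node 2 (.node 1 (.leaf ⟨6, 6, true, [6, 41, 23, 23, 43, 13], [33, 24, 22, 34, 33, 20], [-4, -116, 28, -77, 13, -35, 46, 0, 9, 35, -29, 9, -33, 11, -35, -3, 5, -13, -2, 6, -6, 12, -3, -2, -1, 4, -2, 0, 8, -2, 1]⟩) (.leaf ⟨6, 6, true, [29, 29, 37, 38, 29, 14],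 [2, 33, 14, 42, 20], [5, -64, -41, -50, -154, 6, 3, -16, 4, -14, 30, 4, -40, 36, 50, 8, 1, 1, -5, -14, 6, -12, -1, -6, 0, 0, -3, 0, 1, 5]⟩)) (.node 1 (.leaf ⟨6, 6, true, [35, 33, 6, 37, 14, 8], [27, 6, 40, 33, 38, 40, 20], [-41, 177, 114, 72, 280, 26, -3, 39, 4, -18, -12, -22, 103, -62, -51, -4, -2, 10, 11, 19, -5, 11, 3, 11, -2, 1, 3, 0, -10, -3, -1]⟩) (.leaf ⟨6, 6, true, [22, 2, 36, 30, 39, 19, 8], [28, 2, 18, 37, 14, 13], [40, -174, -113, -73, -279, -26, 3, -38, -4, 18, 12, 21, -103, 62, 50, 4, 2, -10, -11, -19, 5, -11, -3, -11, 2, -1, -3, 0, 10, 3, 1]⟩))) (.node 2 (.node 1 (.leaf ⟨6, 6, true, [42, 6, 19, 25, 2, 18, 29], [40, 30, 26, 38, 31, 21], [16, 53, -26, 52, 9, 25, -19, -2, -13, -6, 6, -6, 36, -6, 26, 3, 3, 7, 7, -3, 3, -6, -1, 2, -1, -5, 0, 0, -5, 1]⟩) (.leaf ⟨6, 6, true, [2,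 22, 36, 25, 16, 19], [14, 13, 40, 35, 32, 36, 10], [-15, -53, 26, -52, -9, -25, 19, 2, 13, 6, -6, 6, -34, 6, -27, -3, -3, -7, -7, 3, -3, 6, 1, -2, 1, 5, 0, 0, 5, -1]⟩)) (.node 1 (.leaf ⟨6, 6, true, [27, 2, 20, 34, 19, 22, 4], [38, 14, 26, 36, 26, 2], [-25, -29, -32, -19, -74, -10, -21, -5, 5, -6, 1, 0, -25, 1, 35, 0, -3, 2, -2, -4, 1, -10, -1, -4, -1, -2, 0, 0, 0, 3, -1]⟩) (.leaf ⟨6, 6, true, [24, 2, 20, 22, 38, 34, 29], [23, 0, 18, 35, 21, 2, 26], [24, 33, 33, 18, 75, 10, 21, 6, -5, 6, -1, -1, 23, -1, -36, 0, 3, -2, 2, 4, -1, 10, 1, 4, 1, 2, 0, 0, 0, -3, 1]⟩)))))))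
noncomputable def dF1215 : BT Fct := (.node 30 (.node 15 (.node 7 (.node 3 (.node 1 (.leaf ⟨6, 6, true, [28, 31, 19, 39, 10], [11, 40, 22, 43, 12, 39], [16, -49, -53, -12, -39, -1, -8, -12, -15, 27, -11, 8, -47, 10, 35, -4, 3, -2, -3, 2, -1, -18, -2, -1, 1, 0, -2, 0, 0, 1, 1]⟩) (.node 1 (.leaf ⟨6, 6, true, [13, 33, 36, 19, 39, 25], [2, 8, 38, 37, 23, 26], [-17, 51, 54, 11, 40, 1, 8, 13, 15, -27, 11, -9, 49, -10, -36, 4, -3, 2, 3, -2, 1, 18, 2, 1, -1, 0, 2, 0, 0, -1, -1]⟩) (.leaf ⟨6, 6, true, [34, 18, 4, 35, 37], [36, 6, 16, 24, 37, 34], [-6, -82, -7, -70, -121, -27, 15, -8, 7, 2, -24, 11, -57, 29, -11, -1, -1, -8, -8, 0, -2, 3, -1, -3, 2, 5, -1, 0, 7, -2, -1]⟩))) (.node 2 (.node 1 (.leaf ⟨6, 6, true, [6, 23, 11, 42, 2, 42], [2, 25, 28, 41, 10], [5, 85, 8, 69, 122, 27, -15, 9, -7, -2,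 24, -12, 57, -29, 10, 1, 1, 8, 8, 0, 2, -3, 1, 3, -2, -5, 1, 0, -7, 2, 1]⟩) (.leaf ⟨6, 6, true, [43, 28, 20, 8, 19], [20, 32, 40, 25, 43, 20], [-10, -34, 11, -47, -86, -23, 1, -24, 8, -27, 23, 16, -63, 8, 31, -2, -1, -1, -6, -5, 2, -9, -1, -2, 1, -5, 1, 0, 1, 4, -1]⟩)) (.node 1 (.leaf ⟨6, 6, true, [39, 35, 6, 21, 22, 18], [8, 13, 34, 41, 41, 11], [-5, 9, 26, 4, 51, -6, -1, 11, -4, -3, -13, 0, 15, -11, -15, -5, -1, 0, -1, 5, -3, 3, 1, 3, 0, -1, 4, 0, 0, -2, -1]⟩) (.leaf ⟨6, 3, true, [40, 29, 37, 43, 43, 24], [33, 26, 23, 40, 21, 41], [28, 44, -25, 71, 154, 3, -5, 27, -21, 66, -58, -16, 11, -24, -52, -10, 1, -3, 9, 16, -7, 7, -1, 7, 1, 2, 0, 0, -3, -5, 2]⟩)))) (.node 4 (.node 2 (.node 1 (.leaf ⟨3, 6, true, [2, 33, 40, 25, 28, 11], [8, 4, 35, 39, 39, 40, 18], [-30, -29, 39, -65, -110, -2,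 5, -23, 22, -63, 58, 12, -4, 15, 46, 9, -1, 4, -7, -13, 6, -6, 1, -6, -1, -2, 0, 0, 2, 4, -2]⟩) (.leaf ⟨6, 6, true, [23, 42, 41, 21, 43, 28], [23, 37, 12, 35, 36, 21], [-28, 36, 81, -9, 115, -12, 3, 26, 11, -11, -7, -6, 22, -25, -37, -3, -4, 1, 2, 9, -4, 11, 2, 3, -1, 0, 1, 0, 0, -2]⟩)) (.node 1 (.leaf ⟨6, 6, true, [28, 0, 16, 42, 42, 40, 22], [26, 43, 26, 10, 35, 27], [27, -33, -80, 8, -114, 12, -3, -25, -11, 11, 7, 5, -22, 25, 36, 3, 4, -1, -2, -9, 4, -11, -2, -3, 1, 0, -1, 0, 0, 2]⟩) (.leaf ⟨6, 6, true, [6, 19, 13, 38, 33, 0], [6, 20, 40, 6, 33, 28], [-46, 28, 59, 6, 157, -5, 17, 51, -9, 5, -46, -24, 93, -10, -49, -1, -5, -4, -2, 12, -6, 19, 3, 3, -3, 3, 0, 0, 0, -4]⟩))) (.node 2 (.node 1 (.leaf ⟨6, 6, true, [23, 20, 34, 6, 19, 13], [4, 32, 39, 12, 18, 6], [47, -28, -59, -6, -157,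 5, -17, -51, 9, -5, 46, 24, -91, 10, 48, 1, 5, 4, 2, -12, 6, -19, -3, -3, 3, -3, 0, 0, 0, 4]⟩) (.leaf ⟨6, 6, true, [13, 2, 22, 37, 16, 21, 31], [21, 2, 23, 32, 26, 2, 20], [22, 88, 45, 51, 148, 27, 11, 15, -6, 6, 1, -10, 54, -19, -40, 0, 2, 2, 6, 7, -1, 9, 1, 8, 1, 2, 0, 0, -5, -3, 1]⟩)) (.node 1 (.leaf ⟨6, 6, true, [14, 43, 8, 21, 36, 29], [2, 33, 22, 43, 25, 25], [-23, -84, -44, -52, -147, -27, -11, -14, 6, -6, -1, 9, -56, 19, 39, 0, -2, -2, -6, -7, 1, -9, -1, -8, -1, -2, 0, 0, 5, 3, -1]⟩) (.leaf ⟨6, 6, true, [11, 40, 29, 43, 39, 19], [8, 36, 29, 40, 34, 4], [-54, -47, 32, -60, -40, -36, -7, 7, 15, -17, -7, 6, -34, -6, 4, -4, -6, -1, -4, 2, -3, 1, 1, -5, -2, -2, 2, 0, 4, 1, -1]⟩))))) (.node 7 (.node 3 (.node 1 (.leaf ⟨6, 6, true, [26, 4, 22, 42, 32, 25, 2], [43, 26, 2, 33, 12, 27],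 [53, 51, -31, 59, 41, 36, 7, -6, -15, 17, 7, -7, 32, 6, -5, 4, 6, 1, 4, -2, 3, -1, -1, 5, 2, 2, -2, 0, -4, -1, 1]⟩) (.node 1 (.leaf ⟨3, 3, true, [12, 4, 18, 35, 4, 28, 25], [6, 21, 18, 36, 14, 20], [32, 23, -40, 48, -4, 19, 0, -3, -11, 23, -8, -1, 6, -3, -1, -1, 6, 0, 4, 2, 0, -3, 0, 1, 0, 0, 2, 0, -2, -2, 1]⟩) (.leaf ⟨6, 6, true, [43, 0, 30, 41, 6, 19, 21], [42, 2, 29, 36, 38, 37, 11], [-7, 77, 76, 41, 204, 4, 15, 32, 11, 11, -26, -13, 62, -44, -64, -5, -2, 3, 7, 15, -6, 19, 3, 7, 1, 0, 1, 0, -3, -3, -1]⟩))) (.node 2 (.node 1 (.leaf ⟨6, 6, true, [43, 4, 41, 26, 18, 36, 28], [19, 21, 36, 31, 38, 4], [6, -75, -75, -42, -203, -4, -15, -31, -11, -11, 26, 12, -60, 44, 63, 5, 2, -3, -7, -15, 6, -19, -3, -7, -1, 0, -1, 0, 3, 3, 1]⟩) (.leaf ⟨6, 6, true, [24, 2, 22, 2, 18, 14], [33, 36, 29, 42,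 26], [-10, 64, 76, 31, 186, -1, 15, 32, 12, 9, -27, -11, 56, -38, -62, -5, -2, 2, 6, 14, -6, 19, 3, 6, 1, 0, 1, 0, -2, -3, -1]⟩)) (.node 1 (.leaf ⟨6, 6, true, [10, 2, 24, 38, 40, 10, 24], [2, 30, 38, 10, 30, 6], [11, -62, -76, -31, -186, 1, -15, -32, -12, -9, 27, 11, -58, 38, 61, 5, 2, -2, -6, -14, 6, -19, -3, -6, -1, 0, -1, 0, 2, 3, 1]⟩) (.leaf ⟨6, 5, true, [10, 0, 43, 11, 29, 40, 24], [2, 0, 18, 34, 11, 24, 29], [-26, 53, 83, 4, 135, -5, 6, 24, 9, -9, -20, -3, 39, -32, -51, -5, -2, 0, 3, 11, -5, 13, 3, 5, -1, 1, 3, 0, -1, -2, -1]⟩)))) (.node 4 (.node 2 (.node 1 (.leaf ⟨5, 6, true, [0, 43, 20, 40, 38, 22], [27, 30, 34, 27, 35, 21], [28, -51, -84, -3, -137, 5, -6, -23, -9, 9, 20, 2, -39, 32, 50, 5, 2, 0, -3, -11, 5, -13, -3, -5, 1, -1, -3, 0, 1, 2, 1]⟩) (.leaf ⟨6, 6, true, [35, 40, 20,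 41, 33, 42], [8, 25, 12, 39, 6, 31], [-10, 20, 45, 9, 113, -6, -4, 18, -14, 8, -5, -5, 15, -22, -51, -7, -5, -3, -2, 10, -5, 9, 3, 5, -2, 2, 4, 0, 0, -1, 1]⟩)) (.node 1 (.leaf ⟨6, 6, true, [32, 11, 25, 43, 6, 33, 29], [43, 40, 21, 38, 34, 18], [-30, 213, 163, 109, 504, 21, -9, 60, -14, 23, -33, -28, 99, -113, -116, -17, -8, 7, 14, 37, -14, 17, 4, 19, -2, 3, 5, 0, -11, -4, 1]⟩) (.leaf ⟨6, 6, true, [10, 34, 27, 33, 36, 21], [26, 40, 22, 32, 43, 27], [29, -209, -162, -110, -503, -21, 9, -59, 14, -23, 33, 27, -101, 113, 115, 17, 8, -7, -14, -37, 14, -17, -4, -19, 2, -3, -5, 0, 11, 4, -1]⟩))) (.node 2 (.node 1 (.leaf ⟨6, 6, true, [35, 30, 19, 40, 4, 41], [26, 16, 26, 38, 31, 29, 21], [-14, -160, -72, -138, -462, -15, 18, -54, 31, -72, 62, 35, -66, 96, 110, 21, 6, -2, -15, -37, 15, -11, -2,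 -18, 1, -4, -3, 0, 10, 5, -3]⟩) (.leaf ⟨6, 6, true, [29, 6, 33, 38, 19, 43, 23], [6, 0, 29, 10, 39, 19, 24], [13, 162, 73, 137, 463, 15, -18, 55, -31, 72, -62, -36, 68, -96, -111, -21, -6, 2, 15, 37, -15, 11, 2, 18, -1, 4, 3, 0, -10, -5, 3]⟩)) (.node 1 (.leaf ⟨6, 6, true, [0, 35, 39, 25, 18, 0], [29, 43, 25, 42, 21, 27], [-16, 32, 33, 1, 11, -8, -7, 6, 2, -18, -5, 0, 12, -7, -20, -2, -3, 1, -1, 2, -1, 3, 1, 2, -1, 0, 3, 0, 1, 1]⟩) (.leaf ⟨6, 6, true, [39, 31, 2, 32, 16, 22], [22, 41, 22, 41, 21], [15, -29, -32, -2, -10, 8, 7, -5, -2, 18, 5, -1, -12, 7, 19, 2, 3, -1, 1, -2, 1, -3, -1, -2, 1, 0, -3, 0, -1, -1]⟩)))))) (.node 15 (.node 7 (.node 3 (.node 1 (.leaf ⟨6, 6, true, [25, 6, 23, 34, 26, 33, 6], [30, 0, 43, 14, 18, 40, 4], [0, 15, 4, 10, -27, 4, -13, 0, -5, -21, 2, 5, -6, 9, 15, 3,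 -2, 2, -1, -4, 1, -8, 0, -2, 0, 0, 0, 0, 2, 1, 1]⟩) (.node 1 (.leaf ⟨6, 6, true, [10, 4, 40, 43, 33, 40], [23, 42, 26, 41, 27, 30], [1, -13, -4, -10, 27, -4, 13, 0, 5, 21, -2, -5, 4, -9, -16, -3, 2, -2, 1, 4, -1, 8, 0, 2, 0, 0, 0, 0, -2, -1, -1]⟩) (.leaf ⟨6, 6, true, [38, 19, 37, 39, 16, 35, 21], [27, 0, 29, 35, 33, 27, 22], [-29, -29, 29, -19, 40, -28, 3, 16, 18, 4, -28, 0, 2, -21, -22, -5, -4, 0, 0, 7, -5, 11, 2, -3, 0, -2, 1, 0, 3, 0, -2]⟩))) (.node 2 (.node 1 (.leaf ⟨6, 6, true, [20, 39, 28, 6, 38, 13], [31, 0, 41, 18, 12, 36, 24], [30, 31, -29, 19, -40, 28, -3, -16, -18, -4, 28, 0, -4, 21, 21, 5, 4, 0, 0, -7, 5, -11, -2, 3, 0, 2, -1, 0, -3, 0, 2]⟩) (.leaf ⟨6, 5, true, [42, 18, 43, 37, 23, 26], [27, 6, 37, 34, 23, 36], [-9, 23, 38, 7, 128, 1, 18, 20, 4, 18, -21, -7, 21, -22, -35,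 -3, 0, -1, 4, 9, -4, 13, 2, 2, 1, 1, -1, 0, -2, -3, -1]⟩)) (.node 1 (.leaf ⟨5, 6, true, [36, 6, 31, 12], [30, 0, 42, 29, 42, 32, 27], [12, 11, -27, 12, -89, 10, -19, -15, -6, -17, 23, 4, -4, 13, 29, 3, 1, 3, -1, -7, 4, -13, -2, 0, -1, -1, 1, 0, 0, 3, 1]⟩) (.leaf ⟨6, 6, true, [13, 28, 31, 19, 35, 22], [30, 2, 6, 32, 40, 37, 22], [-29, 128, 83, 54, 180, 12, -3, 26, 6, -5, 7, -9, 53, -49, -55, -5, -7, 5, 7, 14, -4, 12, 4, 6, -2, -1, 3, 0, -5, -1]⟩)))) (.node 4 (.node 2 (.node 1 (.leaf ⟨6, 6, true, [22, 0, 30, 42, 6, 33, 2], [42, 6, 39, 29, 43, 13, 27], [30, -128, -83, -54, -180, -12, 3, -26, -6, 5, -7, 9, -51, 49, 54, 5, 7, -5, -7, -14, 4, -12, -4, -6, 2, 1, -3, 0, 5, 1]⟩) (.leaf ⟨6, 3, true, [24, 0, 42, 8, 23, 36, 27], [26, 6, 42, 42, 25, 42], [-13, -100, -76, -67, -215, -22, -4, -26, -15,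 7, -20, 27, -82, 48, 41, -2, 4, -9, -4, -5, 0, -13, -4, -10, -4, 0, 3, 0, 7, -1, 1]⟩)) (.node 1 (.leaf ⟨3, 6, true, [6, 28, 16, 35, 18, 25], [16, 10, 26, 40, 20, 2], [16, 131, 84, 85, 251, 30, 0, 30, 15, -7, 22, -31, 96, -56, -46, 2, -4, 11, 6, 7, 0, 13, 4, 12, 4, 0, -3, 0, -9, 1, -1]⟩) (.leaf ⟨6, 6, true, [2, 42, 21, 34, 18, 29], [32, 2, 24, 41, 30, 24, 11], [25, -152, -90, -98, -315, -22, 31, -17, 24, 0, -13, 22, -55, 79, 40, 12, 9, -11, -7, -18, 6, 0, -3, -11, 2, 5, -5, 0, 8, -2, -2]⟩))) (.node 2 (.node 1 (.leaf ⟨6, 6, true, [32, 21, 34, 38, 43, 11], [36, 0, 43, 16, 22, 35, 19], [-26, 154, 91, 97, 316, 22, -31, 18, -24, 0, 13, -23, 57, -79, -41, -12, -9, 11, 7, 18, -6, 0, 3, 11, -2, -5, 5, 0, -8, 2, 2]⟩) (.leaf ⟨6, 6, true, [30, 2, 39, 11, 28, 20], [0, 35, 2, 39, 37, 6], [1, 84, 33,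 56, 130, 18, -20, 14, -16, 2, 12, -12, 39, -35, -28, -4, -4, 3, 2, 8, -2, 2, 2, 8, -5, 1, 4, 0, -6, 1, 1]⟩)) (.node 1 (.leaf ⟨6, 6, true, [34, 0, 19, 27, 42, 36, 26], [35, 21, 42, 24, 28, 14], [-43, 48, 79, -12, 105, -9, 1, 17, 5, -14, -6, -2, 14, -25, -29, -5, -4, 2, 2, 9, -4, 8, 2, 3, -2, -1, 3, 0, -1, -2]⟩) (.leaf ⟨6, 6, true, [30, 35, 21, 31, 42, 23], [12, 4, 19, 36, 28, 35, 30], [0, -62, -46, -33, -152, -9, -2, -5, -4, -5, -1, 10, -23, 40, 23, 5, 0, -4, -6, -11, 3, -1, 0, -5, 0, 1, -2, 0, 5, -1]⟩))))) (.node 7 (.node 3 (.node 1 (.leaf ⟨6, 6, true, [31, 32, 34, 29, 37, 29], [23, 0, 29, 38, 31, 16, 13], [-1, 64, 47, 32, 153, 9, 2, 6, 4, 5, 1, -11, 25, -40, -24, -5, 0, 4, 6, 11, -3, 1, 0, 5, 0, -1, 2, 0, -5, 1]⟩) (.node 1 (.leaf ⟨6, 6, true, [32, 38, 24, 37, 31, 26], [29, 18, 2, 24,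 40, 37], [30, 119, 24, 77, 287, 34, 6, 56, -3, 63, -77, -13, 87, -41, -74, -8, 14, -2, 16, 27, -9, 9, -3, 16, 2, 11, -4, 0, -8, -9, 1]⟩) (.leaf ⟨6, 6, true, [6, 25, 36, 38, 37, 8], [6, 0, 41, 32, 4, 41, 23], [-36, 230, 154, 79, 392, 23, -4, 59, 10, 4, -20, -29, 84, -94, -92, -8, -3, 11, 19, 26, -8, 20, 5, 15, 1, 0, 1, 0, -10, -5, -2]⟩))) (.node 2 (.node 1 (.leaf ⟨6, 6, true, [32, 37, 16, 23, 41, 39], [6, 40, 40, 27, 39, 24], [35, -228, -153, -80, -391, -23, 4, -58, -10, -4, 20, 28, -82, 94, 91, 8, 3, -11, -19, -26, 8, -20, -5, -15, -1, 0, -1, 0, 10, 5, 2]⟩) (.leaf ⟨6, 6, true, [21, 0, 37, 24, 8, 40, 25], [13, 29, 41, 36, 23, 28], [-1, 130, 67, 81, 275, 15, -1, 45, -10, 32, -50, -17, 69, -57, -82, -9, -1, 3, 12, 24, -9, 15, 3, 12, 0, 3, 1, 0, -6, -6, 1]⟩)) (.node 1 (.leaf ⟨6, 6, true,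 [0, 28, 41, 37, 29, 8], [24, 2, 25, 38, 27, 29, 30], [0, -126, -66, -82, -274, -15, 1, -44, 10, -32, 50, 16, -71, 57, 81, 9, 1, -3, -12, -24, 9, -15, -3, -12, 0, -3, -1, 0, 6, 6, -1]⟩) (.leaf ⟨6, 6, true, [29, 10, 38, 24, 28, 43, 24], [40, 2, 40, 11, 37, 23, 2], [-9, 3, 7, -7, 17, 0, 13, 31, -4, 3, -38, -5, 42, 5, -33, 3, -1, -3, -1, 3, -2, 13, 2, 1, -1, 5, -2, 0, 2, -2, -1]⟩)))) (.node 4 (.node 2 (.node 1 (.leaf ⟨6, 6, true, [36, 19, 28, 4, 42, 18], [43, 2, 6, 42, 35, 21, 29], [10, -1, -7, 7, -17, 0, -13, -31, 4, -3, 38, 5, -44, -5, 32, -3, 1, 3, 1, -3, 2, -13, -2, -1, 1, -5, 2, 0, -2, 2, 1]⟩) (.leaf ⟨6, 6, true, [21, 34, 20, 10, 31, 28], [35, 38, 38, 23, 31, 12], [-8, 158, 83, 96, 305, 22, -5, 48, 1, 22, -40, -22, 96, -62, -83, -8, -1, 5, 14, 21, -8, 17, 4, 12, 0, 1, 2, 0, -7, -5, 1]⟩))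 (.node 1 (.leaf ⟨6, 6, true, [13, 11, 25, 34, 21, 12], [11, 21, 33, 27, 35, 20], [7, -154, -82, -97, -304, -22, 5, -47, -1, -22, 40, 21, -98, 62, 82, 8, 1, -5, -14, -21, 8, -17, -4, -12, 0, -1, -2, 0, 7, 5, -1]⟩) (.leaf ⟨6, 6, true, [34, 0, 33, 34, 26, 41, 29], [38, 19, 30, 24, 43, 33], [6, -18, 15, 3, 64, -18, 1, 7, -22, 17, -14, -3, -12, -11, -45, -8, -6, -8, -6, 8, -5, 4, 2, 3, -2, 2, 5, 0, 1, 1, 2]⟩))) (.node 2 (.node 1 (.leaf ⟨6, 6, true, [0, 23, 43, 19, 32, 19], [20, 2, 36, 21, 34, 28, 2], [-7, 21, -14, -4, -63, 18, -1, -6, 22, -17, 14, 2, 12, 11, 44, 8, 6, 8, 6, -8, 5, -4, -2, -3, 2, -2, -5, 0, -1, -1, -2]⟩) (.leaf ⟨6, 6, true, [38, 0, 24, 28, 34, 33, 0], [25, 2, 26, 25, 43, 19, 28], [43, 191, -34, 149, 89, 54, -18, 28, -8, 28, -16, -16, 105, -20, -45, 3, 4, 6, 15, 3, 2, 8, 2,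 10, 0, 4, 0, 0, -10, -2]⟩)) (.node 1 (.leaf ⟨6, 6, true, [36, 40, 38, 14, 22, 21], [40, 34, 39, 30, 22, 6], [-42, -191, 34, -149, -89, -54, 18, -28, 8, -28, 16, 16, -103, 20, 44, -3, -4, -6, -15, -3, -2, -8, -2, -10, 0, -4, 0, 0, 10, 2]⟩) (.leaf ⟨6, 6, true, [21, 37, 34, 0, 38, 12], [26, 26, 37, 14, 18, 23], [-15, 70, 42, 27, 104, 13, -7, 16, 9, -2, 3, -5, 32, -34, -4, -2, 2, 5, 7, 8, -2, 0, -1, 4, -1, -1, 1, 0, -4, -3]⟩)))))))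
noncomputable def dF1275 : BT Fct := (.node 30 (.node 15 (.node 7 (.node 3 (.node 1 (.leaf ⟨6, 6, true, [22, 19, 32, 36, 27, 27], [10, 33, 43, 10, 27, 12], [14, -67, -41, -28, -103, -13, 7, -15, -9, 2, -3, 4, -32, 34, 3, 2, -2, -5, -7, -8, 2, 0, 1, -4, 1, 1, -1, 0, 4, 3]⟩) (.node 1 (.leaf ⟨6, 6, true, [35, 39, 21, 19, 31, 14], [11, 22, 6, 40, 20, 11], [-42, -120, 15, -92, -147, -46, 21, -8, 4, -16, -8, 24, -60, 40, 0, 0, -3, -12, -7, -6, -2, 7, 0, -7, -2, 0, 2, 0, 9, -6, 1]⟩) (.leaf ⟨6, 6, true, [0, 16, 39, 33, 43], [22, 14, 23, 32, 38, 34], [43, 122, -15, 92, 147, 46, -21, 8, -4, 16, 8, -24, 58, -40, -1, 0, 3, 12, 7, 6, 2, -7, 0, 7, 2, 0, -2, 0, -9, 6, -1]⟩))) (.node 2 (.node 1 (.leaf ⟨5, 6, true, [12, 35, 12, 28, 4], [40, 12, 40, 38, 12, 27], [-8, -70, -12, -44, -47, -22, 6, -2, -16,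 16, -26, 12, -38, 14, -15, -6, 0, -7, -4, 3, -4, 5, 0, -2, 0, 1, 3, 0, 5, -4]⟩) (.leaf ⟨6, 5, true, [29, 2, 26, 18, 31, 35, 12], [29, 34, 11, 12, 2], [7, 72, 13, 43, 48, 22, -6, 3, 16, -16, 26, -13, 40, -14, 14, 6, 0, 7, 4, -3, 4, -5, 0, 2, 0, -1, -3, 0, -5, 4]⟩)) (.node 1 (.leaf ⟨6, 6, true, [23, 21, 39, 6, 31, 21], [11, 43, 32, 39, 39, 31], [4, 91, 46, 40, 203, 22, 12, 40, 12, 34, -36, -6, 57, -46, -50, -4, 6, 0, 13, 20, -7, 8, -2, 9, 1, 7, -1, 0, -6, -7, -2]⟩) (.leaf ⟨6, 6, true, [24, 0, 6, 18, 25, 34, 25], [22, 42, 39, 14, 4, 34], [-5, -88, -45, -41, -202, -22, -12, -39, -12, -34, 36, 5, -57, 46, 49, 4, -6, 0, -13, -20, 7, -8, 2, -9, -1, -7, 1, 0, 6, 7, 2]⟩)))) (.node 4 (.node 2 (.node 1 (.leaf ⟨6, 6, true, [0, 2, 37, 22, 38, 20, 10], [29, 37, 2, 42, 41, 2], [10, -124, -80, -24, -169,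 -15, 1, -26, -20, 8, -4, 16, -26, 52, 44, 2, 0, -9, -10, -11, 2, -11, -4, -8, -1, 1, 1, 0, 5, 1, 1]⟩) (.leaf ⟨6, 6, true, [2, 42, 42, 19, 42, 12], [39, 28, 37, 28, 24, 37], [-10, 111, 77, 46, 153, 11, 4, 26, 2, -7, -31, -10, 43, -36, -68, -3, -2, 0, 8, 15, -6, 16, 3, 8, -2, 1, 5, 0, -4, -4, -1]⟩)) (.node 1 (.leaf ⟨6, 6, true, [2, 26, 35, 8, 41, 8], [14, 0, 34, 40, 40, 22, 29], [-27, -26, 2, -48, -89, -13, 3, -11, 24, -30, 14, 2, -15, 25, 50, 7, -1, 4, -1, -11, 5, -7, -3, -5, 2, -2, -6, 0, 1, 3, -2]⟩) (.leaf ⟨6, 6, true, [41, 8, 29, 36, 24, 36, 28], [32, 2, 40, 40, 33, 12, 25], [-42, -231, -47, -143, -349, -65, 29, -42, 7, -33, 23, 39, -99, 90, 60, 7, -3, -16, -16, -23, 4, -6, -3, -16, -3, -1, -1, 0, 15, -1, 1]⟩))) (.node 2 (.node 1 (.leaf ⟨6, 6, true, [0, 40, 33, 40, 25, 0], [35, 36,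 11, 35, 27], [-34, -261, -58, -163, -439, -63, 14, -44, -3, -51, 12, 44, -111, 103, 63, 6, -4, -18, -23, -27, 5, -5, -1, -17, -2, -1, 2, 0, 15, -1, 1]⟩) (.leaf ⟨6, 6, true, [2, 39, 27, 35, 10, 16], [4, 35, 30, 43, 34, 14], [-56, 164, 192, 43, 443, 7, -7, 29, 7, -4, 16, -20, 35, -118, -63, -18, -9, 12, 10, 32, -12, 5, 2, 13, -3, -2, 5, 0, -10, 0, 2]⟩)) (.node 1 (.leaf ⟨6, 6, true, [2, 0, 22, 28, 39, 41, 19], [35, 43, 25, 12, 43, 33], [55, -160, -191, -44, -442, -7, 7, -28, -7, 4, -16, 19, -37, 118, 62, 18, 9, -12, -10, -32, 12, -5, -2, -13, 3, 2, -5, 0, 10, 0, -2]⟩) (.leaf ⟨5, 6, true, [36, 34, 20, 6, 39, 39], [43, 16, 32, 6, 37, 4], [31, -74, -50, -14, -79, -4, -4, -15, -22, 20, 14, 8, -40, 13, 5, -2, 0, -6, -7, -3, 0, -4, 1, -3, -2, 0, 4, 0, 3, 0, 2]⟩))))) (.node 7 (.node 3 (.node 1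 (.leaf ⟨6, 6, true, [16, 12, 22, 42, 39, 14], [34, 0, 41, 25, 34, 30, 24], [-29, -53, 30, -72, -65, -1, 11, -29, 19, -34, 57, 15, -38, 6, 56, 4, -1, 4, -6, -8, 4, -13, -1, -6, 0, -4, -2, 0, 2, 5, -1]⟩) (.node 1 (.leaf ⟨6, 6, true, [19, 0, 34, 27, 30, 28, 23], [0, 23, 40, 21, 22, 10], [-31, -111, -34, -95, -227, -9, 1, -42, 10, -49, 58, 24, -59, 44, 79, 9, -1, -1, -11, -20, 8, -16, -2, -10, 0, -4, -2, 0, 6, 4, -1]⟩) (.leaf ⟨6, 6, true, [18, 35, 19, 38, 25, 42], [18, 0, 36, 24, 10, 39, 21], [-31, -136, 5, -88, -170, -39, 21, -29, 13, -28, 37, 17, -71, 43, 28, 3, -4, -8, -10, -14, 2, 1, 0, -9, -2, -3, 1, 0, 9, -1, 1]⟩))) (.node 2 (.node 1 (.leaf ⟨6, 6, true, [11, 0, 21, 39, 18, 34, 10], [8, 22, 32, 42, 19, 30], [38, -19, -84, -4, -197, 18, -12, -36, 11, -3, 24, 18, -56, 29, 56, 8, 7, 5,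 6, -16, 8, -16, -4, -5, 3, -2, -3, 0, 0, 3, -1]⟩) (.leaf ⟨6, 6, true, [43, 31, 34, 38, 34, 31], [43, 4, 20, 14, 43, 29, 19], [38, -44, -89, 27, -50, -10, -10, -5, -17, 43, -30, -6, -41, 17, 5, -5, 1, -5, 1, 0, -1, -7, -3, -1, 1, 1, -1, 0, 1, -1, 2]⟩)) (.node 1 (.leaf ⟨6, 6, true, [6, 33, 16, 6, 30, 6], [27, 38, 24, 36, 36, 0], [-37, 44, 89, -27, 50, 10, 10, 5, 17, -43, 30, 6, 43, -17, -6, 5, -1, 5, -1, 0, 1, 7, 3, 1, -1, -1, 1, 0, -1, 1, -2]⟩) (.leaf ⟨6, 6, true, [23, 14, 20, 2, 32, 2], [10, 0, 18, 21, 41, 21, 19], [-18, 35, 31, 1, 8, -10, -6, 6, -1, -18, -6, 0, 10, -6, -21, -2, -4, 1, -1, 2, -1, 3, 1, 2, -1, 0, 3, 0, 1, 1]⟩)))) (.node 4 (.node 2 (.node 1 (.leaf ⟨6, 6, true, [31, 26, 2, 25, 36, 21], [24, 0, 39, 25, 4, 39, 11], [-36, -2, 45, -36, 17, -20, -3, 4, 8, -22, 9, 0, -5, 1, -2,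 0, -7, 1, -3, -1, 0, 1, 0, 0, 0, 0, -1, 0, 1, 2, -1]⟩) (.leaf ⟨6, 6, true, [30, 19, 28, 41, 33, 37], [43, 16, 40, 42, 20], [-32, 22, 21, -3, 95, -11, -17, 4, -25, 13, -24, 8, -34, -24, -17, -13, -4, -4, 2, 16, -8, -9, -2, 1, -6, 2, 6, 0, 0, -1, 2]⟩)) (.node 1 (.leaf ⟨6, 6, true, [18, 0, 2, 18, 4, 2, 22], [16, 31, 38, 19, 33, 29], [31, -18, -20, 2, -94, 11, 17, -3, 25, -13, 24, -9, 32, 24, 16, 13, 4, 4, -2, -16, 8, 9, 2, -1, 6, -2, -6, 0, 0, 1, -2]⟩) (.leaf ⟨6, 6, true, [11, 0, 28, 38, 24, 14, 22], [6, 37, 31, 8, 36, 6], [24, 26, -20, 7, -39, 23, -2, -13, 10, 15, 34, -1, -19, -3, 19, 3, 3, 4, 4, -3, 3, -11, -1, 0, -1, 0, -1, 0, -2, 4]⟩))) (.node 2 (.node 1 (.leaf ⟨6, 6, true, [18, 0, 35, 22, 2, 22, 6], [32, 25, 23, 40, 22, 12], [-24, -439, -212, -286, -810, -93, -3, -111, -11, -56, 17,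 78, -254, 177, 196, 9, 5, -21, -37, -47, 12, -35, -12, -33, -6, -6, 1, 0, 24, 8, 2]⟩) (.leaf ⟨6, 6, true, [25, 35, 32, 20, 40, 34], [4, 2, 21, 34, 27, 11, 29], [17, -147, -109, -89, -315, -18, 10, -49, -19, -3, 7, 32, -101, 82, 68, 4, 7, -12, -9, -17, 5, -17, -6, -13, -3, 1, 1, 0, 9, 0, 2]⟩)) (.node 1 (.leaf ⟨6, 6, true, [41, 13, 33, 8, 35, 25, 12], [22, 4, 21, 39, 37, 13, 25], [-18, 149, 110, 88, 316, 18, -10, 50, 19, 3, -7, -33, 103, -82, -69, -4, -7, 12, 9, 17, -5, 17, 6, 13, 3, -1, -1, 0, -9, 0, -2]⟩) (.leaf ⟨5, 6, true, [11, 30, 34, 11, 42, 8], [12, 29, 24, 2, 31, 11], [55, 5, -73, 63, -13, 31, -16, -10, -32, 36, 11, -1, -3, -7, 2, -2, 5, -2, 1, 2, 0, -9, 0, 2, -2, 0, 4, 0, -2, -1, 3]⟩)))))) (.node 15 (.node 7 (.node 3 (.node 1 (.leaf ⟨6, 6, true, [12, 16, 34, 33, 43, 16], [8, 36,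 24, 32, 6, 20], [-53, 12, 73, -49, 16, -31, -4, 11, 12, -39, 1, 1, 5, -2, -16, -1, -9, 1, -5, 0, -1, 5, 1, 1, -1, -1, 1, 0, 3, 3, -1]⟩) (.node 1 (.leaf ⟨6, 6, true, [21, 6, 31, 25, 10, 36], [6, 25, 34, 41, 33, 42], [52, -9, -72, 48, -15, 31, 4, -10, -12, 39, -1, -2, -5, 2, 15, 1, 9, -1, 5, 0, 1, -5, -1, -1, 1, 1, -1, 0, -3, -3, 1]⟩) (.leaf ⟨6, 6, true, [4, 0, 20, 43, 23, 24, 30], [22, 18, 39, 20, 31, 22], [1, -164, -69, -82, -249, -33, 11, -39, 1, -20, 23, 29, -60, 53, 62, 2, 3, -7, -13, -18, 5, -11, -3, -11, 0, -1, -3, 0, 9, 5]⟩))) (.node 2 (.node 1 (.leaf ⟨6, 6, true, [28, 37, 25, 42, 14, 10], [27, 0, 33, 43, 24, 41, 13], [-2, 166, 70, 81, 250, 33, -11, 40, -1, 20, -23, -30, 62, -53, -63, -2, -3, 7, 13, 18, -5, 11, 3, 11, 0, 1, 3, 0, -9, -5]⟩) (.leaf ⟨6, 6, true, [32, 26, 14, 38, 23],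 [26, 8, 34, 30, 20, 11, 8], [10, 180, 10, 111, 113, 37, -19, 31, 2, 8, -7, -16, 104, -20, -43, 4, -2, 7, 12, 2, 2, 10, 2, 10, 0, 4, -2, 0, -10, 0, -1]⟩)) (.node 1 (.leaf ⟨6, 6, true, [16, 33, 11, 22, 42, 27], [21, 40, 22, 11, 42, 18], [-11, -177, -9, -112, -112, -37, 19, -30, -2, -8, 7, 15, -104, 20, 42, -4, 2, -7, -12, -2, -2, -10, -2, -10, 0, -4, 2, 0, 10, 0, 1]⟩) (.leaf ⟨6, 6, true, [11, 0, 31, 31, 34, 14, 23], [29, 2, 32, 2, 26, 13, 2], [3, 154, 96, 85, 317, 31, 8, 39, 21, 16, 14, -34, 79, -63, -76, -2, -5, 7, 16, 16, -4, 14, 7, 9, 1, 5, -2, 0, -8, -4, -3]⟩)))) (.node 4 (.node 2 (.node 1 (.leaf ⟨6, 6, true, [20, 8, 43, 33, 26, 39], [22, 2, 35, 32, 14, 31, 10], [-4, -150, -95, -86, -316, -31, -8, -38, -21, -16, -14, 33, -81, 63, 75, 2, 5, -7, -16, -16, 4, -14, -7, -9, -1, -5, 2, 0,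 8, 4, 3]⟩) (.leaf ⟨6, 6, true, [11, 33, 11, 41, 29, 6], [21, 35, 36, 11, 13, 20], [25, -254, -135, -113, -448, -44, 32, -65, 18, -19, 40, 23, -112, 101, 100, 15, 1, -12, -20, -32, 10, -15, -4, -20, -1, -4, -4, 0, 15, 7]⟩)) (.node 1 (.leaf ⟨6, 6, true, [19, 31, 40, 36, 16, 20], [2, 27, 40, 36, 31, 36], [-26, 258, 136, 112, 449, 44, -32, 66, -18, 19, -40, -24, 110, -101, -101, -15, -1, 12, 20, 32, -10, 15, 4, 20, 1, 4, 4, 0, -15, -7]⟩) (.leaf ⟨6, 6, true, [23, 43, 37, 33, 24, 4], [21, 6, 43, 23, 43, 16], [-69, 8, 120, -69, 62, -15, 5, -5, 20, -48, 36, 3, -13, -21, 16, -2, -3, 6, -1, 1, -1, 1, 1, -2, -1, -3, 1, 0, -1, 1, -1]⟩))) (.node 2 (.node 1 (.leaf ⟨3, 6, true, [0, 43, 29, 6, 28, 24], [19, 0, 39, 28, 18, 40, 8], [39, -224, -128, -99, -224, -18, 1, -51, -14, 15, 1, 18, -121, 56, 106,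 -1, 16, -8, -12, -11, 3, -31, -8, -11, 1, -2, -3, 0, 10, 1, 2]⟩) (.leaf ⟨6, 3, true, [38, 33, 23, 36, 33, 20], [8, 19, 43, 38, 42, 0], [-40, 227, 129, 98, 225, 18, -1, 52, 14, -15, -1, -19, 121, -56, -107, 1, -16, 8, 12, 11, -3, 31, 8, 11, -1, 2, 3, 0, -10, -1, -2]⟩)) (.node 1 (.leaf ⟨6, 6, true, [8, 0, 40, 30, 40, 39, 13], [13, 35, 39, 35, 23, 21], [-17, -375, -129, -199, -503, -68, 16, -78, -7, -40, 22, 41, -139, 126, 114, 8, -2, -18, -31, -34, 8, -19, -4, -23, -1, -1, -2, 0, 18, 6]⟩) (.leaf ⟨6, 6, true, [14, 32, 18, 38, 26, 12], [37, 41, 39, 35, 24, 21], [16, 378, 130, 198, 504, 68, -16, 79, 7, 40, -22, -42, 139, -126, -115, -8, 2, 18, 31, 34, -8, 19, 4, 23, 1, 1, 2, 0, -18, -6]⟩))))) (.node 8 (.node 4 (.node 2 (.node 1 (.leaf ⟨6, 6, true, [6, 20, 8, 38, 26, 13], [33, 2, 43, 22, 40,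 23, 19], [31, -128, -122, -46, -291, -4, -18, -46, -7, -12, 26, 11, -60, 66, 82, 7, 2, -4, -14, -21, 8, -18, -3, -10, 0, 0, -1, 0, 4, 4]⟩) (.leaf ⟨6, 6, true, [18, 2, 16, 31, 6, 33, 19], [34, 0, 21, 4, 38, 35, 27], [-32, 130, 123, 45, 292, 4, 18, 47, 7, 12, -26, -12, 62, -66, -83, -7, -2, 4, 14, 21, -8, 18, 3, 10, 0, 0, 1, 0, -4, -4]⟩)) (.node 1 (.leaf ⟨6, 6, true, [33, 20, 23, 6, 42, 28], [38, 10, 13, 25, 38, 19, 6], [-6, 48, -60, 45, -31, 38, -44, -40, -41, 11, 34, 8, -21, -13, 66, -5, 6, 3, 7, 3, 1, -36, -9, -2, -7, 0, 8, 0, -8, 4, 3]⟩) (.leaf ⟨6, 6, true, [22, 8, 34, 19, 24, 42, 24], [26, 14, 23, 34, 31, 4], [5, -45, 61, -46, 32, -38, 44, 41, 41, -11, -34, -9, 21, 13, -67, 5, -6, -3, -7, -3, -1, 36, 9, 2, 7, 0, -8, 0, 8, -4, -3]⟩))) (.node 2 (.node 1 (.leaf ⟨6, 6, true, [19, 0, 38,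 2, 27, 38, 23], [35, 30, 39, 39, 43, 43], [-23, -8, 84, -58, 59, -13, 6, 7, 14, -20, 7, -3, -21, -10, -11, -1, 1, 1, 1, 3, -2, 5, -1, 1, 1, -1, 1, 0, 0, -1, 1]⟩) (.leaf ⟨6, 6, true, [41, 28, 41, 23, 42, 38], [19, 11, 28, 36, 25, 43], [24, 10, -84, 58, -59, 13, -6, -7, -14, 20, -7, 3, 19, 10, 10, 1, -1, -1, -1, -3, 2, -5, 1, -1, -1, 1, -1, 0, 0, 1, -1]⟩)) (.node 1 (.leaf ⟨6, 6, true, [21, 37, 43, 10, 20, 23], [38, 2, 29, 2, 22, 36, 14], [21, -98, -77, -50, -266, -14, -8, -37, 0, -13, 22, 26, -84, 49, 52, 4, 1, -4, -7, -18, 6, -13, -2, -10, 2, -5, 2, 0, 5, 5]⟩) (.leaf ⟨6, 6, true, [28, 26, 38, 14, 24, 22], [39, 27, 43, 19, 32, 37], [-20, 98, 77, 50, 266, 14, 8, 37, 0, 13, -22, -26, 86, -49, -53, -4, -1, 4, 7, 18, -6, 13, 2, 10, -2, 5, -2, 0, -5, -5]⟩)))) (.node 4 (.node 2 (.node 1 (.leaf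 ⟨6, 6, true, [10, 21, 35, 28, 31, 26], [10, 27, 40, 31, 16, 21], [-12, -65, -25, -28, -102, -23, -5, -9, -9, -32, 0, 0, -14, 30, 30, 3, -4, -3, -9, -10, 3, -3, -1, -5, 2, -2, 0, 0, 3]⟩) (.leaf ⟨6, 6, true, [40, 39, 26, 35, 4, 39], [25, 0, 33, 18, 34, 20, 11], [11, 68, 26, 27, 103, 23, 5, 10, 9, 32, 0, -1, 14, -30, -31, -3, 4, 3, 9, 10, -3, 3, 1, 5, -2, 2, 0, 0, -3]⟩)) (.node 1 (.leaf ⟨6, 6, true, [40, 40, 40, 34, 11, 22], [43, 26, 11, 11, 43, 21], [14, -18, -82, 17, -121, 13, -20, -25, -6, -2, 23, 3, -32, 23, 56, 4, 1, 2, 1, -9, 5, -23, -3, -4, 0, -2, -1, 0, 0, 2, 1]⟩) (.leaf ⟨6, 6, true, [19, 4, 43, 16, 19, 2, 21], [30, 6, 18, 33, 39, 11, 19], [-15, 21, 83, -18, 122, -13, 20, 26, 6, 2, -23, -4, 32, -23, -57, -4, -1, -2, -1, 9, -5, 23, 3, 4, 0, 2, 1, 0, 0, -2, -1]⟩))) (.node 2 (.node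 1 (.leaf ⟨6, 6, true, [22, 0, 42, 20, 41, 13, 27], [43, 0, 21, 38, 42, 14, 19], [-16, -20, 64, -62, -4, -10, 3, -3, 15, -29, 24, -6, -37, 0, 13, 2, 1, 2, -1, -3, 1, -3, -2, -1, 2, -2, 1, 0, 0, 1, 1]⟩) (.leaf ⟨6, 6, true, [43, 22, 41, 23, 20, 12], [41, 43, 20, 36, 23, 34], [1, 0, 11, -3, 9, -10, 12, 12, 5, -1, -7, -1, -1, -6, -22, -1, -2, -1, 1, 1, -1, 4, 1, 1, 1, 0, 1, 0, 2, -1]⟩)) (.node 1 (.leaf ⟨6, 6, true, [40, 2, 30, 10, 39, 30, 21], [25, 37, 34, 22, 33, 12], [0, 0, -11, 3, -9, 10, -12, -12, -5, 1, 7, 1, 3, 6, 21, 1, 2, 1, -1, -1, 1, -4, -1, -1, -1, 0, -1, 0, -2, 1]⟩) (.leaf ⟨6, 6, true, [36, 42, 25, 39, 16, 23], [28, 2, 6, 24, 19, 43, 26], [1, 58, 33, 33, 18, 10, 1, -4, 22, -25, 43, -13, 23, -6, -12, 6, -11, 5, 0, -5, 4, 5, 2, -1, 0, -3, -1, 0, 0, 6, -2]⟩)))))))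
noncomputable def dF1336 : BT Fct := (.node 30 (.node 15 (.node 7 (.node 3 (.node 1 (.leaf ⟨6, 6, true, [12, 36, 21, 38, 19, 20], [43, 0, 10, 16, 39, 18, 6], [-2, -54, -32, -34, -17, -10, -1, 5, -22, 25, -43, 12, -25, 6, 11, -6, 11, -5, 0, 5, -4, -5, -2, 1, 0, 3, 1, 0, 0, -6, 2]⟩) (.node 1 (.leaf ⟨6, 5, true, [20, 2, 43, 35, 30, 35, 23], [39, 21, 36, 32, 40, 39], [11, 78, 44, 31, 169, 27, 19, 21, 14, 39, -3, -9, 18, -43, -41, -3, 4, 3, 11, 13, -4, 9, 1, 5, 0, 2, -1, 0, -5, -1, -1]⟩) (.leaf ⟨5, 6, true, [43, 37, 18, 8, 6, 24], [22, 29, 38, 22, 19, 37], [-4, -75, -56, -23, -175, -27, -21, -21, -12, -35, 1, 7, -18, 43, 40, 3, -4, -3, -11, -13, 4, -9, -1, -5, 0, -2, 1, 0, 5, 1, 1]⟩))) (.node 2 (.node 1 (.leaf ⟨5, 6, true, [6, 4, 38, 27, 41, 18, 6], [18, 40, 27, 28, 27, 16], [30, -43, -100,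 -4, -268, 12, -38, -50, -6, -31, 61, 3, -52, 47, 104, 10, 2, 4, -9, -22, 11, -32, -5, -8, 0, -3, 0, 0, 0, 8, 1]⟩) (.leaf ⟨6, 5, true, [19, 21, 33, 8, 41, 19], [14, 29, 41, 28, 11, 29], [-31, 45, 101, 3, 269, -12, 38, 51, 6, 31, -61, -4, 54, -47, -105, -10, -2, -4, 9, 22, -11, 32, 5, 8, 0, 3, 0, 0, 0, -8, -1]⟩)) (.node 1 (.leaf ⟨6, 6, true, [39, 32, 16, 38, 42, 8], [19, 16, 22, 34, 29], [43, 118, -27, 87, 23, 30, -19, 5, 13, 7, 24, -23, 39, -12, -5, 3, 0, 7, 5, -2, 4, 0, 0, 3, 1, 0, 0, 0, -5, 3, -1]⟩) (.leaf ⟨6, 6, true, [38, 0, 25, 11, 38, 12, 2], [29, 8, 6, 36, 23, 43, 26], [6, -20, -23, -8, -37, 18, 1, -7, 12, -1, 29, -1, -7, 8, 41, 6, 5, 4, 2, -7, 4, -4, -1, -3, 2, -2, -4, 0, -2, -1, -1]⟩)))) (.node 4 (.node 2 (.node 1 (.leaf ⟨6, 6, true, [22, 34, 27, 40, 38, 21], [31, 38, 18, 6, 40],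 [25, 177, 46, 117, 252, 34, -8, 28, 23, 12, 23, -37, 73, -61, -25, 2, -2, 13, 16, 13, -1, 4, 0, 9, 2, -2, -3, 0, -11, -1, -1]⟩) (.leaf ⟨6, 6, true, [34, 28, 41, 33, 18, 22], [33, 26, 43, 28, 36, 11], [-26, -173, -45, -118, -251, -34, 8, -27, -23, -12, -23, 36, -75, 61, 24, -2, 2, -13, -16, -13, 1, -4, 0, -9, -2, 2, 3, 0, 11, 1, 1]⟩)) (.node 1 (.leaf ⟨6, 6, true, [38, 0, 34, 39, 13, 26, 21], [31, 8, 35, 37, 23, 8], [-3, -86, -44, -43, -124, -34, 0, -4, 8, -2, -5, -3, -46, 25, 27, -1, -4, -5, -10, -7, 0, -3, 1, -5, 1, -4, 1, 0, 4]⟩) (.leaf ⟨6, 6, true, [20, 0, 31, 39, 25, 42, 21], [38, 36, 40, 37, 21, 6], [4, 88, 44, 43, 124, 34, 0, 4, -8, 2, 5, 3, 44, -25, -28, 1, 4, 5, 10, 7, 0, 3, -1, 5, -1, 4, -1, 0, -4]⟩))) (.node 2 (.node 1 (.leaf ⟨6, 6, true, [42, 2, 39, 11, 30, 42, 16], [20, 0,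 38, 33, 20, 43, 6], [52, -227, -141, -75, -401, -25, 14, -61, 12, -19, 42, 21, -75, 94, 103, 12, 2, -7, -19, -30, 10, -20, -5, -16, 1, 0, -4, 0, 10, 6, 1]⟩) (.leaf ⟨6, 6, true, [21, 37, 22, 41, 11, 25], [26, 2, 43, 6, 19, 21, 14], [-51, 229, 141, 75, 401, 25, -14, 61, -12, 19, -42, -21, 73, -94, -104, -12, -2, 7, 19, 30, -10, 20, 5, 16, -1, 0, 4, 0, -10, -6, -1]⟩)) (.node 1 (.leaf ⟨6, 6, true, [36, 25, 27, 42, 32, 29], [11, 8, 43, 6, 28, 21], [57, -89, -136, 4, -237, 3, -25, -30, -35, 23, 23, 2, -68, 45, 46, 2, 1, -6, -12, -13, 5, -19, -1, -5, -2, -1, 4, 0, 3, 4, 3]⟩) (.leaf ⟨6, 6, true, [19, 2, 30, 37, 34, 22], [2, 4, 38, 38, 29, 8, 0], [51, 12, -169, 117, -120, 25, -14, -16, -30, 39, -13, 10, 50, 20, 21, 2, -2, -2, -2, -6, 4, -9, 2, -2, -2, 2, -3, 0, 0, 2, -2]⟩))))) (.node 7 (.node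 3 (.node 1 (.leaf ⟨6, 6, true, [40, 33, 6, 2, 20, 24], [20, 6, 39, 23, 6, 18, 31], [-17, -282, -65, -166, -327, -88, 6, -29, 7, -30, 1, 17, -157, 82, 65, 3, -12, -14, -26, -22, 3, -8, 1, -18, 3, -2, -3, 0, 15, 1]⟩) (.node 1 (.leaf ⟨6, 6, true, [39, 19, 21, 2, 34], [21, 4, 30, 40, 22, 35, 29], [16, 286, 66, 165, 328, 88, -6, 30, -7, 30, -1, -18, 155, -82, -66, -3, 12, 14, 26, 22, -3, 8, -1, 18, -3, 2, 3, 0, -15, -1]⟩) (.leaf ⟨5, 6, true, [2, 29, 2, 32, 10, 0], [12, 0, 2, 18, 43, 32, 20], [43, -39, -68, 9, -113, 9, -18, -17, -22, 10, 27, 3, -29, 18, 28, 1, 2, -2, -6, -7, 3, -13, 0, -4, -1, -1, 5, 0, 1, 2, 2]⟩))) (.node 2 (.node 1 (.leaf ⟨6, 5, true, [29, 0, 2, 33, 16, 34, 23], [4, 11, 33, 2, 28, 2], [-44, 43, 69, -10, 114, -9, 18, 18, 22, -10, -27, -4, 27, -18, -29, -1, -2, 2, 6, 7, -3,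 13, 0, 4, 1, 1, -5, 0, -1, -2, -2]⟩) (.leaf ⟨6, 6, true, [25, 21, 42, 23, 4, 30], [32, 0, 22, 35, 38, 2, 26], [13, -9, -16, -9, -77, 13, 2, 0, 5, -16, 38, -10, -4, 18, 29, 8, 0, 1, -2, -10, 5, -7, -1, -2, 1, 1, -2, 0, 0, 1, -1]⟩)) (.node 1 (.leaf ⟨6, 6, true, [16, 29, 35, 24, 26, 12], [31, 22, 43, 20, 24], [-14, 12, 17, 8, 78, -13, -2, 1, -5, 16, -38, 9, 4, -18, -30, -8, 0, -1, 2, 10, -5, 7, 1, 2, -1, -1, 2, 0, 0, -1, 1]⟩) (.leaf ⟨6, 5, true, [21, 42, 22, 36, 41, 43], [29, 12, 26, 16, 42, 33], [-25, 71, 28, 12, 3, 5, -7, 6, 23, -34, -3, -5, 27, -3, 20, 4, 1, 8, 6, -3, 3, -5, -2, 0, 4, -1, -3, 0, -3, 2, -3]⟩)))) (.node 4 (.node 2 (.node 1 (.leaf ⟨5, 6, true, [43, 29, 32, 32, 19], [12, 0, 37, 40, 35, 10, 20], [27, -69, -29, -11, -5, -5, 7, -5, -23, 34, 3, 4, -27, 3, -21, -4, -1, -8, -6,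 3, -3, 5, 2, 0, -4, 1, 3, 0, 3, -2, 3]⟩) (.leaf ⟨6, 5, true, [34, 38, 28, 19, 41, 39], [36, 27, 2, 33, 36, 41], [-29, -151, -37, -88, -136, -38, -2, -21, -14, -17, -16, 16, -64, 44, 27, -1, -4, -9, -11, -7, 0, -3, -2, -8, 1, -2, 1, 0, 7, -2, 1]⟩)) (.node 1 (.leaf ⟨5, 6, true, [4, 0, 38, 38, 40, 16, 8], [23, 2, 33, 24, 11, 42, 8], [32, 121, 19, 74, 92, 27, 2, 17, 17, 18, 13, -15, 47, -35, -23, 1, 3, 7, 8, 5, 0, 3, 2, 6, -1, 2, -1, 0, -5, 2, -1]⟩) (.leaf ⟨5, 6, true, [32, 27, 36, 13, 28, 2], [8, 2, 40, 39, 27, 35, 18], [23, -13, -15, -3, 31, 0, 15, 15, 6, 27, -25, -1, 1, 2, -25, 0, 3, -6, 3, 7, -3, 3, -2, 2, 2, 7, -3, 0, -1, -4]⟩))) (.node 2 (.node 1 (.leaf ⟨6, 5, true, [25, 0, 40, 20, 37, 26, 30], [14, 29, 36, 28, 11, 24], [-24, 15, 16, 2, -30, 0, -15, -14, -6, -27, 25, 0, 1, -2, 24, 0,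 -3, 6, -3, -7, 3, -3, 2, -2, -2, -7, 3, 0, 1, 4]⟩) (.leaf ⟨6, 6, true, [37, 2, 41, 41, 29, 31, 26], [14, 0, 22, 39, 21, 21, 19], [32, -131, -87, -31, -20, 14, -4, -17, -23, 38, 7, 5, -44, 17, 55, 1, 10, -3, -5, 0, 1, -21, -5, -2, 3, 0, -7, 0, 5, -1, 2]⟩)) (.node 1 (.leaf ⟨6, 6, true, [6, 23, 39, 31, 11, 27], [38, 4, 30, 22, 34, 13], [-31, 131, 87, 31, 20, -14, 4, 17, 23, -38, -7, -5, 46, -17, -56, -1, -10, 3, 5, 0, -1, 21, 5, 2, -3, 0, 7, 0, -5, 1, -2]⟩) (.leaf ⟨6, 6, true, [11, 0, 32, 36, 21, 13, 23], [11, 40, 31, 42, 14, 28], [-30, -94, -7, -87, -137, -39, 11, -13, 30, -29, 18, 8, -68, 24, 29, 4, -4, -5, -10, -12, 3, -1, 0, -7, 0, -3, -2, 0, 5, 5, -1]⟩)))))) (.node 15 (.node 7 (.node 3 (.node 1 (.leaf ⟨6, 6, true, [16, 39, 36, 31, 6, 14], [27, 38, 13, 42, 39, 12], [31, 96, 7, 87, 137,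 39, -11, 13, -30, 29, -18, -8, 66, -24, -30, -4, 4, 5, 10, 12, -3, 1, 0, 7, 0, 3, 2, 0, -5, -5, 1]⟩) (.node 1 (.leaf ⟨6, 6, true, [16, 2, 33, 24, 38, 18, 0], [25, 2, 33, 14, 21, 34, 12], [-10, -125, -47, -90, -216, -18, 0, -33, 1, -25, 25, 16, -91, 48, 62, 4, 1, -5, -12, -15, 5, -12, -3, -9, 0, -4, -1, 0, 5, 5, 1]⟩) (.leaf ⟨5, 6, true, [21, 31, 39, 37, 35, 13], [23, 0, 34, 28, 0, 31, 12], [60, -270, -194, -96, -311, -21, -2, -57, -20, 32, -9, 19, -146, 76, 118, 0, 16, -11, -15, -15, 4, -35, -9, -13, 2, -2, -4, 0, 12, 1, 3]⟩))) (.node 2 (.node 1 (.leaf ⟨6, 5, true, [23, 36, 31, 43, 10, 22], [41, 29, 10, 35, 20, 0], [-59, 270, 194, 96, 311, 21, 2, 57, 20, -32, 9, -19, 148, -76, -119, 0, -16, 11, 15, 15, -4, 35, 9, 13, -2, 2, 4, 0, -12, -1, -3]⟩) (.leaf ⟨6, 6, true, [43, 2, 11, 21, 36, 23,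 8], [28, 24, 35, 19, 14, 25], [-33, -82, 64, -58, 127, -17, 45, 9, 11, 29, -11, -6, 4, -7, -29, -2, 1, -7, 0, 10, -6, 14, -3, 0, 1, 0, -4, 0, 3, -2, 1]⟩)) (.node 1 (.leaf ⟨6, 6, true, [18, 24, 35, 30, 16, 20], [12, 24, 8, 38, 22, 26], [34, 84, -64, 58, -127, 17, -45, -9, -11, -29, 11, 6, -6, 7, 28, 2, -1, 7, 0, -10, 6, -14, 3, 0, -1, 0, 4, 0, -3, 2, -1]⟩) (.leaf ⟨6, 6, true, [36, 0, 18, 16, 38, 26, 19], [10, 2, 32, 37, 24, 21, 10], [-14, 19, 3, 23, 125, -8, -4, 21, -11, 28, -37, -5, 19, -20, -41, -9, -2, -2, 5, 12, -7, 8, 3, 1, 0, -1, 3, 0, 0, -6, 3]⟩)))) (.node 4 (.node 2 (.node 1 (.leaf ⟨6, 6, true, [6, 36, 21, 27, 34, 0], [27, 0, 32, 32, 40, 10, 18], [13, -16, -2, -24, -124, 8, 4, -20, 11, -28, 37, 4, -19, 20, 40, 9, 2, 2, -5, -12, 7, -8, -3, -1, 0, 1, -3, 0, 0, 6, -3]⟩) (.leaf ⟨6,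 6, true, [11, 12, 18, 41, 33, 0], [32, 0, 10, 34, 19, 20, 4], [-27, -195, -63, -135, -278, -36, -18, -29, -19, -31, -1, 13, -118, 75, 48, 4, -4, -11, -19, -16, 3, -9, 0, -11, 0, 1, 1, 0, 9, 0, 1]⟩)) (.node 1 (.leaf ⟨6, 6, true, [26, 34, 37, 8, 38, 29], [4, 32, 40, 19, 13, 10], [28, 197, 63, 135, 278, 36, 18, 29, 19, 31, 1, -13, 116, -75, -49, -4, 4, 11, 19, 16, -3, 9, 0, 11, 0, -1, -1, 0, -9, 0, -1]⟩) (.leaf ⟨5, 6, true, [18, 11, 21, 42, 27, 11, 19], [27, 4, 35, 20, 35, 41, 21], [50, 46, -98, 69, -13, 30, -38, -2, -35, 55, -29, -18, -30, 1, 9, -4, 6, 3, 9, 5, 0, -7, -3, 3, 0, 2, 1, 0, -9, -4, 3]⟩))) (.node 2 (.node 1 (.leaf ⟨6, 6, true, [36, 6, 23, 36, 21, 18, 11], [21, 2, 32, 8, 2, 26, 19], [-3, -70, -52, -2, -84, -9, -12, -18, -22, -22, 14, 3, -1, 33, 33, 2, -3, -3, -10, -12, 4, -6,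 0, -5, 1, -2, 0, 0, 3, 2, 1]⟩) (.leaf ⟨6, 6, true, [20, 0, 40, 26, 40, 25, 22], [35, 18, 20, 38, 22, 20], [2, 73, 53, 1, 85, 9, 12, 19, 22, 22, -14, -4, 1, -33, -34, -2, 3, 3, 10, 12, -4, 6, 0, 5, -1, 2, 0, 0, -3, -2, -1]⟩)) (.node 1 (.leaf ⟨5, 6, true, [20, 0, 26, 43, 20, 8, 22], [29, 21, 38, 41, 18, 28], [0, 40, -8, 30, 105, 1, -1, 18, -4, 25, -26, -8, 20, -14, -37, -2, -4, 0, 6, 8, -3, 6, -1, 6, 0, 2, -3, 0, -1, -1]⟩) (.leaf ⟨6, 5, true, [24, 0, 40, 28, 6, 14, 18], [41, 14, 27, 23, 39, 33], [-1, -36, 9, -31, -104, -1, 1, -17, 4, -25, 26, 7, -22, 14, 36, 2, 4, 0, -6, -8, 3, -6, 1, -6, 0, -2, 3, 0, 1, 1]⟩))))) (.node 8 (.node 4 (.node 2 (.node 1 (.leaf ⟨3, 6, true, [11, 30, 37, 31, 25, 10], [12, 2, 18, 34, 39, 40, 25], [27, -389, -185, -183, -414, -54, 6, -71, -29, 0, -9, 32, -180, 109,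 142, 1, 14, -17, -24, -23, 5, -34, -10, -20, 2, -4, -4, 0, 18, 1, 3]⟩) (.leaf ⟨6, 3, true, [25, 12, 40, 18, 10, 6], [21, 30, 24, 11, 38, 6], [-26, 389, 185, 183, 414, 54, -6, 71, 29, 0, 9, -32, 182, -109, -143, -1, -14, 17, 24, 23, -5, 34, 10, 20, -2, 4, 4, 0, -18, -1, -3]⟩)) (.node 1 (.leaf ⟨6, 6, true, [26, 0, 2, 32, 35, 24, 4], [14, 0, 42, 25, 41, 14, 26], [-19, 69, 36, 36, 170, 12, -8, 20, -18, 20, -2, -7, 31, -33, -8, -5, -2, 3, 8, 10, -3, -3, -2, 4, 1, 0, -1, 0, -6, -3, 1]⟩) (.leaf ⟨5, 6, true, [19, 2, 32, 27, 32, 43], [4, 26, 39, 22, 43, 19], [-7, -30, -17, -9, -42, -16, -15, -2, 4, -18, 7, 0, -9, 11, 22, -2, -3, 1, -1, -4, 0, -4, 1, -4, 0, -4, 0, 0, 0, 0, 2]⟩))) (.node 2 (.node 1 (.leaf ⟨6, 5, true, [36, 10, 35, 27, 40, 32], [18, 33, 20, 6, 37, 6], [8, 32, 17, 9, 42, 16, 15, 2,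 -4, 18, -7, 0, 7, -11, -23, 2, 3, -1, 1, 4, 0, 4, -1, 4, 0, 4, 0, 0, 0, 0, -2]⟩) (.leaf ⟨5, 6, true, [40, 14, 20, 37, 31, 36], [19, 38, 26, 33, 36, 13], [19, 21, -45, 21, -20, 18, -11, -5, -31, 28, -12, 0, -21, 9, -3, -1, 4, -1, 4, 0, 1, -7, -2, 3, 0, 1, 0, 0, -1, 0, 2]⟩)) (.node 1 (.leaf ⟨6, 5, true, [35, 27, 34, 6, 42, 18], [39, 12, 19, 39, 16, 25], [-20, -18, 46, -22, 21, -18, 11, 6, 31, -28, 12, -1, 21, -9, 2, 1, -4, 1, -4, 0, -1, 7, 2, -3, 0, -1, 0, 0, 1, 0, -2]⟩) (.leaf ⟨6, 5, true, [19, 10, 40, 25, 10], [0, 32, 40, 38, 30, 27], [9, 14, 13, -23, -43, 7, -4, -5, 17, -4, 19, 1, -29, -3, 0, 1, 1, 1, 0, -2, 2, -4, 0, 1, 0, -2, 0, 0, -1, 6]⟩)))) (.node 4 (.node 2 (.node 1 (.leaf ⟨5, 6, true, [0, 43, 0, 41, 39, 28], [8, 22, 20, 11, 41, 18], [-8, -44, -26, 6, 0, -18, 5, 2, -15, 3, -21,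 0, 12, 12, 4, -1, -2, -3, -3, 0, -2, 4, 0, -3, 0, 2, 0, 0, 3, -6]⟩) (.leaf ⟨5, 6, true, [19, 42, 30, 27, 11, 39], [33, 12, 41, 42, 38, 24, 10], [0, -68, -6, -34, -84, -14, 9, -6, -4, -15, 7, 7, -10, 28, 22, 3, -3, -1, -10, -8, 2, 0, 2, -5, 1, 1, -2, 0, 3, 2, -1]⟩)) (.node 1 (.leaf ⟨6, 5, true, [0, 35, 0, 42, 34, 18], [24, 2, 41, 11, 27, 41, 29], [1, 68, 6, 34, 84, 14, -9, 6, 4, 15, -7, -7, 12, -28, -23, -3, 3, 1, 10, 8, -2, 0, -2, 5, -1, -1, 2, 0, -3, -2, 1]⟩) (.leaf ⟨6, 6, true, [24, 37, 41, 42, 22], [16, 32, 38, 34, 27, 13], [5, 229, 30, 127, 234, 74, -41, 36, -29, 18, 5, -19, 96, -52, -50, 0, 1, 12, 15, 15, 0, 0, 3, 15, 3, 3, 0, 0, -14, -3, 1]⟩))) (.node 2 (.node 1 (.leaf ⟨6, 6, true, [24, 13, 41, 39, 40, 39], [4, 0, 23, 43, 40, 36, 25], [-4, -229, -30, -127, -234, -74, 41, -36, 29,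 -18, -5, 19, -94, 52, 49, 0, -1, -12, -15, -15, 0, 0, -3, -15, -3, -3, 0, 0, 14, 3, -1]⟩) (.leaf ⟨6, 5, true, [16, 0, 27, 40, 24, 29, 14], [21, 24, 37, 40, 11], [34, -20, -77, 28, -86, 19, -9, -13, -9, 9, 7, 2, -7, 21, 21, 5, 2, -1, -1, -6, 4, -8, -3, -1, 1, 2, -3, 0, 0, 1, 1]⟩)) (.node 1 (.leaf ⟨5, 6, true, [10, 30, 12, 43, 21, 26], [12, 0, 23, 38, 19, 13, 8], [4, 138, 3, 76, 155, 41, -27, 22, -38, 26, -24, -15, 37, -38, -21, -8, 5, 7, 11, 12, -2, -6, 0, 11, 2, 2, 2, 0, -10, -4, 1]⟩) (.leaf ⟨6, 5, true, [34, 28, 40, 34, 32, 23], [32, 19, 30, 42, 34, 42], [-5, -135, -2, -77, -154, -41, 27, -21, 38, -26, 24, 14, -37, 38, 20, 8, -5, -7, -11, -12, 2, 6, 0, -11, -2, -2, -2, 0, 10, 4, -1]⟩)))))))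
noncomputable def dF1397 : BT Fct := (.node 30 (.node 15 (.node 7 (.node 3 (.node 1 (.leaf ⟨6, 5, true, [2, 23, 24, 34, 43, 0], [23, 10, 18, 41, 35, 22, 14], [-22, -172, -20, -107, -213, -34, 7, -30, -13, -34, 15, 17, -67, 50, 62, 2, 2, -7, -14, -14, 3, -7, -1, -13, 1, -3, 2, 0, 7, -1]⟩) (.node 1 (.leaf ⟨5, 6, true, [11, 30, 40, 14, 26, 31], [41, 39, 2, 31, 42], [19, 140, 14, 85, 175, 23, -5, 26, 14, 31, -16, -14, 50, -41, -58, -2, -3, 5, 11, 12, -3, 7, 1, 11, -1, 3, -2, 0, -5, 1]⟩) (.leaf ⟨5, 6, true, [16, 2, 24, 28, 36, 18, 4], [38, 0, 26, 31, 39, 13, 21], [42, -93, -138, -6, -208, -8, -10, -19, -12, 23, -10, 4, -72, 49, 47, 4, 1, -5, -8, -13, 4, -11, -3, -7, 2, 0, -2, 0, 5, 0, 1]⟩))) (.node 2 (.node 1 (.leaf ⟨6, 6, true, [13, 28, 36, 33, 12, 4], [34, 18, 40, 37, 23, 26], [-24, -166,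 12, -147, -250, -51, 22, -32, 5, -48, 24, 29, -95, 55, 44, 4, -1, -9, -18, -16, 4, -2, -1, -11, -1, 1, -2, 0, 11, 4, -2]⟩) (.leaf ⟨6, 6, true, [43, 2, 34, 32, 43, 27, 19], [0, 32, 13, 37, 29, 12], [25, 168, -12, 147, 250, 51, -22, 32, -5, 48, -24, -29, 93, -55, -45, -4, 1, 9, 18, 16, -4, 2, 1, 11, 1, -1, 2, 0, -11, -4, 2]⟩)) (.node 1 (.leaf ⟨6, 6, true, [16, 4, 34, 26, 37, 42, 22], [13, 6, 23, 13, 42, 41, 4], [-15, -8, -15, -23, -83, -12, -9, -6, -5, -12, -1, 4, -28, 14, 16, -2, 1, -3, -4, -4, 1, -9, 0, -2, -2, 1, 3, 0, 2, 1]⟩) (.leaf ⟨6, 6, true, [35, 38, 38, 6, 16, 23], [39, 0, 29, 32, 37, 18, 4], [18, -113, -83, -45, -280, -14, 6, -41, 3, -16, 28, 24, -52, 52, 68, 7, 4, -4, -10, -18, 7, -16, -4, -9, -1, -2, -2, 0, 9, 6, -2]⟩)))) (.node 4 (.node 2 (.node 1 (.leaf ⟨6, 6, true, [2, 23,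 29, 34, 32, 8], [22, 0, 28, 38, 37, 34, 0], [-19, 115, 84, 44, 281, 14, -6, 42, -3, 16, -28, -25, 54, -52, -69, -7, -4, 4, 10, 18, -7, 16, 4, 9, 1, 2, 2, 0, -9, -6, 2]⟩) (.leaf ⟨6, 5, true, [0, 18, 43, 23, 21, 27], [19, 43, 13, 19, 21, 6], [-59, 43, 104, -32, 68, -27, 6, 13, 23, -38, 31, 5, 21, -28, -16, -4, -10, 1, -3, 0, -1, 3, 5, -1, -1, 0, 2, 0, 0, 3, -3]⟩)) (.node 1 (.leaf ⟨5, 6, true, [31, 39, 34, 23, 35, 18], [14, 40, 36, 18, 39, 0], [67, -8, -104, 58, -33, 38, -9, -9, -23, 43, -31, -9, -4, 19, 10, 4, 11, 1, 6, 2, 1, -3, -5, 3, 1, 0, -2, 0, -2, -3, 3]⟩) (.leaf ⟨6, 5, true, [26, 41, 11, 32, 24, 34], [13, 38, 26, 32, 11, 11], [-46, 19, 91, -46, 46, -21, 22, 19, 38, -30, -8, 2, 16, -16, -5, 3, -4, 4, -2, 0, -1, 12, 3, -2, 3, 0, -3, 0, 2, -1, -5]⟩))) (.node 2 (.node 1 (.leaf ⟨5, 6,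 true, [13, 36, 30, 22, 2], [6, 38, 41, 21, 25, 2], [45, 13, -73, 60, -2, 32, -22, -15, -41, 29, 11, -3, 1, 7, -1, -3, 5, -2, 5, 2, 1, -12, -3, 4, -3, 0, 3, 0, -4, 1, 5]⟩) (.leaf ⟨6, 6, true, [25, 10, 39, 24, 18, 42], [26, 4, 21, 38, 38, 32, 24], [-7, 6, 50, -15, 41, -24, 13, -9, 20, -10, 8, -1, -21, -23, -14, -6, -4, 0, -4, 5, -3, 3, 1, 0, -1, -2, 4, 0, 1, 3, -1]⟩)) (.node 1 (.leaf ⟨6, 6, true, [6, 26, 25, 37, 24, 34], [2, 8, 18, 4, 36, 24], [8, -4, -50, 15, -41, 24, -13, 9, -20, 10, -8, 1, 19, 23, 13, 6, 4, 0, 4, -5, 3, -3, -1, 0, 1, 2, -4, 0, -1, -3, 1]⟩) (.leaf ⟨6, 6, true, [35, 19, 41, 25, 29, 21], [25, 33, 35, 35, 24], [-42, -214, 2, -129, -167, -76, 50, -31, 23, -28, 9, 31, -63, 35, 54, 0, -6, -9, -18, -14, 0, 2, -1, -14, -3, -2, -2, 0, 12, 2, -2]⟩))))) (.node 7 (.node 3 (.node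 1 (.leaf ⟨6, 6, true, [41, 18, 14, 34, 33, 36], [14, 40, 26, 37, 29, 18], [45, 149, -3, 88, 56, 40, -5, 4, 6, 8, 20, -4, 58, -33, -8, 2, 5, 9, 9, 2, 4, -2, -1, 7, 0, 1, -1, 0, -7, 4, -2]⟩) (.node 1 (.leaf ⟨6, 6, true, [0, 35, 38, 2, 33], [10, 14, 40, 38, 35, 29], [-46, -147, 4, -89, -55, -40, 5, -3, -6, -8, -20, 3, -56, 33, 7, -2, -5, -9, -9, -2, -4, 2, 1, -7, 0, -1, 1, 0, 7, -4, 2]⟩) (.leaf ⟨6, 5, true, [27, 19, 43, 26, 32, 6, 14], [8, 10, 38, 43, 37, 18], [7, 35, 2, 27, 37, 8, 2, 4, 1, 5, -14, -2, 27, -10, -22, -1, 1, -1, 2, 3, -1, 4, 1, 3, 0, 1, 1, 0, -1, 0, -1]⟩))) (.node 2 (.node 1 (.leaf ⟨6, 6, true, [0, 13, 43, 18, 33, 10], [28, 0, 27, 38, 21, 10, 13], [23, 50, 0, 21, -18, 22, 5, -6, 15, 8, 27, -1, 16, -9, -2, 3, 5, 3, 4, -2, 3, 1, 1, 1, -1, -1, 1, 0, -2, 2, -1]⟩) (.leaf ⟨6, 6,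 true, [12, 2, 21, 38, 23, 24, 14], [23, 11, 28, 39, 6, 28], [-29, 351, 179, 163, 368, 47, -3, 66, 27, -16, 11, -27, 176, -95, -131, 0, -13, 15, 22, 19, -4, 33, 10, 17, -3, 4, 4, 0, -16, -1, -3]⟩)) (.node 1 (.leaf ⟨3, 6, true, [0, 30, 38, 8, 20, 27], [29, 37, 8, 25, 34, 31], [10, -39, -46, -39, -158, -19, 0, -8, 16, 1, -13, 16, -43, 22, 18, 2, 1, -5, -4, -6, 1, -5, 0, -5, -2, 3, 0, 0, 4, 0, -1]⟩) (.leaf ⟨6, 3, true, [6, 23, 29, 22, 35, 23], [26, 6, 28, 38, 4, 0], [-11, 43, 47, 38, 159, 19, 0, 9, -16, -1, 13, -17, 41, -22, -19, -2, -1, 5, 4, 6, -1, 5, 0, 5, 2, -3, 0, 0, -4, 0, 1]⟩)))) (.node 4 (.node 2 (.node 1 (.leaf ⟨6, 5, true, [20, 8, 42, 37, 29, 2], [18, 27, 41, 24, 36, 19], [-37, 157, 138, 58, 332, 15, -1, 29, 9, -1, -5, -19, 65, -78, -42, -8, -3, 9, 12, 21, -7, 6, 1, 10, -2, -1,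 2, 0, -9, -1, -1]⟩) (.leaf ⟨5, 6, true, [36, 42, 22, 24, 30], [22, 40, 42, 39, 40, 30], [41, -155, -144, -54, -335, -15, 0, -29, -8, 3, 4, 18, -65, 78, 41, 8, 3, -9, -12, -21, 7, -6, -1, -10, 2, 1, -2, 0, 9, 1, 1]⟩)) (.node 1 (.leaf ⟨6, 6, true, [21, 2, 19, 23, 2, 20, 0], [10, 43, 33, 36, 6, 23], [-13, 151, 42, 63, 188, 32, -24, 24, -24, 13, -20, -18, 45, -49, -23, -9, 5, 9, 11, 14, -3, -1, 1, 11, 0, 1, 3, 0, -10, -4]⟩) (.leaf ⟨6, 6, true, [4, 29, 6, 37, 32, 18], [28, 19, 32, 38, 34, 22], [12, -149, -41, -64, -187, -32, 24, -23, 24, -13, 20, 17, -43, 49, 22, 9, -5, -9, -11, -14, 3, 1, -1, -11, 0, -1, -3, 0, 10, 4]⟩))) (.node 2 (.node 1 (.leaf ⟨6, 6, true, [23, 43, 21, 35, 2, 20], [19, 27, 27, 40, 11, 27], [-59, 34, 101, -45, 175, -31, 7, 13, 27, -8, 0, -8, -19, -48, -32, -9, -8, 4, 3,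 15, -7, 9, 0, 4, -3, -2]⟩) (.leaf ⟨6, 6, true, [24, 34, 28, 6, 43, 19], [6, 10, 35, 14, 28, 24], [58, -30, -100, 44, -174, 31, -7, -12, -27, 8, 0, 7, 17, 48, 31, 9, 8, -4, -3, -15, 7, -9, 0, -4, 3, 2]⟩)) (.node 1 (.leaf ⟨6, 5, true, [12, 40, 0, 33, 39, 23], [13, 38, 32, 38, 10, 40], [-5, 10, 25, 9, 99, -9, 13, 12, 3, 19, -21, -7, 8, -18, -26, -3, 0, -2, 3, 8, -4, 7, 1, 2, 1, 0, 1, 0, -1, -3, -1]⟩) (.leaf ⟨5, 6, true, [0, 11, 29, 2, 19, 4], [18, 32, 30, 37, 19, 26], [16, 26, -31, 21, -67, 20, -17, -8, -2, -12, 20, 2, 9, 9, 20, 3, 1, 4, 0, -6, 4, -7, -1, 0, -1, 0, -1, 0, -1, 3, 1]⟩)))))) (.node 15 (.node 7 (.node 3 (.node 1 (.leaf ⟨6, 6, true, [29, 42, 32, 23, 42, 36], [29, 38, 6, 40, 21, 23], [3, 94, 8, 55, 106, 33, -25, 19, -11, 14, -13, -3, 60, -24, 13, -3, 12, 6, 11, 7, 0, -10, -4,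 9, -1, 1, 1, 0, -9, -3, 1]⟩) (.node 1 (.leaf ⟨6, 6, true, [13, 16, 31, 38, 21, 36], [32, 11, 41, 32, 18, 26], [-4, -90, -7, -56, -105, -33, 25, -18, 11, -14, 13, 2, -62, 24, -14, 3, -12, -6, -11, -7, 0, 10, 4, -9, 1, -1, -1, 0, 9, 3, -1]⟩) (.leaf ⟨6, 6, true, [34, 16, 31, 16, 41, 38], [37, 19, 33, 35, 35, 30, 4], [-27, 23, 74, -25, 83, -9, 4, 2, 18, -14, 23, -4, -21, -29, 6, -4, -2, 5, 1, 6, -2, -2, 0, 1, -1, -4, 1, 0, -2, 2]⟩))) (.node 2 (.node 1 (.leaf ⟨6, 6, true, [22, 36, 22, 14, 2, 34], [33, 6, 16, 28, 34, 18], [26, -19, -73, 24, -82, 9, -4, -1, -18, 14, -23, 3, 19, 29, -7, 4, 2, -5, -1, -6, 2, 2, 0, -1, 1, 4, -1, 0, 2, -2]⟩) (.leaf ⟨6, 6, true, [41, 18, 35, 14, 38, 32], [43, 26, 38, 38, 11, 6], [-18, -97, 23, -95, -118, -41, 17, -13, 0, -23, 3, 18, -60, 30, 16, 0, 0, -8, -10, -7,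 0, 0, 0, -7, -1, 0, 0, 0, 8, 1]⟩)) (.node 1 (.leaf ⟨6, 6, true, [24, 39, 32, 39, 14, 24], [41, 0, 42, 11, 41, 19, 31], [34, 166, 21, 122, 247, 52, -5, 19, 0, 40, 19, -31, 74, -58, -36, 0, 2, 10, 19, 13, -1, -1, 1, 9, 2, 2, -3, 0, -10, -2]⟩) (.leaf ⟨6, 6, true, [38, 0, 34, 42, 12, 42, 24], [16, 20, 25, 38, 25, 30], [-35, -163, -20, -123, -246, -52, 5, -18, 0, -40, -19, 30, -74, 58, 35, 0, -2, -10, -19, -13, 1, 1, -1, -9, -2, -2, 3, 0, 10, 2]⟩)))) (.node 4 (.node 2 (.node 1 (.leaf ⟨6, 6, true, [27, 10, 26, 39, 20, 23], [42, 35, 41, 36, 12, 25], [-23, 95, 79, 24, -4, -13, 5, 14, 29, -43, 5, -5, 53, -10, -53, 3, -13, 2, 1, -6, 1, 24, 6, 2, -4, 1, 4, 0, -3, 3, -3]⟩) (.leaf ⟨6, 6, true, [22, 42, 33, 34, 32, 0], [33, 2, 23, 18, 42, 20, 20], [24, -95, -79, -24, 4, 13, -5, -14, -29, 43, -5, 5,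 -51, 10, 52, -3, 13, -2, -1, 6, -1, -24, -6, -2, 4, -1, -4, 0, 3, -3, 3]⟩)) (.node 1 (.leaf ⟨6, 6, true, [41, 35, 38, 25, 31, 34], [39, 35, 8, 41, 10, 38], [12, -134, -74, -51, -221, -15, 0, -29, -11, -5, 4, 16, -26, 56, 40, 4, 1, -9, -15, -14, 4, -8, -2, -7, -2, 3, 0, 0, 6, 3, 1]⟩) (.leaf ⟨6, 6, true, [16, 40, 18, 41, 31, 8], [10, 2, 28, 14, 34, 40, 20], [-8, 226, 147, 135, 388, 52, 3, 27, 26, -7, 50, -31, 128, -92, -72, -1, -8, 16, 16, 18, -3, 18, 6, 12, -2, -4, 0, 0, -10, 3, -2]⟩))) (.node 2 (.node 1 (.leaf ⟨6, 6, true, [33, 38, 12, 19, 43, 23], [41, 31, 16, 35, 13, 11], [7, -224, -146, -136, -387, -52, -3, -26, -26, 7, -50, 30, -126, 92, 71, 1, 8, -16, -16, -18, 3, -18, -6, -12, 2, 4, 0, 0, 10, -3, 2]⟩) (.leaf ⟨6, 6, true, [6, 24, 19, 43, 26, 10], [39, 23, 37, 37, 38, 24], [23, -70,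 -79, -20, -131, -19, -4, -19, 9, 14, -5, 2, -76, 19, 37, -1, -1, -3, -8, -6, 1, -9, -2, -5, 1, -2, 0, 0, 3, 2]⟩)) (.node 1 (.leaf ⟨6, 6, true, [34, 19, 22, 28, 36, 23, 25], [8, 0, 21, 39, 24, 23, 18], [-24, 73, 80, 19, 132, 19, 4, 20, -9, -14, 5, -3, 76, -19, -38, 1, 1, 3, 8, 6, -1, 9, 2, 5, -1, 2, 0, 0, -3, -2]⟩) (.leaf ⟨6, 6, true, [8, 10, 43, 10, 25, 34], [24, 0, 18, 30, 38, 23, 30], [-33, 163, 77, 81, 55, 10, 5, 24, 18, -31, 17, -1, 109, -25, -62, 5, -12, 6, 8, -1, 1, 19, 6, 5, -2, 0, 3, 0, -5, 3, -3]⟩))))) (.node 8 (.node 4 (.node 2 (.node 1 (.leaf ⟨6, 6, true, [37, 0, 28, 34, 12, 24, 19], [42, 12, 36, 14, 30, 35], [32, -161, -76, -82, -54, -10, -5, -23, -18, 31, -17, 0, -107, 25, 61, -5, 12, -6, -8, 1, -1, -19, -6, -5, 2, 0, -3, 0, 5, -3, 3]⟩) (.leaf ⟨6, 6, true, [2, 22, 27, 22,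 34, 26], [31, 32, 41, 36, 35, 11], [40, -265, -131, -123, -262, -41, 10, -68, -3, 14, 4, 29, -170, 53, 113, -5, 14, -10, -16, -11, 2, -34, -8, -12, 3, -4, -2, 0, 11, 1, 2]⟩)) (.node 1 (.leaf ⟨6, 6, true, [8, 13, 28, 39, 30, 26], [16, 33, 37, 22, 6, 0], [-39, 265, 131, 123, 262, 41, -10, 68, 3, -14, -4, -29, 172, -53, -114, 5, -14, 10, 16, 11, -2, 34, 8, 12, -3, 4, 2, 0, -11, -1, -2]⟩) (.leaf ⟨6, 5, true, [12, 0, 29, 6, 38, 24, 31], [18, 6, 38, 24, 34, 39, 25], [-8, -118, 67, -111, -100, -59, 54, 22, 49, -37, -13, 6, -22, 36, -38, 9, -7, -6, -16, -11, 2, 34, 8, -3, 6, 0, -9, 0, 13, -2, -5]⟩))) (.node 2 (.node 1 (.leaf ⟨5, 6, true, [6, 0, 43, 31, 36, 20, 23], [39, 0, 6, 28, 40, 8, 18], [19, 154, -73, 141, 132, 70, -58, -18, -48, 44, 12, -11, 39, -45, 32, -9, 8, 8, 19, 13, -2, -34, -8, 5,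 -6, 0, 9, 0, -15, 2, 5]⟩) (.leaf ⟨6, 6, true, [21, 16, 2, 33, 6, 20], [13, 24, 20, 37, 10, 29], [41, 230, 47, 148, 245, 45, -12, 17, 21, 23, 15, -17, 81, -75, -40, -5, 4, 13, 17, 16, -2, 4, 1, 13, 1, -1, 2, 0, -12, -2, -1]⟩)) (.node 1 (.leaf ⟨4, 6, true, [6, 11, 34, 32, 21, 16], [39, 28, 38, 20, 25, 16], [-7, -37, 17, -36, -43, -23, 0, -10, 12, -21, 5, 5, -26, 5, 1, 0, -1, -2, -4, -3, 0, 2, 1, -3, -1, 1, 1, 0, 3, 1, -1]⟩) (.leaf ⟨6, 4, true, [19, 43, 33, 37, 22, 27], [13, 23, 19, 33, 35, 11], [6, 41, -16, 35, 44, 23, 0, 11, -12, 21, -5, -6, 24, -5, -2, 0, 1, 2, 4, 3, 0, -2, -1, 3, 1, -1, -1, 0, -3, -1, 1]⟩)))) (.node 4 (.node 2 (.node 1 (.leaf ⟨6, 6, true, [37, 42, 24, 32, 40, 22], [6, 32, 43, 6, 23], [-32, 102, 128, 34, 165, -16, 14, 39, 5, -8, 8, -6, 71, -43, -119, -3, -19, -3, 0, 10,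 -6, 38, 11, 7, -6, 3, 7, 0, -3, -2, -1]⟩) (.leaf ⟨6, 6, true, [12, 2, 29, 6, 2, 32, 29], [40, 0, 12, 27, 42, 12, 28], [33, -100, -128, -34, -165, 16, -14, -39, -5, 8, -8, 6, -73, 43, 118, 3, 19, 3, 0, -10, 6, -38, -11, -7, 6, -3, -7, 0, 3, 2, 1]⟩)) (.node 1 (.leaf ⟨6, 5, true, [2, 43, 31, 22, 41, 23], [2, 39, 39, 39, 26, 29], [-10, 422, 159, 209, 475, 68, -13, 79, 27, 19, -18, -37, 207, -112, -136, -4, -2, 17, 29, 28, -6, 28, 7, 25, -2, 7, 2, 0, -20, -3, -3]⟩) (.leaf ⟨5, 6, true, [4, 39, 39, 32, 13, 4], [6, 27, 14, 24, 41, 21], [14, -451, -178, -222, -521, -79, 13, -82, -24, -18, 15, 37, -224, 121, 140, 4, 1, -19, -32, -30, 6, -28, -7, -27, 2, -7, -2, 0, 22, 3, 3]⟩))) (.node 2 (.node 1 (.leaf ⟨6, 5, true, [43, 35, 40, 26, 18], [2, 26, 18, 43, 28, 26], [-44, -33, 66, -66, -36, -39, 14,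 19, 10, -29, -34, 3, -15, 10, -33, -2, -4, -6, -5, 2, -3, 14, 2, -1, 0, 2, 2, 0, 3, -1, -2]⟩) (.leaf ⟨5, 6, true, [8, 40, 43, 37, 19], [6, 20, 32, 19, 6, 2], [53, 69, -67, 93, 69, 50, -17, -14, -10, 34, 34, -8, 32, -19, 27, 2, 5, 8, 8, 0, 3, -14, -2, 3, 0, -2, -2, 0, -5, 1, 2]⟩)) (.node 1 (.leaf ⟨6, 6, true, [39, 0, 39, 41, 42, 33, 16], [34, 38, 6, 19, 41, 23], [29, 71, -1, 59, 73, 19, 1, 11, -2, 15, -9, -11, 40, -3, -51, 1, -3, 1, 3, 3, 0, 11, 4, 5, 1, 3, 0, 0, -4, 3, -1]⟩) (.leaf ⟨6, 4, true, [13, 34, 43, 20, 39, 19], [4, 43, 14, 4, 35, 19], [-11, -2, 4, -9, 0, -3, 0, 3, 6, -6, -1, 0, 5, -2, 4, 0, -1, 0, 0, -1, 0, 0, -1, 0, 0, 0, 0, 0, 0, 0, -1]⟩)))))))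
noncomputable def dF1458 : BT Fct := (.node 30 (.node 15 (.node 7 (.node 3 (.node 1 (.leaf ⟨4, 6, true, [40, 2, 12, 18, 39, 41, 4], [29, 12, 38, 21, 10, 6], [16, -20, -16, -9, -39, -1, 1, -8, -5, 7, -3, 4, -23, 11, 0, 0, 2, -2, -1, 0, 0, -1, 0, -1, 0, 0, 0, 0, 1, 0, 1]⟩) (.node 1 (.leaf ⟨6, 5, true, [38, 6, 18, 37, 21, 33, 13], [11, 25, 28, 35, 37], [-5, 30, 47, -19, 54, 1, 9, 4, 19, 10, 4, 1, -8, -20, -35, -2, -1, 0, 3, 5, -2, 6, 2, 2, 0, 1, 1, 0, 0, 2, -1]⟩) (.leaf ⟨6, 5, true, [27, 23, 30, 36, 20, 27], [22, 18, 18, 40, 8], [-67, 107, 123, 8, 196, -10, -2, 37, 9, -23, 10, 3, 48, -53, -35, -5, -11, 4, 1, 8, -3, 8, 5, 4, 2, 2, -1, 0, -4, -1, -3]⟩))) (.node 2 (.node 1 (.leaf ⟨6, 6, true, [28, 18, 11, 41, 27, 21], [0, 27, 35, 29, 24, 19], [-21, 442, 187, 208, 639, 78, -25, 97, -3, 35, -45,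 -45, 179, -150, -162, -13, 0, 17, 34, 43, -11, 30, 8, 29, -1, 1, 5, 0, -21, -6, -2]⟩) (.leaf ⟨6, 6, true, [23, 21, 11, 33, 43, 26], [31, 39, 26, 33, 4, 6], [22, -440, -187, -208, -639, -78, 25, -97, 3, -35, 45, 45, -181, 150, 161, 13, 0, -17, -34, -43, 11, -30, -8, -29, 1, -1, -5, 0, 21, 6, 2]⟩)) (.node 1 (.leaf ⟨6, 5, true, [40, 35, 28, 24, 28], [8, 26, 35, 37, 13, 16], [-22, -4, 10, -6, 32, -13, -4, 15, -11, -1, -24, 1, 11, 5, -27, -5, -3, -6, -4, 6, -4, 5, 3, 0, -1, 2, 1, 0, 2, -2, 1]⟩) (.leaf ⟨6, 6, true, [2, 4, 26, 39, 25, 42, 19], [20, 6, 42, 23, 38, 29, 14], [-2, -110, -20, -102, -295, -41, 8, -26, 23, -39, 26, 23, -83, 55, 46, 6, -1, -5, -19, -21, 6, 1, 0, -8, -3, -1, 0, 0, 8, 8, -2]⟩)))) (.node 4 (.node 2 (.node 1 (.leaf ⟨6, 6, true, [30, 6, 34, 38, 26, 31], [26, 20, 43, 6, 25,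 16], [1, 114, 21, 101, 296, 41, -8, 27, -23, 39, -26, -24, 81, -55, -47, -6, 1, 5, 19, 21, -6, -1, 0, 8, 3, 1, 0, 0, -8, -8, 2]⟩) (.leaf ⟨6, 6, true, [4, 41, 31, 39, 34, 22], [4, 0, 34, 32, 27, 33, 2], [-11, -14, 40, -23, 10, -28, 11, 1, 5, -16, -6, -2, -12, 6, -29, -3, -5, -4, -6, 0, -2, 11, 2, -1, 0, 1, 3, 0, 3, 1, -1]⟩)) (.node 1 (.leaf ⟨6, 6, true, [39, 21, 11, 32, 18], [27, 2, 19, 33, 11, 40, 18], [30, 211, 47, 132, 240, 52, -9, 36, 11, 16, -2, -26, 110, -58, -59, -1, 2, 10, 16, 13, -1, 9, 3, 13, 0, 1, 1, 0, -11, 0, -1]⟩) (.leaf ⟨6, 6, true, [20, 24, 27, 35, 26, 8], [6, 18, 20, 34, 30, 8], [-29, -209, -47, -132, -240, -52, 9, -36, -11, -16, 2, 26, -112, 58, 58, 1, -2, -10, -16, -13, 1, -9, -3, -13, 0, -1, -1, 0, 11, 0, 1]⟩))) (.node 2 (.node 1 (.leaf ⟨6, 6, true, [35, 13, 23, 14,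 6, 32], [22, 0, 42, 23, 41, 10, 6], [2, 1, -5, 2, -1, 0, 0, -2, 3, 2, -1, 0, -1, 1, 1, 0, 0, 0, 0, 0, 0, -1]⟩) (.leaf ⟨6, 6, true, [41, 4, 6, 16, 34, 24, 30], [6, 10, 25, 39, 4, 6], [-16, 108, 125, 29, 180, 5, 17, 19, 41, -30, 17, -12, 56, -57, -49, 1, -4, 10, 9, 7, -1, 19, 1, 7, 0, -2, 3, 0, -5, 2, -4]⟩)) (.node 1 (.leaf ⟨6, 5, true, [10, 43, 41, 34, 24, 27], [34, 14, 23, 42, 26, 43], [2, -18, 18, -22, 16, 1, 10, -6, -5, -12, 6, 0, -3, 6, 18, 1, 5, -2, -1, -2, 1, -2, -3, 0, 1, 0, -1, 0, 1, -4, 1]⟩) (.leaf ⟨5, 6, true, [16, 39, 31, 6, 33], [8, 26, 18, 34, 41, 0], [0, 51, -6, 40, 25, 10, -11, 10, 3, 13, -4, -2, 20, -15, -24, -1, -4, 4, 4, 4, -1, 2, 3, 2, -1, 0, 1, 0, -3, 4, -1]⟩))))) (.node 7 (.node 3 (.node 1 (.leaf ⟨6, 6, true, [23, 27, 34, 24, 33, 30], [6, 0, 8, 27, 34, 41], [-20, 110,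 132, 25, 184, 4, 16, 18, 41, -31, 20, -15, 57, -58, -49, 1, -4, 10, 9, 7, -1, 19, 2, 6, 0, -2, 3, 0, -5, 2, -4]⟩) (.node 1 (.leaf ⟨6, 6, true, [28, 34, 30, 14, 0, 2], [16, 11, 33, 34, 10, 22], [-25, 22, 43, -23, 48, -7, 8, 8, 17, -16, 4, -4, 4, -15, -13, -1, -2, 1, 2, 2, -1, 7, 0, 0, 0, 0, 0, 0, 0, 0, -2]⟩) (.leaf ⟨6, 6, true, [19, 36, 40, 14, 26, 25], [41, 4, 35, 8, 29], [26, -20, -43, 23, -48, 7, -8, -8, -17, 16, -4, 4, -6, 15, 12, 1, 2, -1, -2, -2, 1, -7, 0, 0, 0, 0, 0, 0, 0, 0, 2]⟩))) (.node 2 (.node 1 (.leaf ⟨6, 5, true, [22, 41, 6, 27, 31, 21], [43, 41, 21, 6, 26, 40], [0, 164, 78, 83, 223, 23, 2, 30, 20, -2, -5, -20, 81, -51, -57, -3, -1, 8, 12, 13, -3, 15, 3, 9, -1, 0, 1, 0, -7, 0, -2]⟩) (.leaf ⟨5, 6, true, [18, 41, 39, 26, 24, 28], [30, 0, 28, 8, 42, 6, 23], [3, -130, -67, -64,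 -184, -12, -3, -25, -22, 3, 7, 17, -64, 42, 51, 3, 2, -6, -9, -11, 3, -15, -3, -7, 1, 0, -1, 0, 5, 0, 2]⟩)) (.node 1 (.leaf ⟨6, 6, true, [10, 21, 36, 41, 26, 32], [21, 43, 28, 36, 40, 4], [-53, -82, 71, -112, -49, -42, 12, -8, 15, -39, 7, 8, -64, 19, 5, -2, -5, -5, -10, -3, -1, 8, 1, -5, -2, -3, 1, 0, 5, 2, -1]⟩) (.leaf ⟨6, 6, true, [43, 22, 11, 25, 41, 20], [14, 19, 30, 34, 10, 27], [52, 84, -70, 111, 50, 42, -12, 9, -15, 39, -7, -9, 66, -19, -6, 2, 5, 5, 10, 3, 1, -8, -1, 5, 2, 3, -1, 0, -5, -2, 1]⟩)))) (.node 4 (.node 2 (.node 1 (.leaf ⟨6, 5, true, [18, 40, 35, 30, 11, 26], [6, 24, 27, 38, 10, 0], [-21, -47, 9, -37, -26, -18, 3, -7, -1, -7, -3, 3, -19, 15, 5, 0, -3, -3, -4, -3, 0, 1, 1, -2, 0, -1, -1, 0, 2]⟩) (.leaf ⟨6, 5, true, [30, 8, 41, 31, 41, 31, 8], [19, 20, 38, 26, 33, 39],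 [-13, 34, 20, -2, 44, 0, -7, 12, -14, -12, -11, 0, -1, 0, -25, -2, -3, -3, 1, 3, -1, 4, 2, 1, 0, 3, 0, 0, -1, -2]⟩)) (.node 1 (.leaf ⟨5, 6, true, [41, 20, 28, 23, 34, 36], [29, 42, 12, 29, 31, 2], [13, -65, -32, -16, -85, -11, 8, -16, 16, 11, 9, 2, -16, 9, 29, 2, 2, 1, -4, -5, 1, -4, -2, -3, 0, -3, 0, 0, 3, 2]⟩) (.leaf ⟨6, 6, true, [30, 29, 43, 38, 2, 22], [19, 29, 22, 39, 31, 26], [-33, -140, 90, -151, 31, -90, 28, 20, 29, -9, -54, -10, -78, 11, -76, -9, -10, -13, -13, 7, -10, 35, 5, -2, 0, 2, 4, 0, 9, -6]⟩))) (.node 2 (.node 1 (.leaf ⟨6, 6, true, [18, 34, 6, 19, 2, 18], [12, 0, 16, 40, 35, 24, 22], [32, 144, -89, 150, -30, 90, -28, -19, -29, 9, 54, 9, 76, -11, 75, 9, 10, 13, 13, -7, 10, -35, -5, 2, 0, -2, -4, 0, -9, 6]⟩) (.leaf ⟨6, 6, true, [22, 2, 27, 14, 39, 22, 2], [10, 6, 34, 24,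 13], [-50, -35, 66, -68, 19, -21, 5, 2, 4, -29, 4, 8, -21, -10, 12, -3, 0, -2, -1, 2, -2, -1, -2, -2, -1, -1, 0, 0, 3, -3]⟩)) (.node 1 (.leaf ⟨6, 6, true, [28, 11, 25, 14, 43], [28, 32, 39, 31, 27, 32], [49, 39, -65, 67, -18, 21, -5, -1, -4, 29, -4, -9, 19, 10, -13, 3, 0, 2, 1, -2, 2, 1, 2, 2, 1, 1, 0, 0, -3, 3]⟩) (.leaf ⟨6, 6, true, [40, 6, 36, 27, 36, 27, 14], [42, 0, 38, 25, 32, 40, 26], [-5, 39, 3, 34, -43, 22, 1, 9, 1, -18, 3, 9, 59, 12, -11, 6, -2, 3, 1, -4, 4, 2, 0, 3, 0, 2, -3, 0, -2, 4]⟩)))))) (.node 15 (.node 7 (.node 3 (.node 1 (.leaf ⟨6, 6, true, [18, 0, 22, 42, 21, 38, 23], [35, 6, 40, 35, 30, 41, 26], [6, -39, -3, -34, 43, -22, -1, -9, -1, 18, -3, -9, -57, -12, 10, -6, 2, -3, -1, 4, -4, -2, 0, -3, 0, -2, 3, 0, 2, -4]⟩) (.node 1 (.leaf ⟨6, 6, true, [26, 2, 33, 21, 43, 16,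 12], [4, 2, 26, 22, 21, 2], [15, 10, -20, 16, -23, 10, 7, -6, 12, 0, 14, -10, 20, -4, 2, 4, -1, 2, -1, -5, 3, 3, 2, -1, 2, 0, -1, 0, -1, 0, -1]⟩) (.leaf ⟨6, 6, true, [2, 32, 28, 30, 2, 4], [6, 18, 11, 39, 19, 25], [-16, -8, 21, -17, 24, -10, -7, 7, -12, 0, -14, 9, -18, 4, -3, -4, 1, -2, 1, 5, -3, -3, -2, 1, -2, 0, 1, 0, 1, 0, 1]⟩))) (.node 2 (.node 1 (.leaf ⟨6, 6, true, [14, 35, 36, 34, 24, 12], [41, 2, 29, 36, 21, 14, 25], [-27, -41, 37, -42, 21, -21, 4, 11, -9, 3, -15, -7, -15, 6, -22, -4, -5, -5, -5, 5, -4, 9, 1, -1, -1, 1, 2, 0, 2, -3, 1]⟩) (.leaf ⟨6, 6, true, [10, 31, 26, 35, 30, 36], [22, 0, 33, 11, 2, 25, 31], [26, 45, -36, 41, -20, 21, -4, -10, 9, -3, 15, 6, 13, -6, 21, 4, 5, 5, 5, -5, 4, -9, -1, 1, 1, -1, -2, 0, -2, 3, -1]⟩)) (.node 1 (.leaf ⟨5, 6, true, [35, 6, 42, 39, 29, 20],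 [4, 41, 20, 43, 30, 18], [-44, -146, 80, -145, -60, -67, 37, -6, 10, -48, -6, 22, -57, 23, -11, -2, -11, -9, -21, -7, -2, 21, 4, -6, -1, 4, 1, 0, 6, -1, -2]⟩) (.leaf ⟨6, 6, true, [42, 10, 35, 36, 21, 37, 18], [0, 28, 32, 36, 16, 31], [-38, -191, 1, -137, -360, -50, 11, -29, 4, -76, 22, 37, -74, 86, 49, 7, -6, -13, -20, -25, 6, -3, 1, -13, -1, -1, 3, 0, 11, 0, -1]⟩)))) (.node 4 (.node 2 (.node 1 (.leaf ⟨6, 5, true, [22, 18, 41, 20, 22, 2, 24], [36, 43, 18, 2, 14], [-10, 185, 110, 75, 254, 24, 1, 44, 9, -6, -11, -22, 86, -53, -84, -4, -4, 6, 11, 14, -3, 20, 5, 12, 0, 2, 2, 0, -8, -1, -2]⟩) (.leaf ⟨5, 6, true, [28, 24, 36, 19, 33, 23], [43, 8, 39, 23, 18, 40, 29], [17, -182, -122, -67, -260, -24, -3, -44, -7, 10, 9, 20, -86, 53, 83, 4, 4, -6, -11, -14, 3, -20, -5, -12, 0, -2, -2, 0, 8, 1,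 2]⟩)) (.node 1 (.leaf ⟨6, 6, true, [16, 0, 11, 28, 39, 27, 23], [41, 0, 43, 19, 37, 29, 25], [40, 99, -74, 90, -116, 36, -42, -10, -7, -10, 35, -10, 45, 23, 37, 7, 1, 9, 0, -19, 10, -5, 1, -1, 0, -6, 2, 0, -3, 6]⟩) (.leaf ⟨6, 6, true, [16, 30, 39, 14, 11, 27], [41, 26, 16, 41, 30, 18], [-39, -99, 74, -90, 116, -36, 42, 10, 7, 10, -35, 10, -43, -23, -38, -7, -1, -9, 0, 19, -10, 5, -1, 1, 0, 6, -2, 0, 3, -6]⟩))) (.node 2 (.node 1 (.leaf ⟨6, 5, true, [23, 4, 26, 30, 6, 36, 29], [18, 41, 14, 22, 35, 24], [5, -46, 7, -9, -21, -21, 26, -7, 4, 5, -13, 15, -12, 11, -16, -1, -2, -4, -2, -1, -1, 7, 0, 0, -1, -1, -1, 0, 5]⟩) (.leaf ⟨5, 6, true, [6, 36, 42, 29, 23, 27], [28, 13, 41, 32, 23, 19], [-8, 14, -13, -13, -17, 10, -24, 3, -3, -8, 12, -12, -5, -2, 20, 1, 1, 2, -1, -1, 1, -7, 0, -2, 1, 1,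 1, 0, -3]⟩)) (.node 1 (.leaf ⟨6, 6, true, [18, 2, 24, 42, 14, 11, 31], [20, 2, 34, 38, 35, 31, 12], [24, -64, -3, -48, -44, -17, 7, 2, -4, 13, -39, 4, -26, 18, -28, -2, 5, -5, 0, 3, -3, 14, 0, 0, -1, 0, 0, 0, 5, -1, -1]⟩) (.leaf ⟨6, 6, true, [35, 28, 36, 20, 26, 19], [26, 10, 21, 2, 30, 11, 21], [-23, 64, 3, 48, 44, 17, -7, -2, 4, -13, 39, -4, 28, -18, 27, 2, -5, 5, 0, -3, 3, -14, 0, 0, 1, 0, 0, 0, -5, 1, 1]⟩))))) (.node 7 (.node 3 (.node 1 (.leaf ⟨6, 6, true, [24, 2, 27, 36, 23, 4], [2, 32, 40, 39, 10, 28], [-28, -32, 4, -52, -91, -18, 19, -8, 37, -28, 12, -2, 4, 15, 33, 8, -4, 4, -3, -12, 5, 2, 0, -6, 4, -1, -6, 0, 2, 1, -3]⟩) (.node 1 (.leaf ⟨6, 6, true, [18, 26, 36, 28, 41, 10], [10, 19, 22, 39, 12, 28], [65, 0, -125, 71, -126, 38, -6, -26, 0, 25, 31, -1, 19, 5, 68, 8, 7, 7, 1, -11,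 7, -18, -2, -3, 2, -3, -3, 0, -2, 0, 1]⟩) (.leaf ⟨6, 6, true, [29, 41, 25, 43, 43, 24], [27, 41, 27, 33, 6, 23], [-16, 77, -9, 52, -53, 30, 0, 10, 18, -26, -2, 7, 75, 14, 17, 10, 0, 9, 7, -6, 6, -4, -3, 3, 2, 1, -8, 0, -4, 4, -1]⟩))) (.node 2 (.node 1 (.leaf ⟨6, 6, true, [29, 14, 29, 39, 24, 27], [25, 30, 23, 39, 12, 25], [15, -75, 10, -53, 54, -30, 0, -9, -18, 26, 2, -8, -73, -14, -18, -10, 0, -9, -7, 6, -6, 4, 3, -3, -2, -1, 8, 0, 4, -4, 1]⟩) (.leaf ⟨6, 6, true, [16, 37, 25, 39, 32, 14], [6, 30, 8, 22, 36, 25], [-1, 48, 52, 20, 152, -13, 8, 5, 6, 16, -10, 0, 2, -48, -24, -13, -2, 4, 3, 14, -5, 0, 0, 4, 1, -1, 2, 0, -4, 2]⟩)) (.node 1 (.leaf ⟨6, 6, true, [35, 0, 42, 34, 18, 10, 29], [12, 27, 25, 41, 25, 0], [57, 59, -80, 111, 102, 26, -12, 16, -27, 79, -48, -10, 16, -20, -22, -7, 6,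 0, 11, 12, -4, -3, -3, 7, 1, 1, -1, 0, -5, -4, 3]⟩) (.leaf ⟨6, 6, true, [26, 14, 30, 35, 20, 23, 12], [27, 43, 38, 36, 28, 41], [-58, -55, 81, -112, -101, -26, 12, -15, 27, -79, 48, 9, -18, 20, 21, 7, -6, 0, -11, -12, 4, 3, 3, -7, -1, -1, 1, 0, 5, 4, -3]⟩)))) (.node 4 (.node 2 (.node 1 (.leaf ⟨6, 6, true, [8, 40, 36, 19, 14, 6], [2, 19, 21, 11, 41, 19], [75, 21, -76, 102, 12, 59, -12, -42, 3, 16, 35, -6, 21, 11, 25, 9, 2, 6, 8, -5, 4, -10, -1, -1, -4, -7, -2, 0, 1, 4, 3]⟩) (.leaf ⟨6, 6, true, [10, 37, 33, 0, 2, 23], [34, 25, 39, 28, 23, 41], [-76, -17, 77, -103, -11, -59, 12, 43, -3, -16, -35, 5, -23, -11, -26, -9, -2, -6, -8, 5, -4, 10, 1, 1, 4, 7, 2, 0, -1, -4, -3]⟩)) (.node 1 (.leaf ⟨6, 6, true, [39, 2, 41, 43, 39, 41, 27], [26, 30, 42, 24, 13, 16], [21, 102, -18, 94, 92, 45, -12,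 8, -8, 18, 21, -8, 59, -30, 10, 2, 3, 9, 9, 3, 2, -9, 0, 5, 0, -1, -1, 0, -7, 0, 1]⟩) (.leaf ⟨6, 6, true, [43, 24, 39, 11, 30, 43], [26, 41, 28, 42, 12, 4], [-20, -102, 18, -94, -92, -45, 12, -8, 8, -18, -21, 8, -57, 30, -11, -2, -3, -9, -9, -3, -2, 9, 0, -5, 0, 1, 1, 0, 7, 0, -1]⟩))) (.node 2 (.node 1 (.leaf ⟨6, 6, true, [29, 10, 4, 34, 11, 23], [32, 39, 16, 23, 40, 11], [55, -178, -162, -54, -411, 6, 7, -59, -3, -9, 36, 18, -63, 81, 112, 15, 10, -4, -14, -30, 12, -25, -5, -13, 1, -3, -3, 0, 9, 4, 2]⟩) (.leaf ⟨6, 6, true, [21, 14, 42, 6, 39, 29], [22, 0, 2, 19, 42, 42, 29], [-56, 181, 163, 53, 412, -6, -7, 60, 3, 9, -36, -19, 63, -81, -113, -15, -10, 4, 14, 30, -12, 25, 5, 13, -1, 3, 3, 0, -9, -4, -2]⟩)) (.node 1 (.leaf ⟨6, 6, true, [6, 16, 40, 35, 18, 20], [34, 14, 37, 42, 24, 37],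 [-39, -223, -48, -116, -224, -62, 3, -24, -23, -39, -8, 16, -71, 69, 65, 2, -5, -12, -19, -15, 2, -6, -4, -12, 0, -3, -1, 0, 10, -2, 1]⟩) (.leaf ⟨6, 6, true, [12, 6, 38, 31, 38, 24, 2], [10, 0, 21, 36, 23, 39, 8], [38, 225, 49, 115, 225, 62, -3, 25, 23, 39, 8, -17, 73, -69, -66, -2, 5, 12, 19, 15, -2, 6, 4, 12, 0, 3, 1, 0, -10, 2, -1]⟩)))))))
noncomputable def dF1518 : BT Fct := (.node 30 (.node 15 (.node 7 (.node 3 (.node 1 (.leaf ⟨6, 6, true, [0, 2, 29, 36, 40, 27], [27, 10, 37, 24, 41, 18, 20], [34, -172, -132, -70, -368, -9, 11, -49, 5, -19, 22, 7, -58, 78, 80, 13, 5, -6, -15, -27, 10, -14, -3, -12, 1, -2, -2, 0, 9, 4, 1]⟩) (.node 1 (.leaf ⟨6, 6, true, [25, 4, 28, 40, 21, 42], [8, 13, 28, 39, 4, 28], [-35, 174, 133, 69, 369, 9, -11, 50, -5, 19, -22, -8, 60, -78, -81, -13, -5, 6, 15,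 27, -10, 14, 3, 12, -1, 2, 2, 0, -9, -4, -1]⟩) (.leaf ⟨6, 5, true, [10, 30, 38, 26, 21, 19], [34, 43, 14, 39, 20, 37], [-47, -30, 77, -69, -37, -36, 17, 19, 10, -33, -30, 10, -11, 6, -26, -2, -2, -5, -4, 2, -3, 13, 1, -1, -1, 1, 2, 0, 4, -1, -2]⟩))) (.node 2 (.node 1 (.leaf ⟨5, 6, true, [4, 30, 34, 43, 28, 23], [19, 6, 43, 40, 25, 42], [45, 30, -71, 65, 40, 36, -16, -19, -11, 31, 31, -9, 11, -6, 25, 2, 2, 5, 4, -2, 3, -13, -1, 1, 1, -1, -2, 0, -4, 1, 2]⟩) (.leaf ⟨6, 6, true, [34, 36, 39, 25, 39, 41], [34, 0, 40, 30, 23, 38, 6], [-49, 50, 63, 14, 125, -3, 12, 19, -8, 6, 17, 16, 39, -37, 2, -3, -5, 2, 1, 5, -2, -2, 1, 2, 0, 0, -3, 0, -2, -1, -1]⟩)) (.node 1 (.leaf ⟨6, 6, true, [36, 2, 42, 39, 30, 18, 29], [14, 19, 38, 20, 22, 16], [27, -163, -154, -64, -353, -18, -19, -54, -11, 0, 31, 22,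 -110, 73, 112, 7, 4, -6, -14, -23, 8, -30, -5, -13, -2, -1, -2, 0, 7, 3, 2]⟩) (.leaf ⟨6, 6, true, [42, 38, 8, 33, 41, 16], [29, 2, 14, 29, 11, 35, 27], [-40, 140, 120, 55, 315, 20, -14, 26, -14, 8, -7, -5, 45, -69, -13, -10, 2, 9, 15, 23, -8, -7, -3, 10, -5, -2, 2, 0, -9, -1, 1]⟩)))) (.node 4 (.node 2 (.node 1 (.leaf ⟨6, 6, true, [14, 11, 30, 38, 18, 34], [10, 39, 39, 6, 16, 30], [39, -136, -119, -56, -314, -20, 14, -25, 14, -8, 7, 4, -47, 69, 12, 10, -2, -9, -15, -23, 8, 7, 3, -10, 5, 2, -2, 0, 9, 1, -1]⟩) (.leaf ⟨6, 6, true, [20, 29, 43, 39, 11, 2], [24, 4, 34, 18, 43, 22, 22], [-6, 2, 20, -12, 20, 12, 4, -2, 5, 4, 20, 7, 7, -15, 22, 0, 4, 3, 2, 1, 0, -5, -1, 0, -2, -2, -1, 0, -1, 1]⟩)) (.node 1 (.leaf ⟨6, 6, true, [37, 41, 32, 14, 2, 22], [25, 38, 19, 10, 36, 20], [7, 0, -20, 12, -20,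 -12, -4, 2, -5, -4, -20, -7, -9, 15, -23, 0, -4, -3, -2, -1, 0, 5, 1, 0, 2, 2, 1, 0, 1, -1]⟩) (.leaf ⟨5, 6, true, [30, 39, 25, 13, 20, 10], [41, 13, 22, 43, 27, 30, 8], [-8, 35, 22, 7, 52, 13, -1, 5, -1, -2, 5, 0, 20, -14, -4, 1, 2, 3, 5, 2, 0, 2, 1, 2, -2, -1, -2, 0, -1]⟩))) (.node 2 (.node 1 (.leaf ⟨6, 5, true, [23, 36, 43, 6, 42, 37], [24, 12, 23, 11, 38, 31], [9, -33, -22, -7, -52, -13, 1, -5, 1, 2, -5, 0, -22, 14, 3, -1, -2, -3, -5, -2, 0, -2, -1, -2, 2, 1, 2, 0, 1]⟩) (.leaf ⟨5, 6, true, [2, 10, 6, 4, 34, 26], [0, 2, 24, 42, 41, 11, 13], [91, -96, -135, 18, -105, 4, -17, -37, -33, 50, 17, -4, -77, 15, 38, -2, 7, -7, -6, -5, 1, -16, -2, -6, -1, 0, 4, 0, 3, -1, 3]⟩)) (.node 1 (.leaf ⟨6, 5, true, [2, 33, 11, 20, 38, 16], [2, 4, 39, 30, 38, 14], [-90, 96, 135, -18, 105, -4, 17, 37, 33,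 -50, -17, 4, 79, -15, -39, 2, -7, 7, 6, 5, -1, 16, 2, 6, 1, 0, -4, 0, -3, 1, -3]⟩) (.leaf ⟨6, 6, true, [23, 30, 34, 42, 27, 24], [33, 42, 19, 26, 8], [21, -141, -64, -44, -207, -27, 19, -33, 33, -10, 30, 15, -36, 42, 55, 10, -1, -4, -9, -15, 4, -4, -2, -12, -2, -4, -4, 0, 9, 4]⟩))))) (.node 7 (.node 3 (.node 1 (.leaf ⟨6, 6, true, [2, 36, 33, 25, 38, 28], [40, 13, 11, 32, 40, 4], [7, -82, -61, -34, -143, -10, -4, -21, -11, -1, 14, 15, -44, 28, 42, 1, 2, -3, -5, -8, 2, -12, -1, -7, -1, -2, 0, 0, 5, 0, 2]⟩) (.node 1 (.leaf ⟨6, 6, true, [39, 0, 42, 28, 33, 2, 31], [37, 33, 37, 24, 42, 33], [3, -34, -22, 4, 32, -2, 17, 4, -2, 32, -12, -8, -1, -4, 12, 1, 2, -2, 1, 3, -2, -2, -1, -1, 0, -1, -1, 0, -1, -2]⟩) (.leaf ⟨6, 6, true, [38, 26, 34, 43, 32, 36], [35, 37, 25, 28, 37, 21], [-4, 37, 23,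 -5, -31, 2, -17, -3, 2, -32, 12, 7, 1, 4, -13, -1, -2, 2, -1, -3, 2, 2, 1, 1, 0, 1, 1, 0, 1, 2]⟩))) (.node 2 (.node 1 (.leaf ⟨6, 6, true, [4, 6, 23, 40, 34, 42, 23], [39, 21, 6, 29, 11, 4], [-44, 91, 96, 3, 91, -3, -7, 20, 4, -34, 28, -2, 33, -37, -10, -2, -7, 7, 1, 2, 0, 4, 4, 2, 0, -1, 3, 0, -6, 1, -2]⟩) (.leaf ⟨6, 6, true, [11, 29, 12, 40, 16, 31], [22, 0, 43, 39, 2, 27, 18], [43, -88, -95, -4, -90, 3, 7, -19, -4, 34, -28, 1, -33, 37, 9, 2, 7, -7, -1, -2, 0, -4, -4, -2, 0, 1, -3, 0, 6, -1, 2]⟩)) (.node 1 (.leaf ⟨6, 6, true, [11, 24, 29, 32, 39, 13], [24, 31, 34, 32, 37, 11], [45, -78, -143, 7, -181, 16, -19, -30, -28, 36, 6, 9, -51, 42, 75, 4, 8, -2, -2, -11, 5, -25, -5, -5, 1, 0, -4, 0, 0, 0, 3]⟩) (.leaf ⟨6, 6, true, [30, 0, 11, 32, 36, 21, 6], [31, 34, 6, 20, 36, 34], [9, -14, -54,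 55, -23, 2, -12, 0, -23, -4, -3, -8, 24, 13, 39, 2, 1, 1, -1, -3, 2, -9, -2, 0, 0, -3, -1, 0, -4, -2, 2]⟩)))) (.node 4 (.node 2 (.node 1 (.leaf ⟨6, 6, true, [16, 43, 11, 37, 32, 11], [20, 29, 34, 22, 41, 18], [-10, 18, 55, -56, 24, -2, 12, 1, 23, 4, 3, 7, -26, -13, -40, -2, -1, -1, 1, 3, -2, 9, 2, 0, 0, 3, 1, 0, 4, 2, -2]⟩) (.leaf ⟨6, 5, true, [27, 4, 29, 34, 18, 14], [0, 22, 36, 12, 26, 22], [40, 11, -76, 48, -95, 35, -8, -30, -5, 4, 39, 13, 9, 12, 77, 7, 8, 6, 3, -9, 7, -25, -6, -3, -1, 0, -3, 0, -4, 3, 1]⟩)) (.node 1 (.leaf ⟨5, 6, true, [37, 37, 40, 34, 19, 20], [40, 2, 21, 35, 25, 34, 20], [-35, -8, 69, -43, 90, -35, 7, 31, 6, -2, -40, -15, -9, -12, -78, -7, -8, -6, -3, 9, -7, 25, 6, 3, 1, 0, 3, 0, 4, -3, -1]⟩) (.leaf ⟨6, 5, true, [19, 26, 34, 11, 29], [24, 34, 22, 35, 29, 2], [-8,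 -31, 6, -27, -37, -13, 4, -2, -3, -4, -2, 6, -18, 9, 10, -1, -1, -2, -4, -2, 0, -1, 0, -2, 0, 0, 0, 0, 2, -1]⟩))) (.node 2 (.node 1 (.leaf ⟨5, 6, true, [35, 10, 16, 41, 42], [2, 16, 40, 42, 16, 13], [10, 64, 6, 45, 78, 24, -5, 6, 1, 5, 4, -8, 35, -18, -16, 1, 2, 4, 7, 4, 0, 1, 0, 4, 0, 0, 0, 0, -4, 1]⟩) (.leaf ⟨6, 6, true, [38, 2, 13, 11, 20, 34], [10, 6, 38, 35, 26, 11, 25], [11, -62, -85, -15, -208, 9, -10, -12, -17, -4, -9, 21, 1, 48, 52, 5, 9, -1, -4, -12, 6, -16, -5, -1, 1, 3, -3, 0, 0, 1, 2]⟩)) (.node 1 (.leaf ⟨6, 6, true, [12, 2, 21, 8, 2, 39, 19], [39, 31, 41, 12, 8, 39], [-12, 65, 86, 14, 209, -9, 10, 13, 17, 4, 9, -22, -1, -48, -53, -5, -9, 1, 4, 12, -6, 16, 5, 1, -1, -3, 3, 0, 0, -1, -2]⟩) (.leaf ⟨6, 6, true, [21, 2, 23, 40, 43, 23, 19], [28, 37, 20, 42, 36, 10], [16, -36,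 -38, -5, -76, 6, -1, -14, -7, 7, 11, 14, -17, 12, 41, 2, 5, 1, -1, -5, 2, -11, -2, -3, 0, -1, -1, 0, 1, -1, 1]⟩)))))) (.node 15 (.node 7 (.node 3 (.node 1 (.leaf ⟨6, 6, true, [8, 25, 32, 36, 22, 6], [28, 21, 36, 29, 11, 43], [-25, -148, -26, -111, -246, -41, -11, -34, -5, -48, 18, 27, -86, 51, 47, 1, -3, -6, -14, -16, 4, -9, -1, -10, 0, -1, 0, 0, 10, 1, 1]⟩) (.node 1 (.leaf ⟨6, 6, true, [39, 11, 43, 39, 35, 24], [25, 41, 21, 13, 41, 2], [24, 150, 27, 110, 247, 41, 11, 35, 5, 48, -18, -28, 88, -51, -48, -1, 3, 6, 14, 16, -4, 9, 1, 10, 0, 1, 0, 0, -10, -1, -1]⟩) (.leaf ⟨6, 6, true, [29, 30, 43, 26, 38, 27], [40, 21, 30, 34, 2, 25], [-34, -26, 37, -47, -25, -23, 7, -2, 14, -28, 10, 4, -11, -1, 9, 0, -3, 0, -1, -1, -1, 3, 1, -3, -1, -3, 1, 0, 1, 0, -2]⟩))) (.node 2 (.node 1 (.leaf ⟨6, 6,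 true, [42, 41, 13, 20, 38, 43], [40, 2, 35, 42, 40, 20, 22], [33, 29, -36, 46, 26, 23, -7, 3, -14, 28, -10, -5, 11, 1, -10, 0, 3, 0, 1, 1, 1, -3, -1, 3, 1, 3, -1, 0, -1, 0, 2]⟩) (.leaf ⟨6, 6, true, [2, 23, 10, 30, 35, 22], [40, 8, 29, 12, 34, 25], [28, -93, -91, -7, -118, 7, 17, -20, -12, 30, 12, 3, -32, 25, 69, 7, 7, -2, -2, -6, 3, -18, -5, -6, 0, -1, -4, 0, 1]⟩)) (.node 1 (.leaf ⟨6, 6, true, [43, 13, 42, 33, 38, 20], [18, 18, 43, 36, 28, 11], [-29, 95, 92, 6, 119, -7, -17, 21, 12, -30, -12, -4, 34, -25, -70, -7, -7, 2, 2, 6, -3, 18, 5, 6, 0, 1, 4, 0, -1]⟩) (.leaf ⟨6, 6, true, [34, 2, 33, 31, 39, 23, 21], [20, 4, 28, 35, 27, 30, 18], [-14, -234, -86, -205, -657, -14, 20, -81, 43, -138, 119, 56, -87, 131, 160, 32, 2, -2, -29, -60, 24, -25, -1, -25, 3, -4, -4, 0, 17, 13, -5]⟩)))) (.node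 4 (.node 2 (.node 1 (.leaf ⟨6, 6, true, [43, 23, 43, 36, 31, 10], [41, 19, 39, 27, 33, 4, 2], [13, 238, 87, 204, 658, 14, -20, 82, -43, 138, -119, -57, 85, -131, -161, -32, -2, 2, 29, 60, -24, 25, 1, 25, -3, 4, 4, 0, -17, -13, 5]⟩) (.leaf ⟨6, 6, true, [23, 34, 34, 27, 10, 36], [20, 20, 40, 29, 27, 4], [11, 33, 23, 15, 45, 6, -2, 8, 14, -10, -3, -13, 7, -8, -22, 2, -3, 3, 0, 0, 1, 5, 0, 3, 2, 2, 0, 0, -2, 4, -2]⟩)) (.node 1 (.leaf ⟨6, 6, true, [21, 37, 26, 21, 43, 25], [14, 20, 6, 43, 13, 29], [-10, -31, -23, -15, -45, -6, 2, -8, -14, 10, 3, 13, -9, 8, 21, -2, 3, -3, 0, 0, -1, -5, 0, -3, -2, -2, 0, 0, 2, -4, 2]⟩) (.leaf ⟨6, 6, true, [28, 2, 38, 41, 32, 11], [37, 0, 20, 13, 34, 22, 24], [34, -144, -81, -61, -188, -15, 8, -28, -7, 3, -8, 6, -56, 47, 52, 5, 6, -5, -8, -15, 4, -13, -4, -7,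 3, 2, -2, 0, 6, 1]⟩))) (.node 2 (.node 1 (.leaf ⟨6, 6, true, [38, 20, 35, 18, 35, 4], [24, 0, 21, 39, 20, 42, 27], [-35, 147, 82, 60, 189, 15, -8, 29, 7, -3, 8, -7, 56, -47, -53, -5, -6, 5, 8, 15, -4, 13, 4, 7, -3, -2, 2, 0, -6, -1]⟩) (.leaf ⟨6, 6, true, [10, 6, 14, 22, 41, 41, 10], [14, 0, 21, 39, 30, 19, 30], [16, -56, -42, -21, -138, 0, -2, -7, 2, -11, 21, -1, -18, 35, 30, 8, -1, -1, -5, -13, 5, -6, -1, -5, 1, 3, -2, 0, 3]⟩)) (.node 1 (.leaf ⟨5, 6, true, [34, 30, 11, 43, 23, 26], [27, 35, 16, 8, 11], [1, -1, 29, -57, -66, 10, -23, -4, -10, -26, 24, -5, -55, 6, 21, 2, 4, 3, -1, -6, 3, -11, -2, 0, 2, 1, 3, 0, -2, 0, 3]⟩) (.leaf ⟨6, 5, true, [37, 37, 34, 26], [19, 39, 13, 4, 29, 42], [-2, 3, -28, 56, 67, -10, 23, 5, 10, 26, -24, 4, 57, -6, -22, -2, -4, -3, 1, 6, -3, 11, 2, 0, -2, -1,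 -3, 0, 2, 0, -3]⟩))))) (.node 8 (.node 4 (.node 2 (.node 1 (.leaf ⟨6, 6, true, [6, 21, 19, 38, 6, 20], [21, 6, 19, 19, 39], [58, 6, -115, 16, -77, 42, -31, -6, -26, 33, -25, -12, -32, 19, 28, -1, 18, 0, 2, -1, 3, -17, -5, 5, 2, 5, -2, 0, -2, -2, 3]⟩) (.leaf ⟨6, 6, true, [34, 12, 6, 20, 8], [36, 0, 6, 18, 34, 39, 10], [-59, -4, 116, -17, 78, -42, 31, 7, 26, -33, 25, 11, 34, -19, -29, 1, -18, 0, -2, 1, -3, 17, 5, -5, -2, -5, 2, 0, 2, 2, -3]⟩)) (.node 1 (.leaf ⟨6, 6, true, [40, 0, 6, 37, 43, 23, 18], [8, 25, 35, 36, 6, 37], [-2, -148, -7, -115, -213, -44, 18, -29, -1, -35, 19, 21, -86, 47, 42, 3, 0, -9, -14, -15, 3, -8, -1, -11, 0, 0, 0, 0, 10, 3]⟩) (.leaf ⟨6, 6, true, [28, 2, 29, 39, 28, 2, 30], [29, 10, 19, 38, 28, 25, 16], [3, 148, 7, 115, 213, 44, -18, 29, 1, 35, -19, -21, 88, -47, -43,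 -3, 0, 9, 14, 15, -3, 8, 1, 11, 0, 0, 0, 0, -10, -3]⟩))) (.node 2 (.node 1 (.leaf ⟨6, 5, true, [30, 2, 22, 37, 27, 21, 26], [40, 29, 11, 2, 39, 0], [-13, -199, -1, -169, -291, -39, 14, -34, 17, -55, 21, 8, -99, 80, 56, 9, 4, -8, -16, -22, 6, -7, -5, -11, 1, -2, 0, 0, 11, 5, 2]⟩) (.leaf ⟨5, 6, true, [6, 33, 41, 34, 34, 23], [32, 36, 43, 19, 27, 10], [19, 234, 6, 192, 327, 50, -16, 39, -18, 58, -20, -12, 116, -89, -62, -9, -3, 10, 19, 24, -6, 7, 5, 13, -1, 2, 0, 0, -13, -5, -2]⟩)) (.node 1 (.leaf ⟨5, 6, true, [20, 2, 23, 6, 2, 26, 13], [4, 6, 19, 36, 13, 4], [22, 152, -15, 144, 210, 26, 0, 32, -11, 41, -12, -9, 73, -68, -52, -7, -6, 6, 13, 15, -4, 4, 4, 8, 1, 2, 1, 0, -7, -4, -2]⟩) (.leaf ⟨6, 6, true, [2, 18, 38, 12, 43, 28], [26, 33, 27, 39, 22, 22], [56, 61, -87, 93, -40, 27, -16, 4,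 -11, 26, 10, -13, 23, 4, 28, 3, 3, 4, 3, -4, 4, -13, -2, 1, 3, 2, -3, 0, -4, -1, 1]⟩)))) (.node 4 (.node 2 (.node 1 (.leaf ⟨6, 6, true, [14, 35, 32, 21, 6, 27], [14, 22, 38, 35, 0, 35], [-55, -59, 87, -93, 40, -27, 16, -4, 11, -26, -10, 13, -25, -4, -29, -3, -3, -4, -3, 4, -4, 13, 2, -1, -3, -2, 3, 0, 4, 1, -1]⟩) (.leaf ⟨6, 6, true, [0, 19, 36, 16, 20, 28], [13, 26, 35, 13, 18, 42], [40, -241, -122, -112, -457, -40, 23, -65, 11, -42, 33, 9, -96, 101, 78, 13, 0, -11, -25, -35, 11, -10, -2, -17, 2, -1, 0, 0, 14, 7]⟩)) (.node 1 (.leaf ⟨6, 6, true, [39, 13, 27, 35, 31, 27, 13], [29, 0, 21, 36, 10, 18, 4], [-41, 244, 123, 111, 458, 40, -23, 66, -11, 42, -33, -10, 96, -101, -79, -13, 0, 11, 25, 35, -11, 10, 2, 17, -2, 1, 0, 0, -14, -7]⟩) (.leaf ⟨6, 6, true, [0, 2, 19, 38, 40, 23, 31], [33,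 2, 18, 42, 23, 31], [-40, 34, 90, -18, 93, -22, -7, 21, 1, -26, 4, 3, -2, -19, -24, -5, -8, 1, -1, 5, -3, 4, 2, 1, 0, 1, 1, 0, -1, 2, -1]⟩))) (.node 2 (.node 1 (.leaf ⟨6, 6, true, [4, 10, 21, 40, 32, 12], [22, 21, 35, 25, 20, 38], [47, -34, -18, -35, -74, 10, 10, -13, 18, 12, 8, 6, -31, 10, 2, 5, 3, -3, 0, 0, 2, -2, -3, 0, 3, 6, -4, 0, -2, -1, -1]⟩) (.leaf ⟨6, 6, true, [18, 0, 29, 39, 18, 6, 16], [25, 38, 22, 21, 14, 6], [-48, 38, 19, 34, 75, -10, -10, 14, -18, -12, -8, -7, 29, -10, -3, -5, -3, 3, 0, 0, -2, 2, 3, 0, -3, -6, 4, 0, 2, 1, 1]⟩)) (.node 1 (.leaf ⟨6, 6, true, [39, 0, 34, 26, 39, 20, 23], [33, 25, 42, 20, 39, 43], [-28, -120, 47, -104, -79, -49, 19, 1, 25, -29, 10, 3, -55, 15, -3, 0, -6, -8, -13, -5, -1, 5, 1, -6, 2, 2, -1, 0, 8]⟩) (.leaf ⟨6, 6, true, [29, 36, 43, 25, 21, 26],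 [33, 19, 38, 18, 38, 16], [27, 123, -46, 103, 80, 49, -19, 0, -25, 29, -10, -4, 55, -15, 2, 0, 6, 8, 13, 5, 1, -5, -1, 6, -2, -2, 1, 0, -8]⟩)))))))
noncomputable def dF1579 : BT Fct := (.node 30 (.node 15 (.node 7 (.node 3 (.node 1 (.leaf ⟨6, 6, true, [23, 14, 43, 26, 24, 21], [32, 21, 42, 6, 36, 19], [12, -170, -98, -109, -226, -11, 6, -22, -40, 38, -20, 21, -98, 65, 32, 0, 7, -12, -9, -10, 2, -9, -3, -9, 1, 4, -5, 0, 8, 0, 4]⟩) (.node 1 (.leaf ⟨6, 6, true, [12, 25, 34, 4, 43], [20, 33, 19, 16, 42, 22], [-13, 174, 99, 108, 227, 11, -6, 23, 40, -38, 20, -22, 96, -65, -33, 0, -7, 12, 9, 10, -2, 9, 3, 9, -1, -4, 5, 0, -8, 0, -4]⟩) (.leaf ⟨6, 6, true, [28, 41, 13, 26, 36, 36], [41, 31, 26, 37, 34, 10], [-18, -248, -68, -131, -288, -47, 19, -46, -10, -27, 21, 23, -89, 73, 83, 6, 1, -9, -16,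 -21, 5, -12, -5, -16, 1, -3, -1, 0, 10, 2, 1]⟩))) (.node 2 (.node 1 (.leaf ⟨6, 6, true, [13, 43, 18, 33, 40, 13], [18, 37, 19, 42, 39, 23], [17, 250, 69, 130, 289, 47, -19, 47, 10, 27, -21, -24, 91, -73, -84, -6, -1, 9, 16, 21, -5, 12, 5, 16, -1, 3, 1, 0, -10, -2, -1]⟩) (.leaf ⟨6, 6, true, [34, 40, 20, 30, 36, 29], [8, 34, 12, 22, 40, 11], [5, -323, -150, -189, -390, -69, 35, -21, -33, 42, -47, 34, -164, 127, 9, 4, -3, -30, -23, -21, 1, -1, -1, -15, 2, 7, -9, 0, 23, -2, 5]⟩)) (.node 1 (.leaf ⟨6, 6, true, [12, 19, 33, 42, 28, 12], [16, 30, 39, 41, 8, 10], [-6, 325, 151, 188, 391, 69, -35, 22, 33, -42, 47, -35, 166, -127, -10, -4, 3, 30, 23, 21, -1, 1, 1, 15, -2, -7, 9, 0, -23, 2, -5]⟩) (.leaf ⟨6, 6, true, [19, 35, 21, 43, 41, 6], [2, 36, 13, 21, 25, 2], [-11, -286, -108, -172, -463, -50,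 10, -57, -22, -31, 6, 47, -137, 102, 83, 3, 2, -15, -25, -30, 7, -17, -2, -18, -1, 1, 2, 0, 16, 4, 1]⟩)))) (.node 4 (.node 2 (.node 1 (.leaf ⟨6, 6, true, [2, 33, 43, 8, 2, 0], [23, 40, 21, 11, 34, 28], [12, 288, 108, 172, 463, 50, -10, 57, 22, 31, -6, -47, 135, -102, -84, -3, -2, 15, 25, 30, -7, 17, 2, 18, 1, -1, -2, 0, -16, -4, -1]⟩) (.leaf ⟨6, 6, true, [31, 20, 12, 39, 25, 39], [10, 31, 23, 13, 43, 4], [45, -63, -88, 20, -60, -12, -3, -7, -17, 39, -29, -9, -41, 15, 6, -5, 1, -5, 0, -1, -1, -8, -3, -2, 2, 2, 0, 0, 2, -2, 2]⟩)) (.node 1 (.leaf ⟨6, 6, true, [33, 28, 34, 18, 39, 11], [8, 39, 21, 6, 34, 14], [-46, 65, 89, -21, 61, 12, 3, 8, 17, -39, 29, 8, 43, -15, -7, 5, -1, 5, 0, 1, 1, 8, 3, 2, -2, -2, 0, 0, -2, 2, -2]⟩) (.leaf ⟨6, 6, true, [11, 24, 35, 10, 26, 18], [14, 13, 42, 29, 34,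 20, 28], [-15, 155, 98, 74, 232, 21, 0, 24, 8, -26, 8, -20, 76, -64, -33, -5, -2, 11, 9, 15, -3, 2, 2, 9, 1, 0, 4, 0, -10, 0, -2]⟩))) (.node 2 (.node 1 (.leaf ⟨6, 6, true, [6, 42, 37, 22, 20], [40, 37, 16, 23, 34, 30], [16, -153, -98, -74, -232, -21, 0, -24, -8, 26, -8, 20, -78, 64, 32, 5, 2, -11, -9, -15, 3, -2, -2, -9, -1, 0, -4, 0, 10, 0, 2]⟩) (.leaf ⟨6, 6, true, [20, 30, 26, 37, 12, 25], [34, 25, 41, 14, 25, 41], [14, -156, -47, -85, -219, -38, 14, -24, 11, -11, 9, 20, -80, 51, 40, 3, -2, -8, -13, -15, 3, -7, -1, -11, 2, 0, -2, 0, 11, 3, -2]⟩)) (.node 1 (.leaf ⟨6, 6, true, [23, 18, 41, 23, 13, 36], [24, 36, 32, 18, 11, 13], [-15, 158, 48, 84, 220, 38, -14, 25, -11, 11, -9, -21, 82, -51, -41, -3, 2, 8, 13, 15, -3, 7, 1, 11, -2, 0, 2, 0, -11, -3, 2]⟩) (.leaf ⟨6, 6, true, [32, 0, 27,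 2, 18, 37, 0], [34, 26, 13, 35, 24, 30], [1, -32, 31, -40, -90, 2, 11, -16, -12, -54, 29, 13, 15, 33, 18, 7, 2, -3, -7, -15, 6, -1, 2, -2, 3, 3, 0, 0, 1, -1, -2]⟩))))) (.node 7 (.node 3 (.node 1 (.leaf ⟨6, 6, true, [42, 14, 22, 40, 26, 36], [34, 0, 12, 11, 28, 38, 20], [-4, -80, -16, -69, -200, -1, 1, -28, 8, -64, 58, 19, -20, 37, 53, 10, -3, -2, -14, -23, 9, -15, 1, -7, 2, -2, 0, 0, 7, 8, -3]⟩) (.node 1 (.leaf ⟨6, 6, true, [13, 35, 10, 22, 2, 29], [26, 0, 43, 24, 30, 25, 18], [3, 84, 17, 68, 201, 1, -1, 29, -8, 64, -58, -20, 18, -37, -54, -10, 3, 2, 14, 23, -9, 15, -1, 7, -2, 2, 0, 0, -7, -8, 3]⟩) (.leaf ⟨6, 6, true, [22, 16, 2, 26, 40, 14], [39, 8, 39, 20, 37, 24, 18], [-24, -6, 52, -14, 44, -20, 17, 9, 5, -9, 12, 1, 4, -11, -16, -1, -7, -1, -4, 0, -1, 7, 2, -1, 1, 0, 0, 0, 1, 2, -2]⟩)))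 (.node 2 (.node 1 (.leaf ⟨6, 6, true, [29, 42, 36, 27, 22, 20], [20, 26, 2, 24, 40, 23], [25, 8, -52, 14, -44, 20, -17, -9, -5, 9, -12, -1, -6, 11, 15, 1, 7, 1, 4, 0, 1, -7, -2, 1, -1, 0, 0, 0, -1, -2, 2]⟩) (.leaf ⟨6, 6, true, [24, 34, 38, 31, 25, 19], [22, 36, 21, 34, 11, 8], [-19, 81, 78, 34, 163, 29, 10, 20, 11, -23, -2, 8, 66, -61, -13, -4, 10, 8, 17, 13, -4, -6, -3, 8, -2, -1, 3, 0, -2, -4, -1]⟩)) (.node 1 (.leaf ⟨6, 6, true, [29, 2, 19, 6, 2, 19, 22], [19, 0, 43, 27, 35, 31, 19], [18, -78, -77, -35, -162, -29, -10, -19, -11, 23, 2, -9, -66, 61, 12, 4, -10, -8, -17, -13, 4, 6, 3, -8, 2, 1, -3, 0, 2, 4, 1]⟩) (.leaf ⟨6, 6, true, [4, 35, 20, 25, 30, 18], [12, 0, 24, 21, 41, 28, 16], [-16, 16, -9, -13, 6, 4, -9, -4, -14, 8, 11, -3, -22, -11, 25, -5, 4, 2, 2, 1, 0, -12, -1, 2, 0, -1,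 2, 0, -3, -2]⟩)))) (.node 4 (.node 2 (.node 1 (.leaf ⟨6, 6, true, [12, 23, 37, 37, 34, 31], [11, 24, 39, 42, 33, 39], [12, -34, 7, -49, -100, 0, 4, -19, 15, -9, 38, 8, -56, 6, 24, 2, 1, 0, -2, -6, 3, -10, -1, -3, -1, -2, 1, 0, 1, 6, -1]⟩) (.leaf ⟨6, 6, true, [25, 41, 37, 30, 38, 20], [39, 13, 21, 37, 40, 21, 22], [-60, -258, -40, -152, -237, -54, 22, -16, -20, -39, -10, 15, -67, 83, 55, 6, -6, -14, -19, -19, 2, -10, -2, -16, -1, 3, -3, 0, 14, 3]⟩)) (.node 1 (.leaf ⟨6, 6, true, [25, 40, 33, 36, 25, 18], [10, 0, 18, 34, 30, 13, 29], [59, 262, 41, 151, 238, 54, -22, 17, 20, 39, 10, -16, 65, -83, -56, -6, 6, 14, 19, 19, -2, 10, 2, 16, 1, -3, 3, 0, -14, -3]⟩) (.leaf ⟨6, 6, true, [22, 0, 41, 25, 39, 41, 30], [19, 40, 12, 40, 26, 13], [67, -27, -39, 22, -63, 14, 11, -22, -16, -2, 29, -3, 2,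 21, 18, 5, 2, -3, -4, -9, 5, -10, -2, 0, 2, 1, 0, 0, -1, 3, 1]⟩))) (.node 2 (.node 1 (.leaf ⟨6, 6, true, [26, 20, 38, 34, 2], [6, 28, 37, 18, 26, 35], [-66, 27, 39, -22, 63, -14, -11, 22, 16, 2, -29, 3, 0, -21, -19, -5, -2, 3, 4, 9, -5, 10, 2, 0, -2, -1, 0, 0, 1, -3, -1]⟩) (.leaf ⟨6, 6, true, [27, 27, 20, 39, 39, 43], [37, 18, 36, 23, 25, 14], [40, -173, -105, -63, -242, -28, 16, -32, 5, 8, 17, 5, -75, 51, 54, 6, -3, -7, -17, -18, 5, -7, 1, -12, 4, 0, -5, 0, 10]⟩)) (.node 1 (.leaf ⟨6, 6, true, [23, 33, 18, 34, 26, 43], [24, 0, 29, 39, 35, 29, 29], [2, -162, -70, -70, -282, -32, 4, -50, 4, -48, 52, 30, -53, 58, 95, 6, -1, -5, -15, -27, 9, -22, -4, -14, 1, -1, -2, 0, 7, 8, -2]⟩) (.leaf ⟨6, 6, true, [23, 6, 19, 35, 26, 39], [43, 20, 33, 23, 40, 42], [-1, 162, 70, 70, 282, 32, -4, 50, -4,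 48, -52, -30, 55, -58, -96, -6, 1, 5, 15, 27, -9, 22, 4, 14, -1, 1, 2, 0, -7, -8, 2]⟩)))))) (.node 15 (.node 7 (.node 3 (.node 1 (.leaf ⟨6, 6, true, [41, 41, 39, 22, 42, 36], [22, 0, 27, 10, 38, 10, 18], [-22, -6, 19, -29, -44, -10, 13, 5, 24, -25, 4, -9, 6, 9, 24, 6, -1, 4, 1, -7, 3, -1, -2, -3, 3, 1, -6, 0, 1, 2, -3]⟩) (.node 1 (.leaf ⟨6, 6, true, [24, 35, 43, 39, 39, 6], [34, 41, 35, 30, 35, 23], [21, 9, -18, 28, 45, 10, -13, -4, -24, 25, -4, 8, -6, -9, -25, -6, 1, -4, -1, 7, -3, 1, 2, 3, -3, -1, 6, 0, -1, -2, 3]⟩) (.leaf ⟨6, 6, true, [12, 27, 30, 20, 34, 20], [11, 19, 37, 19, 42, 39, 8], [8, 139, 75, 69, 248, 29, 11, 32, -6, 18, -17, -15, 86, -35, -67, -2, 1, 3, 10, 15, -4, 17, 2, 12, 0, 2, -1, 0, -6, -5, 1]⟩))) (.node 2 (.node 1 (.leaf ⟨6, 6, true, [26, 34, 19, 41, 43, 13], [29,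 12, 35, 18, 16, 19], [-9, -135, -74, -70, -247, -29, -11, -31, 6, -18, 17, 14, -88, 35, 66, 2, -1, -3, -10, -15, 4, -17, -2, -12, 0, -2, 1, 0, 6, 5, -1]⟩) (.leaf ⟨6, 6, true, [26, 32, 41, 25, 18, 20], [39, 2, 19, 42, 16, 41, 13], [-45, -3, 13, -19, 36, -23, -8, 16, 3, 16, -33, 2, -4, -12, -16, -5, -4, -1, 1, 8, -5, 5, 1, -1, -2, -1, 0, 0, 3, -1, -1]⟩)) (.node 1 (.leaf ⟨6, 6, true, [35, 21, 18, 35, 29, 37], [8, 19, 22, 40, 33, 27], [44, 6, -12, 18, -35, 23, 8, -15, -3, -16, 33, -3, 4, 12, 15, 5, 4, 1, -1, -8, 5, -5, -1, 1, 2, 1, 0, 0, -3, 1, 1]⟩) (.leaf ⟨6, 6, true, [32, 2, 39, 33, 31, 42, 10], [41, 12, 33, 43, 39, 33], [-34, 148, 39, 81, 126, 13, -16, 27, -9, -4, 7, -1, 76, -42, -25, -4, -9, 7, 4, 7, -1, 6, 6, 5, -2, 0, 2, 0, -8, 0, -3]⟩)))) (.node 4 (.node 2 (.node 1 (.leaf ⟨6, 6, true,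 [31, 35, 18, 20, 10, 36], [18, 34, 21, 27, 33, 39], [35, -146, -39, -81, -126, -13, 16, -27, 9, 4, -7, 1, -78, 42, 24, 4, 9, -7, -4, -7, 1, -6, -6, -5, 2, 0, -2, 0, 8, 0, 3]⟩) (.leaf ⟨6, 6, true, [41, 6, 27, 40, 11, 42], [34, 6, 40, 6, 38, 33, 28], [-26, 76, 41, 26, 138, 13, -6, 21, -9, 6, -16, -14, 48, -24, -28, -3, 0, 2, 5, 10, -3, 8, 1, 6, -2, 0, 1, 0, -4, -3]⟩)) (.node 1 (.leaf ⟨6, 6, true, [34, 36, 19, 22, 11, 35], [11, 0, 22, 22, 34, 6, 29], [27, -76, -41, -26, -138, -13, 6, -21, 9, -6, 16, 14, -46, 24, 27, 3, 0, -2, -5, -10, 3, -8, -1, -6, 2, 0, -1, 0, 4, 3]⟩) (.leaf ⟨5, 6, true, [0, 6, 43, 6, 20, 22], [34, 0, 18, 23, 11, 38, 26], [-41, 12, 53, -15, 131, -30, -3, 14, 5, 25, -46, 7, -14, -39, -37, -15, -4, 2, 4, 18, -9, 8, 2, 2, -1, -3, 2, 0, 0, -2, 1]⟩))) (.node 2 (.node 1 (.leaf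 ⟨6, 5, true, [4, 2, 22, 29, 2, 32, 28], [20, 18, 27, 40, 39], [40, -9, -52, 14, -130, 30, 3, -13, -5, -25, 46, -8, 14, 39, 36, 15, 4, -2, -4, -18, 9, -8, -2, -2, 1, 3, -2, 0, 0, 2, -1]⟩) (.leaf ⟨6, 6, true, [10, 40, 6, 42, 14, 6], [39, 37, 2, 40, 30], [-40, -245, -47, -155, -262, -88, 6, -21, 2, -23, -18, 20, -143, 68, 45, -1, -13, -14, -23, -15, 0, -2, 2, -15, 2, -4, -2, 0, 14, -1]⟩)) (.node 1 (.leaf ⟨6, 6, true, [0, 30, 8, 34, 38, 11], [11, 6, 32, 13, 40, 42], [39, 248, 48, 154, 263, 88, -6, 22, -2, 23, 18, -21, 143, -68, -46, 1, 13, 14, 23, 15, 0, 2, -2, 15, -2, 4, 2, 0, -14, 1]⟩) (.leaf ⟨6, 6, true, [40, 0, 30, 37, 32, 29, 8], [36, 33, 13, 29, 36, 18], [-44, -294, 1, -236, -321, -114, 34, -30, -2, -31, -2, 26, -165, 89, 34, 1, -12, -22, -32, -21, 1, 7, 2, -20, 1, 1, -2, 0, 19, 1]⟩)))))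 (.node 8 (.node 4 (.node 2 (.node 1 (.leaf ⟨6, 6, true, [43, 0, 19, 31, 36, 29, 11], [39, 6, 19, 43, 25, 37], [45, 294, -1, 236, 321, 114, -34, 30, 2, 31, 2, -26, 167, -89, -35, -1, 12, 22, 32, 21, -1, -7, -2, 20, -1, -1, 2, 0, -19, -1]⟩) (.leaf ⟨6, 6, true, [26, 36, 27, 43, 26, 22], [39, 8, 28, 24, 34, 6, 29], [-47, -146, 8, -123, -106, -70, 16, 0, -4, 2, -20, 4, -77, 43, -5, -2, -12, -13, -19, -6, -2, 14, 3, -9, 1, 1, -2, 0, 9, -2]⟩)) (.node 1 (.leaf ⟨6, 6, true, [0, 36, 18, 36, 35, 21], [31, 29, 36, 18, 38, 6], [-50, 19, 35, -39, 12, -8, 1, 1, 14, -25, -4, -4, 15, 9, 31, 4, 0, 5, 2, -3, 2, 1, -2, -1, -1, -2, -5, 0, -1, 0, -2]⟩) (.leaf ⟨6, 6, true, [35, 6, 20, 35, 39, 34], [6, 22, 25, 21, 38, 30], [51, -17, -35, 39, -12, 8, -1, -1, -14, 25, 4, 4, -17, -9, -32, -4, 0, -5, -2, 3, -2,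 -1, 2, 1, 1, 2, 5, 0, 1, 0, 2]⟩))) (.node 2 (.node 1 (.leaf ⟨6, 6, true, [40, 16, 8, 22, 39, 26], [26, 4, 24, 40, 32, 26, 19], [4, 141, -7, 119, 201, 54, -31, 14, -6, 35, -12, -18, 93, -42, -18, -2, 2, 10, 13, 14, -2, 3, 0, 10, -1, -1, -1, 0, -12, -2]⟩) (.leaf ⟨6, 6, true, [2, 19, 33, 10, 8, 2], [23, 2, 20, 6, 31, 19, 27], [21, -249, -110, -98, -248, -54, 11, -23, -5, 18, -17, 14, -131, 67, 58, 1, -3, -14, -17, -14, 1, -6, 1, -15, 3, -1, -4, 0, 9, -4, 1]⟩)) (.node 1 (.leaf ⟨6, 6, true, [25, 8, 35, 16, 33, 22], [23, 6, 42, 33, 39, 27], [18, -107, -69, -71, -237, -19, 18, -32, 27, 6, 10, 24, -70, 58, 50, 6, 10, -7, -2, -13, 5, -6, -4, -8, 2, 0, -3, 0, 3, -2, -1]⟩) (.leaf ⟨6, 6, true, [22, 35, 10, 18, 26, 19], [10, 22, 26, 38, 13, 22], [-17, 107, 69, 71, 237, 19, -18, 32, -27, -6, -10, -24,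 72, -58, -51, -6, -10, 7, 2, 13, -5, 6, 4, 8, -2, 0, 3, 0, -3, 2, 1]⟩)))) (.node 4 (.node 2 (.node 1 (.leaf ⟨6, 6, true, [35, 30, 25, 41, 39], [2, 25, 38, 11, 18, 13], [-31, 4, 132, -64, 156, -28, 26, 9, 12, 12, -12, -6, -22, -21, -52, -4, -3, 1, 0, 12, -6, 30, 2, 0, -1, 2, 3, 0, -4, -4]⟩) (.leaf ⟨6, 6, true, [36, 0, 32, 38, 35, 30, 23], [19, 2, 20, 43, 32, 18, 20], [-46, -148, 65, -163, -85, -60, 17, -20, 1, -28, -7, 18, -85, 26, 20, -3, -1, -6, -7, -4, -3, 12, 0, -9, 0, -4, 0, 0, 6, -4, -1]⟩)) (.node 1 (.leaf ⟨6, 6, true, [35, 42, 36, 21, 38, 25], [37, 22, 24, 34, 41, 33], [47, 150, -65, 163, 85, 60, -17, 20, -1, 28, 7, -18, 83, -26, -21, 3, 1, 6, 7, 4, 3, -12, 0, 9, 0, 4, 0, 0, -6, 4, 1]⟩) (.leaf ⟨6, 6, true, [8, 42, 23, 19, 40, 26], [34, 41, 38, 41, 33, 4], [-6, -64, -74, -10, -139,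 4, 6, -5, -25, 23, -31, 26, 21, 44, 35, 2, 11, -4, -2, -4, 2, -9, -6, 2, -1, 2, -4, 0, 1, -2, 3]⟩))) (.node 2 (.node 1 (.leaf ⟨5, 6, true, [6, 35, 20, 8, 33], [39, 21, 21, 36, 18, 26], [-18, 43, 22, 11, 54, 8, 3, 21, -10, 9, -32, 5, 26, -4, -14, 0, 4, 0, 7, 7, -2, 4, -1, 4, 0, 1, -2, 0, -3, -4]⟩) (.leaf ⟨6, 6, true, [36, 14, 20, 43, 21, 39], [11, 32, 23, 39, 12, 0], [57, 80, -34, 132, 193, 51, -17, -25, 6, 41, 9, -18, 55, -27, -16, -1, 0, 8, 13, 11, -2, 0, 0, 5, -3, -7, -1, 0, -5, 3, 2]⟩)) (.node 1 (.leaf ⟨6, 6, true, [39, 32, 39, 10, 37, 29], [31, 0, 23, 40, 28, 22, 19], [8, 184, 60, 133, 288, 43, -18, 52, -34, 39, -38, -2, 111, -46, -72, -7, 3, 3, 16, 20, -6, 12, 4, 12, 1, 4, 2, 0, -11, -6, -2]⟩) (.leaf ⟨6, 4, true, [13, 0, 37, 26, 36, 12, 20], [2, 10, 24, 27, 25, 6], [-7, 142, 151,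 44, 432, 8, 35, 65, 27, 50, -59, -15, 81, -87, -119, -12, 3, -1, 17, 39, -15, 24, 1, 17, 0, 11, -2, 0, -10, -8, -2]⟩)))))))
noncomputable def dF1640 : BT Fct := (.node 30 (.node 15 (.node 7 (.node 3 (.node 1 (.leaf ⟨4, 6, true, [20, 29, 10, 43, 37], [30, 38, 43, 23, 36, 41], [9, -163, -158, -61, -466, -12, -33, -70, -26, -49, 55, 20, -97, 96, 123, 12, -2, -1, -18, -40, 15, -25, -2, -18, 0, -11, 2, 0, 11, 8, 2]⟩) (.node 1 (.leaf ⟨6, 6, true, [20, 22, 34, 34, 28, 16], [12, 2, 35, 42, 29, 43, 20], [8, 98, -54, 102, 72, 36, -20, 7, -3, 28, -5, -6, 60, -21, 6, -1, 7, 6, 14, 6, 0, -9, -2, 5, -2, -3, -1, 0, -4, 1, -1]⟩) (.leaf ⟨6, 6, true, [31, 8, 18, 39, 36, 22, 20], [6, 38, 27, 14, 10, 6], [-9, -95, 55, -103, -71, -36, 20, -6, 3, -28, 5, 5, -60, 21, -7, 1, -7, -6, -14, -6, 0, 9, 2, -5, 2,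 3, 1, 0, 4, -1, 1]⟩))) (.node 2 (.node 1 (.leaf ⟨6, 6, true, [22, 0, 33, 19, 34, 22, 16], [0, 13, 41, 21, 33, 13], [-32, 49, 45, 10, 116, 3, 18, 47, -8, 14, -50, -9, 77, -14, -53, 0, -1, -3, 4, 11, -5, 20, 3, 5, -2, 5, -2, 0, -1, -6, -2]⟩) (.leaf ⟨6, 6, true, [0, 11, 18, 37, 40, 2], [25, 38, 22, 42, 40, 21], [33, -49, -45, -10, -116, -3, -18, -47, 8, -14, 50, 9, -75, 14, 52, 0, 1, 3, -4, -11, 5, -20, -3, -5, 2, -5, 2, 0, 1, 6, 2]⟩)) (.node 1 (.leaf ⟨6, 3, true, [22, 19, 23, 36, 30, 22], [2, 4, 23, 42, 21, 27, 16], [-7, 31, -16, 21, 83, 5, -14, 20, -21, 37, -40, -4, 20, -10, 1, -7, 9, -1, 7, 11, -4, -3, -4, 7, 0, 2, 0, 0, -6, -7, 1]⟩) (.leaf ⟨3, 6, true, [43, 35, 21, 29, 43, 43], [31, 0, 20, 25, 37, 18, 8], [10, 0, 24, -3, -47, 3, 10, -16, 21, -37, 42, 0, -6, 2, -6, 7, -9, 3, -5, -9, 4,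 3, 4, -5, 0, -2, 0, 0, 4, 7, -1]⟩)))) (.node 4 (.node 2 (.node 1 (.leaf ⟨6, 6, true, [28, 43, 31, 21, 40, 29], [38, 28, 10, 37, 27, 41], [15, -192, -138, -95, -519, -19, -23, -55, -2, -70, 54, 33, -77, 110, 146, 14, 5, -1, -18, -38, 16, -36, -7, -14, 1, -1, -5, 0, 5, 9, 2]⟩) (.leaf ⟨6, 6, true, [38, 23, 36, 22, 42, 41], [6, 21, 40, 26, 30, 28], [-16, 196, 139, 94, 520, 19, 23, 56, 2, 70, -54, -34, 75, -110, -147, -14, -5, 1, 18, 38, -16, 36, 7, 14, -1, 1, 5, 0, -5, -9, -2]⟩)) (.node 1 (.leaf ⟨6, 6, true, [40, 33, 40, 26, 22, 16], [27, 0, 30, 13, 41, 26, 8], [17, 66, -8, 39, 26, 28, -14, -11, -4, -8, 25, -5, 13, -13, 3, 2, 0, 7, 6, -1, 3, -8, -1, 4, 1, 0, 0, 0, -4, 2]⟩) (.leaf ⟨6, 6, true, [28, 24, 38, 34, 30, 12], [13, 21, 34, 25, 38, 26], [68, -87, -145, -7, -330, 18, -16, -59, -8, -23,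 59, 9, -80, 59, 103, 10, 7, -1, -8, -26, 12, -30, -4, -11, 1, -2, -1, 0, 2, 6, 1]⟩))) (.node 2 (.node 1 (.leaf ⟨6, 6, true, [23, 0, 34, 19, 0, 39, 24], [38, 22, 30, 19, 34, 42], [-69, 90, 146, 6, 331, -18, 16, 60, 8, 23, -59, -10, 80, -59, -104, -10, -7, 1, 8, 26, -12, 30, 4, 11, -1, 2, 1, 0, -2, -6, -1]⟩) (.leaf ⟨6, 6, true, [0, 33, 13, 2, 39, 28], [34, 34, 6, 25, 39, 43], [74, 236, -56, 207, 144, 103, -17, 2, -15, 33, 30, -17, 151, -46, -12, 5, 12, 14, 19, 6, 5, -8, -2, 12, -3, 5, 0, 0, -14, 4, -1]⟩)) (.node 1 (.leaf ⟨6, 6, true, [10, 24, 43, 25, 27, 8], [41, 21, 38, 25, 34, 26], [42, -115, -170, 8, -382, -3, -28, -69, -22, -34, 65, 10, -59, 77, 107, 11, -7, 1, -18, -35, 15, -26, 1, -15, -1, -7, -1, 0, 6, 12, 1]⟩) (.leaf ⟨6, 6, true, [30, 42, 32, 41, 16, 12], [14, 21, 10, 36, 30, 42],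 [53, -1, -46, 48, -37, 16, -9, -9, -12, 12, 24, 0, -16, -5, -7, -1, 0, -2, -2, -1, 1, -7, 1, 0, 0, 1, 4, 0, -1, 2, 2]⟩))))) (.node 7 (.node 3 (.node 1 (.leaf ⟨6, 6, true, [36, 0, 29, 41, 39, 41, 22], [29, 40, 29, 11, 41, 10], [71, 189, -130, 220, -8, 116, -44, -19, -37, 16, 55, -4, 103, -19, 78, 11, 11, 16, 17, -7, 12, -42, -6, 5, 1, -1, -5, 0, -13, 8]⟩) (.node 1 (.leaf ⟨6, 6, true, [19, 21, 27, 38, 42], [20, 41, 25, 37, 13, 22], [5, 72, 69, 24, 148, 22, 11, 32, 14, -16, 22, -10, 75, -34, -11, 4, 0, 7, 0, 6, 0, 8, 2, 6, 1, 4, -4, 0, -6, -1, -2]⟩) (.leaf ⟨6, 6, true, [41, 4, 19, 41, 24, 43], [2, 42, 37, 30, 26, 10], [-6, -70, -68, -25, -147, -22, -11, -31, -14, 16, -22, 9, -73, 34, 10, -4, 0, -7, 0, -6, 0, -8, -2, -6, -1, -4, 4, 0, 6, 1, 2]⟩))) (.node 2 (.node 1 (.leaf ⟨6, 6, true, [14,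 2, 28, 35, 30, 28, 20], [34, 31, 41, 39, 26, 28], [71, 59, -20, 81, -14, 54, -15, -13, -15, -7, 74, -11, 25, -7, 16, 7, 2, 3, 4, -7, 7, -20, -1, 1, 1, 1, 1, 0, -5, 6, 2]⟩) (.leaf ⟨6, 6, true, [29, 2, 12, 23, 4, 35, 26], [23, 39, 19, 27, 41, 30], [-70, -59, 20, -81, 14, -54, 15, 13, 15, 7, -74, 11, -23, 7, -17, -7, -2, -3, -4, 7, -7, 20, 1, -1, -1, -1, -1, 0, 5, -6, -2]⟩)) (.node 1 (.leaf ⟨6, 6, true, [28, 34, 34, 27, 22, 21], [2, 11, 42, 27, 39, 16], [-55, 86, 130, 11, 287, -13, 9, 49, 12, 13, -40, -10, 72, -51, -81, -7, -7, 3, 7, 21, -9, 24, 3, 10, 0, 0, 0, 0, -3, -4, -1]⟩) (.leaf ⟨6, 6, true, [38, 37, 37, 18, 31], [13, 23, 35, 14, 35, 29], [54, -84, -129, -12, -286, 13, -9, -48, -12, -13, 40, 9, -70, 51, 80, 7, 7, -3, -7, -21, 9, -24, -3, -10, 0, 0, 0, 0, 3, 4, 1]⟩)))) (.node 4 (.node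 2 (.node 1 (.leaf ⟨6, 6, true, [13, 35, 39, 11, 27, 19], [31, 2, 27, 24, 36, 25, 20], [43, -402, -174, -216, -677, -63, 26, -99, 29, -33, 67, 38, -204, 140, 175, 17, 3, -12, -28, -43, 13, -37, -10, -28, 1, 0, -7, 0, 18, 8, 1]⟩) (.leaf ⟨6, 6, true, [36, 42, 31, 38, 29, 16], [11, 24, 31, 36, 28, 6], [-42, 404, 174, 216, 677, 63, -26, 99, -29, 33, -67, -38, 202, -140, -176, -17, -3, 12, 28, 43, -13, 37, 10, 28, -1, 0, 7, 0, -18, -8, -1]⟩)) (.node 1 (.leaf ⟨6, 6, true, [38, 0, 20, 20, 41, 25, 28], [20, 2, 22, 37, 13, 25, 26], [-6, -81, -1, -61, -137, -39, 1, -14, 14, -22, 8, 7, -50, 19, 21, -1, -6, 0, -9, -11, 2, 0, 0, -7, 2, -2, 1, 0, 4, 4]⟩) (.leaf ⟨6, 6, true, [6, 23, 30, 39, 20, 33], [27, 13, 22, 6, 38, 41, 18], [5, 83, 2, 60, 138, 39, -1, 15, -14, 22, -8, -8, 52, -19, -22, 1, 6, 0, 9,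 11, -2, 0, 0, 7, -2, 2, -1, 0, -4, -4]⟩))) (.node 2 (.node 1 (.leaf ⟨6, 6, true, [42, 13, 20, 10, 38, 33], [31, 6, 29, 41, 18, 18, 27], [-44, 89, 100, 6, -40, -6, 0, 4, 17, -67, 59, 8, 56, -3, -13, 9, -13, 6, 1, -11, 5, 9, 4, -1, -1, 0, 1, 0, -4, 5, -3]⟩) (.leaf ⟨6, 6, true, [22, 13, 38, 37, 39, 27], [34, 4, 28, 27, 40, 25, 13], [45, -89, -100, -6, 40, 6, 0, -4, -17, 67, -59, -8, -54, 3, 12, -9, 13, -6, -1, 11, -5, -9, -4, 1, 1, 0, -1, 0, 4, -5, 3]⟩)) (.node 1 (.leaf ⟨6, 6, true, [38, 0, 34, 32, 42, 39, 8], [28, 0, 42, 24, 37, 26, 29], [66, -7, -90, 0, -257, 38, -29, -46, 8, -14, 69, 12, -58, 25, 71, 10, 3, 6, -2, -22, 12, -23, -1, -5, 3, -3, 0, 0, -5, 9, -1]⟩) (.leaf ⟨6, 6, true, [13, 30, 42, 20, 24, 6], [12, 35, 10, 31, 27, 6], [-43, 280, 271, 75, 781, 28, 42, 105, 28, 84, -83, -47,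 112, -166, -207, -19, 2, 2, 32, 61, -25, 49, 4, 25, 1, 7, 5, 0, -11, -18, -3]⟩)))))) (.node 15 (.node 7 (.node 3 (.node 1 (.leaf ⟨6, 6, true, [12, 0, 29, 16, 41, 31, 21], [13, 43, 26, 39, 22, 19], [42, -277, -270, -76, -780, -28, -42, -104, -28, -84, 83, 46, -112, 166, 206, 19, -2, -2, -32, -61, 25, -49, -4, -25, -1, -7, -5, 0, 11, 18, 3]⟩) (.node 1 (.leaf ⟨6, 6, true, [37, 28, 35, 23, 12, 29], [23, 0, 6, 24, 38, 33], [38, -79, -111, -2, -226, -5, -19, -47, -6, 7, 13, 3, -76, 46, 45, 3, 0, -3, -2, -17, 6, -17, -4, -7, 1, -4, 2, 0, 4, 4, 2]⟩) (.leaf ⟨6, 6, true, [0, 41, 6, 40, 38, 27], [21, 23, 33, 43, 37, 23], [-37, 81, 111, 2, 226, 5, 19, 47, 6, -7, -13, -3, 74, -46, -46, -3, 0, 3, 2, 17, -6, 17, 4, 7, -1, 4, -2, 0, -4, -4, -2]⟩))) (.node 2 (.node 1 (.leaf ⟨6, 6, true, [25, 27, 12, 39,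 37, 27], [32, 8, 21, 35, 25, 14], [3, -34, -40, -36, -417, -15, -12, -45, 6, -95, 103, 26, -41, 75, 84, 20, -12, 1, -11, -41, 17, -18, 0, -15, -1, -2, 1, 0, 3, 12, -3]⟩) (.leaf ⟨6, 6, true, [43, 40, 8, 34, 31, 19], [26, 8, 35, 22, 18, 20], [-4, 36, 41, 35, 418, 15, 12, 46, -6, 95, -103, -27, 43, -75, -85, -20, 12, -1, 11, 41, -17, 18, 0, 15, 1, 2, -1, 0, -3, -12, 3]⟩)) (.node 1 (.leaf ⟨6, 6, true, [21, 35, 13, 19, 10, 25], [35, 28, 42, 33, 2, 41], [27, -24, -1, -28, -175, 21, 5, -36, -11, -68, 67, 8, 2, 47, 57, 13, 3, 1, -8, -25, 12, -13, 0, -4, 4, 2, -1, 0, -1, 3, -2]⟩) (.leaf ⟨6, 6, true, [21, 35, 11, 18, 10, 22], [12, 22, 6, 27, 36, 20], [-28, 26, 2, 27, 176, -21, -5, 37, 11, 68, -67, -9, 0, -47, -58, -13, -3, -1, 8, 25, -12, 13, 0, 4, -4, -2, 1, 0, 1, -3, 2]⟩)))) (.node 4 (.node 2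 (.node 1 (.leaf ⟨6, 6, true, [11, 24, 18, 42, 31, 19], [12, 0, 42, 29, 18, 36, 26], [-30, 8, 25, 0, 17, 0, 11, 1, -3, -11, 50, 13, 20, -14, 49, 4, -5, 3, -4, -7, 4, -13, -1, -2, 1, 0, -5, 0, -3, 2, -1]⟩) (.leaf ⟨6, 6, true, [27, 2, 13, 28, 43, 30, 25], [8, 23, 13, 38, 24, 31], [29, -5, -24, -1, -16, 0, -11, 0, 3, 11, -50, -14, -20, 14, -50, -4, 5, -3, 4, 7, -4, 13, 1, 2, -1, 0, 5, 0, 3, -2, 1]⟩)) (.node 1 (.leaf ⟨6, 6, true, [22, 10, 37, 40, 13, 26], [22, 10, 12, 29, 43, 26, 10], [47, 155, 16, 175, 441, 17, -29, 44, -40, 107, -66, -54, 32, -93, -90, -23, -3, 3, 21, 40, -15, 5, -2, 17, -1, 3, 3, 0, -15, -8, 5]⟩) (.leaf ⟨6, 6, true, [12, 4, 22, 6, 38, 26, 26], [27, 34, 10, 31, 20, 29], [-46, -153, -16, -175, -441, -17, 29, -44, 40, -107, 66, 54, -34, 93, 89, 23, 3, -3, -21, -40, 15, -5,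 2, -17, 1, -3, -3, 0, 15, 8, -5]⟩))) (.node 2 (.node 1 (.leaf ⟨6, 6, true, [36, 12, 26, 23, 41, 0], [30, 0, 28, 39, 22, 14, 18], [20, -41, -43, -24, -128, -1, -1, -10, 2, -12, 5, 2, -26, 28, 36, 6, 1, -1, -3, -8, 4, -10, -3, -3, 2, 2, -3, 0, 0, 1, -1]⟩) (.leaf ⟨6, 6, true, [0, 41, 31, 37, 19, 27], [39, 31, 28, 27, 37, 10], [-21, 45, 44, 23, 129, 1, 1, 11, -2, 12, -5, -3, 24, -28, -37, -6, -1, 1, 3, 8, -4, 10, 3, 3, -2, -2, 3, 0, 0, -1, 1]⟩)) (.node 1 (.leaf ⟨6, 6, true, [34, 25, 35, 39, 29, 19], [28, 0, 31, 25, 39, 39, 13], [25, -96, -101, -23, -248, 4, -5, -42, 15, -20, 58, 3, -19, 50, 89, 13, 1, -1, -11, -24, 11, -23, -4, -8, -1, 2, -4, 0, 1, 8, -1]⟩) (.leaf ⟨6, 6, true, [36, 26, 22, 36, 24, 11], [6, 4, 26, 2, 28, 24, 6], [-26, 98, 102, 22, 249, -4, 5, 43, -15, 20, -58, -4, 21, -50,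 -90, -13, -1, 1, 11, 24, -11, 23, 4, 8, 1, -2, 4, 0, -1, -8, 1]⟩))))) (.node 8 (.node 4 (.node 2 (.node 1 (.leaf ⟨6, 6, true, [27, 0, 12, 43, 24, 14, 8], [13, 24, 40, 29, 38, 38], [29, 79, 22, 35, -17, 35, -14, -11, 18, -23, 75, -11, 18, -20, 28, 8, -5, 11, -1, -10, 8, -12, 2, 1, 3, 1, -1, 0, -8, 9, -4]⟩) (.leaf ⟨6, 6, true, [4, 34, 40, 40, 18, 21], [19, 22, 14, 38, 26, 4], [-28, -79, -22, -35, 17, -35, 14, 11, -18, 23, -75, 11, -16, 20, -29, -8, 5, -11, 1, 10, -8, 12, -2, -1, -3, -1, 1, 0, 8, -9, 4]⟩)) (.node 1 (.leaf ⟨6, 6, true, [38, 34, 4, 42, 24, 33], [41, 31, 24, 34, 39, 29], [22, 41, -7, 30, -77, 20, -15, -21, 13, -37, 28, 11, -3, -14, 38, 0, 6, 11, 8, -6, 4, -18, -3, -1, 0, -4, 4, 0, -2, 6, -1]⟩) (.leaf ⟨6, 6, true, [35, 2, 13, 21, 36, 31, 24], [19, 36, 23, 30, 43, 10], [-23,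 -39, 8, -31, 78, -20, 15, 22, -13, 37, -28, -12, 5, 14, -39, 0, -6, -11, -8, 6, -4, 18, 3, 1, 0, 4, -4, 0, 2, -6, 1]⟩))) (.node 2 (.node 1 (.leaf ⟨6, 6, true, [28, 21, 35, 22, 24, 6], [19, 19, 34, 12, 43, 23], [-15, 276, 61, 189, 367, 81, -12, 54, -19, 24, 29, -29, 161, -75, -33, -1, -4, 15, 16, 17, 0, -11, 1, 16, 0, 4, -3, 0, -16, 2, 1]⟩) (.leaf ⟨6, 6, true, [4, 2, 18, 29, 36, 24, 14], [32, 24, 43, 29, 26, 14], [14, -272, -60, -190, -366, -81, 12, -53, 19, -24, -29, 28, -163, 75, 32, 1, 4, -15, -16, -17, 0, 11, -1, -16, 0, -4, 3, 0, 16, -2, -1]⟩)) (.node 1 (.leaf ⟨6, 6, true, [23, 36, 40, 23, 13, 38], [6, 24, 20, 31, 40, 42], [54, 93, -105, 135, 33, 54, -31, 6, -8, 32, 2, -29, 56, -12, 10, 4, 1, 9, 10, 0, 4, -12, -2, 5, 2, 1, -1, 0, -9, 1, 1]⟩) (.leaf ⟨6, 6, true, [27, 4, 8, 2, 24, 35,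 29], [14, 28, 33, 41, 27, 34], [-55, -90, 106, -136, -32, -54, 31, -5, 8, -32, -2, 28, -56, 12, -11, -4, -1, -9, -10, 0, -4, 12, 2, -5, -2, -1, 1, 0, 9, -1, -1]⟩)))) (.node 4 (.node 2 (.node 1 (.leaf ⟨6, 6, true, [2, 13, 27, 32, 11, 6], [26, 22, 33, 6, 39, 23], [47, -16, -118, 62, -25, 24, -16, -9, -11, 57, -7, -11, -3, 10, 33, 0, 4, 2, 3, -2, 1, -14, -3, -3, 2, -2, -1, 0, -2, 0, 4]⟩) (.leaf ⟨6, 6, true, [34, 26, 31, 41, 29, 19], [6, 10, 20, 20, 32, 2], [-48, 19, 119, -63, 26, -24, 16, 10, 11, -57, 7, 10, 3, -10, -34, 0, -4, -2, -3, 2, -1, 14, 3, 3, -2, 2, 1, 0, 2, 0, -4]⟩)) (.node 1 (.leaf ⟨6, 6, true, [13, 41, 21, 40, 36, 41], [29, 35, 26, 33, 37, 30], [31, -52, -8, -29, -106, 6, 22, -8, 15, -16, 17, 9, -5, 30, 10, 8, 8, -4, -8, -13, 5, -3, -1, -1, 0, 5, -1, 0, 4, 5, 1]⟩) (.leaf ⟨6,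 6, true, [36, 27, 37, 11, 26], [43, 35, 23, 35, 37, 24], [-32, 56, 9, 28, 107, -6, -22, 9, -15, 16, -17, -10, 3, -30, -11, -8, -8, 4, 8, 13, -5, 3, 1, 1, 0, -5, 1, 0, -4, -5, -1]⟩))) (.node 2 (.node 1 (.leaf ⟨6, 6, true, [36, 2, 21, 38, 10, 26, 26], [30, 34, 37, 40, 28, 24], [-14, -119, -6, -67, -66, -24, 32, -15, 3, 11, 7, 4, -31, 23, 16, 2, 2, -8, -5, -5, 0, -2, -3, -5, -1, 0, -2, 0, 6, 1, 1]⟩) (.leaf ⟨6, 6, true, [29, 10, 41, 29, 42, 12, 28], [42, 36, 33, 13, 19], [30, 216, 27, 129, 146, 85, -28, -9, -9, -24, 59, -16, 90, -55, 8, 5, 6, 19, 20, 3, 6, -17, -4, 13, 0, -1, 3, 0, -15, 4, -1]⟩)) (.node 1 (.leaf ⟨6, 6, true, [10, 42, 19, 21], [2, 0, 18, 25, 31, 40, 25], [3, -39, -28, -18, -55, 17, 2, -10, 12, -2, 27, -1, -13, 17, 43, 6, 5, 3, 1, -8, 4, -4, -1, -5, 1, 0, -4, 0, -1, -1, -1]⟩)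 (.leaf ⟨6, 6, true, [43, 0, 16, 32, 37, 28, 14], [19, 21, 39, 10], [-2, 41, 28, 18, 55, -17, -2, 10, -12, 2, -27, 1, 11, -17, -44, -6, -5, -3, -1, 8, -4, 4, 1, 5, -1, 0, 4, 0, 1, 1, 1]⟩)))))))
noncomputable def dF1701 : BT Fct := (.node 30 (.node 15 (.node 7 (.node 3 (.node 1 (.leaf ⟨6, 6, true, [34, 0, 41, 36, 19, 2, 14], [21, 8, 37, 33, 28, 2, 18], [-87, -282, -23, -234, -269, -127, 28, -18, 15, -11, -64, 22, -153, 81, 24, -3, -14, -17, -28, -14, -3, 21, 2, -18, 1, 0, -3, 0, 17, -4, -2]⟩) (.node 1 (.leaf ⟨6, 6, true, [33, 0, 21, 39, 30, 39, 8], [6, 16, 32, 26, 11, 39], [-9, -257, -36, -207, -376, -74, 16, -45, 15, -28, 48, 19, -186, 82, 64, 6, -11, -14, -26, -27, 7, -7, 0, -20, 1, -1, -2, 0, 13, 8, -1]⟩) (.leaf ⟨6, 6, true, [19, 2, 23, 30, 35, 29], [30, 32, 27, 36, 21, 34], [24, -121,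 -71, -50, -265, -15, 28, -40, -2, -11, 24, 34, -38, 44, 61, 2, 6, -4, -9, -21, 7, -15, -3, -11, -1, 0, 1, 0, 8, 6]⟩))) (.node 2 (.node 1 (.leaf ⟨6, 6, true, [19, 8, 39, 26, 37, 28, 13], [42, 2, 36, 23, 43, 19, 28], [-23, 121, 71, 50, 265, 15, -28, 40, 2, 11, -24, -34, 40, -44, -62, -2, -6, 4, 9, 21, -7, 15, 3, 11, 1, 0, -1, 0, -8, -6]⟩) (.leaf ⟨6, 6, true, [21, 22, 10, 41, 23, 24], [8, 36, 25, 36, 2, 22], [-39, -165, 84, -189, -269, -68, 29, -33, 12, -103, 42, 34, -100, 53, 35, 6, -4, -11, -20, -20, 5, -1, 1, -12, -2, 2, 1, 0, 13, 5, -4]⟩)) (.node 1 (.leaf ⟨5, 6, true, [12, 28, 36, 26, 11, 16], [24, 34, 41, 12, 16, 29], [47, 110, -18, 108, 78, 43, 4, -4, 1, 24, 26, -2, 73, -30, 17, -1, 8, 9, 12, 3, 2, -9, -3, 3, 0, -1, 0, 0, -7, 1]⟩) (.leaf ⟨6, 5, true, [30, 0, 34, 27, 21, 6, 30], [38,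 28, 0, 37, 16, 30], [-46, -108, 18, -108, -78, -43, -4, 4, -1, -24, -26, 2, -75, 30, -18, 1, -8, -9, -12, -3, -2, 9, 3, -3, 0, 1, 0, 0, 7, -1]⟩)))) (.node 4 (.node 2 (.node 1 (.leaf ⟨6, 6, true, [24, 38, 31, 11, 20, 16], [27, 4, 13, 41, 31, 26, 8], [35, 72, -43, 72, 33, 49, -18, 2, -10, 8, 17, -20, 53, -5, -2, 7, 1, 8, 9, -3, 4, -6, -1, 2, 0, 5, -1, 0, -4, 0, 1]⟩) (.leaf ⟨6, 6, true, [11, 28, 42, 32, 31, 12], [40, 39, 18, 27, 16, 2], [10, -115, -33, -134, -190, -13, -2, -23, -16, -10, -8, 18, -107, 46, 44, -2, 17, -9, -11, -8, 2, -12, -4, -4, 0, 4, -1, 0, 8, -1, 2]⟩)) (.node 1 (.leaf ⟨6, 6, true, [43, 24, 34, 13, 27], [4, 33, 41, 32, 21, 22], [-11, 118, 34, 133, 191, 13, 2, 24, 16, 10, 8, -19, 107, -46, -45, 2, -17, 9, 11, 8, -2, 12, 4, 4, 0, -4, 1, 0, -8, 1, -2]⟩) (.leaf ⟨6, 6, true,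 [10, 0, 20, 8, 41, 22, 18], [20, 28, 11, 34, 29, 19], [27, -320, -157, -142, -463, -72, -4, -51, 13, -30, 28, 18, -169, 103, 122, 9, -7, -12, -27, -32, 8, -25, -2, -22, 2, -3, -4, 0, 15, 3, 1]⟩))) (.node 2 (.node 1 (.leaf ⟨6, 6, true, [39, 2, 34, 19, 13, 28, 6], [19, 2, 42, 22, 2, 23, 16], [-28, 324, 158, 141, 464, 72, 4, 52, -13, 30, -28, -19, 167, -103, -123, -9, 7, 12, 27, 32, -8, 25, 2, 22, -2, 3, 4, 0, -15, -3, -1]⟩) (.leaf ⟨6, 6, true, [12, 18, 34, 29, 16, 18], [13, 4, 42, 39, 12, 35, 25], [12, 173, 17, 73, 29, 88, -39, -33, -30, -49, 79, -5, 49, -25, 48, 6, 10, 17, 16, -6, 10, -34, -6, 10, -1, 0, 4, 0, -14, 7]⟩)) (.node 1 (.leaf ⟨6, 6, true, [21, 6, 42, 29, 29, 42], [11, 13, 38, 34, 26, 4], [1, 98, 28, 68, 99, 20, 0, 15, 2, -13, 30, -11, 50, -31, -10, 1, -3, 6, 6, 2, 2, -3, 0,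 4, 1, 0, 1, 0, -7, 3, -1]⟩) (.leaf ⟨6, 6, true, [29, 37, 35, 42, 19, 24], [21, 31, 20, 39, 29, 16], [-2, -96, -27, -69, -98, -20, 0, -14, -2, 13, -30, 10, -48, 31, 9, -1, 3, -6, -6, -2, -2, 3, 0, -4, -1, 0, -1, 0, 7, -3, 1]⟩))))) (.node 7 (.node 3 (.node 1 (.leaf ⟨6, 6, true, [4, 36, 26, 41, 38, 23], [25, 43, 22, 20, 14, 39], [-29, 248, 125, 98, 345, 59, -11, 28, -26, 15, 8, -10, 106, -79, -92, -9, 3, 8, 16, 22, -5, 14, 2, 17, -4, 3, 7, 0, -12, 1]⟩) (.node 1 (.leaf ⟨6, 6, true, [38, 29, 6, 27, 41, 25], [6, 11, 27, 28, 37, 4], [28, -245, -124, -99, -344, -59, 11, -27, 26, -15, -8, 9, -106, 79, 91, 9, -3, -8, -16, -22, 5, -14, -2, -17, 4, -3, -7, 0, 12, -1]⟩) (.leaf ⟨6, 5, true, [32, 23, 38, 41, 8, 18], [33, 0, 28, 38, 31, 32, 25], [8, -6, -33, 12, -52, 7, -11, -11, 0, -16, 15, 0, 2, 6,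 24, 2, 1, 1, 1, -5, 3, -10, -2, -1, 0, -1, 1, 0, -2, 1, 1]⟩))) (.node 2 (.node 1 (.leaf ⟨5, 6, true, [26, 19, 43, 20, 37, 28], [41, 38, 11, 35, 29, 8], [-3, 9, 26, -7, 47, -7, 10, 12, 1, 18, -16, -2, -2, -6, -25, -2, -1, -1, -1, 5, -3, 10, 2, 1, 0, 1, -1, 0, 2, -1, -1]⟩) (.leaf ⟨6, 6, true, [43, 37, 6, 20, 18, 30], [36, 26, 31, 41, 16, 41], [-22, -108, -27, -51, -105, -39, 23, -11, -11, -12, -7, 6, -45, 39, 21, 0, -1, -8, -7, -7, 0, 0, -3, -7, -1, -2, 0, 0, 7, 0, 1]⟩)) (.node 1 (.leaf ⟨6, 6, true, [24, 4, 41, 25, 40, 23, 20], [10, 26, 39, 11, 20, 13], [23, 108, 27, 51, 105, 39, -23, 11, 11, 12, 7, -6, 47, -39, -22, 0, 1, 8, 7, 7, 0, 0, 3, 7, 1, 2, 0, 0, -7, 0, -1]⟩) (.leaf ⟨6, 6, true, [21, 32, 41, 10, 16, 31], [4, 2, 26, 29, 19, 2], [8, 150, 36, 85, 127, 56, -13, 6, -3, -15, 33, -15,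 76, -42, 5, 3, 6, 12, 14, 4, 3, -8, -2, 9, -1, -1, 2, 0, -12, 2, -1]⟩)))) (.node 4 (.node 2 (.node 1 (.leaf ⟨6, 6, true, [6, 22, 34, 29, 27, 35], [19, 0, 27, 42, 30, 4, 26], [13, -4, 27, -23, -94, 14, 4, -26, -6, -50, 53, 11, -9, 5, 47, 6, 6, 3, 0, -11, 6, -17, -3, -2, -1, -1, 3, 0, -1, 4, -1]⟩) (.leaf ⟨6, 6, true, [19, 2, 43, 6, 38, 11], [18, 2, 22, 38, 12, 24], [-14, 7, -26, 22, 95, -14, -4, 27, 6, 50, -53, -12, 9, -5, -48, -6, -6, -3, 0, 11, -6, 17, 3, 2, 1, 1, -3, 0, 1, -4, 1]⟩)) (.node 1 (.leaf ⟨6, 6, true, [20, 35, 2, 30, 38, 21], [40, 21, 37, 21, 29, 20], [23, -7, -29, 21, -43, 13, -14, -11, -2, -1, 21, -3, 5, 9, 13, 2, 0, 1, -1, -7, 3, -4, -1, 0, 0, -1, 1, 0, -1, 2, 1]⟩) (.leaf ⟨6, 6, true, [21, 14, 23, 38, 38, 23], [8, 36, 43, 33, 33, 21], [-7, -115, -39, -61, -101, -30, 9, -16,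 3, 19, -14, 8, -52, 31, 21, 0, -3, -5, -10, -5, -1, 2, 0, -6, 0, 0, -3, 0, 6]⟩))) (.node 2 (.node 1 (.leaf ⟨6, 6, true, [18, 28, 32, 43, 13, 37], [21, 22, 38, 13, 22, 13], [6, 118, 40, 60, 102, 30, -9, 17, -3, -19, 14, -9, 52, -31, -22, 0, 3, 5, 10, 5, 1, -2, 0, 6, 0, 0, 3, 0, -6]⟩) (.leaf ⟨6, 6, true, [33, 0, 41, 22, 8, 40, 20], [16, 41, 35, 19, 43, 26], [-37, -68, 30, -75, -74, -38, 14, -10, -8, -25, 4, 17, -42, 17, 16, -1, -4, -5, -9, -6, 0, 2, 2, -6, -1, -4, 0, 0, 7]⟩)) (.node 1 (.leaf ⟨6, 6, true, [42, 20, 24, 13, 42, 32, 26], [25, 0, 22, 30, 41, 24, 29], [36, 70, -29, 74, 75, 38, -14, 11, 8, 25, -4, -18, 44, -17, -17, 1, 4, 5, 9, 6, 0, -2, -2, 6, 1, 4, 0, 0, -7]⟩) (.leaf ⟨6, 6, true, [31, 43, 33, 13, 34, 32], [33, 31, 34, 22, 31, 13], [-45, -205, -46, -147, -233, -49, -17, -18,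 -19, -25, -21, 15, -109, 68, 31, 1, -6, -13, -19, -11, 0, -3, 1, -10, 0, 1, 1, 0, 10, -3, 1]⟩)))))) (.node 15 (.node 7 (.node 3 (.node 1 (.leaf ⟨6, 6, true, [20, 18, 10, 42, 35, 33], [33, 18, 10, 41, 22, 26], [44, 208, 47, 146, 234, 49, 17, 19, 19, 25, 21, -16, 109, -68, -32, -1, 6, 13, 19, 11, 0, 3, -1, 10, 0, -1, -1, 0, -10, 3, -1]⟩) (.node 1 (.leaf ⟨6, 6, true, [21, 19, 34, 40, 20, 30], [31, 2, 35, 22, 43, 27, 22], [20, 224, 41, 156, 278, 73, -13, 27, 0, 20, -8, -9, 128, -76, -37, -4, 12, 14, 24, 21, -4, -4, -1, 16, -2, -1, 3, 0, -12, -2]⟩) (.leaf ⟨6, 6, true, [33, 6, 16, 40, 35, 25, 30], [0, 32, 35, 28, 22, 24], [16, 370, 42, 246, 458, 110, -39, 46, -35, 59, -7, -40, 181, -107, -104, -8, 4, 17, 29, 29, -4, 9, 0, 25, -2, 4, 6, 0, -22, 0, 1]⟩))) (.node 2 (.node 1 (.leaf ⟨6, 6, true,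 [24, 43, 12, 19, 34, 23], [16, 12, 24, 35, 30, 20], [-15, -368, -42, -246, -458, -110, 39, -46, 35, -59, 7, 40, -183, 107, 103, 8, -4, -17, -29, -29, 4, -9, 0, -25, 2, -4, -6, 0, 22, 0, -1]⟩) (.leaf ⟨6, 6, true, [41, 0, 40, 22, 35, 18, 16], [37, 24, 34, 38, 13], [-52, -149, -49, -135, -192, -32, -25, -18, -34, -12, -9, 9, -120, 50, 51, -4, 0, -9, -14, -8, 0, -14, 0, -7, 0, 0, 3, 0, 5, -4, 1]⟩)) (.node 1 (.leaf ⟨6, 6, true, [12, 23, 39, 24, 13, 23], [24, 36, 19, 38, 21, 40], [53, 149, 49, 135, 192, 32, 25, 18, 34, 12, 9, -9, 122, -50, -52, 4, 0, 9, 14, 8, 0, 14, 0, 7, 0, 0, -3, 0, -5, 4, -1]⟩) (.leaf ⟨6, 6, true, [10, 18, 29, 36, 22, 28], [22, 25, 6, 39, 39, 40], [-59, 54, 106, -45, 147, -14, 6, 13, -27, 6, -1, -2, -3, -19, -78, -8, -9, -6, -5, 8, -4, 25, 4, 3, -2, 4, 4, 0, -1, 1]⟩))))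 (.node 4 (.node 2 (.node 1 (.leaf ⟨6, 6, true, [6, 39, 35, 21, 12, 21], [2, 34, 24, 38, 21, 13], [-21, -226, -61, -151, -398, -49, 25, -54, -11, -39, 18, 46, -131, 80, 89, 2, 6, -13, -18, -26, 6, -14, -5, -16, -4, -4, 1, 0, 14, 5, 1]⟩) (.leaf ⟨6, 6, true, [14, 31, 26, 34, 28, 28], [14, 42, 22, 34, 21, 31], [20, 229, 62, 150, 399, 49, -25, 55, 11, 39, -18, -47, 131, -80, -90, -2, -6, 13, 18, 26, -6, 14, 5, 16, 4, 4, -1, 0, -14, -5, -1]⟩)) (.node 1 (.leaf ⟨6, 6, true, [6, 30, 18, 37, 31], [14, 0, 25, 21, 40, 22, 8], [-78, -246, 34, -209, -159, -111, 37, -4, 0, 2, -38, 14, -125, 65, -7, -4, -16, -20, -29, -8, -5, 24, 5, -14, 0, 1, -3, 0, 16, -3, -1]⟩) (.leaf ⟨6, 6, true, [20, 0, 14, 38, 19, 43], [6, 11, 41, 19, 27, 28], [79, 246, -34, 209, 159, 111, -37, 4, 0, -2, 38, -14, 127, -65, 6, 4,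 16, 20, 29, 8, 5, -24, -5, 14, 0, -1, 3, 0, -16, 3, 1]⟩))) (.node 2 (.node 1 (.leaf ⟨6, 6, true, [32, 6, 23, 30, 22, 40, 29], [27, 2, 14, 22, 29, 6, 28], [26, 393, 54, 273, 434, 119, -22, 39, -6, 33, 11, -25, 197, -126, -75, -5, 8, 23, 37, 31, -4, -1, 1, 25, -3, -3, 5, 0, -23, -1, 1]⟩) (.leaf ⟨6, 6, true, [6, 42, 30, 25, 6, 30], [40, 38, 19, 8, 42, 34], [-25, -391, -54, -273, -434, -119, 22, -39, 6, -33, -11, 25, -199, 126, 74, 5, -8, -23, -37, -31, 4, 1, -1, -25, 3, 3, -5, 0, 23, 1, -1]⟩)) (.node 1 (.leaf ⟨6, 6, true, [8, 28, 34, 16, 32, 0], [28, 40, 35, 27, 41], [-57, 314, 179, 109, 433, 49, -14, 47, -27, 7, -15, -14, 136, -101, -135, -14, -1, 9, 18, 31, -9, 24, 4, 22, -5, 2, 10, 0, -12]⟩) (.leaf ⟨6, 6, true, [11, 13, 21, 10, 39, 19], [24, 16, 41, 20, 16, 18], [46, 125, -28, 147, 228,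 68, -21, -8, -7, 39, -2, -32, 85, -25, -32, 3, 0, 7, 16, 12, -2, 6, 1, 8, -5, -6, -2, 0, -5, -1, 3]⟩))))) (.node 8 (.node 4 (.node 2 (.node 1 (.leaf ⟨6, 6, true, [21, 11, 38, 20, 33, 30], [6, 2, 18, 41, 18, 23, 11], [-47, -123, 29, -148, -227, -68, 21, 9, 7, -39, 2, 31, -83, 25, 31, -3, 0, -7, -16, -12, 2, -6, -1, -8, 5, 6, 2, 0, 5, 1, -3]⟩) (.leaf ⟨6, 6, true, [35, 10, 19, 38, 10, 25, 23], [11, 16, 38, 18, 35], [19, -78, -60, -38, -191, -21, 7, -13, 2, -6, -26, 16, -37, 39, -3, 2, 2, -8, -8, -8, 1, 2, 2, -5, -2, 0, 1, 0, 9, 3]⟩)) (.node 1 (.leaf ⟨6, 6, true, [2, 26, 28, 30, 37, 0], [8, 11, 33, 25, 40, 27], [-20, 80, 61, 37, 192, 21, -7, 14, -2, 6, 26, -17, 39, -39, 2, -2, -2, 8, 8, 8, -1, -2, -2, 5, 2, 0, -1, 0, -9, -3]⟩) (.leaf ⟨6, 6, true, [6, 14, 26, 36, 34, 10], [34, 0, 36, 22, 40,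 31, 0], [-10, 60, 17, 22, 67, 16, -15, 11, -16, 2, -10, -1, 30, -11, -18, -2, 2, 1, 3, 5, -1, 2, 1, 5, -1, 2, 0, 0, -3, -1]⟩))) (.node 2 (.node 1 (.leaf ⟨6, 6, true, [25, 41, 18, 36, 25, 19], [41, 11, 27, 14, 6, 0], [11, -60, -17, -22, -67, -16, 15, -11, 16, -2, 10, 1, -28, 11, 17, 2, -2, -1, -3, -5, 1, -2, -1, -5, 1, -2, 0, 0, 3, 1]⟩) (.leaf ⟨6, 6, true, [18, 8, 6, 35, 19, 14], [16, 29, 10, 39, 28, 27], [-49, -118, 12, -110, -68, -64, 12, 3, -8, 7, -23, 2, -61, 35, -3, -2, -12, -11, -17, -5, -2, 15, 3, -7, 1, 0, -3, 0, 6, -2]⟩)) (.node 1 (.leaf ⟨6, 6, true, [2, 38, 42, 12, 28, 4], [26, 8, 30, 39, 34, 36, 19], [48, 121, -11, 109, 69, 64, -12, -2, 8, -7, 23, -3, 61, -35, 2, 2, 12, 11, 17, 5, 2, -15, -3, 7, -1, 0, 3, 0, -6, 2]⟩) (.leaf ⟨6, 6, true, [40, 31, 19, 10, 25, 2], [37, 39, 28,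 35, 35, 2], [15, -50, -56, -18, -86, -29, -6, -11, -13, 33, -15, -10, -42, 45, -11, 1, -10, -8, -14, -6, 1, 12, 4, -5, 2, 1, -2, 0, 0, 2, 1]⟩)))) (.node 4 (.node 2 (.node 1 (.leaf ⟨6, 6, true, [33, 36, 13, 21, 38], [2, 32, 41, 38, 43, 13], [-16, 52, 57, 17, 87, 29, 6, 12, 13, -33, 15, 9, 44, -45, 10, -1, 10, 8, 14, 6, -1, -12, -4, 5, -2, -1, 2, 0, 0, -2, -1]⟩) (.leaf ⟨6, 6, true, [38, 43, 41, 19, 39], [34, 25, 33, 38, 38, 13], [-33, 253, 133, 106, 475, 61, -28, 69, -6, 27, -30, -28, 114, -98, -80, -12, 4, 15, 24, 31, -9, 18, 4, 18, 2, 4, 0, 0, -17, -11, -1]⟩)) (.node 1 (.leaf ⟨6, 6, true, [6, 28, 23, 30, 40, 30], [41, 12, 35, 41, 39, 12], [32, -249, -132, -107, -474, -61, 28, -68, 6, -27, 30, 27, -116, 98, 79, 12, -4, -15, -24, -31, 9, -18, -4, -18, -2, -4, 0, 0, 17, 11, 1]⟩) (.leaf ⟨6,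 6, true, [8, 29, 6, 34, 24, 30], [0, 38, 35, 6, 32, 10], [-89, -131, 74, -145, -9, -61, 22, -1, -1, -12, -20, 19, -70, 10, 6, -8, -4, -8, -9, 4, -7, 8, 1, -6, -1, -3, 1, 0, 8, -5, -1]⟩))) (.node 2 (.node 1 (.leaf ⟨6, 6, true, [22, 22, 8, 41, 28, 11], [11, 40, 6, 39, 36], [1, -25, -17, -2, -3, -6, -5, -3, -11, 13, -21, 7, -12, 4, -4, -2, 2, -3, -1, 3, -2, 1, 0, 0, 0, 1, 0, 0, 1, -2]⟩) (.leaf ⟨6, 6, true, [41, 13, 4, 34, 0], [14, 25, 2, 24, 38, 11], [-2, 27, 18, 1, 4, 6, 5, 4, 11, -13, 21, -8, 14, -4, 3, 2, -2, 3, 1, -3, 2, -1, 0, 0, 0, -1, 0, 0, -1, 2]⟩)) (.node 1 (.leaf ⟨6, 6, true, [22, 14, 35, 21, 13, 4], [34, 2, 32, 12, 20, 36, 20], [-20, 78, 86, 28, 202, -22, 15, 29, 6, 1, -38, -19, 43, -33, -78, -9, -6, -1, 1, 17, -8, 23, 4, 7, 0, 2, 3, 0, -2, -2, -2]⟩) (.leaf ⟨6, 6, true, [32, 35,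 20, 4, 40, 20], [0, 12, 20, 34, 14, 23], [19, -76, -85, -29, -201, 22, -15, -28, -6, -1, 38, 18, -41, 33, 77, 9, 6, 1, -1, -17, 8, -23, -4, -7, 0, -2, -3, 0, 2, 2, 2]⟩)))))))
noncomputable def dF1762 : BT Fct := (.node 30 (.node 15 (.node 7 (.node 3 (.node 1 (.leaf ⟨6, 6, true, [32, 4, 27, 34, 24, 4, 26], [25, 18, 37, 16, 32, 39], [76, 134, -54, 175, 170, 79, -25, -19, 2, 36, 23, -26, 77, -21, -9, 6, 1, 11, 17, 7, 1, -4, 0, 7, -4, -6, -1, 0, -7, 2, 2]⟩) (.node 1 (.leaf ⟨6, 6, true, [12, 20, 29, 37, 20, 28], [27, 25, 35, 26, 33, 0], [-77, -132, 55, -176, -169, -79, 25, 20, -2, -36, -23, 25, -75, 21, 8, -6, -1, -11, -17, -7, -1, 4, 0, -7, 4, 6, 1, 0, 7, -2, -2]⟩) (.leaf ⟨6, 6, true, [12, 23, 40, 27, 13, 23], [40, 2, 20, 39, 12, 8, 28], [-75, -394, -42, -279, -362, -119, 30, -21, -23, -18,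 -41, 23, -175, 119, 30, 3, -16, -27, -35, -23, 0, 13, 2, -23, 1, 2, -5, 0, 22]⟩))) (.node 2 (.node 1 (.leaf ⟨6, 6, true, [4, 2, 38, 26, 43, 23, 18], [19, 27, 34, 23, 16, 12], [74, 398, 43, 278, 363, 119, -30, 22, 23, 18, 41, -24, 173, -119, -31, -3, 16, 27, 35, 23, 0, -13, -2, 23, -1, -2, 5, 0, -22]⟩) (.leaf ⟨6, 6, true, [12, 36, 32, 40, 6, 36], [23, 4, 36, 30, 10, 38, 27], [17, 139, 18, 95, 141, 42, -13, 19, 1, 13, 2, -10, 67, -35, -19, -1, 4, 8, 12, 8, 0, -1, 0, 8, -1, 0, 0, 0, -8, 1]⟩)) (.node 1 (.leaf ⟨6, 5, true, [23, 41, 23, 12, 19, 4], [8, 22, 40, 39, 28, 8], [47, 120, 16, 82, 216, 42, 3, 22, 20, 64, -12, -22, 58, -58, -62, -3, 6, 5, 20, 18, -5, 1, 1, 8, 1, 3, 0, 0, -5, -2, 1]⟩) (.leaf ⟨5, 6, true, [4, 35, 42, 40, 25, 27], [0, 18, 13, 22, 40, 22], [-47, -151, -28, -100, -257, -53,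 -2, -26, -18, -65, 10, 24, -75, 67, 66, 3, -7, -7, -23, -20, 5, -1, -1, -10, -1, -3, 0, 0, 7, 2, -1]⟩)))) (.node 4 (.node 2 (.node 1 (.leaf ⟨5, 6, true, [6, 16, 43, 39, 27], [19, 4, 37, 19, 22, 34, 16], [10, 29, -31, 39, 2, 22, -9, 4, -10, 18, -1, -4, 27, 0, 2, 2, 2, 1, 2, -1, 2, -7, -1, 3, -1, 2, -1, 0, -3, 3, 1]⟩) (.leaf ⟨6, 5, true, [20, 2, 18, 11, 37, 35, 14], [29, 21, 10, 31, 34], [-11, -25, 32, -40, -1, -22, 9, -3, 10, -18, 1, 3, -29, 0, -3, -2, -2, -1, -2, 1, -2, 7, 1, -3, 1, -2, 1, 0, 3, -3, -1]⟩)) (.node 1 (.leaf ⟨6, 6, true, [43, 6, 26, 31, 2, 43], [34, 10, 14, 25, 6, 19, 31], [-42, -43, 54, -72, -18, -16, 1, -2, -2, -32, 5, 8, -31, 8, 8, -1, -3, -1, -3, -2, 0, -4, 1, -2, 0, -1, 1, 0, 0, 2]⟩) (.leaf ⟨6, 6, true, [10, 20, 37, 24, 13, 34], [21, 42, 39, 23, 2, 25], [-40, -34, 76,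 -60, 36, -14, 38, -3, -1, -16, 7, 14, -19, 4, -11, -1, -1, -3, -1, 2, -2, 6, -1, 0, -3, -1, -1, 0, 3, 2]⟩))) (.node 2 (.node 1 (.leaf ⟨6, 6, true, [28, 36, 19, 21, 39, 21], [12, 32, 39, 42, 39, 20], [39, 37, -75, 59, -35, 14, -38, 4, 1, 16, -7, -15, 19, -4, 10, 1, 1, 3, 1, -2, 2, -6, 1, 0, 3, 1, 1, 0, -3, -2]⟩) (.leaf ⟨6, 6, true, [2, 39, 29, 23, 2, 18], [16, 41, 19, 41, 26, 30], [-40, 4, 21, -24, 11, -10, -10, 8, 3, -1, -21, 13, -11, -11, 2, -5, -2, 3, 4, 4, -2, -2, 0, -1, -1, -2, -1, 0, 0, 0, 1]⟩)) (.node 1 (.leaf ⟨6, 6, true, [34, 22, 43, 40, 36, 23], [22, 32, 16, 43, 6, 29], [39, -2, -20, 23, -10, 10, 10, -7, -3, 1, 21, -14, 13, 11, -3, 5, 2, -3, -4, -4, 2, 2, 0, 1, 1, 2, 1, 0, 0, 0, -1]⟩) (.leaf ⟨5, 6, true, [0, 36, 42, 38, 26, 29], [37, 21, 40, 12, 40, 30], [30, 211, 35, 132, 204,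 67, -13, 28, 0, 16, 13, -17, 106, -53, -31, 1, 6, 11, 18, 10, 1, -1, 1, 12, -1, 0, 0, 0, -12, 1]⟩))))) (.node 7 (.node 3 (.node 1 (.leaf ⟨6, 5, true, [21, 42, 41, 32, 24, 14], [2, 43, 26, 32, 39, 6], [-31, -209, -34, -133, -203, -67, 13, -27, 0, -16, -13, 16, -104, 53, 30, -1, -6, -11, -18, -10, -1, 1, -1, -12, 1, 0, 0, 0, 12, -1]⟩) (.node 1 (.leaf ⟨6, 5, true, [35, 0, 16, 25, 4, 38, 19], [6, 21, 39, 32, 16, 23], [-44, -46, 53, -58, 12, -21, 7, -1, -9, -15, -7, 11, -16, 3, 11, -3, -1, -2, -4, 2, -2, -1, -1, -2, -1, -1, 0, 0, 1, 1]⟩) (.leaf ⟨5, 6, true, [26, 34, 41, 14, 10, 28], [37, 34, 11, 19, 35, 39], [49, 49, -60, 63, -17, 21, -8, 2, 10, 17, 6, -13, 16, -3, -12, 3, 1, 2, 4, -2, 2, 1, 1, 2, 1, 1, 0, 0, -1, -1]⟩))) (.node 2 (.node 1 (.leaf ⟨6, 6, true, [41, 2, 21, 32, 28, 40, 28], [11,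 37, 29, 41, 35, 29], [-1, 135, 47, 72, 158, 43, -8, 18, -4, 3, 7, -9, 70, -36, -17, 0, 4, 8, 12, 8, 0, -1, -1, 8, -1, 0, 0, 0, -8, 1]⟩) (.leaf ⟨6, 6, true, [16, 40, 29, 35, 26], [12, 10, 24, 41, 28, 10], [-34, 356, 167, 175, 373, 58, -16, 66, 10, -7, 5, -30, 190, -93, -125, 1, -12, 15, 21, 19, -3, 30, 7, 19, -3, 4, 4, 0, -17, 0, -2]⟩)) (.node 1 (.leaf ⟨6, 6, true, [42, 4, 32, 40, 30, 38, 14], [40, 34, 41, 20, 0, 37], [-29, -57, 154, -115, 3, -39, 60, 30, 38, -57, 3, 17, 8, 18, -44, 9, -3, -2, -10, -7, 2, 34, 8, 0, 5, 1, -10, 0, 9, -1, -5]⟩) (.leaf ⟨6, 6, true, [12, 0, 35, 20, 40, 26, 19], [21, 6, 23, 16, 19, 37, 23], [-52, -96, 81, -133, -58, -31, 16, -18, 15, -41, 8, 24, -48, 12, -2, -1, -3, -6, -8, -4, -1, 6, 1, -5, -4, 0, 2, 0, 7, 3, -2]⟩)))) (.node 4 (.node 2 (.node 1 (.leaf ⟨6, 6,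 true, [31, 2, 21, 8, 34, 31, 28], [21, 2, 28, 34, 8, 29, 4], [53, 98, -81, 133, 58, 31, -16, 18, -15, 41, -8, -24, 46, -12, 1, 1, 3, 6, 8, 4, 1, -6, -1, 5, 4, 0, -2, 0, -7, -3, 2]⟩) (.leaf ⟨6, 5, true, [43, 22, 42, 27, 34, 13], [6, 31, 10, 23, 43], [1, -38, -15, -12, -146, -7, -12, -25, 6, -31, 37, 14, -30, 23, 53, 3, -2, 4, -7, -16, 6, -11, 1, -7, -1, -8, 1, 0, 6, 8, -2]⟩)) (.node 1 (.leaf ⟨5, 6, true, [23, 39, 6, 22, 33, 14], [31, 2, 29, 40, 16, 19], [6, 41, 3, 20, 140, 7, 10, 25, -4, 35, -39, -16, 30, -23, -54, -3, 2, -4, 7, 16, -6, 11, -1, 7, 1, 8, -1, 0, -6, -8, 2]⟩) (.leaf ⟨6, 6, true, [26, 39, 10, 19, 43, 29], [16, 25, 35, 10, 21, 10], [81, 480, 39, 358, 703, 148, -30, 84, -4, 123, -30, -64, 263, -172, -126, -10, 10, 28, 52, 50, -9, 0, 3, 32, 2, 6, -4, 0, -28, -8, 3]⟩))) (.node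 2 (.node 1 (.leaf ⟨6, 6, true, [4, 21, 41, 36, 10, 22], [39, 37, 40, 43, 28, 4], [-82, -477, -38, -359, -702, -148, 30, -83, 4, -123, 30, 63, -263, 172, 125, 10, -10, -28, -52, -50, 9, 0, -3, -32, -2, -6, 4, 0, 28, 8, -3]⟩) (.leaf ⟨6, 5, true, [12, 27, 6, 2, 27, 11], [41, 6, 8, 27, 28, 43], [-13, 196, 89, 90, 322, 42, -4, 63, -4, 47, -50, -34, 87, -68, -88, -6, 2, 7, 17, 29, -9, 20, 4, 16, -2, -1, 1, 0, -10, -7, 2]⟩)) (.node 1 (.leaf ⟨5, 6, true, [2, 10, 39, 31, 11, 23], [24, 0, 32, 40, 27, 29, 12], [12, -195, -84, -93, -321, -42, 5, -62, 3, -49, 51, 34, -87, 68, 87, 6, -2, -7, -17, -29, 9, -20, -4, -16, 2, 1, -1, 0, 10, 7, -2]⟩) (.leaf ⟨5, 6, true, [0, 38, 2, 34, 21, 4], [8, 40, 29, 21, 38, 12], [34, 286, 34, 213, 448, 83, -41, 50, -3, 61, -9, -53, 152, -87, -75, -1, -2, 17, 25, 28,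 -5, 5, 3, 19, 2, 3, -1, 0, -20, -4, 1]⟩)))))) (.node 15 (.node 7 (.node 3 (.node 1 (.leaf ⟨6, 5, true, [38, 41, 27, 40, 35, 26], [11, 19, 24, 34, 16], [-33, -286, -34, -213, -448, -83, 41, -50, 3, -61, 9, 53, -150, 87, 74, 1, 2, -17, -25, -28, 5, -5, -3, -19, -2, -3, 1, 0, 20, 4, -1]⟩) (.node 1 (.leaf ⟨6, 6, true, [20, 29, 41, 39, 2, 25], [16, 34, 18, 39, 24, 12], [0, 69, 24, 38, 75, 21, -4, 10, -1, -1, 3, -3, 36, -17, -7, 0, 2, 4, 6, 4, 0, -1, 0, 4, -1, 0, 0, 0, -5, 1]⟩) (.leaf ⟨5, 6, true, [4, 36, 29, 36, 25, 26], [2, 33, 34, 38, 31, 41], [-16, 66, 43, 11, 82, 19, -3, 6, -5, -12, 8, 3, 24, -14, -6, -1, 2, 3, 5, 4, 0, 0, 0, 4, -1, -2, 1, 0, -5, 2, -1]⟩))) (.node 2 (.node 1 (.leaf ⟨6, 6, true, [6, 2, 23, 40, 34, 38, 13], [43, 29, 14, 2, 23, 36], [17, -8, -11, -20, -171, 7, 19, -17, 4,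 -28, 18, 32, -20, 12, 30, 1, 10, -1, -1, -12, 5, -5, -2, -3, -3, -1, 1, 0, 4, 4, -1]⟩) (.leaf ⟨6, 6, true, [22, 0, 43, 21, 11, 34], [42, 4, 43, 21, 41, 31, 2], [-16, 10, 11, 20, 171, -7, -19, 17, -4, 28, -18, -32, 18, -12, -31, -1, -10, 1, 1, 12, -5, 5, 2, 3, 3, 1, -1, 0, -4, -4, 1]⟩)) (.node 1 (.leaf ⟨6, 6, true, [43, 6, 23, 19, 32, 18], [30, 28, 35, 29, 30, 26], [-16, 180, 76, 91, 271, 52, -14, 43, -4, 12, -12, -17, 106, -63, -40, -2, 3, 10, 19, 17, -3, 3, 1, 13, -1, 1, -2, 0, -11, -4]⟩) (.leaf ⟨6, 6, true, [28, 18, 35, 16, 22, 37], [31, 24, 2, 27, 36, 26], [15, -177, -75, -92, -270, -52, 14, -42, 4, -12, 12, 16, -106, 63, 39, 2, -3, -10, -19, -17, 3, -3, -1, -13, 1, -1, 2, 0, 11, 4]⟩)))) (.node 4 (.node 2 (.node 1 (.leaf ⟨6, 6, true, [25, 39, 40, 31, 42, 28], [37, 30, 33, 36, 29, 11],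 [24, -10, -57, 18, -59, 9, -10, -4, -28, 35, -16, 0, -28, 15, 1, 0, 3, -2, 2, -2, 1, -8, -2, 1, 0, 3, -1, 0, 2, -2, 3]⟩) (.leaf ⟨6, 6, true, [30, 0, 38, 33, 35, 43, 10], [27, 13, 32, 29, 34, 38], [-25, 13, 58, -19, 60, -9, 10, 5, 28, -35, 16, -1, 28, -15, -2, 0, -3, 2, -2, 2, -1, 8, 2, -1, 0, -3, 1, 0, -2, 2, -3]⟩)) (.node 1 (.leaf ⟨6, 6, true, [39, 2, 18, 25, 42, 31, 2], [28, 14, 35, 18, 13, 37], [-1, 69, 23, 35, 145, 9, 6, 19, 9, 24, -3, -14, 25, -33, -20, 0, 0, 4, 9, 8, -2, 3, 0, 4, 0, 0, -3, 0, -3, -1]⟩) (.leaf ⟨6, 6, true, [43, 0, 39, 41, 8, 21, 6], [12, 2, 32, 35, 37, 25, 28], [2, -67, -23, -35, -145, -9, -6, -19, -9, -24, 3, 14, -27, 33, 19, 0, 0, -4, -9, -8, 2, -3, 0, -4, 0, 0, 3, 0, 3, 1]⟩))) (.node 2 (.node 1 (.leaf ⟨6, 6, true, [36, 0, 32, 39, 43, 11, 6], [36, 6, 19, 37, 23,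 36, 0], [4, 79, 45, 54, 148, 14, 0, 17, -1, 6, -1, -14, 44, -30, -29, -2, -1, 4, 5, 9, -2, 6, 1, 6, 0, 0, 0, 0, -5]⟩) (.leaf ⟨6, 6, true, [30, 2, 25, 42, 23, 16, 12], [41, 10, 20, 35, 36, 32, 25], [-3, -77, -45, -54, -148, -14, 0, -17, 1, -6, 1, 14, -46, 30, 28, 2, 1, -4, -5, -9, 2, -6, -1, -6, 0, 0, 0, 0, 5]⟩)) (.node 1 (.leaf ⟨6, 6, true, [10, 32, 34, 28, 31, 13], [26, 2, 29, 19, 37, 33, 27], [12, -62, -53, -14, -134, -5, -1, 1, -9, -11, -7, 6, 5, 41, 10, 7, -1, -5, -7, -12, 4, 2, 1, -4, 0, 2, -2, 0, 4, 1]⟩) (.leaf ⟨6, 6, true, [27, 0, 23, 39, 29, 23, 24], [30, 0, 12, 29, 35, 33, 11], [-13, 64, 54, 13, 135, 5, 1, 0, 9, 11, 7, -7, -3, -41, -11, -7, 1, 5, 7, 12, -4, -2, -1, 4, 0, -2, 2, 0, -4, -1]⟩))))) (.node 8 (.node 4 (.node 2 (.node 1 (.leaf ⟨6, 6, true, [6, 0, 28, 39, 19, 0, 31],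 [19, 42, 22, 6, 35, 38], [13, -290, -112, -138, -373, -69, 4, -31, -3, -15, 0, 19, -147, 94, 81, 5, -6, -15, -26, -25, 5, -8, 1, -19, 2, -2, -4, 0, 12, 1, 1]⟩) (.leaf ⟨6, 6, true, [20, 10, 2, 40, 43, 18], [30, 18, 38, 29, 6, 0], [-14, 293, 113, 137, 374, 69, -4, 32, 3, 15, 0, -20, 147, -94, -82, -5, 6, 15, 26, 25, -5, 8, -1, 19, -2, 2, 4, 0, -12, -1, -1]⟩)) (.node 1 (.leaf ⟨6, 6, true, [27, 18, 6, 35, 33, 30], [4, 39, 27, 20, 43, 32], [-45, -84, 43, -94, 29, -65, 20, 19, -3, 18, -33, -6, -40, 16, -35, -3, -14, -10, -13, 1, -4, 24, 3, -3, 1, 0, -4, 0, 5, -2]⟩) (.leaf ⟨6, 6, true, [11, 4, 40, 33, 34, 13, 26], [22, 0, 29, 41, 4, 34, 0], [46, 86, -43, 94, -29, 65, -20, -19, 3, -18, 33, 6, 38, -16, 34, 3, 14, 10, 13, -1, 4, -24, -3, 3, -1, 0, 4, 0, -5, 2]⟩))) (.node 2 (.node 1 (.leaf ⟨6, 6,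 true, [23, 2, 12, 27, 27, 41, 8], [31, 23, 31, 6, 38, 18, 22], [35, 85, -39, 70, 9, 32, -26, 23, -2, -14, 8, -18, 63, 7, 1, 11, -2, 6, 1, -7, 6, 2, 2, 4, 1, 3, -4, 0, -6, 2, -1]⟩) (.leaf ⟨6, 6, true, [43, 2, 22, 13, 34, 19, 13], [11, 41, 12, 19, 40, 24], [-36, -83, 40, -71, -8, -32, 26, -22, 2, 14, -8, 17, -61, -7, -2, -11, 2, -6, -1, 7, -6, -2, -2, -4, -1, -3, 4, 0, 6, -2, 1]⟩)) (.node 1 (.leaf ⟨6, 6, true, [35, 25, 42, 4, 36], [20, 16, 41, 26, 18, 26], [-37, -183, -41, -124, -202, -69, 9, 4, -17, -5, -31, 8, -53, 76, 8, 5, -13, -16, -24, -17, 2, 18, 4, -12, 1, 2, -5, 0, 10, -1]⟩) (.leaf ⟨6, 6, true, [28, 12, 42, 33, 39, 20], [31, 11, 21, 6, 36, 24], [36, 187, 42, 123, 203, 69, -9, -3, 17, 5, 31, -9, 51, -76, -9, -5, 13, 16, 24, 17, -2, -18, -4, 12, -1, -2, 5, 0, -10, 1]⟩)))) (.node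 4 (.node 2 (.node 1 (.leaf ⟨6, 6, true, [35, 30, 36, 26, 11, 30], [23, 27, 33, 41, 26, 23], [29, 110, 54, 58, 175, 38, -13, 25, 6, -8, 10, -37, 50, -33, -39, 4, -1, 7, 3, 5, 1, 10, 3, 11, 4, 2, -2, 0, -9]⟩) (.leaf ⟨6, 6, true, [2, 22, 11, 18, 39, 29], [23, 13, 23, 42, 31, 11], [-30, -107, -53, -59, -174, -38, 13, -24, -6, 8, -10, 36, -50, 33, 38, -4, 1, -7, -3, -5, -1, -10, -3, -11, -4, -2, 2, 0, 9]⟩)) (.node 1 (.leaf ⟨6, 6, true, [23, 40, 14, 26, 35, 10], [19, 30, 42, 16, 33, 34], [-14, -10, 59, -54, 23, -27, -3, 12, 13, -28, -22, -10, -13, 2, -36, -2, -5, -3, -5, 2, -2, 16, 3, 0, 1, 2, 1, 0, 1, 0, -2]⟩) (.leaf ⟨6, 6, true, [16, 35, 20, 40, 20, 16], [22, 18, 13, 43, 6, 33, 11], [-20, -43, 46, -37, 51, -21, 22, -7, -7, 24, -24, 12, -44, -15, -20, -12, 3, -5, 2, 12, -7, 1, -2, 0, -2, -3,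 4, 0, 4, -2, 2]⟩))) (.node 2 (.node 1 (.leaf ⟨6, 6, true, [2, 14, 21, 11, 37, 21, 19], [23, 36, 6, 28, 43, 35], [66, -185, -210, -23, -290, 7, -9, -31, -40, 30, -33, 11, -54, 85, 87, 5, 17, -11, -9, -19, 7, -22, -7, -8, 1, 0, -5, 0, 7, 0, 3]⟩) (.leaf ⟨6, 6, true, [27, 43, 32, 16, 10], [27, 2, 24, 39, 11, 11, 27], [-67, 187, 211, 22, 291, -7, 9, 32, 40, -30, 33, -12, 56, -85, -88, -5, -17, 11, 9, 19, -7, 22, 7, 8, -1, 0, 5, 0, -7, 0, -3]⟩)) (.node 1 (.leaf ⟨6, 6, true, [29, 38, 10, 43, 43, 29], [30, 6, 32, 22, 40, 38, 29], [40, -265, -133, -126, -252, -26, 4, -39, -1, 14, -12, 21, -125, 64, 100, 1, 16, -12, -14, -11, 2, -26, -8, -12, 0, 0, -5, 0, 12, 1, 1]⟩) (.leaf ⟨6, 6, true, [0, 2, 32, 38, 35, 27, 30], [26, 32, 26, 40, 11, 20], [-41, 269, 134, 125, 253, 26, -4, 40, 1, -14, 12, -22,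 123, -64, -101, -1, -16, 12, 14, 11, -2, 26, 8, 12, 0, 0, 5, 0, -12, -1, -1]⟩)))))))
noncomputable def dF1823 : BT Fct := (.node 30 (.node 15 (.node 7 (.node 3 (.node 1 (.leaf ⟨6, 6, true, [26, 2, 24, 2, 27, 35, 19], [39, 25, 35, 39, 43, 12], [-4, 16, 76, 12, 146, -3, 28, 22, 33, -8, 0, -8, 62, -31, -32, 2, -5, 4, 2, 5, -2, 20, 2, 2, 2, -3, -4, 0, -1, 1, -2]⟩) (.node 1 (.leaf ⟨6, 6, true, [34, 0, 16, 25, 39, 27, 24], [13, 22, 14, 38, 2, 28], [-19, 285, 141, 114, 346, 54, -4, 41, 10, -9, 6, -23, 152, -86, -91, -2, 1, 15, 21, 20, -3, 15, 0, 19, -3, 0, 3, 0, -10, 4, -1]⟩) (.leaf ⟨6, 6, true, [26, 2, 32, 34, 19, 10, 21], [21, 4, 42, 30, 28, 38, 0], [20, -285, -141, -114, -346, -54, 4, -41, -10, 9, -6, 23, -150, 86, 90, 2, -1, -15, -21, -20, 3, -15, 0, -19, 3, 0, -3, 0, 10, -4, 1]⟩))) (.node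 2 (.node 1 (.leaf ⟨6, 6, true, [30, 0, 24, 39, 28, 30, 20], [30, 39, 21, 38, 16, 41], [-13, 219, 118, 94, 321, 35, -3, 56, 20, -7, 2, -28, 107, -81, -59, 1, -5, 14, 14, 15, -2, 14, 5, 13, 3, 0, -4, 0, -10, -1, -3]⟩) (.leaf ⟨6, 6, true, [36, 38, 32, 6, 31, 27], [40, 43, 39, 26, 10, 34], [12, -216, -117, -95, -320, -35, 3, -55, -20, 7, -2, 27, -107, 81, 58, -1, 5, -14, -14, -15, 2, -14, -5, -13, -3, 0, 4, 0, 10, 1, 3]⟩)) (.node 1 (.leaf ⟨6, 5, true, [12, 30, 43, 39, 25, 14], [37, 29, 4, 38, 24, 6], [-30, -56, -15, -18, -77, -16, 6, -2, -8, -34, 6, 5, 11, 29, 20, 4, -6, -4, -13, -11, 4, 0, 2, -4, 2, 0, -3, 0, 3, 2]⟩) (.leaf ⟨5, 6, true, [2, 13, 22, 42, 39], [27, 40, 4, 43, 14, 31], [31, 26, 2, 1, 34, 5, -5, -1, 10, 33, -8, -4, -28, -20, -16, -4, 5, 2, 10, 9, -4, 0, -2, 2, -2, 0, 3, 0, -1,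 -2]⟩)))) (.node 4 (.node 2 (.node 1 (.leaf ⟨6, 6, true, [32, 2, 12, 36, 20, 2, 19], [41, 0, 38, 34, 6, 29, 26], [-9, 3, -8, -18, -109, -3, -21, -10, -16, -31, 15, -1, -11, 25, 25, 2, 0, 0, -6, -8, 4, -9, 0, -1, -2, 0, 1, 0, 0, 4, 1]⟩) (.leaf ⟨6, 6, true, [4, 39, 37, 39, 19, 31], [18, 29, 10, 43, 33, 19], [-6, -66, -71, -47, -225, -29, -17, -6, 20, -3, -18, 19, -57, 27, 41, 3, -2, -4, -7, -9, 2, -10, 0, -8, -3, 1, -2, 0, 5, 4, -2]⟩)) (.node 1 (.leaf ⟨6, 6, true, [18, 13, 18, 38, 25, 32], [4, 30, 18, 34, 13, 20], [5, 70, 72, 46, 226, 29, 17, 7, -20, 3, 18, -20, 55, -27, -42, -3, 2, 4, 7, 9, -2, 10, 0, 8, 3, -1, 2, 0, -5, -4, 2]⟩) (.leaf ⟨6, 6, true, [31, 2, 18, 36, 18, 27, 10], [28, 6, 11, 36, 21, 39, 14], [35, -462, -221, -214, -521, -65, 5, -82, -40, 5, -25, 41, -226, 142, 149, 0, 16,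 -24, -28, -27, 5, -35, -11, -23, 0, -5, -4, 0, 21, 3, 5]⟩))) (.node 2 (.node 1 (.leaf ⟨6, 6, true, [29, 2, 26, 37, 21, 29], [24, 10, 40, 27, 40, 14], [-36, 465, 222, 213, 522, 65, -5, 83, 40, -5, 25, -42, 226, -142, -150, 0, -16, 24, 28, 27, -5, 35, 11, 23, 0, 5, 4, 0, -21, -3, -5]⟩) (.leaf ⟨6, 6, true, [26, 34, 41, 26, 11, 0], [18, 28, 37, 41, 27, 32], [26, 73, 13, 70, 120, 38, -2, 10, 5, 16, 6, -18, 60, -33, -8, 1, 5, 7, 6, 7, 0, 3, 1, 7, 1, 0, -3, 0, -8, -1, 1]⟩)) (.node 1 (.leaf ⟨6, 6, true, [24, 40, 35, 25, 42, 6], [4, 10, 27, 40, 35, 27], [-27, -71, -12, -71, -119, -38, 2, -9, -5, -16, -6, 17, -58, 33, 7, -1, -5, -7, -6, -7, 0, -3, -1, -7, -1, 0, 3, 0, 8, 1, -1]⟩) (.leaf ⟨6, 6, true, [39, 0, 39, 19, 36, 38], [11, 12, 38, 14, 24, 8], [12, 78, 2, 38, 46, 29, -29, 17, -13, -2, 0, -11,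 39, -11, -11, 2, 0, 4, 2, 1, 2, 0, 2, 6, 0, 2, -1, 0, -6, 1]⟩))))) (.node 7 (.node 3 (.node 1 (.leaf ⟨6, 6, true, [10, 28, 43, 11, 12], [31, 2, 8, 20, 39, 40], [-11, -78, -2, -38, -46, -29, 29, -17, 13, 2, 0, 11, -37, 11, 10, -2, 0, -4, -2, -1, -2, 0, -2, -6, 0, -2, 1, 0, 6, -1]⟩) (.node 1 (.leaf ⟨6, 6, true, [21, 33, 20, 43, 20, 20], [42, 41, 10, 39, 26, 2], [-18, 71, 99, 25, 145, -1, 20, 32, 31, -25, 4, -18, 85, -31, -61, 4, -5, 4, 5, 3, -1, 31, 4, 3, 0, -1, -1, 0, -1, -1, -2]⟩) (.leaf ⟨6, 6, true, [2, 4, 30, 24, 13, 39, 30], [35, 13, 14, 20, 42, 20, 12], [78, 416, 136, 259, 535, 95, -24, 59, 33, 32, 25, -51, 192, -146, -114, -3, 1, 26, 26, 28, -2, 27, 7, 31, 5, -3, -2, 0, -25, -1, -1]⟩))) (.node 2 (.node 1 (.leaf ⟨6, 6, true, [35, 10, 30, 2, 20, 2, 21], [27, 43, 32, 39, 13, 23], [-79,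 -413, -135, -260, -534, -95, 24, -58, -33, -32, -25, 50, -192, 146, 113, 3, -1, -26, -26, -28, 2, -27, -7, -31, -5, 3, 2, 0, 25, 1, 1]⟩) (.leaf ⟨6, 6, true, [25, 10, 38, 35, 42, 37, 19], [19, 19, 38, 25, 27, 43, 14], [-18, -500, -168, -279, -452, -110, 19, -60, -38, 10, -39, 32, -221, 140, 129, 0, 1, -28, -41, -27, 3, -15, -6, -25, 3, -4, -8, 0, 22, 0, 3]⟩)) (.node 1 (.leaf ⟨6, 6, true, [35, 16, 42, 42, 25, 8], [8, 2, 30, 39, 29, 41, 6], [17, 504, 169, 278, 453, 110, -19, 61, 38, -10, 39, -33, 219, -140, -130, 0, -1, 28, 41, 27, -3, 15, 6, 25, -3, 4, 8, 0, -22, 0, -3]⟩) (.leaf ⟨6, 6, true, [28, 8, 32, 43, 31, 20, 28], [4, 2, 42, 23, 24, 34, 25], [-5, -109, -46, -90, -285, -26, -8, -34, 6, -39, 51, 5, -54, 82, 53, 15, -12, -5, -26, -28, 11, 3, 5, -13, 1, -1, -4, 0, 3, 10, -1]⟩)))) (.node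 4 (.node 2 (.node 1 (.leaf ⟨6, 6, true, [22, 38, 31, 11, 18, 23], [30, 19, 31, 39, 35, 20, 18], [6, 111, 46, 90, 285, 26, 8, 34, -6, 39, -51, -5, 52, -82, -54, -15, 12, 5, 26, 28, -11, -3, -5, 13, -1, 1, 4, 0, -3, -10, 1]⟩) (.leaf ⟨6, 6, true, [6, 35, 33, 2, 42, 21], [33, 40, 14, 42, 35, 24], [25, 230, 87, 185, 366, 64, 0, 46, 9, 11, 18, -37, 173, -70, -88, 5, -8, 11, 16, 14, -1, 23, 7, 14, -1, 0, -3, 0, -11, 2, -3]⟩)) (.node 1 (.leaf ⟨6, 6, true, [2, 25, 40, 18, 0, 41], [24, 41, 25, 37, 30], [-26, -226, -86, -186, -365, -64, 0, -45, -9, -11, -18, 36, -175, 70, 87, -5, 8, -11, -16, -14, 1, -23, -7, -14, 1, 0, 3, 0, 11, -2, 3]⟩) (.leaf ⟨6, 5, true, [36, 16, 27, 43, 41, 30], [28, 35, 16, 14, 27, 38], [29, 223, 55, 170, 349, 60, -1, 57, -1, 39, -18, -37, 128, -75, -98, -3, 0, 7, 22, 22,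 -5, 11, 6, 14, 2, 6, -1, 0, -11, -4, -1]⟩))) (.node 2 (.node 1 (.leaf ⟨5, 6, true, [14, 37, 34, 14, 22, 29], [30, 20, 37, 8, 43, 25], [-32, -255, -61, -192, -387, -71, 3, -61, 2, -42, 17, 40, -145, 84, 102, 3, -1, -9, -25, -24, 5, -11, -6, -16, -2, -6, 1, 0, 13, 4, 1]⟩) (.leaf ⟨6, 6, true, [23, 39, 36, 22, 32, 20], [8, 0, 23, 25, 34, 24, 10], [-49, -151, 10, -125, -123, -69, 14, 2, -2, -13, -24, 5, -49, 47, -2, 1, -14, -12, -22, -11, 0, 20, 5, -8, 1, 0, -4, 0, 7, 0, -1]⟩)) (.node 1 (.leaf ⟨6, 6, true, [40, 22, 31, 35, 28, 31], [13, 27, 34, 22, 41, 25], [50, 151, -10, 125, 123, 69, -14, -2, 2, 13, 24, -5, 51, -47, 1, -1, 14, 12, 22, 11, 0, -20, -5, 8, -1, 0, 4, 0, -7, 0, 1]⟩) (.leaf ⟨6, 6, true, [13, 6, 41, 31, 11, 36, 22], [16, 43, 18, 37, 10, 31], [29, -26, -68, -6, -97, 15, -22, -5,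 -19, 5, -3, -1, -21, 27, 24, 3, 2, -2, -6, -8, 4, -9, 0, 0, 1, 2, -2, 0, 0, 2]⟩)))))) (.node 15 (.node 7 (.node 3 (.node 1 (.leaf ⟨6, 6, true, [30, 6, 26, 39, 34, 37, 27], [29, 6, 43, 21, 14, 40, 27], [-30, 29, 69, 5, 98, -15, 22, 6, 19, -5, 3, 0, 21, -27, -25, -3, -2, 2, 6, 8, -4, 9, 0, 0, -1, -2, 2, 0, 0, -2]⟩) (.node 1 (.leaf ⟨6, 6, true, [11, 32, 41, 22, 13, 24], [41, 22, 35, 28, 26, 43], [55, 199, 23, 108, 73, 39, -27, 3, 19, 5, 26, -7, 51, -48, -28, -1, 3, 12, 8, 5, 3, 7, 3, 11, 0, -4, 3, 0, -10, 3, -1]⟩) (.leaf ⟨6, 6, true, [2, 13, 27, 40, 42, 13], [25, 0, 43, 41, 25, 38, 2], [-54, -199, -23, -108, -73, -39, 27, -3, -19, -5, -26, 7, -49, 48, 27, 1, -3, -12, -8, -5, -3, -7, -3, -11, 0, 4, -3, 0, 10, -3, 1]⟩))) (.node 2 (.node 1 (.leaf ⟨6, 6, true, [22, 37, 30, 21, 28, 16], [29,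 19, 30, 40, 19, 32], [-17, -302, -83, -187, -408, -80, 14, -22, -8, -30, -4, 11, -120, 118, 46, 11, -13, -20, -32, -32, 7, 8, 2, -21, 0, 3, -5, 0, 17, 5, -1]⟩) (.leaf ⟨6, 6, true, [23, 0, 40, 33, 31, 12, 16], [8, 26, 19, 31, 36, 23], [16, 306, 84, 186, 409, 80, -14, 23, 8, 30, 4, -12, 118, -118, -47, -11, 13, 20, 32, 32, -7, -8, -2, 21, 0, -3, 5, 0, -17, -5, 1]⟩)) (.node 1 (.leaf ⟨6, 6, true, [30, 11, 37, 42, 42, 14], [42, 18, 36, 42, 27, 36], [-1, 10, -27, 23, -44, 8, -7, 9, -8, -13, 9, -4, 17, 23, 14, 9, -6, -2, 0, -10, 4, -3, 0, -1, 0, 1, -3, 0, 0, -1, -1]⟩) (.leaf ⟨6, 6, true, [34, 0, 32, 2, 24, 40, 6], [39, 36, 30, 40, 31, 12], [0, -7, 28, -24, 45, -8, 7, -8, 8, 13, -9, 3, -17, -23, -15, -9, 6, 2, 0, 10, -4, 3, 0, 1, 0, -1, 3, 0, 0, 1, 1]⟩)))) (.node 4 (.node 2 (.node 1 (.leaf ⟨6,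 6, true, [0, 25, 23, 18, 43, 18], [24, 21, 37, 14, 27, 28], [-15, -72, -7, -44, -106, -16, -1, -17, -4, -23, -1, 7, -35, 21, 21, -3, -2, -4, -8, -5, 0, -4, 0, -4, -2, 0, 4, 0, 3, -1]⟩) (.leaf ⟨6, 6, true, [0, 33, 40, 4, 39, 32], [19, 10, 41, 26, 12, 0], [14, 75, 8, 43, 107, 16, 1, 18, 4, 23, 1, -8, 35, -21, -22, 3, 2, 4, 8, 5, 0, 4, 0, 4, 2, 0, -4, 0, -3, 1]⟩)) (.node 1 (.leaf ⟨6, 6, true, [10, 25, 34, 29, 29, 30], [16, 6, 20, 27, 42, 10], [57, -107, -216, 35, -467, 15, -41, -74, -26, -38, 81, 18, -38, 89, 135, 13, -2, 6, -11, -39, 19, -43, -2, -14, 1, -4, -4, 0, 2, 12, 3]⟩) (.leaf ⟨6, 6, true, [13, 43, 27, 12, 42, 21], [29, 10, 28, 19, 39, 25, 28], [-52, 321, 132, 133, 244, 37, -18, 33, 20, -18, 22, -17, 114, -81, -87, -2, -16, 17, 19, 12, -2, 22, 9, 10, -3, -2, 7, 0, -13, 0, -3]⟩)))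 (.node 2 (.node 1 (.leaf ⟨6, 6, true, [6, 32, 26, 28, 43, 41], [32, 0, 24, 41, 18, 27, 16], [53, -321, -132, -133, -244, -37, 18, -33, -20, 18, -22, 17, -112, 81, 86, 2, 16, -17, -19, -12, 2, -22, -9, -10, 3, 2, -7, 0, 13, 0, 3]⟩) (.leaf ⟨6, 6, true, [33, 41, 25, 34, 29, 38], [40, 0, 31, 21, 36, 25, 20], [-10, 23, 16, 26, 69, 17, -4, -1, -15, -8, 23, -9, 24, 0, 1, 1, 0, 4, 2, 0, 1, 2, -1, 2, 2, -2, 0, 0, -2, -2, 1]⟩)) (.node 1 (.leaf ⟨6, 6, true, [39, 14, 39, 27, 18], [26, 2, 34, 43, 29, 26, 30], [-79, 288, 219, 67, 314, 21, 0, 54, 30, -35, 18, -17, 107, -86, -114, -3, -16, 13, 18, 17, -5, 26, 10, 12, -2, 3, 6, 0, -14, 0, -3]⟩) (.leaf ⟨6, 6, true, [12, 6, 21, 43, 20, 34, 8], [19, 26, 38, 14, 2, 38], [78, -285, -218, -68, -313, -21, 0, -53, -30, 35, -18, 16, -107, 86, 113, 3, 16, -13,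 -18, -17, 5, -26, -10, -12, 2, -3, -6, 0, 14, 0, 3]⟩))))) (.node 8 (.node 4 (.node 2 (.node 1 (.leaf ⟨6, 4, true, [18, 0, 40, 20, 34, 36, 4], [22, 40, 42, 16, 43, 2], [-21, -96, -41, -57, -114, -17, 14, -14, -6, 16, -7, 15, -39, 31, 32, 1, 2, -6, -2, -5, 0, -8, -3, -6, -2, -1, -2, 0, 6, -1, 1]⟩) (.leaf ⟨4, 6, true, [8, 25, 41, 4, 43, 19], [10, 31, 16, 24, 34, 19], [30, 77, 26, 53, 81, 13, -13, 10, 4, -8, 0, -12, 23, -21, -30, -1, -1, 4, 1, 4, 0, 7, 2, 5, 2, 1, 2, 0, -5, 1]⟩)) (.node 1 (.leaf ⟨6, 6, true, [39, 20, 38, 40, 22, 20], [31, 23, 25, 2, 39, 18], [9, 121, 29, 67, 158, 33, -26, 8, 3, -7, 14, -18, 54, -44, 3, -3, 2, 12, 5, 9, 0, -6, 1, 6, 1, 0, 1, 0, -10, 3, -1]⟩) (.leaf ⟨6, 6, true, [20, 11, 39, 32, 38, 13], [14, 29, 40, 21, 25, 10], [-8, -121, -29, -67, -158, -33, 26, -8, -3,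 7, -14, 18, -52, 44, -4, 3, -2, -12, -5, -9, 0, 6, -1, -6, -1, 0, -1, 0, 10, -3, 1]⟩))) (.node 2 (.node 1 (.leaf ⟨6, 6, true, [6, 23, 39, 36, 25, 30], [21, 41, 24, 20, 39, 34], [12, 37, -3, 50, 133, 9, 8, 13, 7, 37, -21, -12, 21, -26, -16, -3, 3, 2, 7, 11, -4, 2, -2, 5, 2, 1, -1, 0, -4, -4]⟩) (.leaf ⟨6, 6, true, [13, 11, 27, 2, 20], [21, 18, 40, 29, 33, 27], [-13, -33, 4, -51, -132, -9, -8, -12, -7, -37, 21, 11, -23, 26, 15, 3, -3, -2, -7, -11, 4, -2, 2, -5, -2, -1, 1, 0, 4, 4]⟩)) (.node 1 (.leaf ⟨6, 6, true, [36, 39, 33, 12, 41], [12, 43, 41, 0, 41, 4], [12, 48, -6, 45, 105, 15, 2, 10, -4, 32, -12, -6, 16, -21, -18, -3, 3, 1, 8, 9, -3, 2, -1, 4, 1, 1, 0, 0, -4, -4]⟩) (.leaf ⟨6, 6, true, [41, 39, 6, 20, 34, 12], [29, 40, 6, 23, 31, 8], [-13, -46, 7, -46, -104, -15, -2, -9, 4, -32, 12,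 5, -14, 21, 17, 3, -3, -1, -8, -9, 3, -2, 1, -4, -1, -1, 0, 0, 4, 4]⟩)))) (.node 4 (.node 2 (.node 1 (.leaf ⟨6, 6, true, [39, 12, 20, 42, 27, 13, 2], [27, 2, 24, 43, 0, 38, 16], [-42, -68, 42, -86, -60, -16, 32, -15, 0, -21, 11, 26, -46, 21, 15, 1, 0, -4, -3, -4, 0, -1, -2, -3, -3, -1, -1, 0, 4, 2]⟩) (.leaf ⟨6, 6, true, [13, 37, 19, 36, 39, 26], [36, 0, 2, 25, 38, 29, 11], [43, 68, -42, 86, 60, 16, -32, 15, 0, 21, -11, -26, 48, -21, -16, -1, 0, 4, 3, 4, 0, 1, 2, 3, 3, 1, 1, 0, -4, -2]⟩)) (.node 1 (.leaf ⟨6, 6, true, [16, 6, 26, 30, 38, 34, 29], [6, 30, 27, 41, 2, 20], [-17, -113, -55, -63, -106, -32, 8, -12, -8, 28, -1, 8, -63, 21, 44, -4, 1, -4, -7, -5, 0, -8, -3, -7, 2, -2, -2, 0, 5, -1]⟩) (.leaf ⟨6, 6, true, [22, 12, 41, 33, 42, 20], [33, 2, 25, 42, 24, 22, 30], [18, 115, 55, 63, 106,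 32, -8, 12, 8, -28, 1, -8, 61, -21, -45, 4, -1, 4, 7, 5, 0, 8, 3, 7, -2, 2, 2, 0, -5, 1]⟩))) (.node 2 (.node 1 (.leaf ⟨6, 6, true, [6, 2, 25, 26, 36, 29, 30], [31, 37, 28, 22, 20, 39], [-34, -181, -24, -138, -141, -71, 26, -10, -12, 17, -45, 15, -120, 51, -13, -6, -8, -16, -17, -5, -4, 12, 2, -10, 2, 3, -1, 0, 13, -3, -1]⟩) (.leaf ⟨6, 6, true, [18, 41, 21, 31, 22], [32, 11, 34, 30, 21, 34, 16], [33, 184, 25, 137, 142, 71, -26, 11, 12, -17, 45, -16, 120, -51, 12, 6, 8, 16, 17, 5, 4, -12, -2, 10, -2, -3, 1, 0, -13, 3, 1]⟩)) (.node 1 (.leaf ⟨6, 6, true, [38, 23, 43, 23, 30, 19], [27, 0, 20, 37, 42, 29, 27], [-52, 115, 123, 66, 398, 19, 2, 37, -14, 1, -3, -30, 99, -70, -51, -10, -1, 9, 13, 22, -8, 12, 1, 10, 2, -1, 2, 0, -9, -6]⟩) (.leaf ⟨6, 6, true, [30, 20, 41, 6, 33, 35], [26, 43, 39,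 36, 33, 41], [51, -112, -122, -67, -397, -19, -2, -36, 14, -1, 3, 29, -99, 70, 50, 10, 1, -9, -13, -22, 8, -12, -1, -10, -2, 1, -2, 0, 9, 6]⟩)))))))
noncomputable def dF1884 : BT Fct := (.node 30 (.node 15 (.node 7 (.node 3 (.node 1 (.leaf ⟨6, 6, true, [23, 28, 39, 23, 26, 10], [6, 14, 27, 41, 41, 26], [5, 110, 46, 67, 187, 17, -5, 25, -3, 20, -15, -12, 48, -44, -52, -5, -1, 5, 11, 14, -4, 10, 1, 8, 1, 0, 1, 0, -6, -3, 1]⟩) (.node 1 (.leaf ⟨6, 6, true, [16, 6, 38, 32, 6, 24], [42, 21, 24, 11, 40, 22], [-4, -108, -46, -67, -187, -17, 5, -25, 3, -20, 15, 12, -50, 44, 51, 5, 1, -5, -11, -14, 4, -10, -1, -8, -1, 0, -1, 0, 6, 3, -1]⟩) (.leaf ⟨6, 6, true, [28, 34, 21, 13, 25, 4], [27, 25, 31, 34, 33, 13], [-1, -85, -50, -43, -122, -36, 2, -10, 1, 17, -39, 15, -62, 26, -2, -5, 0, -8, 0, 3, -4,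 2, -2, -7, -3, -1, 3, 0, 7, -3]⟩))) (.node 2 (.node 1 (.leaf ⟨6, 6, true, [10, 36, 6, 31, 23, 21], [0, 24, 12, 20, 35, 29], [0, 88, 51, 42, 123, 36, -2, 11, -1, -17, 39, -16, 62, -26, 1, 5, 0, 8, 0, -3, 4, -2, 2, 7, 3, 1, -3, 0, -7, 3]⟩) (.leaf ⟨6, 6, true, [0, 11, 35, 38, 43, 30], [22, 40, 23, 41, 39, 39], [41, 320, 78, 204, 380, 64, -18, 43, 18, 41, -1, -28, 129, -103, -86, -6, 3, 16, 27, 26, -5, 14, 2, 19, 1, 0, 2, 0, -15, -6]⟩)) (.node 1 (.leaf ⟨6, 6, true, [26, 4, 39, 24, 14, 43, 16], [12, 4, 32, 38, 33, 24, 14], [-16, -92, -43, -60, -124, 6, -3, -24, -20, -9, 14, 16, -58, 36, 55, 7, 5, -2, 0, -9, 4, -16, -5, -6, 0, 1, -6, 0, 3, -1, 3]⟩) (.leaf ⟨6, 6, true, [29, 33, 41, 37, 33, 13], [36, 2, 13, 26, 12, 35, 27], [15, 94, 44, 59, 125, -6, 3, 25, 20, 9, -14, -17, 60, -36, -56, -7, -5,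 2, 0, 9, -4, 16, 5, 6, 0, -1, 6, 0, -3, 1, -3]⟩)))) (.node 4 (.node 2 (.node 1 (.leaf ⟨6, 6, true, [2, 40, 42, 30, 33, 21], [0, 32, 30, 22, 39, 28], [14, 190, 40, 121, 227, 50, -23, 26, -6, 14, 7, -28, 82, -59, -30, -1, 1, 11, 16, 13, -1, 2, 0, 12, -2, -1, 1, 0, -13, -1, 1]⟩) (.leaf ⟨6, 6, true, [6, 34, 37, 28, 34, 24], [4, 26, 6, 24, 41, 28], [7, 36, -26, 22, -13, 16, -19, -5, -14, 9, 13, -6, -11, 1, 13, 1, 2, 1, 4, -1, 2, -9, -2, 1, -1, 0, 0, 0, -3, 0, 2]⟩)) (.node 1 (.leaf ⟨6, 6, true, [24, 2, 31, 28, 14, 35, 18], [25, 0, 16, 40, 30, 38, 11], [11, 117, -43, 110, 71, 32, -18, 5, 0, 14, 24, -16, 30, -25, 21, 2, -3, 7, 4, -1, 3, -14, -1, 2, 2, 0, 0, 0, -7, -1, 3]⟩) (.leaf ⟨6, 6, true, [0, 39, 27, 14, 35, 39], [11, 0, 33, 37, 40, 27, 18], [-12, -113, 44, -111, -70, -32, 18, -4, 0, -14,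 -24, 15, -32, 25, -22, -2, 3, -7, -4, 1, -3, 14, 1, -2, -2, 0, 0, 0, 7, 1, -3]⟩))) (.node 2 (.node 1 (.leaf ⟨6, 6, true, [0, 19, 37, 39, 6, 18], [23, 8, 28, 34, 18, 22], [-79, 309, 258, 80, 499, 30, -2, 79, 31, -40, 0, -22, 165, -111, -123, -3, -10, 17, 15, 30, -8, 34, 9, 18, 1, 2, 1, 0, -12, -3, -4]⟩) (.leaf ⟨6, 6, true, [13, 36, 27, 4, 34, 10], [20, 10, 40, 40, 23, 13], [80, -307, -258, -80, -499, -30, 2, -79, -31, 40, 0, 22, -167, 111, 122, 3, 10, -17, -15, -30, 8, -34, -9, -18, -1, -2, -1, 0, 12, 3, 4]⟩)) (.node 1 (.leaf ⟨6, 6, true, [0, 35, 37, 35, 23, 23], [40, 0, 43, 41, 18, 22], [-52, 437, 261, 179, 711, 54, -13, 104, 17, 14, -37, -60, 176, -168, -175, -13, -5, 20, 35, 48, -14, 39, 8, 29, 0, 0, 4, 0, -21, -8, -2]⟩) (.leaf ⟨6, 6, true, [18, 2, 27, 14, 25, 39, 12], [20, 43, 11,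 41, 18, 2], [53, -437, -261, -179, -711, -54, 13, -104, -17, -14, 37, 60, -174, 168, 174, 13, 5, -20, -35, -48, 14, -39, -8, -29, 0, 0, -4, 0, 21, 8, 2]⟩))))) (.node 7 (.node 3 (.node 1 (.leaf ⟨6, 6, true, [27, 6, 18, 38, 34, 32, 14], [6, 24, 39, 28, 40, 27], [-8, 192, 82, 109, 322, 39, -6, 36, -3, 9, -3, -37, 104, -67, -51, -3, -3, 11, 13, 20, -4, 8, 1, 13, 0, 0, 0, 0, -11, -3, 1]⟩) (.node 1 (.leaf ⟨6, 6, true, [20, 27, 10, 39, 12, 28], [39, 2, 33, 40, 42, 8, 6], [9, -192, -82, -109, -322, -39, 6, -36, 3, -9, 3, 37, -102, 67, 50, 3, 3, -11, -13, -20, 4, -8, -1, -13, 0, 0, 0, 0, 11, 3, -1]⟩) (.leaf ⟨6, 6, true, [8, 4, 22, 13, 38, 24, 2], [42, 36, 38, 25, 8, 26], [-10, -9, 32, -8, 119, -19, 1, 13, -38, 47, -73, 4, -37, -12, -78, -18, 4, -8, 7, 23, -13, 19, 0, 3, -2, -2, 9, 0, 3, -10, 5]⟩)))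 (.node 2 (.node 1 (.leaf ⟨6, 6, true, [23, 14, 39, 37, 43], [19, 2, 35, 8, 20, 39, 27], [11, 11, -32, 8, -119, 19, -1, -13, 38, -47, 73, -4, 35, 12, 77, 18, -4, 8, -7, -23, 13, -19, 0, -3, 2, 2, -9, 0, -3, 10, -5]⟩) (.leaf ⟨6, 6, true, [19, 34, 28, 21, 37, 12], [21, 38, 23, 41, 26, 32], [43, 236, 34, 156, 340, 64, -25, 34, -6, 37, -5, -42, 107, -83, -48, -4, 3, 17, 18, 19, -2, 3, 1, 15, 2, 0, -1, 0, -15, 3]⟩)) (.node 1 (.leaf ⟨6, 6, true, [26, 34, 30, 26, 19, 22], [32, 39, 40, 40, 27, 25], [-54, 144, 148, 23, 366, -12, 3, 36, 25, 12, -13, -24, 26, -90, -79, -13, -8, 9, 14, 29, -11, 18, 1, 12, -3, -2, 1, 0, -6, -3, 1]⟩) (.leaf ⟨6, 6, true, [32, 23, 41, 41, 38, 33], [19, 33, 16, 14, 35, 27], [53, -140, -147, -24, -365, 12, -3, -35, -25, -12, 13, 23, -28, 90, 78, 13, 8, -9, -14, -29, 11,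 -18, -1, -12, 3, 2, -1, 0, 6, 3, -1]⟩)))) (.node 4 (.node 2 (.node 1 (.leaf ⟨6, 5, true, [21, 11, 40, 34, 41, 25], [27, 40, 29, 6, 16, 12], [5, 269, 85, 170, 360, 65, -21, 44, -9, 28, 0, -32, 148, -96, -66, -5, 5, 15, 26, 25, -5, 10, -2, 17, -1, 0, 4, 0, -16, -4]⟩) (.leaf ⟨5, 6, true, [19, 24, 40, 35, 43, 22], [0, 18, 40, 29, 43, 23], [1, -203, -67, -130, -281, -43, 18, -36, 6, -24, 3, 27, -114, 78, 55, 5, -3, -11, -20, -21, 5, -10, 2, -13, 1, 0, -4, 0, 12, 4]⟩)) (.node 1 (.leaf ⟨6, 6, true, [4, 10, 33, 39, 8, 29], [23, 2, 36, 12, 24, 43, 4], [24, 176, 12, 130, 201, 42, -15, 29, 6, 12, 4, -32, 83, -45, -21, 3, 0, 11, 14, 9, 1, 0, -1, 9, 1, 0, -3, 0, -11, 0, 2]⟩) (.leaf ⟨6, 6, true, [6, 36, 28, 43, 43, 8], [14, 23, 29, 34, 41, 12], [-25, -172, -11, -131, -200, -42, 15, -28, -6, -12, -4,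 31, -85, 45, 20, -3, 0, -11, -14, -9, -1, 0, 1, -9, -1, 0, 3, 0, 11, 0, -2]⟩))) (.node 2 (.node 1 (.leaf ⟨6, 6, true, [42, 0, 30, 23, 37, 39, 6], [26, 6, 37, 20, 34, 36], [8, 308, 116, 179, 372, 73, -5, 46, 36, 7, 2, -30, 168, -110, -42, 2, 8, 24, 29, 22, -3, 10, 0, 17, 2, -3, 0, 0, -16, -4, -4]⟩) (.leaf ⟨6, 6, true, [26, 0, 24, 36, 38, 18, 28], [6, 20, 37, 31, 12, 42], [-7, -306, -116, -179, -372, -73, 5, -46, -36, -7, -2, 30, -170, 110, 41, -2, -8, -24, -29, -22, 3, -10, 0, -17, -2, 3, 0, 0, 16, 4, 4]⟩)) (.node 1 (.leaf ⟨6, 6, true, [43, 43, 13, 35, 27, 10], [24, 21, 35, 25, 39, 16], [13, -137, -30, -103, -177, -43, -8, -21, -2, -4, -18, 10, -109, 41, 13, 2, 1, -9, -1, -8, -1, 9, -4, -9, 1, -3, 2, 0, 7, -7, 1]⟩) (.leaf ⟨6, 6, true, [6, 24, 8, 37, 32, 4], [21, 41, 35, 25, 19, 8], [-14,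 140, 31, 102, 178, 43, 8, 22, 2, 4, 18, -11, 109, -41, -14, -2, -1, 9, 1, 8, 1, -9, 4, 9, -1, 3, -2, 0, -7, 7, -1]⟩)))))) (.node 15 (.node 7 (.node 3 (.node 1 (.leaf ⟨6, 6, true, [37, 19, 14, 40, 6, 24], [26, 28, 34, 37, 38, 21], [19, 152, -20, 110, 193, 37, -25, 27, -25, 47, -13, -29, 42, -54, -18, -8, 6, 8, 16, 15, -3, -7, -2, 11, 1, 0, 2, 0, -11, -5, 2]⟩) (.node 1 (.leaf ⟨6, 6, true, [2, 35, 36, 40, 21, 22], [31, 2, 21, 27, 29, 34, 29], [57, -24, -62, 45, -76, -9, 1, -9, 6, 24, -7, -7, 26, 14, -11, -3, -2, -4, -8, -3, 0, 6, 0, -1, -1, -1, 6, 0, 1, 3]⟩) (.leaf ⟨6, 6, true, [19, 4, 37, 38, 38, 40, 20], [34, 30, 6, 4, 32, 11], [-56, 26, 62, -45, 76, 9, -1, 9, -6, -24, 7, 7, -28, -14, 10, 3, 2, 4, 8, 3, 0, -6, 0, 1, 1, 1, -6, 0, -1, -3]⟩))) (.node 2 (.node 1 (.leaf ⟨6, 6, true, [30, 0,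 42, 39, 8, 43, 22], [11, 31, 32, 43, 13, 25], [14, 75, -6, 57, 24, 28, -10, 22, -5, 8, -6, -8, 40, 8, -28, 7, 0, 1, 8, 0, 1, 9, 0, 4, 0, 2, -1, 0, -2, -5, 1]⟩) (.leaf ⟨6, 6, true, [18, 6, 37, 29, 39, 30, 19], [33, 28, 23, 6, 38, 0], [-13, -75, 6, -57, -24, -28, 10, -22, 5, -8, 6, 8, -38, -8, 27, -7, 0, -1, -8, 0, -1, -9, 0, -4, 0, -2, 1, 0, 2, 5, -1]⟩)) (.node 1 (.leaf ⟨6, 6, true, [12, 28, 41, 29, 29], [18, 16, 6, 28, 43, 18], [59, 74, -127, 114, 40, 63, -38, 11, -52, 58, -17, -22, 44, 10, 0, 2, 5, 3, 11, 4, 1, -15, -2, 3, 0, 7, -3, 0, -5, -5, 6]⟩) (.leaf ⟨6, 6, true, [18, 36, 43, 18, 8, 37], [10, 21, 43, 20, 31, 36], [3, 106, 69, 64, 245, 11, 6, 22, 1, 44, -17, -18, 29, -58, -52, -9, 1, 5, 13, 21, -7, 10, 0, 8, -1, -1, 2, 0, -7, -4, 2]⟩)))) (.node 4 (.node 2 (.node 1 (.leaf ⟨6, 6, true,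 [43, 27, 42, 33, 33, 25], [8, 0, 38, 25, 36, 22, 27], [-2, -104, -69, -64, -245, -11, -6, -22, -1, -44, 17, 18, -31, 58, 51, 9, -1, -5, -13, -21, 7, -10, 0, -8, 1, 1, -2, 0, 7, 4, -2]⟩) (.leaf ⟨6, 6, true, [10, 14, 31, 38, 23, 21], [29, 0, 33, 38, 10, 19, 23], [-32, 204, 132, 104, 462, 25, -4, 64, 0, 21, -40, -31, 115, -96, -94, -11, -1, 10, 19, 31, -11, 21, 3, 14, 0, 2, 2, 0, -11, -7, 1]⟩)) (.node 1 (.leaf ⟨6, 6, true, [39, 34, 14, 34, 10, 30], [21, 22, 40, 37, 19, 26], [33, -204, -132, -104, -462, -25, 4, -64, 0, -21, 40, 31, -113, 96, 93, 11, 1, -10, -19, -31, 11, -21, -3, -14, 0, -2, -2, 0, 11, 7, -1]⟩) (.leaf ⟨6, 6, true, [42, 29, 11, 35, 22, 2], [42, 33, 36, 29, 34, 26], [-18, 157, 61, 88, 205, 28, -24, 17, -10, -1, 12, -26, 65, -55, -33, -3, -3, 13, 12, 9, -1, 10, 4, 7, -2, -7,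 2, 0, -7, 1, 1]⟩))) (.node 2 (.node 1 (.leaf ⟨6, 6, true, [2, 29, 25, 20, 35, 16], [18, 2, 33, 6, 28, 40, 26], [23, 102, 9, 94, 228, 13, -9, 24, -14, 74, -45, -29, 20, -50, -47, -10, 3, 5, 18, 23, -8, 11, -2, 8, -2, 0, 1, 0, -10, -7, 3]⟩) (.leaf ⟨6, 6, true, [8, 0, 34, 33, 41, 25, 6], [12, 41, 23, 11, 35, 10], [-24, -98, -8, -95, -227, -13, 9, -23, 14, -74, 45, 28, -22, 50, 46, 10, -3, -5, -18, -23, 8, -11, 2, -8, 2, 0, -1, 0, 10, 7, -3]⟩)) (.node 1 (.leaf ⟨6, 6, true, [40, 25, 38, 30, 29, 18], [39, 0, 41, 39, 39, 31, 8], [-26, 89, 75, 28, 181, -5, -9, 43, -6, 11, -39, -13, 28, -20, -74, -6, -4, -1, 9, 16, -7, 19, 1, 8, -3, 2, 2, 0, -3, -4, 1]⟩) (.leaf ⟨6, 6, true, [4, 27, 10, 39, 24, 18], [19, 0, 43, 28, 39, 26, 8], [27, -89, -75, -28, -181, 5, 9, -43, 6, -11, 39, 13, -26, 20, 73, 6,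 4, 1, -9, -16, 7, -19, -1, -8, 3, -2, -2, 0, 3, 4, -1]⟩))))) (.node 8 (.node 4 (.node 2 (.node 1 (.leaf ⟨6, 6, true, [6, 19, 43, 21, 24, 2], [38, 35, 21, 2, 18, 11], [33, 236, 112, 185, 518, 54, 13, 81, 11, 66, -20, -48, 164, -113, -131, -6, -3, 8, 27, 33, -10, 26, 8, 17, 0, 5, -2, 0, -13, -8, -1]⟩) (.leaf ⟨6, 6, true, [12, 38, 40, 28, 37, 0], [24, 27, 12, 39, 28, 25], [5, 127, 52, 74, 169, 22, -19, 25, -6, -3, -14, -10, 31, -36, -32, -1, -2, 8, 9, 10, -3, 2, 1, 6, -1, 0, 1, 0, -3, -1, 2]⟩)) (.node 1 (.leaf ⟨6, 6, true, [35, 6, 23, 20, 38, 20, 26], [4, 36, 29, 41, 39, 13], [-4, -125, -52, -74, -169, -22, 19, -25, 6, 3, 14, 10, -33, 36, 31, 1, 2, -8, -9, -10, 3, -2, -1, -6, 1, 0, -1, 0, 3, 1, -2]⟩) (.leaf ⟨6, 6, true, [21, 6, 21, 16, 33, 40], [31, 2, 14, 28, 20, 40, 21], [-59, 243, 270,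 80, 648, 4, -1, 61, -14, 28, -21, -46, 73, -143, -153, -21, -14, 15, 18, 44, -17, 43, 7, 19, -3, -5, 9, 0, -14, -6, 3]⟩))) (.node 2 (.node 1 (.leaf ⟨6, 6, true, [2, 35, 28, 42, 21, 2], [39, 37, 39, 36, 42, 8], [-66, -78, 94, -106, 51, -53, 24, 6, 4, -22, -16, 4, -46, -2, -35, -6, -8, -6, -5, 6, -6, 17, 1, -3, -1, 0, 1, 0, 6, -3]⟩) (.leaf ⟨6, 6, true, [38, 40, 8, 20, 39, 29], [20, 41, 37, 28, 24, 6], [65, 82, -93, 105, -50, 53, -24, -5, -4, 22, 16, -5, 44, 2, 34, 6, 8, 6, 5, -6, 6, -17, -1, 3, 1, 0, -1, 0, -6, 3]⟩)) (.node 1 (.leaf ⟨6, 6, true, [26, 11, 39, 26, 28, 28], [18, 2, 16, 31, 6, 25, 8], [-21, -110, 51, -75, -38, -44, 23, -5, 12, -24, -3, 3, -8, 11, -33, -2, -5, -11, -12, -1, -3, 18, 2, -4, -1, 2, 3, 0, 7, -2]⟩) (.leaf ⟨6, 6, true, [23, 26, 37, 26, 18, 43], [8, 25, 40, 25, 43,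 8], [20, 114, -50, 74, 39, 44, -23, 6, -12, 24, 3, -4, 6, -11, 32, 2, 5, 11, 12, 1, 3, -18, -2, 4, 1, -2, -3, 0, -7, 2]⟩)))) (.node 4 (.node 2 (.node 1 (.leaf ⟨6, 6, true, [0, 12, 16, 34, 30, 2], [25, 4, 34, 19, 39, 36, 22], [-17, -70, -1, -41, -22, -23, 1, -5, -9, 5, -7, 2, -40, 4, 13, -2, -1, -3, -2, 1, -2, -1, -1, -3, 0, -3, 0, 0, 3, -4, 2]⟩) (.leaf ⟨6, 6, true, [0, 10, 35, 28, 38, 2], [40, 2, 38, 34], [16, 73, 2, 40, 23, 23, -1, 6, 9, -5, 7, -3, 40, -4, -14, 2, 1, 3, 2, -1, 2, 1, 1, 3, 0, 3, 0, 0, -3, 4, -2]⟩)) (.node 1 (.leaf ⟨6, 6, true, [30, 39, 20, 32, 27], [10, 22, 8, 26, 40, 6], [1, -98, -37, -63, -150, -26, 22, -18, 19, -4, -16, 15, -50, 38, 33, 4, 4, -3, -3, -9, 2, -1, -2, -9, 4, -2, -4, 0, 7, -1, -1]⟩) (.leaf ⟨6, 6, true, [20, 36, 10, 22, 35, 23], [28, 41, 27, 42, 41, 29],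 [23, 98, -20, 52, 22, 32, -41, -5, -12, -12, 30, -19, 3, -7, 26, 2, 1, 8, 2, -1, 4, -12, -1, 4, 0, 0, 1, 0, -8, 1, 1]⟩))) (.node 2 (.node 1 (.leaf ⟨6, 6, true, [36, 0, 23, 35, 13, 20, 19], [33, 8, 40, 14, 43, 20, 12], [-24, -95, 21, -53, -21, -32, 41, 6, 12, 12, -30, 18, -3, 7, -27, -2, -1, -8, -2, 1, -4, 12, 1, -4, 0, 0, -1, 0, 8, -1, -1]⟩) (.leaf ⟨6, 6, true, [8, 21, 31, 6, 38, 4], [25, 0, 19, 26, 40, 21, 18], [-94, -79, 165, -90, 129, -100, 46, 27, 27, -14, -14, 4, -14, -15, -82, -5, -30, -10, -10, 7, -9, 41, 9, -8, -1, -3, -1, 0, 7, -2, -2]⟩)) (.node 1 (.leaf ⟨6, 6, true, [27, 25, 42, 29, 41, 19], [0, 39, 6, 30, 20, 8], [93, 83, -164, 89, -128, 100, -46, -26, -27, 14, 14, -5, 12, 15, 81, 5, 30, 10, 10, -7, 9, -41, -9, 8, 1, 3, 1, 0, -7, 2, 2]⟩) (.leaf ⟨6, 6, true, [18, 38, 11, 42,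 39, 4], [41, 33, 40, 0, 43, 0], [15, 149, 72, 93, 290, 35, -6, 46, 7, 25, -3, -30, 75, -63, -65, -1, 0, 7, 13, 17, -4, 13, 2, 13, 2, 2, -3, 0, -10, -3, 2]⟩)))))))
noncomputable def dF1945 : BT Fct := (.node 30 (.node 15 (.node 7 (.node 3 (.node 1 (.leaf ⟨6, 6, true, [19, 4, 38, 23, 41, 26, 13], [38, 0, 20, 12, 35, 37, 29], [-8, 69, 36, 46, 158, 14, 1, 15, -16, 30, -9, -3, 45, -37, -26, -5, 2, 2, 11, 14, -5, 6, 1, 5, -2, -2, -1, 0, -4, -7, 3]⟩) (.node 1 (.leaf ⟨6, 6, true, [24, 31, 29, 40, 29, 36], [19, 42, 31, 19, 20, 10], [7, -65, -35, -47, -157, -14, -1, -14, 16, -30, 9, 2, -47, 37, 25, 5, -2, -2, -11, -14, 5, -6, -1, -5, 2, 2, 1, 0, 4, 7, -3]⟩) (.leaf ⟨6, 6, true, [21, 37, 24, 36, 6, 16], [41, 2, 38, 14, 43, 26], [57, -126, -159, -34, -367, 5, -19, -56, -7, -4, 29, 5, -76, 80, 78,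 12, 4, -6, -14, -24, 10, -15, -3, -11, -1, -1, -1, 0, 5, 5, 1]⟩))) (.node 2 (.node 1 (.leaf ⟨6, 6, true, [22, 11, 24, 37, 26, 33, 4], [19, 0, 27, 43, 32, 39, 28], [-58, 129, 160, 33, 368, -5, 19, 57, 7, 4, -29, -6, 76, -80, -79, -12, -4, 6, 14, 24, -10, 15, 3, 11, 1, 1, 1, 0, -5, -5, -1]⟩) (.leaf ⟨6, 6, true, [19, 4, 41, 27, 18, 11, 19], [26, 37, 21, 24, 34, 29], [27, 24, -19, 46, 8, 18, 7, 10, 0, 19, -27, -5, 52, 5, -11, 3, 5, 0, 4, 3, 0, 6, -2, 3, 0, 3, -3, 0, -3, -2, 1]⟩)) (.node 1 (.leaf ⟨6, 6, true, [28, 36, 28, 22, 26, 38], [18, 2, 12, 34, 23, 36, 18], [-28, -21, 20, -47, -7, -18, -7, -9, 0, -19, 27, 4, -52, -5, 10, -3, -5, 0, -4, -3, 0, -6, 2, -3, 0, -3, 3, 0, 3, 2, -1]⟩) (.leaf ⟨6, 6, true, [29, 43, 22, 42, 21, 35], [0, 39, 21, 43, 32, 8], [-6, -270, -79, -146, -254, -75, 10,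 -22, -33, 13, -21, 20, -133, 84, 11, -5, -9, -24, -25, -12, -1, 2, 1, -14, -2, 2, 0, 0, 12, 1, 5]⟩)))) (.node 4 (.node 2 (.node 1 (.leaf ⟨6, 6, true, [32, 8, 42, 20, 38, 0], [39, 12, 21, 39, 4, 6, 19], [7, 272, 79, 146, 254, 75, -10, 22, 33, -13, 21, -20, 131, -84, -12, 5, 9, 24, 25, 12, 1, -2, -1, 14, 2, -2, 0, 0, -12, -1, -5]⟩) (.leaf ⟨6, 6, true, [10, 33, 43, 37, 22, 10], [22, 11, 42, 25, 40, 35, 24], [29, -118, -83, -28, -84, -22, -5, -6, -43, 37, -23, 0, -68, 50, -42, -6, -7, -17, -10, -2, -2, 2, 3, -5, -1, 7, 1, 0, 6, 0, 5]⟩)) (.node 1 (.leaf ⟨6, 6, true, [30, 35, 11, 13, 26, 32], [0, 24, 39, 20, 16, 22], [-28, 118, 83, 28, 84, 22, 5, 6, 43, -37, 23, 0, 70, -50, 41, 6, 7, 17, 10, 2, 2, -2, -3, 5, 1, -7, -1, 0, -6, 0, -5]⟩) (.leaf ⟨6, 6, true, [40, 6, 36, 32, 20, 6, 27], [2, 23,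 25, 35, 12, 19], [40, 230, 84, 164, 447, 49, 0, 63, 2, 67, -37, -47, 118, -92, -123, -8, 4, 6, 29, 32, -10, 19, 4, 17, 2, 6, 0, 0, -12, -9]⟩))) (.node 2 (.node 1 (.leaf ⟨6, 6, true, [12, 36, 32, 37, 23, 12], [35, 21, 30, 40, 32], [-39, -230, -84, -164, -447, -49, 0, -63, -2, -67, 37, 47, -116, 92, 122, 8, -4, -6, -29, -32, 10, -19, -4, -17, -2, -6, 0, 0, 12, 9]⟩) (.leaf ⟨6, 6, true, [2, 0, 23, 40, 30, 41], [11, 4, 40, 10, 40, 39, 25], [-3, 156, 58, 109, 241, 30, -30, 10, -24, 9, 15, -31, 41, -65, -45, -7, -7, 9, 7, 15, -4, 3, 3, 10, -3, -6, 6, 0, -7, 2, 3]⟩)) (.node 1 (.leaf ⟨6, 6, true, [24, 0, 36, 19, 31, 36, 0], [30, 2, 24, 28, 18, 41], [2, -153, -57, -110, -240, -30, 30, -9, 24, -9, -15, 30, -41, 65, 44, 7, 7, -9, -7, -15, 4, -3, -3, -10, 3, 6, -6, 0, 7, -2, -3]⟩) (.leaf ⟨6, 6, true,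 [34, 0, 37, 31, 20, 35, 11], [12, 4, 24, 40, 23, 32, 21], [5, 304, 158, 165, 504, 32, 7, 83, 31, 20, -29, -43, 175, -124, -137, -11, -7, 13, 17, 35, -11, 34, 9, 21, 1, 2, 5, 0, -14, -6, -4]⟩))))) (.node 7 (.node 3 (.node 1 (.leaf ⟨6, 6, true, [22, 22, 33, 35, 21, 2], [20, 2, 23, 26, 28, 39, 16], [-4, -302, -158, -165, -504, -32, -7, -83, -31, -20, 29, 43, -177, 124, 136, 11, 7, -13, -17, -35, 11, -34, -9, -21, -1, -2, -5, 0, 14, 6, 4]⟩) (.node 1 (.leaf ⟨6, 6, true, [11, 22, 36, 30, 22, 21], [16, 0, 32, 10, 41, 23, 23], [51, 151, 18, 109, 128, 55, -14, 9, 11, 27, 35, -20, 72, -44, -35, 1, 5, 9, 14, 5, 2, 7, 1, 9, -1, -2, 3, 0, -9, 1]⟩) (.leaf ⟨6, 6, true, [14, 27, 37, 34, 12, 27], [28, 4, 14, 30, 37, 23, 10], [-50, -151, -18, -109, -128, -55, 14, -9, -11, -27, -35, 20, -70, 44, 34, -1,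 -5, -9, -14, -5, -2, -7, -1, -9, 1, 2, -3, 0, 9, -1]⟩))) (.node 2 (.node 1 (.leaf ⟨6, 5, true, [19, 24, 34, 27, 10, 10], [18, 35, 39, 36, 28, 11], [-49, -448, -91, -298, -518, -122, 34, -65, 9, -50, -7, 49, -230, 138, 94, 3, -10, -25, -41, -33, 4, -11, 0, -27, 1, 0, -4, 0, 26, 4]⟩) (.leaf ⟨5, 6, true, [2, 39, 39, 11, 25, 6], [22, 8, 30, 42, 25], [48, 449, 96, 295, 519, 122, -33, 66, -10, 48, 8, -49, 230, -138, -95, -3, 10, 25, 41, 33, -4, 11, 0, 27, -1, 0, 4, 0, -26, -4]⟩)) (.node 1 (.leaf ⟨6, 6, true, [2, 25, 43, 37, 14, 35], [35, 0, 26, 18, 42, 23, 23], [-7, -86, -14, -64, -138, -14, -2, -16, 15, -37, 11, 9, -42, 37, 30, 6, -4, -2, -10, -15, 5, -7, -1, -5, 2, 2, -1, 0, 4, 6, -3]⟩) (.leaf ⟨6, 6, true, [21, 36, 40, 35, 18, 38], [41, 41, 13, 35, 24, 2], [6, 90, 15, 63, 139, 14, 2, 17,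 -15, 37, -11, -10, 40, -37, -31, -6, 4, 2, 10, 15, -5, 7, 1, 5, -2, -2, 1, 0, -4, -6, 3]⟩)))) (.node 4 (.node 2 (.node 1 (.leaf ⟨6, 6, true, [22, 36, 31, 40, 29, 20], [6, 20, 10, 10, 43, 23], [22, 124, -56, 107, 139, 31, -20, 16, -38, 64, -12, -20, 34, -47, 2, -10, 10, 5, 14, 16, -4, -10, -2, 8, -1, -2, 2, 0, -9, -8, 4]⟩) (.leaf ⟨6, 6, true, [23, 0, 35, 37, 26, 42, 22], [38, 10, 34, 29, 12, 42, 26], [-21, -122, 56, -107, -139, -31, 20, -16, 38, -64, 12, 20, -36, 47, -3, 10, -10, -5, -14, -16, 4, 10, 2, -8, 1, 2, -2, 0, 9, 8, -4]⟩)) (.node 1 (.leaf ⟨6, 6, true, [24, 40, 35, 38, 28, 11], [22, 37, 24, 36, 8, 33], [-10, -116, -42, -72, -178, -22, 6, -24, 3, -17, 8, 20, -51, 39, 48, 3, 0, -5, -11, -12, 3, -11, -1, -8, 0, 0, -1, 0, 6, 3, -1]⟩) (.leaf ⟨6, 6, true, [14, 33, 37, 25, 36, 23], [36,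 40, 36, 24, 41, 25], [9, 120, 43, 71, 179, 22, -6, 25, -3, 17, -8, -21, 49, -39, -49, -3, 0, 5, 11, 12, -3, 11, 1, 8, 0, 0, 1, 0, -6, -3, 1]⟩))) (.node 2 (.node 1 (.leaf ⟨6, 6, true, [11, 22, 38, 31, 11, 26], [24, 32, 42, 26, 16, 2], [7, -177, -134, -81, -400, -11, -5, -38, -14, -24, 4, 39, -47, 91, 102, 9, 9, -6, -15, -26, 10, -27, -6, -9, 1, 3, -4, 0, 6, 4, 1]⟩) (.leaf ⟨6, 6, true, [8, 0, 27, 35, 21, 35, 27], [21, 27, 36, 43, 6, 42], [-48, 35, 102, -31, 147, -27, 9, 23, 22, -33, -10, 2, 30, -39, -31, -7, -9, 4, -5, 9, -4, 8, 4, 1, 3, 3, 0, 0, 0, 2, -4]⟩)) (.node 1 (.leaf ⟨6, 6, true, [24, 26, 39, 27, 41, 16], [12, 10, 18, 42, 24, 33], [47, -31, -101, 30, -146, 27, -9, -22, -22, 33, 10, -3, -32, 39, 30, 7, 9, -4, 5, -9, 4, -8, -4, -1, -3, -3, 0, 0, 0, -2, 4]⟩) (.leaf ⟨5, 6, true, [10,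 41, 39, 32, 30, 28], [22, 2, 25, 28, 19, 35, 22], [86, -175, -237, -4, -401, 17, -2, -65, -2, 25, 44, 23, -54, 74, 149, 14, 10, 0, -13, -31, 13, -35, -5, -16, 3, -3, -7, 0, 7, 3, 1]⟩)))))) (.node 15 (.node 7 (.node 3 (.node 1 (.leaf ⟨6, 5, true, [18, 28, 27, 39, 24, 18], [26, 18, 21, 36, 28, 8], [-87, 178, 238, 3, 402, -17, 2, 66, 2, -25, -44, -24, 54, -74, -150, -14, -10, 0, 13, 31, -13, 35, 5, 16, -3, 3, 7, 0, -7, -3, -1]⟩) (.node 1 (.leaf ⟨6, 6, true, [43, 13, 41, 37, 31], [29, 36, 13, 24, 42, 18], [43, -400, -118, -251, -496, -76, 13, -74, 9, -19, -12, 30, -234, 126, 88, 10, 10, -21, -16, -29, 4, -7, -11, -23, 3, -3, -1, 0, 21, -4, 3]⟩) (.leaf ⟨6, 6, true, [2, 26, 22, 34, 40], [26, 36, 12, 23, 41, 33], [44, -210, -136, -83, -316, -25, 16, -47, -3, -6, 32, 12, -80, 87, 86, 11, 3, -12,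 -21, -26, 8, -15, -3, -14, 2, 2, -4, 0, 10, 3, -1]⟩))) (.node 2 (.node 1 (.leaf ⟨6, 6, true, [8, 40, 22, 13, 37, 27], [0, 38, 26, 12, 35, 12], [-43, 212, 136, 83, 316, 25, -16, 47, 3, 6, -32, -12, 78, -87, -87, -11, -3, 12, 21, 26, -8, 15, 3, 14, -2, -2, 4, 0, -10, -3, 1]⟩) (.leaf ⟨6, 6, true, [25, 40, 21, 8, 40, 8], [11, 0, 18, 42, 8, 39, 6], [-7, 63, 86, 28, 212, 23, 22, 24, 20, 7, 23, -8, 62, -44, -54, 0, -4, 2, 9, 9, -3, 9, 7, 4, 0, 5, -2, 0, -2, -2, -4]⟩)) (.node 1 (.leaf ⟨6, 6, true, [38, 25, 25, 37, 21, 24], [38, 36, 35, 27, 41, 24], [8, -61, -86, -28, -212, -23, -22, -24, -20, -7, -23, 8, -64, 44, 53, 0, 4, -2, -9, -9, 3, -9, -7, -4, 0, -5, 2, 0, 2, 2, 4]⟩) (.leaf ⟨6, 6, true, [18, 8, 43, 6, 14, 24], [27, 0, 42, 20, 40, 32, 23], [-24, 61, 8, -21, -220, -18, -18, -12, 7, -56, 5,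 8, -26, 32, 4, 3, -8, -1, -6, -16, 5, 3, 4, -4, -4, 1, 8, 0, -2, 4, -2]⟩)))) (.node 4 (.node 2 (.node 1 (.leaf ⟨6, 6, true, [20, 41, 21, 43, 26, 0], [25, 11, 41, 22, 24, 23], [25, -61, -8, 21, 220, 18, 18, 12, -7, 56, -5, -8, 28, -32, -5, -3, 8, 1, 6, 16, -5, -3, -4, 4, 4, -1, -8, 0, 2, -4, 2]⟩) (.leaf ⟨6, 6, true, [34, 0, 12, 8, 20, 36, 28], [4, 41, 31, 6, 36, 24], [65, -62, -117, 34, -243, -2, -3, -13, 3, 12, -1, 3, 13, 65, 12, 8, -2, -8, -11, -17, 5, 5, -1, -5, -2, 1, 4, 0, 5, 1]⟩)) (.node 1 (.leaf ⟨6, 6, true, [32, 29, 19, 43, 32, 36], [20, 24, 38, 37, 37, 16], [-29, -137, -1, -112, -189, -33, 15, -29, 9, -32, 24, 25, -67, 44, 46, 3, -2, -6, -14, -14, 3, -6, 0, -9, -2, -1, 0, 0, 8, 3, -1]⟩) (.leaf ⟨6, 6, true, [11, 8, 39, 25, 21], [12, 0, 34, 32, 41, 13, 8], [28, 139, 2, 111, 190,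 33, -15, 30, -9, 32, -24, -26, 69, -44, -47, -3, 2, 6, 14, 14, -3, 6, 0, 9, 2, 1, 0, 0, -8, -3, 1]⟩))) (.node 2 (.node 1 (.leaf ⟨6, 6, true, [19, 40, 22, 37, 40, 28], [11, 37, 34, 8, 21], [21, -95, -101, -12, -199, -4, 4, -15, -15, -1, -6, 11, 9, 55, 33, 8, 1, -5, -8, -16, 5, -5, 0, -7, 1, 4, -2, 0, 6, -1, -1]⟩) (.leaf ⟨6, 6, true, [4, 30, 42, 18, 23, 32], [14, 2, 39, 11, 19, 38, 20], [-16, 295, 98, 154, 314, 79, -4, 30, 1, 5, 20, -7, 163, -89, -70, -4, 5, 14, 22, 22, -3, 10, 2, 16, -5, 0, 5, 0, -14, 1, -1]⟩)) (.node 1 (.leaf ⟨6, 6, true, [4, 35, 26, 43, 33, 23], [26, 25, 32, 40, 11, 31], [15, -292, -97, -155, -313, -79, 4, -29, -1, -5, -20, 6, -163, 89, 69, 4, -5, -14, -22, -22, 3, -10, -2, -16, 5, 0, -5, 0, 14, -1, 1]⟩) (.leaf ⟨6, 6, true, [6, 20, 39, 33, 23, 24], [24, 0, 34, 19, 34,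 22, 2], [-24, -74, 21, -52, 7, -12, 26, -7, 1, 8, -1, 23, -21, -6, 29, -6, 4, -3, -4, 7, -4, -11, -2, -2, -1, -1, -1, 0, 4, -2]⟩))))) (.node 7 (.node 3 (.node 1 (.leaf ⟨6, 6, true, [33, 2, 18, 0, 39, 37, 22], [14, 35, 32, 29, 39, 4], [23, 77, -20, 51, -6, 12, -26, 8, -1, -8, 1, -24, 21, 6, -30, 6, -4, 3, 4, -7, 4, 11, 2, 2, 1, 1, 1, 0, -4, 2]⟩) (.node 1 (.leaf ⟨6, 5, true, [13, 28, 13, 42, 27, 29], [11, 21, 0, 43, 4], [21, -71, -83, -48, -344, 32, -14, -67, -7, -75, 69, 11, -32, 66, 105, 16, 8, 4, -7, -30, 15, -34, -7, -5, -1, -3, 2, 0, 2, 11, -1]⟩) (.leaf ⟨5, 6, true, [0, 14, 12, 38, 8, 23], [19, 2, 34, 6, 34, 31, 21], [-22, 72, 88, 45, 345, -32, 15, 68, 6, 73, -68, -11, 32, -66, -106, -16, -8, -4, 7, 30, -15, 34, 7, 5, 1, 3, -2, 0, -2, -11, 1]⟩))) (.node 2 (.node 1 (.leaf ⟨6, 6, true,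 [36, 43, 41, 29, 21, 27], [42, 18, 28, 4, 38, 4], [60, -47, -204, 31, -467, 49, 1, -40, 54, -41, 38, 32, 45, 77, 161, 27, 22, 4, 0, -36, 18, -43, -8, -10, 5, 2, -10, 0, 3, 5, -8]⟩) (.leaf ⟨6, 6, true, [24, 2, 16, 31, 36, 23, 13], [39, 0, 39, 6, 33, 23, 21], [-15, -128, -68, -73, -259, -16, 5, -23, 2, -20, 14, 11, -51, 65, 60, 12, -2, -7, -11, -20, 6, -12, -1, -11, -1, 1, -3, 0, 9, 1, -1]⟩)) (.node 1 (.leaf ⟨6, 6, true, [30, 42, 2, 30, 43, 19], [20, 37, 39, 39, 43], [14, 132, 69, 72, 260, 16, -5, 24, -2, 20, -14, -12, 49, -65, -61, -12, 2, 7, 11, 20, -6, 12, 1, 11, 1, -1, 3, 0, -9, -1, 1]⟩) (.leaf ⟨5, 6, true, [25, 29, 36, 32, 29, 0], [8, 2, 20, 2, 26, 16, 27], [65, 239, -45, 197, 160, 79, -25, 27, 11, 17, 25, -34, 117, -47, 4, 8, 5, 16, 18, 3, 6, -10, -1, 11, 1, 0, -4, 0, -15, 2, 1]⟩))))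 (.node 4 (.node 2 (.node 1 (.leaf ⟨6, 5, true, [23, 39, 12, 29, 18, 4], [4, 28, 33, 37, 28, 24], [-66, -237, 46, -198, -159, -79, 25, -26, -11, -17, -25, 33, -115, 47, -5, -8, -5, -16, -18, -3, -6, 10, 1, -11, -1, 0, 4, 0, 15, -2, -1]⟩) (.leaf ⟨6, 6, true, [42, 19, 37, 32, 20, 8], [27, 38, 31, 21, 35, 30], [21, 196, 89, 83, 211, 17, -16, 31, 31, -7, -11, -20, 68, -57, -71, -4, -2, 8, 11, 14, -3, 20, 4, 11, 2, 2, 2, 0, -8, -4, -3]⟩)) (.node 1 (.leaf ⟨6, 6, true, [6, 18, 13, 21, 39, 26], [22, 4, 41, 38, 43, 21, 11], [-25, -181, -41, -134, -290, -43, 11, -38, 0, -37, 13, 38, -88, 62, 59, 3, -2, -11, -17, -19, 4, -13, -1, -13, -2, -1, 1, 0, 12, 4, -1]⟩) (.leaf ⟨5, 6, true, [20, 2, 18, 39, 24, 34, 6], [18, 2, 6, 25, 35, 22, 18], [-39, -484, -109, -294, -559, -137, 41, -68, 18, -45, -15, 45,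 -237, 147, 103, 5, -11, -25, -45, -35, 4, -9, -1, -28, 2, -1, -5, 0, 28, 4]⟩))) (.node 2 (.node 1 (.leaf ⟨6, 5, true, [11, 28, 43, 19, 29, 31], [24, 0, 19, 35, 25, 11, 20], [38, 487, 110, 293, 560, 137, -41, 69, -18, 45, 15, -46, 237, -147, -104, -5, 11, 25, 45, 35, -4, 9, 1, 28, -2, 1, 5, 0, -28, -4]⟩) (.leaf ⟨6, 6, true, [24, 28, 38, 25, 41, 22], [41, 24, 43, 41, 22, 0], [18, -444, -162, -279, -691, -103, 2, -81, 3, -34, -2, 65, -261, 153, 114, 9, 4, -25, -25, -42, 7, -9, -6, -30, 1, -3, 1, 0, 24, -2, -1]⟩)) (.node 1 (.leaf ⟨6, 6, true, [37, 42, 31, 21, 42, 41], [36, 4, 11, 32, 35, 39, 18], [-19, 447, 163, 278, 692, 103, -2, 82, -3, 34, 2, -66, 261, -153, -115, -9, -4, 25, 25, 42, -7, 9, 6, 30, -1, 3, -1, 0, -24, 2, 1]⟩) (.leaf ⟨6, 6, true, [20, 6, 42, 36, 26, 20], [14, 30, 42, 37,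 22, 28], [-11, -157, -73, -69, -240, -21, 2, -35, -7, -24, 29, 24, -51, 47, 84, 6, -1, -4, -14, -19, 6, -20, -1, -11, 0, -2, -2, 0, 7, 2]⟩)))))))
noncomputable def dF2005 : BT Fct := (.node 30 (.node 15 (.node 7 (.node 3 (.node 1 (.leaf ⟨6, 6, true, [28, 19, 34, 16, 41, 14], [12, 31, 35, 20, 18, 13], [10, 160, 74, 68, 241, 21, -2, 36, 7, 24, -29, -25, 51, -47, -85, -6, 1, 4, 14, 19, -6, 20, 1, 11, 0, 2, 2, 0, -7, -2]⟩) (.node 1 (.leaf ⟨6, 6, true, [10, 37, 20, 37, 39, 16], [29, 32, 29, 41, 21, 22], [-12, 32, -47, 59, -3, 17, -6, -5, -7, -6, 17, 1, 28, -3, 33, 2, -4, 1, -3, -5, 3, -18, 0, -1, 2, 2, -1, 0, -3, 1]⟩) (.leaf ⟨6, 6, true, [38, 0, 38, 31, 40, 6, 22], [8, 22, 20, 33, 34, 13], [13, -32, 47, -59, 3, -17, 6, 5, 7, 6, -17, -1, -26, 3, -34, -2, 4, -1, 3, 5, -3, 18, 0, 1, -2, -2, 1,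 0, 3, -1]⟩))) (.node 2 (.node 1 (.leaf ⟨6, 6, true, [18, 14, 11, 39, 27, 11], [23, 40, 27, 21, 38, 21], [81, -103, -132, 16, -233, 18, 27, -17, 7, 28, 21, 10, -17, 63, 35, 14, 10, -10, -13, -21, 9, -15, -3, -3, 2, 10, -7, 0, 6, 7, 1]⟩) (.leaf ⟨6, 6, true, [26, 10, 37, 26, 2, 22, 19], [31, 43, 22, 40, 23, 31], [-82, 105, 133, -17, 234, -18, -27, 18, -7, -28, -21, -11, 19, -63, -36, -14, -10, 10, 13, 21, -9, 15, 3, 3, -2, -10, 7, 0, -6, -7, -1]⟩)) (.node 1 (.leaf ⟨6, 6, true, [4, 2, 40, 19, 11, 38, 8], [30, 32, 6, 42, 11, 31], [6, -26, -69, -15, -197, 4, -36, -21, -7, -41, 21, 22, -29, 37, 65, 5, -2, 4, -8, -16, 7, -16, 1, -8, 1, -1, 1, 0, 1, 4, -3]⟩) (.leaf ⟨6, 6, true, [30, 16, 11, 39, 21, 22], [6, 16, 38, 40, 35, 16], [-5, 28, 69, 15, 197, -4, 36, 21, 7, 41, -21, -22, 27, -37, -66, -5,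 2, -4, 8, 16, -7, 16, -1, 8, -1, 1, -1, 0, -1, -4, 3]⟩)))) (.node 4 (.node 2 (.node 1 (.leaf ⟨6, 6, true, [14, 42, 32, 41, 30, 24], [8, 23, 13, 35, 18, 24], [14, 156, -30, 160, 170, 71, -29, 18, -6, -4, -18, -10, 132, -42, -4, 0, 9, 13, 17, 10, 0, -6, -2, 12, 0, -1, 2, 0, -11, -2, -2]⟩) (.leaf ⟨6, 6, true, [42, 22, 39, 36, 10, 25], [18, 33, 11, 39, 36, 21], [-13, -156, 30, -160, -170, -71, 29, -18, 6, 4, 18, 10, -130, 42, 3, 0, -9, -13, -17, -10, 0, 6, 2, -12, 0, 1, -2, 0, 11, 2, 2]⟩)) (.node 1 (.leaf ⟨6, 6, true, [42, 4, 35, 21, 2, 27, 6], [33, 34, 33, 43, 37, 12], [57, -110, -145, -1, -222, 17, 5, -42, -11, 20, 9, 17, -46, 46, 71, 6, 9, -5, -5, -15, 6, -19, -3, -8, 1, 0, -2, 0, 3, 1, -1]⟩) (.leaf ⟨6, 6, true, [29, 32, 38, 43, 43, 36], [14, 27, 41, 34, 37, 28], [-56, 110, 145, 1, 222,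 -17, -5, 42, 11, -20, -9, -17, 48, -46, -72, -6, -9, 5, 5, 15, -6, 19, 3, 8, -1, 0, 2, 0, -3, -1, 1]⟩))) (.node 2 (.node 1 (.leaf ⟨6, 6, true, [20, 0, 39, 40, 2, 26, 25], [16, 25, 39, 24, 42, 2], [25, -45, -119, -13, -139, 30, -30, -25, -28, -5, 9, 2, -14, 48, 89, 5, 15, -2, -7, -9, 6, -30, -5, 0, 0, 4, -1, 0, -3, -1, -1]⟩) (.leaf ⟨6, 6, true, [23, 0, 16, 32, 43, 13, 22], [2, 40, 26, 43, 23, 19], [-26, 49, 120, 12, 140, -30, 30, 26, 28, 5, -9, -3, 12, -48, -90, -5, -15, 2, 7, 9, -6, 30, 5, 0, 0, -4, 1, 0, 3, 1, 1]⟩)) (.node 1 (.leaf ⟨6, 6, true, [21, 8, 11, 43, 25, 13], [8, 10, 28, 36, 23, 41, 24], [-32, 33, 115, -13, 180, -17, 26, 32, 21, -16, -17, -11, 41, -34, -67, -5, -6, -2, 0, 12, -6, 27, 4, 3, 1, 1, 1, 0, -2, -2, -2]⟩) (.leaf ⟨6, 6, true, [40, 33, 38, 22, 36, 2], [8, 22, 42, 40,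 35, 20], [31, -30, -114, 12, -179, 17, -26, -31, -21, 16, 17, 10, -41, 34, 66, 5, 6, 2, 0, -12, 6, -27, -4, -3, -1, -1, -1, 0, 2, 2, 2]⟩))))) (.node 7 (.node 3 (.node 1 (.leaf ⟨6, 6, true, [21, 40, 26, 22, 37], [11, 33, 31, 34, 39, 22], [33, 474, 168, 355, 1028, 58, -29, 128, -20, 158, -108, -102, 194, -215, -218, -33, -4, 16, 50, 82, -28, 35, 2, 39, -1, 3, 2, 0, -31, -16, 4]⟩) (.node 1 (.leaf ⟨6, 6, true, [8, 28, 13, 36, 18, 8], [20, 2, 18, 41, 14, 11], [-34, -470, -167, -356, -1027, -58, 29, -127, 20, -158, 108, 101, -196, 215, 217, 33, 4, -16, -50, -82, 28, -35, -2, -39, 1, -3, -2, 0, 31, 16, -4]⟩) (.leaf ⟨6, 6, true, [10, 29, 34, 29, 25, 30], [32, 2, 24, 10, 35, 41, 20], [61, -11, -123, 67, -106, 49, -8, -6, -28, 43, -24, 12, 27, 27, 34, 4, 17, -1, 6, -3, 4, -15, -5, 3, 2, 5, -3,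 0, -6, -4, 3]⟩))) (.node 2 (.node 1 (.leaf ⟨6, 6, true, [29, 0, 36, 30, 40, 28, 0], [30, 42, 27, 14, 42], [-60, 11, 123, -67, 106, -49, 8, 6, 28, -43, 24, -12, -25, -27, -35, -4, -17, 1, -6, 3, -4, 15, 5, -3, -2, -5, 3, 0, 6, 4, -3]⟩) (.leaf ⟨6, 6, true, [16, 43, 24, 19, 28, 6], [0, 42, 29, 25, 29, 13], [-65, -51, 98, -84, 142, -38, -2, 6, 3, -5, -25, 6, -32, -41, -13, -13, -7, 1, 2, 18, -10, 6, 1, -1, 0, -5, 3, 0, 0, -6, -1]⟩)) (.node 1 (.leaf ⟨6, 6, true, [6, 21, 43, 43, 34, 2], [19, 28, 6, 23, 42, 16], [66, 53, -98, 84, -142, 38, 2, -6, -3, 5, 25, -6, 30, 41, 12, 13, 7, -1, -2, -18, 10, -6, -1, 1, 0, 5, -3, 0, 0, 6, 1]⟩) (.leaf ⟨6, 6, true, [43, 26, 12, 39, 32, 42], [27, 8, 42, 19, 14, 11, 27], [128, -76, -276, 96, -316, 57, -7, -22, -45, 42, -21, -3, 11, 102, 69, 16, 24, -11, -7,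 -28, 14, -22, -7, -2, 1, 6, -7, 0, 4, 4, 4]⟩)))) (.node 4 (.node 2 (.node 1 (.leaf ⟨6, 6, true, [34, 2, 24, 42, 10, 21, 27], [37, 23, 36, 32, 23, 4], [-7, 420, 186, 226, 647, 77, 8, 76, -3, 37, -54, -44, 235, -138, -174, -14, 6, 14, 31, 48, -14, 37, 4, 30, -3, 5, 7, 0, -20, -5, -2]⟩) (.leaf ⟨6, 6, true, [37, 31, 34, 31, 35, 23], [39, 0, 19, 28, 39, 18, 30], [6, -417, -185, -227, -646, -77, -8, -75, 3, -37, 54, 43, -235, 138, 173, 14, -6, -14, -31, -48, 14, -37, -4, -30, 3, -5, -7, 0, 20, 5, 2]⟩)) (.node 1 (.leaf ⟨6, 6, true, [23, 0, 27, 2, 28, 34], [14, 0, 40, 10, 42, 38, 24], [29, 365, 51, 268, 382, 86, -19, 23, -28, 10, -2, -42, 208, -89, -97, -5, -1, 16, 17, 22, -2, 17, 6, 20, -4, -1, 7, 0, -17, 5, -1]⟩) (.leaf ⟨6, 6, true, [18, 35, 25, 34, 6, 36], [4, 6, 14, 29, 40, 34, 23], [-31,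 317, 171, 146, 566, 55, -32, 84, -19, 26, -52, -32, 146, -123, -132, -17, -1, 13, 25, 41, -13, 20, 5, 25, 1, 5, 5, 0, -18, -9]⟩))) (.node 2 (.node 1 (.leaf ⟨6, 6, true, [42, 0, 41, 31, 27, 2, 29], [6, 4, 24, 40, 33, 11, 13], [30, -313, -170, -147, -565, -55, 32, -83, 19, -26, 52, 31, -148, 123, 131, 17, 1, -13, -25, -41, 13, -20, -5, -25, -1, -5, -5, 0, 18, 9]⟩) (.leaf ⟨6, 6, true, [18, 4, 23, 32, 38, 11, 22], [20, 2, 21, 28, 40, 13, 21], [35, 457, 82, 336, 623, 147, -31, 74, 6, 50, -11, -45, 263, -154, -109, -5, 7, 29, 43, 42, -7, 7, 1, 33, -2, 1, 2, 0, -27, -4, 1]⟩)) (.node 1 (.leaf ⟨6, 6, true, [28, 12, 36, 19, 20, 12], [38, 20, 29, 42, 26, 13], [-7, 135, 49, 99, 312, 10, -1, 45, -13, 71, -70, -31, 56, -59, -81, -13, 4, 1, 19, 32, -12, 20, -1, 12, -2, 1, 2, 0, -10, -10, 2]⟩) (.leaf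 ⟨6, 6, true, [6, 29, 40, 16, 23, 14], [19, 14, 27, 43, 35, 29], [8, -133, -49, -99, -312, -10, 1, -45, 13, -71, 70, 31, -58, 59, 80, 13, -4, -1, -19, -32, 12, -20, 1, -12, 2, -1, -2, 0, 10, 10, -2]⟩)))))) (.node 15 (.node 7 (.node 3 (.node 1 (.leaf ⟨6, 6, true, [29, 33, 25, 40, 22, 36], [14, 19, 35, 11, 25, 35], [-11, 22, 46, -18, 2, 19, -1, 3, 13, -63, 52, -2, 50, -1, 22, 10, -5, 6, -9, -11, 6, -10, 3, -1, 1, 4, -2, 0, 2, 6, -2]⟩) (.node 1 (.leaf ⟨6, 6, true, [10, 0, 37, 12, 23, 35, 26], [42, 27, 16, 36, 4, 29], [-23, 437, 199, 213, 725, 88, -60, 90, -16, 20, -39, -50, 200, -171, -128, -20, 1, 25, 30, 50, -13, 15, 6, 30, 2, 5, 6, 0, -28, -6, -1]⟩) (.leaf ⟨6, 6, true, [28, 37, 28, 12, 41, 0], [21, 0, 40, 25, 28, 35, 26], [35, -94, -34, -63, -289, 12, 18, -32, 37, -76, 79, 14, 10, 59,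 66, 24, 0, 4, -16, -39, 17, -5, 4, -8, 7, -2, -7, 0, 7, 9, -4]⟩))) (.node 2 (.node 1 (.leaf ⟨6, 6, true, [28, 18, 6, 43, 21, 41], [4, 40, 13, 29, 36, 29], [-36, 97, 35, 62, 290, -12, -18, 33, -37, 76, -79, -15, -10, -59, -67, -24, 0, -4, 16, 39, -17, 5, -4, 8, -7, 2, 7, 0, -7, -9, 4]⟩) (.leaf ⟨6, 6, true, [21, 34, 36, 2, 25, 31], [33, 11, 43, 33, 26, 36], [68, 410, 53, 306, 503, 151, -27, 49, -7, 35, 5, -41, 235, -117, -77, 0, 15, 25, 40, 30, -2, 2, -1, 30, -1, 1, 2, 0, -26, -4, 1]⟩)) (.node 1 (.leaf ⟨6, 6, true, [18, 35, 32, 11, 39, 10], [20, 25, 10, 6, 36, 20], [-69, -406, -52, -307, -502, -151, 27, -48, 7, -35, -5, 40, -237, 117, 76, 0, -15, -25, -40, -30, 2, -2, 1, -30, 1, -1, -2, 0, 26, 4, -1]⟩) (.leaf ⟨6, 6, true, [25, 36, 42, 31, 13, 36], [33, 4, 39, 39, 21, 40, 21], [-34, 41,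 58, 42, 294, 7, 19, 41, 3, 14, -17, -39, 51, -35, -28, 1, -5, 2, 13, 17, -7, 3, -2, 3, 1, 3, -5, 0, -4, -6]⟩)))) (.node 4 (.node 2 (.node 1 (.leaf ⟨6, 6, true, [8, 10, 35, 42, 34, 23, 25], [12, 21, 43, 39, 25, 41], [33, -37, -57, -43, -293, -7, -19, -40, -3, -14, 17, 38, -53, 35, 27, -1, 5, -2, -13, -17, 7, -3, 2, -3, -1, -3, 5, 0, 4, 6]⟩) (.leaf ⟨6, 6, true, [6, 28, 12, 22, 34, 39], [31, 6, 21, 40, 16, 14, 25], [-4, 32, 7, 22, 31, 13, -12, 0, -7, -6, 6, -6, 11, -7, -5, -1, 0, 0, 2, 1, 0, -2, 0, 2, -1, -2, 3, 0, -2, 0, 1]⟩)) (.node 1 (.leaf ⟨6, 6, true, [38, 8, 33, 6, 14, 42, 19], [20, 0, 42, 41, 39, 32, 27], [5, -32, -7, -22, -31, -13, 12, 0, 7, 6, -6, 6, -9, 7, 4, 1, 0, 0, -2, -1, 0, 2, 0, -2, 1, 2, -3, 0, 2, 0, -1]⟩) (.leaf ⟨6, 6, true, [6, 2, 13, 28, 34, 30, 26], [37, 11, 18, 43,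 4, 30], [16, 250, 83, 151, 363, 48, -15, 46, 23, 14, 4, -45, 107, -79, -52, 0, -1, 15, 21, 22, -4, 8, 1, 13, 2, -2, -1, 0, -14, -2, -1]⟩))) (.node 2 (.node 1 (.leaf ⟨6, 6, true, [41, 23, 38, 37, 35, 23], [27, 31, 34, 29, 39, 6], [-17, -246, -82, -152, -362, -48, 15, -45, -23, -14, -4, 44, -109, 79, 51, 0, 1, -15, -21, -22, 4, -8, -1, -13, -2, 2, 1, 0, 14, 2, 1]⟩) (.leaf ⟨6, 6, true, [20, 38, 14, 42, 2, 4], [19, 6, 23, 34, 26, 37, 22], [4, 50, 10, 36, 70, 8, 3, 7, -3, 15, -15, -5, 16, -20, -17, -2, 2, 2, 4, 9, -2, 2, -1, 3, 0, 1, -2, 0, -2, 0, 1]⟩)) (.node 1 (.leaf ⟨6, 6, true, [26, 35, 25, 0, 2, 22], [43, 2, 4, 39, 21], [-5, -46, -9, -37, -69, -8, -3, -6, 3, -15, 15, 4, -18, 20, 16, 2, -2, -2, -4, -9, 2, -2, 1, -3, 0, -1, 2, 0, 2, 0, -1]⟩) (.leaf ⟨6, 6, true, [35, 0, 21, 4, 34, 19, 11],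 [42, 25, 12, 42, 21, 13], [6, 335, 15, 213, 228, 103, -48, 27, -8, -18, 24, -17, 198, -69, -24, 2, 8, 16, 22, 11, 3, -21, -3, 20, -3, 2, 1, 0, -12, 7, -1]⟩))))) (.node 8 (.node 4 (.node 2 (.node 1 (.leaf ⟨6, 6, true, [24, 37, 8, 43, 20, 31], [30, 32, 34, 33, 12, 40], [-59, -344, -4, -280, -374, -129, 36, -40, -6, -44, -14, 25, -188, 109, 60, 1, -8, -25, -36, -24, 1, 3, 1, -24, 1, 1, -1, 0, 21, 0, -1]⟩) (.leaf ⟨6, 6, true, [28, 26, 8, 43, 27, 23], [2, 19, 35, 30, 32, 34], [58, 346, 5, 279, 375, 129, -36, 41, 6, 44, 14, -26, 190, -109, -61, -1, 8, 25, 36, 24, -1, -3, -1, 24, -1, -1, 1, 0, -21, 0, 1]⟩)) (.node 1 (.leaf ⟨6, 6, true, [43, 41, 20, 20, 39, 16], [24, 6, 40, 25, 39, 16], [14, 197, 110, 106, 378, 42, 13, 59, -5, 35, -31, -28, 129, -56, -98, -3, 2, 4, 14, 23, -7, 25, 3, 18, 0, 4,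 -1, 0, -10, -7, 1]⟩) (.leaf ⟨6, 6, true, [37, 24, 27, 43, 30, 34], [10, 29, 33, 18, 39, 24], [15, 142, 33, 76, 135, 43, -19, 24, -7, -4, -1, -19, 65, -26, -44, 3, 0, 4, 10, 8, 0, 1, 2, 9, 3, 2, 0, 0, -6, -1, -1]⟩))) (.node 2 (.node 1 (.leaf ⟨6, 6, true, [39, 32, 42, 34, 16, 32], [24, 8, 28, 38, 31, 43], [-14, -140, -33, -76, -135, -43, 19, -24, 7, 4, 1, 19, -67, 26, 43, -3, 0, -4, -10, -8, 0, -1, -2, -9, -3, -2, 0, 0, 6, 1, 1]⟩) (.leaf ⟨6, 6, true, [23, 2, 36, 26, 34, 30, 21], [34, 0, 32, 39, 18, 12, 16], [33, -190, -102, -75, -177, -32, -3, -36, -17, 34, -36, -17, -120, 53, -4, 3, 2, -8, -5, -7, -2, 14, 2, -8, -2, -9, -1, 0, 15, -3, 4]⟩)) (.node 1 (.leaf ⟨6, 6, true, [12, 42, 34, 23, 38, 14], [41, 42, 41, 32, 42, 36], [-32, 192, 102, 75, 177, 32, 3, 36, 17, -34, 36, 17, 118, -53, 3,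 -3, -2, 8, 5, 7, 2, -14, -2, 8, 2, 9, 1, 0, -15, 3, -4]⟩) (.leaf ⟨6, 6, true, [2, 28, 37, 42, 10, 2], [35, 32, 11, 21, 38, 21], [18, 16, -31, 45, 61, -9, -5, 8, -11, 65, -43, -9, -22, -15, -31, -10, 5, -3, 12, 14, -6, 10, -3, 3, -1, -1, 1, 0, -5, -6, 2]⟩)))) (.node 4 (.node 2 (.node 1 (.leaf ⟨6, 6, true, [8, 0, 28, 41, 32, 41, 20], [4, 43, 31, 37, 10, 4], [-19, -12, 32, -46, -60, 9, 5, -7, 11, -65, 43, 8, 20, 15, 30, 10, -5, 3, -12, -14, 6, -10, 3, -3, 1, 1, -1, 0, 5, 6, -2]⟩) (.leaf ⟨6, 6, true, [10, 0, 28, 39, 23, 19, 24], [12, 21, 32, 35, 21, 11], [-9, 29, -24, 40, 86, -8, -7, 9, -17, 53, -46, -18, -4, -14, -15, -9, 3, -1, 10, 15, -6, 7, -3, 3, -2, -4, 1, 0, -5, -6, 2]⟩)) (.node 1 (.leaf ⟨6, 6, true, [18, 2, 27, 23, 33, 35, 12], [16, 41, 39, 26, 41], [10, -29, 24, -40, -86, 8, 7, -9,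 17, -53, 46, 18, 6, 14, 14, 9, -3, 1, -10, -15, 6, -7, 3, -3, 2, 4, -1, 0, 5, 6, -2]⟩) (.leaf ⟨6, 6, true, [29, 34, 19, 11, 18, 32], [26, 23, 40, 32, 13, 18], [-3, -5, 9, -8, 6, 0, 8, 3, -2, -1, 3, -2, 3, -1, -2, -1, -1, 0, -1, 0, 0, 3, 0, 0, 0, 0, 0, 0, -1]⟩))) (.node 2 (.node 1 (.leaf ⟨6, 6, true, [27, 33, 0, 41, 22, 27], [37, 2, 37, 27, 40, 28, 4], [2, 8, -8, 7, -5, 0, -8, -2, 2, 1, -3, 1, -3, 1, 1, 1, 1, 0, 1, 0, 0, -3, 0, 0, 0, 0, 0, 0, 1]⟩) (.leaf ⟨6, 6, true, [11, 2, 25, 40, 33, 41, 2], [14, 39, 43, 34, 12, 18], [4, 109, 55, 51, 261, 27, -25, 38, -24, 24, -45, -16, 56, -53, -45, -10, 5, 7, 11, 17, -6, 1, 0, 13, 4, 6, 2, 0, -9, -6]⟩)) (.node 1 (.leaf ⟨6, 6, true, [22, 32, 42, 28, 18, 31], [20, 2, 40, 18, 26, 37, 21], [-5, -106, -54, -52, -260, -27, 25, -37, 24, -24, 45, 15, -56,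 53, 44, 10, -5, -7, -11, -17, 6, -1, 0, -13, -4, -6, -2, 0, 9, 6]⟩) (.leaf ⟨6, 6, true, [33, 0, 19, 39, 28, 6, 14], [10, 28, 43, 10, 27, 14], [-38, 52, 133, -41, 264, -9, 28, 53, 23, 27, -53, -2, 25, -52, -74, -9, 7, -2, 13, 26, -12, 19, -2, 10, 1, 6, 0, 0, -3, -10, -1]⟩)))))))
noncomputable def dF2066 : BT Fct := (.node 30 (.node 15 (.node 7 (.node 3 (.node 1 (.leaf ⟨6, 6, true, [27, 39, 37, 18, 16], [31, 0, 14, 26, 38, 23, 2], [39, -52, -133, 41, -264, 9, -28, -53, -23, -27, 53, 2, -23, 52, 73, 9, -7, 2, -13, -26, 12, -19, 2, -10, -1, -6, 0, 0, 3, 10, 1]⟩) (.node 1 (.leaf ⟨6, 6, true, [32, 0, 34, 27, 38, 11, 24], [16, 40, 21, 36, 38, 20], [-77, -278, 76, -268, -213, -121, 55, -3, 5, -46, -1, 32, -125, 68, 23, 0, -12, -20, -35, -13, -2, 18, 5, -19, 0, 4, -5, 0, 18, -1, -2]⟩) (.leaf ⟨6,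 6, true, [38, 31, 41, 2, 22, 2], [41, 11, 29, 16, 41, 33, 11], [78, 278, -76, 268, 213, 121, -55, 3, -5, 46, 1, -32, 127, -68, -24, 0, 12, 20, 35, 13, 2, -18, -5, 19, 0, -4, 5, 0, -18, 1, 2]⟩))) (.node 2 (.node 1 (.leaf ⟨6, 6, true, [18, 41, 11, 37, 11, 32], [18, 43, 19, 40, 20, 26], [2, -425, -256, -241, -754, -94, -14, -76, -20, -18, -20, 54, -246, 151, 172, 5, 7, -20, -31, -42, 10, -41, -9, -29, 1, 1, 0, 0, 19, 4, 1]⟩) (.leaf ⟨6, 6, true, [18, 40, 27, 41, 23, 24], [30, 11, 30, 35, 19, 4], [-3, 427, 257, 240, 755, 94, 14, 77, 20, 18, 20, -55, 248, -151, -173, -5, -7, 20, 31, 42, -10, 41, 9, 29, -1, -1, 0, 0, -19, -4, -1]⟩)) (.node 1 (.leaf ⟨6, 6, true, [26, 0, 19, 20, 10, 2, 22], [36, 27, 43, 21, 27, 24], [-18, 33, 84, -20, 98, -13, 6, 14, 25, -45, 13, -15, 18, -20, -23, -2, -7, 3,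 -7, 3, -1, 18, 4, 1, 1, 0, 2, 0, -4, 1, -3]⟩) (.leaf ⟨6, 6, true, [24, 32, 29, 42, 26, 37], [25, 38, 12, 24, 29, 6], [19, -33, -84, 20, -98, 13, -6, -14, -25, 45, -13, 15, -16, 20, 22, 2, 7, -3, 7, -3, 1, -18, -4, -1, -1, 0, -2, 0, 4, -1, 3]⟩)))) (.node 4 (.node 2 (.node 1 (.leaf ⟨6, 6, true, [12, 10, 18, 40, 37, 25], [6, 29, 25, 38, 4, 41], [-8, 6, 38, -9, 103, -16, 14, 5, 3, 10, -20, 4, -1, -27, -32, -8, 0, -1, 2, 10, -5, 7, 2, 3, -1, -1, 1]⟩) (.leaf ⟨6, 6, true, [4, 0, 38, 10, 25, 34, 24], [24, 36, 34, 32, 41, 43], [7, -3, -37, 8, -102, 16, -14, -4, -3, -10, 20, -5, 1, 27, 31, 8, 0, 1, -2, -10, 5, -7, -2, -3, 1, 1, -1]⟩)) (.node 1 (.leaf ⟨6, 6, true, [22, 39, 30, 33, 11, 18], [4, 31, 37, 42, 24, 8], [-14, -177, 27, -130, -249, -48, 19, -36, 37, -74, 32, 25, -71, 68, 28, 11, -10, -6,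 -20, -25, 7, 5, 1, -13, 1, 1, -3, 0, 12, 11, -4]⟩) (.leaf ⟨6, 6, true, [2, 22, 30, 43, 36, 8], [19, 10, 30, 33, 38, 23], [15, 177, -27, 130, 249, 48, -19, 36, -37, 74, -32, -25, 73, -68, -29, -11, 10, 6, 20, 25, -7, -5, -1, 13, -1, -1, 3, 0, -12, -11, 4]⟩))) (.node 2 (.node 1 (.leaf ⟨6, 6, true, [32, 31, 27, 37, 34, 25], [13, 33, 34, 24, 41, 19], [-87, 343, 308, 127, 586, 2, 6, 67, 4, -12, 9, -39, 145, -144, -180, -14, -26, 20, 21, 34, -13, 56, 12, 19, -5, -6, 10, 0, -16, -1]⟩) (.leaf ⟨6, 6, true, [18, 0, 16, 37, 34, 41, 16], [2, 23, 42, 41, 22, 19], [86, -339, -307, -128, -585, -2, -6, -66, -4, 12, -9, 38, -147, 144, 179, 14, 26, -20, -21, -34, 13, -56, -12, -19, 5, 6, -10, 0, 16, 1]⟩)) (.node 1 (.leaf ⟨6, 6, true, [16, 0, 22, 38, 37, 43, 25], [26, 43, 14, 18, 35, 8], [-5, 8, -109, 35,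 -43, -6, -29, -2, -31, 60, -16, -7, -33, -19, 48, -11, 7, 2, 6, 7, -3, -19, -3, -2, -2, -4, 2, 0, -3, -5, 3]⟩) (.leaf ⟨6, 6, true, [13, 35, 14, 27, 20, 0], [29, 37, 27, 25, 35, 33], [6, -6, 109, -35, 43, 6, 29, 2, 31, -60, 16, 7, 31, 19, -49, 11, -7, -2, -6, -7, 3, 19, 3, 2, 2, 4, -2, 0, 3, 5, -3]⟩))))) (.node 7 (.node 3 (.node 1 (.leaf ⟨6, 6, true, [32, 39, 21, 26, 41, 29], [6, 35, 41, 4, 28, 10], [-20, -59, 88, -98, -37, -30, 30, -4, 36, -32, 36, 4, -55, -5, -8, -1, -5, -3, -7, -3, 0, 11, 2, -5, 0, -2, 1, 0, 1, 6, -3]⟩) (.node 1 (.leaf ⟨6, 6, true, [11, 31, 16, 40, 34, 6], [24, 11, 36, 28, 36, 40], [19, 61, -87, 97, 38, 30, -30, 5, -36, 32, -36, -5, 57, 5, 7, 1, 5, 3, 7, 3, 0, -11, -2, 5, 0, 2, -1, 0, -1, -6, 3]⟩) (.leaf ⟨6, 6, true, [34, 10, 38, 4, 39, 30], [27, 0, 23, 42, 8, 36, 29],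 [11, -154, -122, -71, -182, -6, -5, -38, -3, 12, -16, 16, -83, 51, 122, 0, 18, 1, -4, -9, 4, -37, -11, -10, 6, -3, -7, 0, 7, 1, 1]⟩))) (.node 2 (.node 1 (.leaf ⟨6, 6, true, [32, 2, 34, 33, 39, 31, 27], [30, 34, 25, 20, 37, 0], [28, -292, -145, -168, -652, -30, 6, -79, 43, -101, 109, 36, -112, 119, 167, 28, -1, 0, -31, -63, 24, -28, 1, -25, 7, -5, -7, 0, 16, 15, -5]⟩) (.leaf ⟨6, 6, true, [22, 2, 22, 37, 8, 35, 23], [6, 0, 37, 27, 32, 42, 27], [-29, 295, 146, 167, 653, 30, -6, 80, -43, 101, -109, -37, 112, -119, -168, -28, 1, 0, 31, 63, -24, 28, -1, 25, -7, 5, 7, 0, -16, -15, 5]⟩)) (.node 1 (.leaf ⟨6, 6, true, [40, 42, 31, 42, 10, 13], [43, 11, 32, 29, 42, 26], [30, -314, -200, -152, -410, -53, -2, -62, 1, 17, -28, 30, -184, 107, 147, 2, 13, -10, -19, -23, 6, -36, -10, -21, 7, -3, -10,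 0, 18, 2, 1]⟩) (.leaf ⟨6, 6, true, [2, 28, 30, 33, 41, 8], [23, 4, 31, 38, 24, 10, 12], [21, 62, -27, 39, 82, 34, 1, 21, 11, 36, -14, 2, 34, -30, 13, 0, 11, 3, 13, 10, -2, -8, -6, 5, 1, 5, -3, 0, -6, -5, -3]⟩)))) (.node 4 (.node 2 (.node 1 (.leaf ⟨6, 6, true, [21, 41, 24, 32, 13, 0], [41, 26, 28, 26, 2], [-22, -59, 28, -40, -81, -34, -1, -20, -11, -36, 14, -3, -34, 30, -14, 0, -11, -3, -13, -10, 2, 8, 6, -5, -1, -5, 3, 0, 6, 5, 3]⟩) (.leaf ⟨5, 6, true, [34, 11, 43, 22, 8, 6, 31], [18, 35, 10, 26, 36, 21], [76, -318, -258, -112, -557, -33, -1, -76, -12, 20, -22, 22, -182, 146, 129, 15, 10, -14, -15, -33, 9, -27, -9, -21, 0, -2, -6, 0, 16, 2, 3]⟩)) (.node 1 (.leaf ⟨6, 5, true, [34, 4, 18, 42, 30, 25, 13], [31, 0, 10, 2, 22, 36, 21], [-77, 321, 259, 111, 558, 33, 1, 77, 12, -20, 22, -23,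 182, -146, -130, -15, -10, 14, 15, 33, -9, 27, 9, 21, 0, 2, 6, 0, -16, -2, -3]⟩) (.leaf ⟨6, 6, true, [4, 2, 27, 10, 43, 43, 6], [31, 26, 35, 31, 18, 16], [25, 531, 234, 362, 933, 111, -25, 104, -11, 58, 10, -101, 259, -218, -207, -14, -12, 29, 39, 53, -13, 32, 14, 38, 3, -1, 4, 0, -28, -4]⟩))) (.node 2 (.node 1 (.leaf ⟨6, 6, true, [8, 41, 38, 36, 27, 30], [19, 0, 19, 10, 22, 42, 22], [-26, -527, -233, -363, -932, -111, 25, -103, 11, -58, -10, 100, -261, 218, 206, 14, 12, -29, -39, -53, 13, -32, -14, -38, -3, 1, -4, 0, 28, 4]⟩) (.leaf ⟨6, 6, true, [12, 11, 38, 36, 28, 35, 26], [35, 6, 14, 22, 14, 34, 18], [12, 46, -38, 21, -88, 15, -39, -27, -1, -29, 33, 4, -24, -9, 54, -4, 1, 14, -3, -5, 5, -15, 2, -2, 1, -6, 4, 0, -5, 5, -1]⟩)) (.node 1 (.leaf ⟨6, 6, true, [22, 38, 32, 39, 25, 22], [19,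 0, 13, 26, 39, 25, 25], [-13, -42, 39, -22, 89, -15, 39, 28, 1, 29, -33, -5, 22, 9, -55, 4, -1, -14, 3, 5, -5, 15, -2, 2, -1, 6, -4, 0, 5, -5, 1]⟩) (.leaf ⟨6, 6, true, [31, 12, 34, 23, 40, 32, 24], [23, 27, 41, 22, 35, 30], [-24, 318, 144, 179, 574, 59, -5, 79, -3, 36, -30, -44, 185, -132, -126, -11, -5, 16, 29, 38, -11, 20, 7, 19, 3, 4, 2, 0, -14, -11, -2]⟩)))))) (.node 15 (.node 7 (.node 3 (.node 1 (.leaf ⟨6, 6, true, [0, 33, 40, 31, 21, 21], [12, 11, 25, 37, 40, 6], [5, 94, 26, 66, 137, 24, 11, 17, 17, 14, -10, -7, 62, -30, -15, 2, 0, 9, 10, 8, -1, 5, 0, 5, 1, 0, -4, 0, -5, -2]⟩) (.node 1 (.leaf ⟨6, 6, true, [32, 34, 27, 4, 39, 30], [26, 42, 16, 39, 10, 21], [-18, 79, 7, 9, -33, 5, -26, 6, 20, -44, 9, -4, 17, 7, 38, 5, -3, 12, 3, -7, 5, -7, 0, -1, 2, -1, -3, 0, -4, 2, -3]⟩) (.leaf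 ⟨6, 6, true, [14, 2, 32, 41, 21, 35], [25, 27, 6, 21, 38, 23], [30, -124, -81, -50, -174, -17, -6, -22, -24, 11, 0, 6, -65, 43, 21, 0, 4, -11, -10, -11, 2, -7, -1, -6, 1, 2, 1, 0, 6, 2]⟩))) (.node 2 (.node 1 (.leaf ⟨6, 6, true, [35, 8, 27, 36, 4, 29], [38, 0, 13, 29, 23, 37, 30], [-31, 128, 82, 49, 175, 17, 6, 23, 24, -11, 0, -7, 63, -43, -22, 0, -4, 11, 10, 11, -2, 7, 1, 6, -1, -2, -1, 0, -6, -2]⟩) (.leaf ⟨6, 6, true, [19, 25, 42, 8, 41], [14, 30, 24, 39, 35, 16], [-33, 145, 132, 69, 371, 11, 5, 50, -14, 19, -14, -25, 91, -83, -61, -11, -7, 8, 11, 21, -8, 16, 3, 12, 2, 5, 1, 0, -12, -9, -2]⟩)) (.node 1 (.leaf ⟨6, 6, true, [27, 43, 43, 24, 43, 16], [4, 32, 34, 43, 6, 22], [32, -143, -131, -70, -370, -11, -5, -49, 14, -19, 14, 24, -89, 83, 60, 11, 7, -8, -11, -21, 8, -16, -3, -12, -2,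 -5, -1, 0, 12, 9, 2]⟩) (.leaf ⟨6, 6, true, [41, 43, 27, 23, 35, 21], [4, 2, 30, 40, 33, 36, 19], [25, -156, -111, -79, -372, -24, -2, -41, -11, -15, 15, 24, -78, 78, 57, 3, 2, -8, -18, -26, 8, -11, -1, -13, 0, 2, 3, 0, 10, 5]⟩)))) (.node 4 (.node 2 (.node 1 (.leaf ⟨6, 6, true, [28, 36, 23, 26, 30, 6], [28, 0, 11, 39, 24, 37, 24], [-24, 156, 111, 79, 372, 24, 2, 41, 11, 15, -15, -24, 80, -78, -58, -3, -2, 8, 18, 26, -8, 11, 1, 13, 0, -2, -3, 0, -10, -5]⟩) (.leaf ⟨6, 6, true, [6, 31, 14, 25, 42, 16], [43, 24, 40, 42, 29, 18], [-66, 148, 102, 10, 136, -10, -19, 38, 20, -36, 2, 2, 50, -35, -4, -3, -10, 13, 6, 5, -1, 2, 4, 2, 2, 1, -2, 0, -6, -1, -4]⟩)) (.node 1 (.leaf ⟨6, 6, true, [16, 10, 21, 35, 18, 28, 19], [31, 0, 34, 32, 24, 2, 18], [67, -146, -102, -10, -136, 10, 19, -38, -20, 36, -2,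 -2, -52, 35, 3, 3, 10, -13, -6, -5, 1, -2, -4, -2, -2, -1, 2, 0, 6, 1, 4]⟩) (.leaf ⟨6, 6, true, [39, 40, 40, 12, 25], [36, 0, 18, 40, 27, 40, 25], [-37, -209, -59, -139, -380, -51, 6, -31, 14, -58, 26, 23, -91, 93, 88, 12, -5, -9, -19, -28, 7, -13, 0, -18, -2, -1, -3, 0, 14, 2, -1]⟩))) (.node 2 (.node 1 (.leaf ⟨6, 6, true, [11, 24, 37, 28, 22, 41], [24, 11, 38, 29, 22], [36, 212, 60, 138, 381, 51, -6, 32, -14, 58, -26, -24, 91, -93, -89, -12, 5, 9, 19, 28, -7, 13, 0, 18, 2, 1, 3, 0, -14, -2, 1]⟩) (.leaf ⟨6, 6, true, [43, 0, 43, 21, 30, 6, 19], [43, 22, 40, 24, 22, 11], [-64, 5, 96, -44, 40, -32, 32, 26, 26, -31, 12, 8, 22, -2, -20, 5, -8, -2, 0, -2, -1, 14, 3, -1, 0, 0, -4, 0, 5, -5, -2]⟩)) (.node 1 (.leaf ⟨6, 6, true, [26, 20, 18, 38, 29, 23], [41, 4, 35, 20, 40, 38, 27], [65, -5, -96,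 44, -40, 32, -32, -26, -26, 31, -12, -8, -20, 2, 19, -5, 8, 2, 0, 2, 1, -14, -3, 1, 0, 0, 4, 0, -5, 5, 2]⟩) (.leaf ⟨6, 6, true, [35, 37, 28, 38, 8, 18], [2, 0, 40, 12, 43, 35, 18], [31, 297, 120, 188, 575, 55, 11, 71, 1, 77, -46, -43, 152, -127, -130, -16, 5, 13, 27, 42, -13, 27, 3, 23, 1, 1, 4, 0, -19, -4, -1]⟩))))) (.node 8 (.node 4 (.node 2 (.node 1 (.leaf ⟨6, 6, true, [19, 33, 39, 39, 30, 25], [36, 0, 43, 20, 34, 16], [-32, -293, -119, -189, -574, -55, -11, -70, -1, -77, 46, 42, -154, 127, 129, 16, -5, -13, -27, -42, 13, -27, -3, -23, -1, -1, -4, 0, 19, 4, 1]⟩) (.leaf ⟨6, 6, true, [16, 35, 22, 27, 11, 18], [2, 31, 37, 21, 16, 32], [1, 22, 19, 11, 5, 4, -15, -5, 4, -22, 8, 9, -22, -10, 23, 0, -3, 4, -1, 0, 0, -15, 0, -1, 0, -2, 0, 0, 0, 4, 1]⟩)) (.node 1 (.leaf ⟨6, 6, true, [26, 37,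 30, 2, 43, 24], [6, 10, 32, 37, 6, 8], [0, -22, -19, -11, -5, -4, 15, 5, -4, 22, -8, -9, 24, 10, -24, 0, 3, -4, 1, 0, 0, 15, 0, 1, 0, 2, 0, 0, 0, -4, -1]⟩) (.leaf ⟨6, 6, true, [20, 41, 31, 38, 40], [25, 40, 34, 2, 20, 41], [-21, 309, 73, 165, 298, 75, -26, 69, 2, 11, -4, -8, 159, -113, -54, -7, 8, 20, 26, 23, -2, 0, -1, 23, 1, 4, 2, 0, -21, -2, -2]⟩))) (.node 2 (.node 1 (.leaf ⟨6, 6, true, [18, 31, 18, 21, 41, 26], [20, 25, 6, 41, 31, 10], [-15, -27, 23, -16, 49, -18, 0, 6, -15, 16, 0, 0, -20, -5, -21, -6, -3, -4, -3, 7, -4, 6, 1, 1, -4, 0, 3, 0, 1, -2, 2]⟩) (.leaf ⟨6, 6, true, [6, 20, 36, 42, 34, 16], [18, 4, 43, 21, 35, 31, 23], [24, 106, 41, 87, 131, 40, -14, 14, 12, -25, 42, -24, 89, -33, -1, 7, -3, 11, 1, -3, 5, 2, 3, 9, 4, -1, -5, 0, -10, 4, -1]⟩)) (.node 1 (.leaf ⟨6, 6, true, [19,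 6, 33, 40, 12, 42], [4, 28, 39, 23, 33, 26], [-23, -104, -41, -87, -131, -40, 14, -14, -12, 25, -42, 24, -91, 33, 0, -7, 3, -11, -1, 3, -5, -2, -3, -9, -4, 1, 5, 0, 10, -4, 1]⟩) (.leaf ⟨6, 6, true, [38, 8, 40, 37, 30, 42], [8, 29, 43, 33, 22, 0], [45, 11, -43, 24, -76, 32, 2, -22, -11, -5, 42, 8, -9, 21, 55, 8, 8, 3, 0, -11, 7, -14, -3, 0, 1, -1, -4, 0, -3, 0, 2]⟩)))) (.node 4 (.node 2 (.node 1 (.leaf ⟨6, 6, true, [0, 28, 10, 22, 40, 24], [37, 23, 26, 34, 42, 22], [-46, -7, 44, -25, 77, -32, -2, 23, 11, 5, -42, -9, 7, -21, -56, -8, -8, -3, 0, 11, -7, 14, 3, 0, -1, 1, 4, 0, 3, 0, -2]⟩) (.leaf ⟨6, 6, true, [29, 8, 35, 27, 2, 21, 0], [28, 35, 25, 36, 4, 27], [7, -116, -88, -45, -235, -13, 1, -39, 0, -8, 38, 18, -72, 50, 82, 7, 2, -4, -8, -18, 7, -20, -5, -10, -1, -3, -4, 0, 5, 5, 1]⟩)) (.node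 1 (.leaf ⟨6, 6, true, [43, 4, 34, 40, 8, 33, 2], [26, 2, 38, 42, 32, 25, 25], [-8, 119, 89, 44, 236, 13, -1, 40, 0, 8, -38, -19, 72, -50, -83, -7, -2, 4, 8, 18, -7, 20, 5, 10, 1, 3, 4, 0, -5, -5, -1]⟩) (.leaf ⟨6, 6, true, [12, 21, 41, 26, 28, 16], [26, 6, 29, 33, 43, 6, 19], [22, -162, -55, -53, -110, -25, 24, -28, -20, 37, 2, 8, -72, 22, -7, -2, 1, -16, -11, -3, -2, 2, -1, -5, -1, 0, 2, 0, 8, -1, 3]⟩))) (.node 2 (.node 1 (.leaf ⟨6, 6, true, [19, 11, 34, 31, 21, 30], [18, 18, 21, 40, 20, 13], [-21, 164, 55, 53, 110, 25, -24, 28, 20, -37, -2, -8, 70, -22, 6, 2, -1, 16, 11, 3, 2, -2, 1, 5, 1, 0, -2, 0, -8, 1, -3]⟩) (.leaf ⟨6, 6, true, [23, 40, 31, 26, 32, 0], [4, 29, 41, 35, 28, 11], [-21, -302, -124, -188, -512, -49, 17, -36, -24, -36, -17, 42, -105, 118, 76, 9, 1, -18, -28, -33, 8, -10,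 -1, -19, -2, 5, -1, 0, 17, 4]⟩)) (.node 1 (.leaf ⟨6, 6, true, [4, 34, 33, 38, 36, 36], [6, 33, 34, 4, 30, 8], [34, 140, 38, 147, 310, 37, 26, 57, 12, 67, -5, -34, 106, -63, -93, 3, -4, 0, 24, 17, -5, 19, 5, 10, -1, 4, -6, 0, -7, -8]⟩) (.leaf ⟨6, 6, true, [22, 14, 41, 22, 36, 43], [24, 6, 36, 29, 25, 38, 10], [-43, 258, 170, 104, 481, 44, 6, 74, 3, -7, -1, -39, 161, -101, -71, -3, -3, 14, 13, 31, -7, 19, 4, 18, -1, 3, -3, 0, -15, -6, -1]⟩)))))))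
noncomputable def dF2127 : BT Fct := (.node 30 (.node 15 (.node 7 (.node 3 (.node 1 (.leaf ⟨6, 6, true, [42, 21, 25, 2, 29, 25], [40, 0, 33, 8, 43, 36, 26], [44, -256, -170, -104, -481, -44, -6, -74, -3, 7, 1, 39, -163, 101, 70, 3, 3, -14, -13, -31, 7, -19, -4, -18, 1, -3, 3, 0, 15, 6, 1]⟩) (.node 1 (.leaf ⟨6, 5, true, [41, 20, 40, 28, 18], [41, 4, 38, 42, 20, 40, 30], [31, -75, -99, -8, -166, 10, -15, -32, -2, -2, 10, -9, -35, 47, 53, 7, 6, -1, -2, -12, 6, -12, -4, -4, -1, -3, -1, 0, 2, 2]⟩) (.leaf ⟨5, 6, true, [41, 0, 41, 19, 14, 10, 25], [13, 41, 14, 21, 40], [-37, 42, 99, -18, 131, -21, 18, 28, 2, -3, -10, 13, 18, -38, -49, -7, -7, -1, -1, 10, -6, 12, 4, 2, 1, 3, 1, 0, 0, -2]⟩))) (.node 2 (.node 1 (.leaf ⟨6, 6, true, [43, 30, 43, 4, 40, 30], [26, 41, 11, 30, 6, 23], [47, 178, -2,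 135, 18, 79, -20, 9, 12, 0, 51, -10, 110, -20, -20, 10, 3, 12, 13, -5, 9, 3, 0, 10, -1, -1, -1, 0, -11, 7, -1]⟩) (.leaf ⟨6, 6, true, [19, 41, 29, 43, 16, 13], [22, 43, 25, 22, 22, 12], [-46, -178, 2, -135, -18, -79, 20, -9, -12, 0, -51, 10, -108, 20, 19, -10, -3, -12, -13, 5, -9, -3, 0, -10, 1, 1, 1, 0, 11, -7, 1]⟩)) (.node 1 (.leaf ⟨6, 6, true, [28, 40, 4, 38, 28, 39], [2, 16, 23, 35, 41, 0], [6, -170, -105, -71, -357, -35, -7, -58, 4, -55, 66, 28, -73, 73, 123, 8, -1, -5, -17, -34, 12, -30, -5, -16, 1, -2, -2, 0, 7, 10, -3]⟩) (.leaf ⟨6, 6, true, [30, 19, 29, 37, 32, 2], [11, 32, 14, 39, 35, 25], [-7, 173, 106, 70, 358, 35, 7, 59, -4, 55, -66, -29, 73, -73, -124, -8, 1, 5, 17, 34, -12, 30, 5, 16, -1, 2, 2, 0, -7, -10, 3]⟩)))) (.node 4 (.node 2 (.node 1 (.leaf ⟨6, 6, true, [2, 21, 41,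 34, 39], [18, 27, 41, 31, 23, 8], [39, -94, -102, -21, -192, 4, -6, -29, -5, 2, -5, 1, -42, 49, 49, 9, 7, -3, -5, -12, 5, -7, -4, -5, 0, -1, -3, 0, 4, 1]⟩) (.leaf ⟨6, 6, true, [14, 22, 30, 40, 26, 19], [2, 25, 31, 36, 13, 0], [-40, 96, 103, 20, 193, -4, 6, 30, 5, -2, 5, -2, 44, -49, -50, -9, -7, 3, 5, 12, -5, 7, 4, 5, 0, 1, 3, 0, -4, -1]⟩)) (.node 1 (.leaf ⟨6, 6, true, [18, 20, 38, 35, 16, 42], [28, 31, 39, 27, 23, 12], [-4, 219, 126, 111, 336, 33, -13, 62, 27, -8, -12, -40, 116, -77, -111, -3, -6, 8, 19, 19, -5, 21, 10, 11, 3, 4, 1, 0, -8, -4, -4]⟩) (.leaf ⟨6, 6, true, [0, 31, 27, 41, 36, 29], [24, 2, 21, 2, 27, 10, 2], [5, -217, -126, -111, -336, -33, 13, -62, -27, 8, 12, 40, -118, 77, 110, 3, 6, -8, -19, -19, 5, -21, -10, -11, -3, -4, -1, 0, 8, 4, 4]⟩))) (.node 2 (.node 1 (.leaf ⟨6,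 6, true, [25, 2, 32, 10, 35, 28, 20], [0, 4, 40, 28, 21, 10], [-7, -292, -34, -210, -287, -76, 13, -52, -5, -27, -19, 29, -142, 73, 75, 0, 6, -12, -15, -19, 1, -3, -5, -16, 3, -3, 0, 0, 13, -4, -1]⟩) (.leaf ⟨6, 6, true, [6, 28, 42, 35, 41, 34], [31, 24, 2, 31, 28, 38], [-34, 301, 192, 141, 512, 39, 28, 79, 15, 41, -17, -39, 133, -115, -167, -9, -11, 12, 18, 38, -11, 42, 9, 19, -3, 4, 4, 0, -14, -3, 1]⟩)) (.node 1 (.leaf ⟨6, 6, true, [38, 27, 25, 41, 20, 14], [11, 39, 40, 37, 29, 6], [35, -299, -192, -141, -512, -39, -28, -79, -15, -41, 17, 39, -135, 115, 166, 9, 11, -12, -18, -38, 11, -42, -9, -19, 3, -4, -4, 0, 14, 3, -1]⟩) (.leaf ⟨6, 6, true, [24, 4, 32, 13, 38, 20, 23], [38, 28, 27, 38, 21, 18], [-36, -142, -11, -98, -57, -41, 17, -22, -18, 20, -35, 17, -68, 17, 8, -5, -1, -8, -3,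 1, -4, -6, -2, -7, 1, 3, 1, 0, 6, -5, 2]⟩))))) (.node 7 (.node 3 (.node 1 (.leaf ⟨6, 6, true, [37, 12, 34, 16, 33, 38], [20, 37, 24, 43, 37, 29], [37, 142, 11, 98, 57, 41, -17, 22, 18, -20, 35, -17, 70, -17, -9, 5, 1, 8, 3, -1, 4, 6, 2, 7, -1, -3, -1, 0, -6, 5, -2]⟩) (.node 1 (.leaf ⟨6, 6, true, [13, 0, 34, 28, 40, 19, 31], [27, 33, 28, 43, 29, 13], [-58, -3, 125, -50, 232, -40, 20, 33, 24, 6, -39, -26, 26, -52, -85, -9, -8, -1, -2, 20, -11, 33, 6, 6, 2, 2, 0, 0, 1, -8, -1]⟩) (.leaf ⟨6, 6, true, [10, 26, 33, 34, 32, 10], [26, 2, 29, 12, 25, 39, 18], [-13, -31, -40, -2, -74, -8, -16, -8, -22, -23, -1, -3, -6, 29, 37, 2, -1, -3, -6, -7, 3, -10, -3, -2, -1, 1, 0, 0, 0, -1, 1]⟩))) (.node 2 (.node 1 (.leaf ⟨6, 6, true, [26, 4, 40, 35, 39, 37], [43, 31, 41, 31, 13, 8], [14, 31, 40, 2, 74, 8,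 16, 8, 22, 23, 1, 3, 8, -29, -38, -2, 1, 3, 6, 7, -3, 10, 3, 2, 1, -1, 0, 0, 0, 1, -1]⟩) (.leaf ⟨6, 6, true, [43, 8, 37, 43, 2], [43, 18, 22, 34, 28, 19], [50, -428, -128, -271, -557, -86, 21, -75, 6, -13, -49, 36, -247, 136, 81, 9, 12, -23, -16, -27, 2, -3, -12, -23, 4, -2, -2, 0, 24, -7, 3]⟩)) (.node 1 (.leaf ⟨6, 6, true, [11, 18, 28, 37, 30, 33, 22], [25, 40, 2, 38, 31], [-51, 432, 129, 270, 558, 86, -21, 76, -6, 13, 49, -37, 245, -136, -82, -9, -12, 23, 16, 27, -2, 3, 12, 23, -4, 2, 2, 0, -24, 7, -3]⟩) (.leaf ⟨6, 6, true, [41, 13, 34, 22, 38, 25], [16, 27, 41, 33, 12, 35], [-60, -17, 58, -46, 95, -24, 32, 14, 6, 15, -47, 3, 28, -1, -12, -2, 2, -1, 3, 8, -5, 13, -2, 2, -1, -1, -5, 0, 3, -4, -1]⟩)))) (.node 4 (.node 2 (.node 1 (.leaf ⟨6, 6, true, [43, 19, 24, 14, 40, 24], [25, 22, 40,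 36, 33, 28], [61, 19, -58, 46, -95, 24, -32, -14, -6, -15, 47, -3, -30, 1, 11, 2, -2, 1, -3, -8, 5, -13, 2, -2, 1, 1, 5, 0, -3, 4, 1]⟩) (.leaf ⟨6, 6, true, [18, 20, 42, 14, 24, 11], [18, 0, 39, 22, 36, 4, 0], [31, 75, -20, 90, 226, 17, 9, 22, 4, 79, -33, -29, 35, -45, -57, -6, 3, 2, 15, 22, -8, 9, 1, 5, 1, 3, -1, 0, -4, -8, 2]⟩)) (.node 1 (.leaf ⟨6, 6, true, [40, 43, 6, 4, 43, 33], [18, 26, 38, 40, 6, 27], [-32, -73, 21, -91, -225, -17, -9, -21, -4, -79, 33, 28, -33, 45, 56, 6, -3, -2, -15, -22, 8, -9, -1, -5, -1, -3, 1, 0, 4, 8, -2]⟩) (.leaf ⟨6, 6, true, [18, 41, 21, 39, 27, 30], [11, 0, 26, 38, 20, 6, 22], [27, -328, -146, -152, -257, -47, 10, -48, -27, 32, -34, 22, -149, 70, 105, -4, 14, -14, -19, -10, 0, -25, -9, -14, 3, -3, -5, 0, 15, -1, 3]⟩))) (.node 2 (.node 1 (.leaf ⟨6, 6, true,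 [6, 43, 6, 37, 35, 29], [23, 19, 30, 2, 33, 35], [-14, -19, -24, -15, -66, 6, -9, -15, -19, 14, -11, 19, -24, 13, 25, -1, 8, 0, 6, 0, 0, -17, -4, 0, -1, -3, -1, 0, 4, 0, 3]⟩) (.leaf ⟨6, 6, true, [19, 37, 40, 16, 21, 31], [25, 18, 35, 41, 34, 22], [13, 21, 25, 14, 67, -6, 9, 16, 19, -14, 11, -20, 26, -13, -26, 1, -8, 0, -6, 0, 0, 17, 4, 0, 1, 3, 1, 0, -4, 0, -3]⟩)) (.node 1 (.leaf ⟨6, 6, true, [8, 23, 30, 37, 43, 19], [38, 23, 2, 28, 42, 22], [-46, -87, 71, -85, 49, -47, 21, -3, 9, -12, -30, 14, -51, -11, -14, -9, -4, -5, -7, 9, -7, 2, 2, -2, 0, -1, 1, 0, 5]⟩) (.leaf ⟨6, 6, true, [39, 0, 2, 18, 42, 18, 30], [18, 35, 13, 19, 10, 0], [45, 89, -70, 84, -48, 47, -21, 4, -9, 12, 30, -15, 53, 11, 13, 9, 4, 5, 7, -9, 7, -2, -2, 2, 0, 1, -1, 0, -5]⟩)))))) (.node 15 (.node 7 (.node 3 (.node 1 (.leaf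 ⟨6, 6, true, [11, 12, 33, 39, 39, 39], [11, 32, 34, 32, 19, 0], [-38, -242, -54, -125, -209, -79, 10, -23, -21, -23, -32, 14, -91, 63, 46, -2, -6, -12, -21, -10, -2, 1, -2, -13, 1, 0, 0, 0, 12, -5, 1]⟩) (.node 1 (.leaf ⟨6, 6, true, [21, 34, 28, 41, 31, 11], [6, 2, 33, 38, 35, 14, 31], [39, 244, 54, 125, 209, 79, -10, 23, 21, 23, 32, -14, 89, -63, -47, 2, 6, 12, 21, 10, 2, -1, 2, 13, -1, 0, 0, 0, -12, 5, -1]⟩) (.leaf ⟨6, 6, true, [28, 4, 35, 24, 27, 22], [12, 0, 35, 22, 24, 43, 18], [30, 130, 38, 88, 137, 37, 16, 22, 6, 11, 12, -18, 77, -29, -46, 3, 4, 4, 5, 5, 1, 7, 2, 11, -1, 4, 0, 0, -6, 2, 1]⟩))) (.node 2 (.node 1 (.leaf ⟨6, 6, true, [32, 2, 28, 19, 42, 30, 22], [24, 41, 38, 36, 4, 29], [-31, -128, -37, -89, -136, -37, -16, -21, -6, -11, -12, 17, -75, 29, 45, -3, -4, -4, -5, -5, -1,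 -7, -2, -11, 1, -4, 0, 0, 6, -2, -1]⟩) (.leaf ⟨6, 6, true, [6, 4, 29, 43, 19, 31], [41, 0, 42, 38, 37, 21, 13], [-58, 116, 145, 16, 323, 4, -17, 6, -3, -7, 27, -12, -1, -91, -23, -16, -7, 10, 6, 24, -9, -8, 0, 9, -4, -1, 5, 0, -8, 0, 3]⟩)) (.node 1 (.leaf ⟨6, 6, true, [37, 42, 28, 41, 20, 43], [23, 0, 14, 24, 37, 43, 29], [59, -116, -145, -16, -323, -4, 17, -6, 3, 7, -27, 12, 3, 91, 22, 16, 7, -10, -6, -24, 9, 8, 0, -9, 4, 1, -5, 0, 8, 0, -3]⟩) (.leaf ⟨6, 6, true, [6, 10, 21, 34, 31, 22], [11, 0, 20, 32, 43, 18, 28], [-75, 247, 216, 56, 382, 30, 5, 53, 22, -39, -1, -12, 142, -93, -93, -3, -4, 13, 14, 25, -7, 26, 7, 16, -3, 0, 4, 0, -11, -3, -3]⟩)))) (.node 4 (.node 2 (.node 1 (.leaf ⟨6, 6, true, [8, 0, 23, 34, 19, 40, 25], [2, 27, 37, 11, 41, 30], [74, -244, -215, -57, -381, -30, -5,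 -52, -22, 39, 1, 11, -142, 93, 92, 3, 4, -13, -14, -25, 7, -26, -7, -16, 3, 0, -4, 0, 11, 3, 3]⟩) (.leaf ⟨6, 6, true, [35, 20, 23, 24], [11, 27, 40, 0, 40, 43], [3, -98, -70, -70, -208, 0, 1, -28, -8, -4, 18, 13, -67, 47, 64, 7, 3, -2, -7, -16, 6, -17, -2, -8, -1, 1, -3, 0, 4, 3, 1]⟩)) (.node 1 (.leaf ⟨6, 6, true, [13, 36, 32, 35, 28, 0], [27, 20, 27, 34], [-4, 101, 71, 69, 209, 0, -1, 29, 8, 4, -18, -14, 67, -47, -65, -7, -3, 2, 7, 16, -6, 17, 2, 8, 1, -1, 3, 0, -4, -3, -1]⟩) (.leaf ⟨6, 6, true, [11, 37, 32, 43, 10, 10], [38, 10, 32, 13, 40], [-65, -236, -62, -170, -370, -43, 16, -14, -39, -37, -42, 39, -48, 95, 50, 6, 0, -16, -21, -24, 4, -3, 0, -15, -3, 7, 0, 0, 14, -2]⟩))) (.node 2 (.node 1 (.leaf ⟨6, 6, true, [22, 43, 34, 39, 39, 0], [22, 25, 43, 16, 30, 36], [64, 238, 63, 169, 371,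 43, -16, 15, 39, 37, 42, -40, 50, -95, -51, -6, 0, 16, 21, 24, -4, 3, 0, 15, 3, -7, 0, 0, -14, 2]⟩) (.leaf ⟨6, 6, true, [19, 37, 29, 38, 19, 19], [26, 31, 37, 20, 12, 38], [55, -144, -260, 33, -605, 17, -50, -84, -35, -59, 88, 34, -37, 118, 193, 18, 1, 8, -20, -51, 24, -52, -3, -17, -1, -7, -5, 0, 3, 16, 3]⟩)) (.node 1 (.leaf ⟨6, 6, true, [39, 2, 43, 11, 28], [32, 6, 30, 23, 40, 27, 16], [-9, -10, -65, 29, -219, 15, -17, -13, -20, -39, 15, 13, 49, 51, 30, 11, -3, 4, -6, -21, 10, -2, 1, -4, -1, -3, -1, 0, 4, 6]⟩) (.leaf ⟨6, 6, true, [24, 39, 26, 34, 29, 6], [12, 36, 33, 31, 34, 14], [8, 13, 66, -30, 220, -15, 17, 14, 20, 39, -15, -14, -49, -51, -31, -11, 3, -4, 6, 21, -10, 2, -1, 4, 1, 3, 1, 0, -4, -6]⟩))))) (.node 8 (.node 4 (.node 2 (.node 1 (.leaf ⟨6, 6, true, [29, 4, 36, 38, 16, 21,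 30], [4, 42, 27, 6, 34, 2], [-73, -158, -11, -173, -244, -67, 5, 6, -6, -23, 16, 25, -81, 40, 73, -3, 1, -6, -19, -17, 5, -13, -3, -10, 5, 4, -4, 0, 5, 2, -2]⟩) (.leaf ⟨6, 6, true, [21, 2, 39, 23, 12, 40, 26], [23, 42, 25, 20, 43, 23], [72, 162, 12, 172, 245, 67, -5, -5, 6, 23, -16, -26, 79, -40, -74, 3, -1, 6, 19, 17, -5, 13, 3, 10, -5, -4, 4, 0, -5, -2, 2]⟩)) (.node 1 (.leaf ⟨6, 6, true, [23, 4, 11, 36, 38, 33, 29], [0, 21, 30, 35, 18, 2], [10, 75, 47, 28, 130, 20, 14, 14, 24, 27, 5, -8, 26, -40, -43, -2, 0, 5, 9, 10, -3, 9, 2, 5, 1, -1, 0, 0, -3, 1, -1]⟩) (.leaf ⟨6, 6, true, [25, 29, 6, 38, 32], [28, 2, 27, 35, 11, 41, 28], [-11, -72, -46, -29, -129, -20, -14, -13, -24, -27, -5, 7, -26, 40, 42, 2, 0, -5, -9, -10, 3, -9, -2, -5, -1, 1, 0, 0, 3, -1, 1]⟩))) (.node 2 (.node 1 (.leaf ⟨6,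 6, true, [18, 8, 38, 28, 4, 32, 2], [38, 43, 34, 37, 12, 23], [-122, -8, 143, -135, 11, -65, 14, 46, 1, -44, -23, 17, -17, -21, -20, -11, -4, -4, -9, 7, -5, 11, 2, 0, 1, 4, 4, 0, 0, -4, -3]⟩) (.leaf ⟨6, 6, true, [12, 35, 2, 41, 32, 16], [25, 19, 39, 24, 20, 43], [123, 10, -143, 135, -11, 65, -14, -46, -1, 44, 23, -17, 15, 21, 19, 11, 4, 4, 9, -7, 5, -11, -2, 0, -1, -4, -4, 0, 0, 4, 3]⟩)) (.node 1 (.leaf ⟨6, 5, true, [2, 25, 40, 29, 39, 22], [28, 24, 43, 19, 12, 39], [-17, -337, -63, -244, -374, -76, 4, -56, -2, -36, -9, 34, -169, 93, 108, 4, 6, -13, -17, -26, 4, -10, -6, -20, 3, -4, -3, 0, 14, -3, -1]⟩) (.leaf ⟨5, 6, true, [0, 33, 34, 23, 16, 6], [21, 0, 29, 31, 42, 37, 23], [18, 307, 50, 227, 331, 65, -3, 53, 4, 35, 7, -33, 152, -84, -104, -4, -7, 11, 14, 24, -4, 10, 6, 18, -3, 4, 3,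 0, -12, 3, 1]⟩)))) (.node 4 (.node 2 (.node 1 (.leaf ⟨6, 6, true, [35, 24, 40, 42, 22, 16], [29, 20, 42, 20, 6, 41], [64, 112, -19, 137, 181, 38, 3, 43, -1, 48, 3, -23, 72, -37, -54, 2, -2, 0, 16, 8, -1, 6, 5, 4, -1, 2, -2, 0, -5, -2, -1]⟩) (.leaf ⟨6, 6, true, [21, 32, 16, 41, 28, 10], [34, 36, 23, 40, 24, 18], [13, 141, -22, 103, 72, 45, -13, -1, -5, 7, 35, -12, 44, -29, -10, 2, -4, 8, 10, 3, 3, -5, 1, 6, -1, -2, 0, 0, -10, 3, 1]⟩)) (.node 1 (.leaf ⟨6, 6, true, [12, 0, 39, 26, 20, 34, 20], [8, 16, 43, 6, 39, 14], [-12, -139, 22, -103, -72, -45, 13, 1, 5, -7, -35, 12, -46, 29, 9, -2, 4, -8, -10, -3, -3, 5, -1, -6, 1, 2, 0, 0, 10, -3, -1]⟩) (.leaf ⟨6, 6, true, [13, 4, 26, 37, 25, 41, 26], [12, 40, 29, 26, 2, 27], [-6, 80, -22, 50, 51, 36, -44, -17, -34, 16, 27, 11, -24, -15, 81, -2, 8,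 10, 12, 4, 1, -40, -8, 4, -6, -4, -1, 0, -6, 3, 3]⟩))) (.node 2 (.node 1 (.leaf ⟨6, 6, true, [28, 36, 6, 24, 6, 21], [28, 12, 34, 19, 35, 20], [5, -78, 23, -51, -50, -36, 44, 18, 34, -16, -27, -12, 26, 15, -82, 2, -8, -10, -12, -4, -1, 40, 8, -4, 6, 4, 1, 0, 6, -3, -3]⟩) (.leaf ⟨6, 6, true, [11, 41, 31, 20, 19, 11], [42, 33, 10, 38, 10, 25], [-4, -332, -116, -187, -641, -64, -5, -70, 10, -102, 67, 40, -110, 141, 141, 15, 0, -13, -33, -46, 16, -24, -6, -21, 0, 0, -4, 0, 13, 9, 2]⟩)) (.node 1 (.leaf ⟨6, 6, true, [37, 25, 29, 36, 26, 23], [14, 16, 30, 38, 30, 10], [5, 334, 116, 187, 641, 64, 5, 70, -10, 102, -67, -40, 108, -141, -142, -15, 0, 13, 33, 46, -16, 24, 6, 21, 0, 0, 4, 0, -13, -9, -2]⟩) (.leaf ⟨6, 6, true, [19, 36, 38, 43, 29, 2], [24, 43, 34, 32, 40, 25], [10, 3, -15, 10, -11,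 9, -17, -16, -19, 1, 40, 0, -31, 0, 10, -1, -3, 2, 0, -1, 2, -8, -1, 2, -3, -1, 1, 0, -2, 2, 2]⟩)))))))
noncomputable def dF2188 : BT Fct := (.node 30 (.node 15 (.node 7 (.node 3 (.node 1 (.leaf ⟨6, 6, true, [10, 21, 10, 39, 31, 28], [36, 2, 22, 36, 31, 13, 8], [-11, 0, 16, -11, 12, -9, 17, 17, 19, -1, -40, -1, 31, 0, -11, 1, 3, -2, 0, 1, -2, 8, 1, -2, 3, 1, -1, 0, 2, -2, -2]⟩) (.node 1 (.leaf ⟨6, 6, true, [21, 19, 35, 33, 6, 20], [36, 34, 27, 30, 10, 6], [-49, -282, -40, -186, -273, -90, 22, -42, -4, -13, -40, 46, -145, 63, 48, -4, -3, -16, -19, -14, -2, -5, 0, -17, 4, 1, 0, 0, 14, -4, -1]⟩) (.leaf ⟨6, 6, true, [6, 16, 23, 10, 38, 0], [27, 25, 35, 27, 38, 40], [48, 285, 41, 185, 274, 90, -22, 43, 4, 13, 40, -47, 145, -63, -49, 4, 3, 16, 19, 14, 2, 5, 0, 17, -4, -1, 0, 0, -14, 4, 1]⟩)))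 (.node 2 (.node 1 (.leaf ⟨6, 6, true, [11, 0, 18, 34, 13, 22, 14], [41, 25, 42, 30, 13, 41], [41, 113, 37, 79, 249, 43, 3, 31, 28, 46, -17, -21, 51, -57, -54, -4, 5, 4, 16, 23, -6, 2, -3, 13, 2, 9, -3, 0, -13, -2, -1]⟩) (.leaf ⟨6, 6, true, [20, 4, 42, 32, 27, 36, 25], [18, 21, 23, 38, 22, 8], [-42, -111, -36, -80, -248, -43, -3, -30, -28, -46, 17, 20, -49, 57, 53, 4, -5, -4, -16, -23, 6, -2, 3, -13, -2, -9, 3, 0, 13, 2, 1]⟩)) (.node 1 (.leaf ⟨6, 6, true, [21, 43, 39, 42, 34, 23], [25, 41, 18, 10, 25, 2], [-1, -316, -170, -184, -512, -54, 7, -83, -4, -8, -5, 44, -182, 118, 96, 9, 6, -17, -17, -27, 7, -28, -6, -22, -1, -3, -2, 0, 19, 6, 4]⟩) (.leaf ⟨6, 6, true, [38, 26, 11, 42, 10, 31], [21, 6, 4, 34, 16, 20], [2, 318, 170, 184, 512, 54, -7, 83, 4, 8, 5, -44, 180, -118, -97, -9, -6, 17,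 17, 27, -7, 28, 6, 22, 1, 3, 2, 0, -19, -6, -4]⟩)))) (.node 4 (.node 2 (.node 1 (.leaf ⟨6, 6, true, [22, 2, 40, 27, 2, 18, 14], [10, 2, 41, 26, 34, 13, 26], [-109, -224, 53, -198, -14, -123, 20, 7, 5, -11, -73, 16, -134, 7, -2, -17, -10, -15, -16, 13, -15, 4, 2, -14, -1, 0, 4, 0, 16, -8]⟩) (.leaf ⟨6, 6, true, [22, 2, 39, 33, 43, 26, 29], [41, 0, 29, 32, 35, 27, 30], [108, 226, -52, 197, 15, 123, -20, -6, -5, 11, 73, -17, 136, -7, 1, 17, 10, 15, 16, -13, 15, -4, -2, 14, 1, 0, -4, 0, -16, 8]⟩)) (.node 1 (.leaf ⟨6, 6, true, [30, 40, 39, 34, 22, 20], [27, 0, 39, 31, 39, 19, 29], [-9, -229, -65, -159, -275, -71, 34, -24, 23, 5, -39, 12, -122, 58, 17, 2, 2, -12, -14, -10, -1, 14, 1, -14, 3, -2, -4, 0, 16, -4, -1]⟩) (.leaf ⟨6, 6, true, [42, 0, 41, 0, 38, 26, 18], [10, 19, 30, 43, 32, 18], [8,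 231, 66, 158, 276, 71, -34, 25, -23, -5, 39, -13, 124, -58, -18, -2, -2, 12, 14, 10, 1, -14, -1, 14, -3, 2, 4, 0, -16, 4, 1]⟩))) (.node 2 (.node 1 (.leaf ⟨6, 6, true, [30, 23, 34, 40, 33, 31], [41, 4, 14, 27, 41, 37], [22, 493, 186, 315, 852, 91, -4, 115, 25, 82, -32, -82, 241, -183, -195, -11, -2, 20, 47, 59, -16, 32, 8, 31, 3, 5, -1, 0, -25, -11, -2]⟩) (.leaf ⟨6, 6, true, [38, 0, 21, 12, 35, 19, 26], [26, 29, 31, 34, 19, 36], [-23, -490, -185, -316, -851, -91, 4, -114, -25, -82, 32, 81, -241, 183, 194, 11, 2, -20, -47, -59, 16, -32, -8, -31, -3, -5, 1, 0, 25, 11, 2]⟩)) (.node 1 (.leaf ⟨6, 6, true, [21, 10, 35, 20, 34, 18, 18], [40, 16, 22, 20, 2, 26], [-5, 352, 211, 186, 711, 34, 7, 75, 40, 40, -12, -66, 135, -159, -159, -11, -11, 14, 30, 48, -16, 39, 8, 19, 0, -3, 2, 0, -15, -7, -3]⟩)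 (.leaf ⟨6, 6, true, [20, 43, 32, 43, 26, 26], [26, 21, 25, 34, 36, 41], [34, -132, -77, -44, -143, -23, 18, -17, -3, 19, -17, 10, -47, 39, 10, 2, 3, -10, -7, -8, 1, 0, -1, -7, 2, 2, -3, 0, 8]⟩))))) (.node 7 (.node 3 (.node 1 (.leaf ⟨6, 6, true, [28, 35, 39, 23, 38, 36], [26, 2, 36, 20, 40, 24, 18], [-47, 394, 231, 152, 672, 46, 1, 108, 11, 46, -64, -40, 149, -151, -211, -19, -3, 8, 28, 52, -17, 42, 10, 28, 0, 6, 6, 0, -15, -9, -2]⟩) (.node 1 (.leaf ⟨6, 6, true, [38, 43, 30, 2, 42, 42], [23, 18, 24, 6, 2, 27], [-24, -246, -59, -123, -238, -72, 54, -48, 13, -9, 1, 36, -78, 54, 68, 0, -2, -12, -19, -17, 1, -3, -2, -16, -2, -1, -3, 0, 13, 2, -2]⟩) (.leaf ⟨6, 6, true, [11, 32, 16, 34, 40, 30], [18, 11, 27, 42, 37, 25], [23, 249, 60, 122, 239, 72, -54, 49, -13, 9, -1, -37, 78, -54, -69, 0,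 2, 12, 19, 17, -1, 3, 2, 16, 2, 1, 3, 0, -13, -2, 2]⟩))) (.node 2 (.node 1 (.leaf ⟨6, 6, true, [40, 27, 12, 37, 33, 26], [27, 38, 25, 28, 38, 18], [42, -155, -112, -40, -388, -43, 0, -27, 16, -26, 11, 17, -36, 99, 39, 8, -5, -12, -20, -25, 6, 4, 0, -13, -3, -1, 3, 0, 11, 3]⟩) (.leaf ⟨6, 6, true, [6, 14, 22, 19, 39, 14], [8, 24, 24, 39, 26, 19], [-41, 155, 112, 40, 388, 43, 0, 27, -16, 26, -11, -17, 38, -99, -40, -8, 5, 12, 20, 25, -6, -4, 0, 13, 3, 1, -3, 0, -11, -3]⟩)) (.node 1 (.leaf ⟨6, 6, true, [35, 0, 13, 21, 42, 31, 10], [22, 39, 6, 30, 24, 22], [-54, -170, 78, -153, -13, -60, 33, -11, -4, -13, -17, 17, -100, 8, -11, -10, -3, -11, -13, 7, -7, 6, 1, -8, 0, -2, 3, 0, 12, -2]⟩) (.leaf ⟨6, 6, true, [18, 13, 28, 6, 38, 23], [35, 11, 30, 36, 19, 37, 19], [53, 172, -77, 152, 14, 60, -33,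 12, 4, 13, 17, -18, 102, -8, 10, 10, 3, 11, 13, -7, 7, -6, -1, 8, 0, 2, -3, 0, -12, 2]⟩)))) (.node 4 (.node 2 (.node 1 (.leaf ⟨6, 6, true, [13, 30, 41, 22, 12, 6], [42, 32, 6, 30, 12], [19, 178, 57, 107, 241, 66, -4, 12, 18, 14, 9, -8, 62, -80, -28, -7, 13, 14, 26, 23, -5, -13, -3, 13, -1, -1, 4, 0, -9, -2]⟩) (.leaf ⟨6, 6, true, [22, 0, 32, 32, 35, 30, 10], [40, 31, 37, 40, 14], [-36, -217, -17, -152, -193, -73, 20, -25, -2, -14, -33, 18, -99, 55, 17, -3, -2, -15, -15, -6, -3, 5, -2, -11, 0, -1, 0, 0, 13, -2]⟩)) (.node 1 (.leaf ⟨6, 6, true, [39, 13, 35, 31, 11], [38, 11, 22, 30, 18, 34, 20], [35, 219, 18, 151, 194, 73, -20, 26, 2, 14, 33, -19, 101, -55, -18, 3, 2, 15, 15, 6, 3, -5, 2, 11, 0, 1, 0, 0, -13, 2]⟩) (.leaf ⟨6, 6, true, [25, 41, 22, 24, 41, 2], [20, 4, 23, 38, 37, 40, 27], [-45,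 -79, 44, -73, -11, -32, 17, 2, -7, -17, -11, 7, -25, 7, -14, -3, -3, -6, -4, 2, -3, 6, 1, -3, 0, 0, 0, 0, 5, -2]⟩))) (.node 2 (.node 1 (.leaf ⟨6, 6, true, [40, 31, 41, 39, 28, 35], [10, 4, 38, 12, 34, 30, 18], [33, -150, -107, -65, -278, -9, 15, -46, -7, 6, 16, 23, -87, 54, 61, 5, 8, -8, -10, -14, 5, -12, -3, -11, 0, 0, -1, 0, 7, 1]⟩) (.leaf ⟨6, 6, true, [25, 41, 39, 13, 29, 26], [11, 31, 24, 42, 26, 43], [5, 33, 0, 28, 22, 3, 7, 1, 11, -6, 5, -3, 29, -12, -16, 1, 0, 2, 5, 1, 1, 5, 0, 2, 0, 1, -2, 0, 0, -1, -1]⟩)) (.node 1 (.leaf ⟨6, 6, true, [30, 0, 16, 41, 19, 14, 11], [25, 33, 41, 35, 26, 12], [28, -104, -72, -34, -197, 8, 28, -31, -1, 7, 32, 8, -49, 38, 87, 13, 9, -2, -6, -12, 7, -20, -7, -6, 0, 1, -7, 0, 2, 4, -3]⟩) (.leaf ⟨6, 3, true, [11, 20, 34, 13, 25, 4], [18, 2, 28, 28, 41,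 18, 29], [-54, -211, -14, -146, 26, -89, 28, 6, -20, 41, -70, 12, -117, 18, 12, -16, -1, -14, -13, 11, -12, -2, -1, -10, 3, 2, -1, 0, 12, -9, 2]⟩)))))) (.node 15 (.node 7 (.node 3 (.node 1 (.leaf ⟨3, 6, true, [30, 36, 6, 24, 33, 23], [0, 24, 12, 35, 21, 10], [51, 227, 27, 152, 15, 91, -28, -2, 21, -38, 70, -15, 123, -27, -18, 15, 1, 15, 15, -8, 11, 3, 1, 11, -3, -2, 1, 0, -13, 8, -2]⟩) (.node 1 (.leaf ⟨6, 6, true, [40, 28, 28, 35, 10, 33], [14, 10, 32, 41, 31, 37, 19], [-22, 271, 44, 143, 198, 70, -27, 56, 4, 2, 11, -8, 128, -93, -23, -4, 8, 19, 22, 16, 1, -7, -3, 18, 2, 3, 2, 0, -19, -1, -2]⟩) (.leaf ⟨6, 6, true, [6, 0, 41, 41, 37, 42, 25], [8, 2, 31, 28, 39, 21, 24], [21, -268, -43, -144, -197, -70, 27, -55, -4, -2, -11, 7, -128, 93, 22, 4, -8, -19, -22, -16, -1, 7, 3, -18, -2, -3,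 -2, 0, 19, 1, 2]⟩))) (.node 2 (.node 1 (.leaf ⟨6, 6, true, [23, 43, 41, 20, 35, 37], [13, 21, 42, 16, 36, 4], [6, -14, 1, 6, 75, -13, -6, 6, -41, 49, -60, 1, -44, -4, -55, -15, 3, -6, 6, 17, -10, 12, -1, 2, -2, -3, 8, 0, 2, -8, 6]⟩) (.leaf ⟨6, 6, true, [6, 20, 29, 39, 23, 6], [38, 18, 40, 11, 38, 27], [-7, 16, 0, -7, -74, 13, 6, -5, 41, -49, 60, -2, 46, 4, 54, 15, -3, 6, -6, -17, 10, -12, 1, -2, 2, 3, -8, 0, -2, 8, -6]⟩)) (.node 1 (.leaf ⟨6, 6, true, [39, 32, 38, 26, 38, 30], [26, 0, 22, 41, 21, 10, 4], [-120, -63, 127, -180, -67, -64, 9, 31, -7, -61, -10, 21, -54, -1, 16, -7, -3, -4, -12, -3, -1, -1, 1, -2, 3, 4, 1, 0, -1, 0, -3]⟩) (.leaf ⟨6, 6, true, [35, 13, 32, 39, 22, 40], [41, 28, 39, 13, 43, 6], [-12, -141, -19, -123, -208, -36, 2, -49, 14, -30, 37, 13, -95, 37, 82, 3, 2, -2, -10,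 -17, 5, -17, -4, -11, -1, -4, 0, 0, 5, 5]⟩)))) (.node 4 (.node 2 (.node 1 (.leaf ⟨6, 6, true, [34, 0, 33, 31, 39, 18, 10], [16, 2, 25, 42, 27, 38, 24], [11, 143, 20, 122, 209, 36, -2, 50, -14, 30, -37, -14, 97, -37, -83, -3, -2, 2, 10, 17, -5, 17, 4, 11, 1, 4, 0, 0, -5, -5]⟩) (.leaf ⟨6, 6, true, [11, 23, 43, 18, 30, 19], [22, 41, 32, 22, 35, 12], [13, -24, -46, -16, -148, 17, -6, -17, -2, -22, 50, -6, -23, 29, 61, 10, 0, 2, -4, -17, 8, -14, -2, -4, 1, -2, -3, 0, 0, 3, -1]⟩)) (.node 1 (.leaf ⟨6, 6, true, [38, 22, 4, 28, 37, 25], [27, 2, 22, 11, 28, 37, 26], [-10, -106, -12, -107, -216, -12, -4, -38, 19, -30, 62, 16, -107, 15, 101, 4, 4, 1, -6, -15, 6, -27, -6, -9, -2, -6, -1, 0, 4, 5]⟩) (.leaf ⟨6, 6, true, [18, 42, 33, 42, 13, 27], [24, 6, 37, 18, 8, 43], [9, 109, 13, 106, 217, 12, 4,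 39, -19, 30, -62, -17, 107, -15, -102, -4, -4, -1, 6, 15, -6, 27, 6, 9, 2, 6, 1, 0, -4, -5]⟩))) (.node 2 (.node 1 (.leaf ⟨6, 6, true, [37, 32, 38, 19, 43, 12], [37, 16, 18, 2, 33, 21, 19], [19, 152, 35, 111, 210, 47, -15, 20, -10, 10, 14, -22, 89, -50, -31, 0, -2, 11, 11, 10, 0, 4, 2, 11, 0, 1, -1, 0, -10, -1, -1]⟩) (.leaf ⟨6, 6, true, [40, 0, 42, 26, 38, 42, 20], [8, 43, 16, 22, 40], [-18, -152, -35, -111, -210, -47, 15, -20, 10, -10, -14, 22, -87, 50, 30, 0, 2, -11, -11, -10, 0, -4, -2, -11, 0, -1, 1, 0, 10, 1, 1]⟩)) (.node 1 (.leaf ⟨6, 6, true, [38, 26, 29, 35, 22, 10], [12, 36, 43, 30, 34, 23], [-10, -174, -135, -130, -687, -42, -17, -90, -3, -90, 104, 55, -157, 131, 158, 20, -7, -8, -17, -51, 19, -37, -6, -30, -5, -3, 3, 0, 11, 12, -2]⟩) (.leaf ⟨6, 6, true, [14, 27, 22, 34, 22, 25],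 [24, 2, 22, 19, 34, 14, 4], [9, 177, 136, 129, 688, 42, 17, 91, 3, 90, -104, -56, 157, -131, -159, -20, 7, 8, 17, 51, -19, 37, 6, 30, 5, 3, -3, 0, -11, -12, 2]⟩))))) (.node 7 (.node 3 (.node 1 (.leaf ⟨6, 6, true, [6, 23, 41, 19, 43, 28], [30, 28, 24, 41, 22, 16], [21, 17, 10, -6, 0, 15, 17, -9, -5, 2, 20, 4, 2, 14, 1, 6, 2, -1, -2, -2, 3, 5, -2, 2, 0, 1, -4]⟩) (.node 1 (.leaf ⟨6, 6, true, [25, 33, 37, 28, 27, 19], [0, 29, 37, 23, 21, 2], [-16, -446, -126, -236, -473, -107, 30, -57, -40, 12, -22, 46, -197, 135, 48, -4, -8, -35, -37, -25, 1, -2, -2, -24, -4, 0, 0, 0, 22, 4, 6]⟩) (.leaf ⟨6, 6, true, [10, 2, 22, 36, 18, 30, 18], [13, 28, 21, 38, 35, 10], [15, 450, 127, 235, 474, 107, -30, 58, 40, -12, 22, -47, 195, -135, -49, 4, 8, 35, 37, 25, -1, 2, 2, 24, 4, 0, 0, 0, -22, -4, -6]⟩))) (.node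 2 (.node 1 (.leaf ⟨6, 6, true, [19, 0, 2, 31, 41, 12, 21], [29, 40, 22, 38, 38, 18], [61, 226, -69, 193, 137, 115, -29, -5, -16, 34, 5, -8, 101, -39, 9, 2, 20, 13, 29, 13, 2, -19, -7, 13, -6, 0, 4, 0, -15, -2, 2]⟩) (.leaf ⟨6, 6, true, [26, 41, 10, 27, 31, 4], [8, 26, 30, 42, 30, 18], [-42, -312, 16, -243, -300, -122, 33, -23, 25, -38, 14, 15, -150, 67, 23, 2, -17, -15, -36, -23, 2, 15, 6, -18, 5, -1, -5, 0, 19, 5, -2]⟩)) (.node 1 (.leaf ⟨6, 6, true, [21, 0, 34, 21, 12, 10, 29], [0, 30, 26, 11, 40, 27], [41, 316, -15, 242, 301, 122, -33, 24, -25, 38, -14, -16, 148, -67, -24, -2, 17, 15, 36, 23, -2, -15, -6, 18, -5, 1, 5, 0, -19, -5, 2]⟩) (.leaf ⟨6, 6, true, [39, 22, 31, 41, 25, 4], [41, 2, 27, 29, 2, 30, 18], [70, 79, -54, 128, 95, 46, -9, 22, -2, 40, 27, -21, 55, -19, -4, 6, 0, 1, 12,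 0, 3, -5, 3, 0, -1, 1, -4, 0, -6, 0, -1]⟩)))) (.node 4 (.node 2 (.node 1 (.leaf ⟨6, 6, true, [2, 21, 35, 26, 21, 31], [41, 28, 16, 31, 41, 24], [-71, -75, 55, -129, -94, -46, 9, -21, 2, -40, -27, 20, -57, 19, 3, -6, 0, -1, -12, 0, -3, 5, -3, 0, 1, -1, 4, 0, 6, 0, 1]⟩) (.leaf ⟨6, 6, true, [14, 0, 38, 34, 32, 12, 8], [22, 43, 27, 29, 39, 34], [48, 41, -69, 70, 67, 20, -15, 2, -16, 56, -31, -12, -12, -11, -24, -5, 4, -1, 9, 7, -2, -1, -3, 5, 1, 3, -2, 0, -3, -2, 2]⟩)) (.node 1 (.leaf ⟨6, 6, true, [30, 41, 18, 36, 18, 16], [42, 27, 33, 35, 24, 10], [-47, -41, 69, -70, -67, -20, 15, -2, 16, -56, 31, 12, 14, 11, 23, 5, -4, 1, -9, -7, 2, 1, 3, -5, -1, -3, 2, 0, 3, 2, -2]⟩) (.leaf ⟨6, 6, true, [25, 40, 40, 40, 35, 42], [12, 28, 41, 31, 24, 30], [22, -52, -57, -13, -96, 0, -15, -19, -23, 10, 16,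 -4, -33, 20, 16, 0, 2, -5, -5, -7, 2, -7, -1, -3, 0, 2, 2, 0, 2, 1]⟩))) (.node 2 (.node 1 (.leaf ⟨6, 6, true, [28, 0, 11, 29, 39, 21, 18], [11, 6, 29, 31, 38, 34], [12, -152, -53, -107, -230, -32, -20, -38, -3, -8, 7, 10, -119, 50, 58, 5, 3, -7, -3, -13, 2, -1, -6, -12, 1, -4, 1, 0, 5, -6]⟩) (.leaf ⟨6, 6, true, [18, 21, 37, 24, 39, 33], [18, 0, 18, 39, 27, 40, 27], [-36, 250, 137, 127, 386, 38, -14, 59, -5, -14, -17, -28, 135, -84, -83, -5, -6, 10, 18, 22, -6, 13, 4, 17, -1, 2, 4, 0, -13, -5, -2]⟩)) (.node 1 (.leaf ⟨6, 6, true, [2, 32, 25, 29, 36, 18], [32, 0, 38, 25, 36, 20, 19], [35, -248, -136, -128, -385, -38, 14, -58, 5, 14, 17, 27, -133, 84, 82, 5, 6, -10, -18, -22, 6, -13, -4, -17, 1, -2, -4, 0, 13, 5, 2]⟩) (.leaf ⟨6, 6, true, [38, 31, 8, 21, 36, 19], [42, 23, 11, 24, 41, 32],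 [40, 264, 35, 174, 63, 110, -39, 2, 15, -39, 73, -21, 146, -36, -9, 15, 2, 18, 17, -5, 11, -1, 1, 12, -3, -2, 1, 0, -17, 8, -2]⟩)))))))
noncomputable def dF2248 : BT Fct := (.node 30 (.node 15 (.node 7 (.node 3 (.node 1 (.leaf ⟨6, 6, true, [35, 0, 23, 41, 24, 19, 6], [6, 38, 11, 37, 25, 8], [-50, -145, 62, -149, -104, -63, 10, -5, -1, -54, -14, 17, -66, 32, -3, -4, -6, -9, -15, -6, -2, 10, 3, -7, 1, 2, 1, 0, 8, -2, -1]⟩) (.node 1 (.leaf ⟨6, 6, true, [12, 20, 42, 39, 25, 28], [42, 0, 19, 37, 6, 32, 12], [51, 145, -62, 149, 104, 63, -10, 5, 1, 54, 14, -17, 68, -32, 2, 4, 6, 9, 15, 6, 2, -10, -3, 7, -1, -2, -1, 0, -8, 2, 1]⟩) (.leaf ⟨6, 6, true, [33, 35, 33, 37, 6, 4], [43, 0, 26, 31, 37, 39, 16], [-6, -29, -21, -6, -59, 4, -11, -10, -6, -19, 13, 2, -10, 13, 19, 1, 0, -2, -2, -6, 2, -7,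 0, -2, -1, -2, 2, 0, 0, 1, 1]⟩))) (.node 2 (.node 1 (.leaf ⟨6, 6, true, [21, 2, 20, 42, 2, 24, 18], [6, 0, 36, 32, 34, 32], [5, 32, 22, 5, 60, -4, 11, 11, 6, 19, -13, -3, 10, -13, -20, -1, 0, 2, 2, 6, -2, 7, 0, 2, 1, 2, -2, 0, 0, -1, -1]⟩) (.leaf ⟨6, 6, true, [43, 33, 28, 42, 25, 40], [28, 33, 41, 29, 43, 18], [-38, -97, -22, -61, -100, -50, 28, -3, -4, 17, -36, 35, -40, 20, -6, -8, -1, -9, 0, 2, -5, 1, -1, -8, -4, -1, 3, 0, 10, -2]⟩)) (.node 1 (.leaf ⟨6, 6, true, [30, 37, 42, 37, 40, 25], [10, 18, 8, 43, 36, 20], [37, 100, 23, 60, 101, 50, -28, 4, 4, -17, 36, -36, 40, -20, 5, 8, 1, 9, 0, -2, 5, -1, 1, 8, 4, 1, -3, 0, -10, 2]⟩) (.leaf ⟨6, 6, true, [40, 2, 22, 42, 12, 23, 28], [27, 13, 25, 39, 11], [-31, 45, 77, -4, 171, 10, 6, 23, -3, 5, -19, -11, 40, -25, -38, -4, 1, 0, 3, 13, -5, 11,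 1, 6, -1, 4, 0, 0, -5, -2, -1]⟩)))) (.node 4 (.node 2 (.node 1 (.leaf ⟨6, 6, true, [0, 6, 35, 20, 28, 13], [42, 32, 31, 38, 37, 25], [30, -43, -76, 3, -170, -10, -6, -22, 3, -5, 19, 10, -38, 25, 37, 4, -1, 0, -3, -13, 5, -11, -1, -6, 1, -4, 0, 0, 5, 2, 1]⟩) (.leaf ⟨6, 5, true, [6, 36, 42, 30, 24, 2], [12, 24, 35, 16, 0, 42], [4, 122, 34, 38, 139, 32, -5, 22, -23, 39, -43, -6, 17, -33, -66, -4, 4, -1, 6, 15, -4, 9, 2, 11, -1, 7, 3, 0, -4, -4, -1]⟩)) (.node 1 (.leaf ⟨6, 6, true, [20, 27, 38, 12, 19, 22], [10, 0, 41, 24, 40, 13, 27], [-30, -101, 27, -66, 27, -46, 21, 16, 12, 23, -72, 8, -24, -2, -53, -8, -1, -9, -2, 13, -10, 21, 2, -3, -2, 0, 2, 0, 9, -4, -1]⟩) (.leaf ⟨6, 6, true, [43, 21, 39, 41, 39, 22], [0, 32, 16, 42, 27, 23], [29, 104, -26, 65, -26, 46, -21, -15, -12, -23, 72, -9, 24,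 2, 52, 8, 1, 9, 2, -13, 10, -21, -2, 3, 2, 0, -2, 0, -9, 4, 1]⟩))) (.node 2 (.node 1 (.leaf ⟨6, 6, true, [27, 40, 29, 24, 42, 26], [6, 8, 25, 20, 10, 2], [-41, 452, 271, 229, 856, 45, 6, 126, 24, 84, -92, -39, 242, -189, -239, -22, -4, 16, 40, 65, -23, 57, 9, 34, -1, 4, 4, 0, -18, -16, -1]⟩) (.leaf ⟨6, 6, true, [25, 0, 2, 31, 25, 39, 13], [24, 6, 35, 24, 36, 29, 26], [60, -220, -176, -96, -488, -13, -4, -78, -18, -42, 58, 15, -128, 100, 131, 11, 5, -8, -23, -37, 14, -32, -4, -18, -1, -2, 0, 0, 8, 12]⟩)) (.node 1 (.leaf ⟨6, 6, true, [18, 41, 32, 38, 13, 38], [24, 30, 13, 42, 29, 4], [-61, 222, 177, 95, 489, 13, 4, 79, 18, 42, -58, -16, 130, -100, -132, -11, -5, 8, 23, 37, -14, 32, 4, 18, 1, 2, 0, 0, -8, -12]⟩) (.leaf ⟨6, 6, true, [4, 8, 19, 6, 40, 29], [39, 27, 41, 36, 22, 25], [30, 176,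 10, 104, 179, 41, -32, 51, -1, 6, -25, -24, 95, -32, -53, 4, -2, 8, 8, 8, 0, 15, 6, 11, 1, 5, -3, 0, -10, -3, -1]⟩))))) (.node 7 (.node 3 (.node 1 (.leaf ⟨6, 6, true, [22, 36, 40, 20, 35, 14], [4, 27, 21, 37, 18, 20], [-31, -173, -9, -105, -178, -41, 32, -50, 1, -6, 25, 23, -95, 32, 52, -4, 2, -8, -8, -8, 0, -15, -6, -11, -1, -5, 3, 0, 10, 3, 1]⟩) (.node 1 (.leaf ⟨6, 6, true, [13, 19, 39, 13, 26, 43], [11, 0, 40, 37, 23, 40, 23], [-7, 24, 96, -27, 96, -10, 18, 38, -4, -2, -31, -4, 7, 2, -84, 2, -7, -6, -1, 7, -5, 31, 5, 4, 1, 7, 1, 0, 0, -10, 2]⟩) (.leaf ⟨6, 6, true, [19, 2, 19, 23, 26, 35, 19], [2, 27, 34, 26, 24, 14], [6, -21, -95, 26, -95, 10, -18, -37, 4, 2, 31, 3, -7, -2, 83, -2, 7, 6, 1, -7, 5, -31, -5, -4, -1, -7, -1, 0, 0, 10, -2]⟩))) (.node 2 (.node 1 (.leaf ⟨6, 6, true, [4,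 28, 13, 28, 34, 29], [4, 25, 43, 29, 43, 11], [-2, 161, 56, 90, 267, 23, -12, 41, -21, 44, -52, -20, 60, -54, -89, -11, 3, 2, 15, 25, -9, 15, 4, 13, -2, 3, 4, 0, -7, -7, 1]⟩) (.leaf ⟨6, 6, true, [19, 4, 37, 41, 27, 40, 6], [4, 28, 42, 28, 10, 20], [1, -158, -55, -91, -266, -23, 12, -40, 21, -44, 52, 19, -60, 54, 88, 11, -3, -2, -15, -25, 9, -15, -4, -13, 2, -3, -4, 0, 7, 7, -1]⟩)) (.node 1 (.leaf ⟨6, 6, true, [0, 37, 29, 34, 16, 23], [34, 31, 42, 42, 42, 23], [-36, -4, 39, 2, 106, -30, 6, 22, -10, -11, -32, 1, 40, -13, -26, -5, -6, -2, -3, 6, -4, 13, 2, 2, 1, 0, 0, 0, 0, -4, -1]⟩) (.leaf ⟨6, 6, true, [23, 35, 43, 10, 43, 25], [25, 0, 34, 32, 13, 37, 24], [35, 6, -38, -3, -105, 30, -6, -21, 10, 11, 32, -2, -38, 13, 25, 5, 6, 2, 3, -6, 4, -13, -2, -2, -1, 0, 0, 0, 0, 4, 1]⟩)))) (.node 4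 (.node 2 (.node 1 (.leaf ⟨6, 6, true, [14, 34, 28, 38, 11, 2], [42, 13, 10, 29, 43, 22], [23, 438, 153, 275, 504, 105, -14, 76, -7, 23, 14, -35, 262, -132, -163, -2, -5, 15, 29, 30, -6, 32, 12, 29, -7, 5, 10, 0, -25, -3, -2]⟩) (.leaf ⟨6, 6, true, [11, 8, 23, 40, 18, 8], [43, 30, 6, 40, 11], [-13, -20, -76, -11, -190, 3, -42, -23, -35, -10, 6, 7, -20, 56, 50, 1, 2, -1, -7, -19, 7, -12, 1, -5, -2, -4, 3, 0, 3, 3, 1]⟩)) (.node 1 (.leaf ⟨6, 6, true, [14, 38, 35, 31, 31, 29], [25, 36, 24, 39, 2, 31], [-24, 21, 124, -48, 121, -1, 16, 37, -4, -16, -18, -11, 9, 6, -71, 4, -7, -5, -3, 7, -4, 29, 3, 5, 1, 9, 0, 0, -4, -8, 1]⟩) (.leaf ⟨6, 6, true, [29, 10, 35, 21, 21, 35, 28], [13, 19, 37, 32, 24, 13], [23, -19, -123, 47, -120, 1, -16, -36, 4, 16, 18, 10, -7, -6, 70, -4, 7, 5, 3, -7, 4, -29, -3,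 -5, -1, -9, 0, 0, 4, 8, -1]⟩))) (.node 2 (.node 1 (.leaf ⟨6, 6, true, [37, 29, 40, 25, 23, 18], [24, 2, 42, 33, 24, 39], [40, -98, -34, -54, -250, -3, 6, -36, 31, -36, 58, 12, -66, 44, 52, 13, -3, -1, -10, -20, 9, -11, -3, -10, 0, -3, -2, 0, 5, 12, -1]⟩) (.leaf ⟨6, 5, true, [42, 2, 23, 43, 31, 39, 30], [26, 23, 30, 42, 20, 38], [-37, 427, 261, 217, 837, 46, 15, 123, 29, 82, -81, -45, 230, -184, -220, -19, -4, 16, 39, 61, -21, 57, 8, 30, 1, 3, 2, 0, -19, -15, -2]⟩)) (.node 1 (.leaf ⟨5, 6, true, [12, 30, 39, 33, 11, 11], [39, 32, 8, 35, 11, 27], [44, -424, -273, -209, -843, -46, -17, -123, -27, -78, 79, 43, -230, 184, 219, 19, 4, -16, -39, -61, 21, -57, -8, -30, -1, -3, -2, 0, 19, 15, 2]⟩) (.leaf ⟨6, 6, true, [40, 43, 34, 22, 18], [42, 0, 14, 20, 43, 34, 26], [46, -71, -45, -12, -70, 10,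 19, -7, 15, 13, 27, -2, -26, 17, 38, 8, 6, -2, -3, -8, 4, -9, -4, -2, 3, 3, -6, 0, -1, 2]⟩)))))) (.node 15 (.node 7 (.node 3 (.node 1 (.leaf ⟨6, 6, true, [37, 41, 27, 4, 40, 21], [8, 27, 41, 42, 8, 2], [-47, 74, 46, 11, 71, -10, -19, 8, -15, -13, -27, 1, 26, -17, -39, -8, -6, 2, 3, 8, -4, 9, 4, 2, -3, -3, 6, 0, 1, -2]⟩) (.node 1 (.leaf ⟨6, 6, true, [27, 8, 29, 39, 39, 12, 4], [10, 38, 23, 2, 41], [69, -14, -83, 41, -208, 52, -24, -33, -20, -27, 101, -8, -7, 39, 74, 16, 2, 2, -2, -24, 14, -31, -4, -6, 2, 0, -2, 0, -2, 8, 2]⟩) (.leaf ⟨6, 6, true, [2, 27, 28, 26, 14, 35], [13, 0, 38, 38, 18, 21, 24], [-70, 18, 84, -42, 209, -52, 24, 34, 20, 27, -101, 7, 5, -39, -75, -16, -2, -2, 2, 24, -14, 31, 4, 6, -2, 0, 2, 0, 2, -8, -2]⟩))) (.node 2 (.node 1 (.leaf ⟨6, 6, true, [13, 28, 35, 27, 29, 4],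 [42, 40, 40, 31, 25, 43], [6, -25, -57, -25, -233, 11, -24, -40, -3, -44, 61, 4, -51, 37, 78, 9, 1, 2, -6, -20, 10, -25, -4, -6, -1, -2, 1, 0, 0, 7]⟩) (.leaf ⟨6, 6, true, [21, 27, 38, 18, 2, 27], [0, 28, 26, 34, 29, 12], [-7, 29, 58, 24, 234, -11, 24, 41, 3, 44, -61, -5, 49, -37, -79, -9, -1, -2, 6, 20, -10, 25, 4, 6, 1, 2, -1, 0, 0, -7]⟩)) (.node 1 (.leaf ⟨6, 6, true, [28, 41, 11, 22, 22, 26], [14, 29, 19, 41, 20, 0], [9, -171, -114, -66, -437, -10, 5, -52, 4, -57, 57, 38, -38, 91, 105, 14, 1, -3, -17, -35, 15, -22, -6, -13, 1, -1, -7, 0, 7, 13]⟩) (.leaf ⟨6, 6, true, [13, 37, 33, 35, 22, 10], [19, 26, 18, 34, 18, 20], [19, -14, -8, -18, -89, -3, -1, -1, 24, -31, 17, -7, -25, 21, 8, 6, -3, 1, -8, -11, 5, -6, 0, -2, 3, 5, 1, 0, 1, 7, -3]⟩)))) (.node 4 (.node 2 (.node 1 (.leaf ⟨6, 6, true,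 [18, 11, 36, 20, 6, 31], [24, 38, 23, 12, 37, 2], [-18, 16, 8, 18, 89, 3, 1, 1, -24, 31, -17, 7, 23, -21, -9, -6, 3, -1, 8, 11, -5, 6, 0, 2, -3, -5, -1, 0, -1, -7, 3]⟩) (.leaf ⟨6, 6, true, [27, 10, 27, 36, 27, 37, 24], [6, 43, 39, 6, 8, 18], [0, -49, -36, -21, -32, -16, -27, -3, 17, -13, 10, -34, -37, 30, 12, 7, -13, 1, -11, -7, 3, -8, 1, -3, 6, 2, 0, 0, -1, 5, -2]⟩)) (.node 1 (.leaf ⟨6, 6, true, [27, 31, 35, 20, 10, 21], [16, 6, 41, 19, 38, 37, 27], [-14, -60, 67, -95, -50, -29, 23, -12, 17, -20, 28, -11, -78, 11, 5, 4, -6, 2, -6, -6, 2, 13, 0, -7, 2, -3, 2, 0, 0, 1]⟩) (.leaf ⟨6, 6, true, [0, 43, 28, 37, 18, 0], [22, 11, 12, 34, 30, 26], [15, 60, -67, 95, 50, 29, -23, 12, -17, 20, -28, 11, 80, -11, -6, -4, 6, -2, 6, 6, -2, -13, 0, 7, -2, 3, -2, 0, 0, -1]⟩))) (.node 2 (.node 1 (.leaf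 ⟨6, 6, true, [40, 6, 4, 38, 12, 34, 20], [8, 39, 21, 18, 41, 24], [28, -79, -23, -54, -273, 7, 3, -29, -5, -78, 68, 8, -15, 73, 69, 18, 1, -2, -14, -33, 14, -14, 1, -8, 5, 5, -2, 0, 3, 1, -2]⟩) (.leaf ⟨6, 6, true, [41, 0, 42, 37, 43, 25, 10], [43, 0, 39, 8, 20, 8, 6], [-29, 83, 24, 53, 274, -7, -3, 30, 5, 78, -68, -9, 13, -73, -70, -18, -1, 2, 14, 33, -14, 14, -1, 8, -5, -5, 2, 0, -3, -1, 2]⟩)) (.node 1 (.leaf ⟨6, 6, true, [10, 22, 10, 36, 33, 19], [6, 38, 22, 14, 10, 6], [-13, 93, 50, 40, 109, 8, -5, 17, 14, -5, 8, -18, 40, -33, -12, -2, -2, 7, 6, 5, -1, 0, 3, 4, 0, -4, 3, 0, -5, 1, -1]⟩) (.leaf ⟨6, 6, true, [40, 35, 31, 21, 35, 21], [8, 19, 32, 23, 36, 20], [12, -91, -49, -41, -108, -8, 5, -16, -14, 5, -8, 17, -38, 33, 11, 2, 2, -7, -6, -5, 1, 0, -3, -4, 0, 4, -3, 0, 5, -1, 1]⟩)))))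 (.node 8 (.node 4 (.node 2 (.node 1 (.leaf ⟨6, 6, true, [19, 39, 30, 37, 21, 36], [27, 36, 6, 21, 33, 25], [-13, -60, 97, -104, 17, -27, 22, -12, -2, -34, 12, 4, -34, 13, 1, 0, 1, -2, -2, -2, -1, 14, 1, -2, 2, -3, -1, 0, 0, -5]⟩) (.leaf ⟨6, 6, true, [38, 40, 8, 37, 24, 21], [29, 36, 11, 36, 40, 18], [70, -407, -332, -192, -750, -36, -10, -81, -6, -16, 4, 54, -212, 182, 207, 16, 21, -25, -28, -46, 16, -66, -13, -27, 5, 5, -8, 0, 23, 4, -1]⟩)) (.node 1 (.leaf ⟨6, 6, true, [6, 19, 34, 40, 25, 18], [18, 37, 18, 34, 30, 28], [-69, 409, 332, 192, 750, 36, 10, 81, 6, 16, -4, -54, 210, -182, -208, -16, -21, 25, 28, 46, -16, 66, 13, 27, -5, -5, 8, 0, -23, -4, 1]⟩) (.leaf ⟨6, 6, true, [22, 8, 39, 25, 12, 35, 26], [40, 33, 20, 14, 40, 38], [-55, 249, 140, 121, 257, 22, -14, 75, -2, -41, -18, -32,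 182, -44, -113, 5, -17, 8, 11, 9, -2, 38, 9, 11, -1, 3, 2, 0, -10, -3, -2]⟩))) (.node 2 (.node 1 (.leaf ⟨6, 6, true, [8, 34, 32, 37, 31, 20], [28, 40, 19, 14, 43, 26], [54, -245, -139, -122, -256, -22, 14, -74, 2, 41, 18, 31, -184, 44, 112, -5, 17, -8, -11, -9, 2, -38, -9, -11, 1, -3, -2, 0, 10, 3, 2]⟩) (.leaf ⟨6, 5, true, [13, 35, 4, 42, 31, 14], [18, 4, 38, 27, 34, 28, 23], [-54, 65, 135, -28, 149, -26, 9, 33, 24, -34, -7, -10, 19, -34, -42, -3, -10, 6, 0, 10, -4, 17, 5, 1, 3, 1, 0, 0, -2, -2, -3]⟩)) (.node 1 (.leaf ⟨5, 6, true, [4, 38, 2, 34, 21, 26], [30, 20, 26, 40, 16, 29], [48, -98, -135, 2, -184, 15, -6, -37, -24, 29, 7, 14, -36, 43, 46, 3, 9, -8, -3, -12, 4, -17, -5, -3, -3, -1, 0, 0, 4, 2, 3]⟩) (.leaf ⟨6, 6, true, [24, 2, 26, 23, 20, 39, 16], [40, 35, 13, 8], [32, -172, -63,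 -115, -323, -37, 7, -35, 13, -14, 58, 3, -144, 72, 48, 9, -10, -10, -19, -26, 9, -12, 2, -17, 3, 2, -2, 0, 9, 8, -1]⟩)))) (.node 4 (.node 2 (.node 1 (.leaf ⟨6, 6, true, [8, 19, 37, 22, 26, 8], [35, 41, 37, 27, 37, 16], [-4, -89, -24, -74, -132, -23, 10, -2, 23, -1, -52, 5, -23, 36, 19, 3, 6, -6, -7, -6, -1, 4, 1, -7, 3, 0, -2, 0, 8, -4, -1]⟩) (.leaf ⟨6, 6, true, [35, 25, 41, 21, 6], [25, 27, 19, 36, 20, 13], [3, 93, 25, 73, 133, 23, -10, 3, -23, 1, 52, -6, 21, -36, -20, -3, -6, 6, 7, 6, 1, -4, -1, 7, -3, 0, 2, 0, -8, 4, 1]⟩)) (.node 1 (.leaf ⟨6, 6, true, [10, 36, 23, 32, 2, 21], [31, 0, 36, 21, 36, 43, 23], [-8, -26, -22, -10, -142, 6, 9, 5, -9, -8, -35, 20, 30, 35, -11, 5, 0, -2, -2, -4, 2, 7, -2, 1, 0, 3, -4, 0, 3, 1]⟩) (.leaf ⟨6, 6, true, [41, 24, 22, 30, 2, 31], [2, 0, 43, 19, 40,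 35, 23], [7, 29, 23, 9, 143, -6, -9, -4, 9, 8, 35, -21, -30, -35, 10, -5, 0, 2, 2, 4, -2, -7, 2, -1, 0, -3, 4, 0, -3, -1]⟩))) (.node 2 (.node 1 (.leaf ⟨6, 6, true, [41, 8, 39, 16, 27, 28, 0], [21, 32, 40, 35, 16, 0], [10, -22, -62, -20, -137, 2, -38, -31, -16, -23, 23, 10, -48, 28, 58, 1, 3, 1, -7, -10, 5, -15, -2, -4, 0, 1, 1, 0, -1]⟩) (.leaf ⟨6, 6, true, [29, 25, 36, 30, 40, 40], [4, 32, 18, 39, 30, 10], [0, -113, -35, -78, -147, -40, 12, -19, 6, 8, -8, 23, -77, 24, 27, -4, 1, -5, -8, -6, 0, -2, -2, -10, 2, -3, 1, 0, 7, 3, -1]⟩)) (.node 1 (.leaf ⟨6, 6, true, [34, 11, 37, 33, 43, 36], [38, 34, 23, 37, 24, 26], [-1, 115, 36, 77, 148, 40, -12, 20, -6, -8, 8, -24, 79, -24, -28, 4, -1, 5, 8, 6, 0, 2, 2, 10, -2, 3, -1, 0, -7, -3, 1]⟩) (.leaf ⟨6, 6, true, [10, 18, 39, 35, 30, 22], [4, 37,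 34, 23, 37, 22], [33, 41, -145, 106, -102, 47, -39, -4, -28, -6, -2, 0, 68, 10, 61, 4, 6, 4, 8, -10, 6, -29, -3, 2, -1, -6, -3, 0, 0, 3]⟩)))))))
noncomputable def dF2309 : BT Fct := (.node 30 (.node 15 (.node 7 (.node 3 (.node 1 (.leaf ⟨6, 6, true, [4, 0, 40, 25, 42, 8, 18], [42, 23, 6, 43, 20, 13], [-73, -289, 2, -176, -236, -85, 61, -32, 15, -16, 5, 49, -80, 77, 32, 3, -3, -20, -14, -14, -2, 7, -3, -16, -4, -1, -4, 0, 20, -5, 1]⟩) (.node 1 (.leaf ⟨6, 6, true, [35, 35, 30, 43, 41, 2], [29, 43, 33, 38, 43, 16], [72, 291, -1, 175, 237, 85, -61, 33, -15, 16, -5, -50, 82, -77, -33, -3, 3, 20, 14, 14, 2, -7, 3, 16, 4, 1, 4, 0, -20, 5, -1]⟩) (.leaf ⟨6, 6, true, [35, 0, 32, 41, 19, 19, 6], [25, 0, 10, 35, 30, 10, 28], [-54, 19, 68, -23, 55, -4, 7, 28, -10, -15, -25, 2, 40, 8, -41, 3, -3, -4,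 2, 2, -3, 18, 3, 2, -1, 4, 0, 0, 0, -6, -1]⟩))) (.node 2 (.node 1 (.leaf ⟨6, 6, true, [35, 32, 21, 34, 41, 34], [23, 8, 41, 24, 41, 11], [-24, -136, -54, -91, -236, -24, -3, -33, -15, -32, 1, 35, -41, 50, 69, 3, 1, -6, -9, -17, 4, -12, -2, -10, -4, -5, 1, 0, 8, 2, -1]⟩) (.leaf ⟨6, 6, true, [41, 0, 28, 20, 42, 28, 14], [32, 0, 18, 39, 4, 40, 10], [25, 138, 54, 91, 236, 24, 3, 33, 15, 32, -1, -35, 39, -50, -70, -3, -1, 6, 9, 17, -4, 12, 2, 10, 4, 5, -1, 0, -8, -2, 1]⟩)) (.node 1 (.leaf ⟨6, 6, true, [6, 0, 19, 43, 13, 19, 21], [41, 27, 38, 10, 33, 29], [8, 75, 42, 58, 255, 11, 1, 27, -18, 51, -44, -7, 31, -47, -48, -12, 1, 1, 7, 24, -9, 1, 2, 11, 0, 2, -1, 0, -6, -3, 1]⟩) (.leaf ⟨6, 6, true, [13, 23, 6, 31, 39, 29], [41, 4, 34, 25, 36, 19, 14], [-9, -72, -41, -59, -254, -11, -1, -26, 18,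 -51, 44, 6, -31, 47, 47, 12, -1, -1, -7, -24, 9, -1, -2, -11, 0, -2, 1, 0, 6, 3, -1]⟩)))) (.node 4 (.node 2 (.node 1 (.leaf ⟨6, 6, true, [20, 34, 42, 22, 31, 2], [42, 26, 24, 31, 38, 4], [-25, 567, 221, 301, 668, 99, -30, 97, 16, -6, 28, -43, 300, -173, -119, -11, -6, 28, 32, 36, -4, 15, 6, 29, 0, 5, 5, 0, -31, 1, -5]⟩) (.leaf ⟨6, 6, true, [20, 26, 38, 10, 20, 43], [13, 27, 34, 36, 39, 31], [26, -565, -221, -301, -668, -99, 30, -97, -16, 6, -28, 43, -302, 173, 118, 11, 6, -28, -32, -36, 4, -15, -6, -29, 0, -5, -5, 0, 31, -1, 5]⟩)) (.node 1 (.leaf ⟨6, 6, true, [26, 8, 24, 6, 36, 33], [29, 4, 22, 34, 29, 11, 22], [8, 238, 107, 164, 484, 46, 14, 67, 2, 53, -43, -40, 136, -104, -136, -12, -2, 6, 26, 35, -12, 20, 8, 18, -1, 7, 2, 0, -11, -9, -1]⟩) (.leaf ⟨6, 6, true, [12, 40, 22, 42, 2, 31],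 [25, 2, 8, 22, 19, 37, 20], [8, 146, 73, 104, 363, 18, 7, 44, -10, 44, -68, -17, 83, -79, -109, -14, 1, 1, 15, 31, -12, 19, 3, 15, 0, 3, 2, 0, -7, -4]⟩))) (.node 2 (.node 1 (.leaf ⟨6, 6, true, [26, 8, 40, 8, 24, 8], [30, 0, 2, 43, 23, 41, 13], [-7, -144, -73, -104, -363, -18, -7, -44, 10, -44, 68, 17, -85, 79, 108, 14, -1, -1, -15, -31, 12, -19, -3, -15, 0, -3, -2, 0, 7, 4]⟩) (.leaf ⟨6, 6, true, [41, 0, 27, 11, 39, 18, 22], [31, 41, 36, 39, 8, 25], [55, 38, -31, 59, -69, 52, -24, -10, -19, -17, 63, -7, 37, 16, 26, 10, 3, 2, 3, -11, 8, -20, -1, -1, 1, 1, 0, 0, -3, 5, 2]⟩)) (.node 1 (.leaf ⟨6, 6, true, [29, 6, 27, 34, 31, 8, 30], [26, 24, 8, 41, 21, 11], [-54, -38, 31, -59, 69, -52, 24, 10, 19, 17, -63, 7, -35, -16, -27, -10, -3, -2, -3, 11, -8, 20, 1, 1, -1, -1, 0, 0, 3, -5, -2]⟩) (.leaf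 ⟨6, 6, true, [43, 28, 35, 32, 21, 42], [33, 30, 42, 24, 30, 43], [-18, 10, 123, -39, 69, -12, 32, 11, 32, -35, 7, 2, 35, -13, -40, 5, -4, 0, -2, 2, -1, 20, 3, 3, -1, 2, -3, 0, 2, 3, -5]⟩))))) (.node 7 (.node 3 (.node 1 (.leaf ⟨6, 6, true, [32, 6, 40, 20, 42, 19, 20], [42, 41, 27, 36, 26, 2], [19, -10, -123, 39, -69, 12, -32, -11, -32, 35, -7, -2, -33, 13, 39, -5, 4, 0, 2, -2, 1, -20, -3, -3, 1, -2, 3, 0, -2, -3, 5]⟩) (.node 1 (.leaf ⟨6, 6, true, [43, 37, 21, 2, 40, 0], [28, 0, 34, 42, 36, 42, 21], [-27, 19, 68, -38, 85, -28, 5, 6, 6, -3, -21, 17, -27, -23, -21, -9, 0, -1, 0, 10, -5, 5, 2, 4, 0, -3, 0, 0, 0, 0, -1]⟩) (.leaf ⟨6, 6, true, [19, 2, 42, 8, 41, 33, 29], [21, 25, 16, 43, 31, 35], [26, -17, -67, 37, -84, 28, -5, -5, -6, 3, 21, -18, 29, 23, 20, 9, 0, 1, 0, -10, 5, -5, -2, -4, 0,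 3, 0, 0, 0, 0, 1]⟩))) (.node 2 (.node 1 (.leaf ⟨6, 6, true, [40, 11, 40, 11, 27, 42], [31, 0, 22, 18, 39, 19, 21], [45, 424, 75, 307, 563, 99, -22, 83, -17, 50, -49, -52, 247, -122, -163, -7, -3, 18, 32, 38, -8, 25, 10, 31, 0, 6, 4, 0, -23, -7, -1]⟩) (.leaf ⟨6, 6, true, [34, 0, 39, 27, 43, 39, 26], [14, 20, 38, 20, 40, 25], [-41, 71, 25, 33, 173, -1, -13, 35, 1, 42, -54, 4, 44, -48, -39, -9, 1, 2, 11, 20, -9, 8, 1, 6, -3, 0, 0, 0, -1, -5, -2]⟩)) (.node 1 (.leaf ⟨6, 6, true, [16, 20, 39, 23, 34, 14], [41, 4, 43, 16, 33, 2, 20], [42, -71, -25, -33, -173, 1, 13, -35, -1, -42, 54, -4, -42, 48, 38, 9, -1, -2, -11, -20, 9, -8, -1, -6, 3, 0, 0, 0, 1, 5, 2]⟩) (.leaf ⟨6, 6, true, [35, 6, 38, 28, 6, 42, 23], [12, 23, 16, 40, 18, 36], [27, 115, 4, 114, 263, 32, 0, 29, -3, 63, -45, -10, 72, -58,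 -41, -8, 11, 6, 17, 23, -8, 4, -1, 12, 2, 2, 0, 0, -8, -8]⟩)))) (.node 4 (.node 2 (.node 1 (.leaf ⟨6, 6, true, [23, 6, 29, 35, 23, 18, 11], [16, 2, 19, 10, 41, 22, 11], [-26, -115, -4, -114, -263, -32, 0, -29, 3, -63, 45, 10, -70, 58, 40, 8, -11, -6, -17, -23, 8, -4, 1, -12, -2, -2, 0, 0, 8, 8]⟩) (.leaf ⟨6, 6, true, [6, 34, 38, 2, 41, 37], [20, 43, 41, 20, 23, 34], [-5, -118, -62, -91, -302, -22, -5, -44, 12, -44, 66, 13, -95, 57, 97, 9, -1, 0, -13, -25, 10, -20, -4, -13, 0, -4, 0, 0, 5, 6]⟩)) (.node 1 (.leaf ⟨6, 6, true, [0, 28, 35, 2, 38, 23], [43, 31, 43, 28, 42, 8], [4, 120, 63, 90, 303, 22, 5, 45, -12, 44, -66, -14, 97, -57, -98, -9, 1, 0, 13, 25, -10, 20, 4, 13, 0, 4, 0, 0, -5, -6]⟩) (.leaf ⟨6, 6, true, [27, 16, 35, 21, 2, 30, 20], [26, 21, 38, 21, 18, 33], [-42, -287, -83, -180,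 -506, -68, 17, -45, -2, -61, 17, 46, -132, 111, 82, 8, -6, -18, -24, -32, 7, -8, -2, -20, -1, -5, 1, 0, 17, 0, 1]⟩))) (.node 2 (.node 1 (.leaf ⟨6, 6, true, [32, 23, 29, 39, 20, 27], [12, 18, 29, 35, 20, 13, 0], [41, 289, 84, 179, 507, 68, -17, 46, 2, 61, -17, -47, 134, -111, -83, -8, 6, 18, 24, 32, -7, 8, 2, 20, 1, 5, -1, 0, -17, 0, -1]⟩) (.leaf ⟨6, 6, true, [34, 11, 33, 41, 6, 24, 20], [4, 25, 8, 18, 37, 29], [-31, -14, -20, -21, -85, 4, 8, 29, -7, -4, -21, -6, 33, 29, 6, 9, -1, -4, -2, -6, 2, 7, 0, -3, -1, 3, -4, 0, 3, -3, -2]⟩)) (.node 1 (.leaf ⟨6, 6, true, [42, 18, 0, 39, 41, 24], [16, 23, 21, 38, 25, 6], [-21, -329, 75, -280, -222, -93, 31, -62, 27, -58, 34, -1, -215, 100, 56, 8, -6, -16, -25, -23, 1, 3, -2, -22, 1, -7, -1, 0, 20, 3, 4]⟩) (.leaf ⟨6, 6, true, [42, 39, 35, 33, 27,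 27], [13, 42, 38, 42, 11, 22], [22, 331, -75, 280, 222, 93, -31, 62, -27, 58, -34, 1, 213, -100, -57, -8, 6, 16, 25, 23, -1, -3, 2, 22, -1, 7, 1, 0, -20, -3, -4]⟩)))))) (.node 15 (.node 7 (.node 3 (.node 1 (.leaf ⟨6, 6, true, [20, 4, 2, 39, 18, 34], [0, 27, 42, 10, 19, 30], [-22, -16, 11, -33, -31, -15, 9, 0, 34, -19, -2, 0, 13, 10, 25, 6, -1, 4, 1, -5, 2, 0, -2, -3, 2, 0, -6, 0, 1, 1, -2]⟩) (.node 1 (.leaf ⟨5, 6, true, [10, 40, 33, 6, 21, 14], [16, 34, 36, 22, 40, 14], [7, -9, 10, 6, 155, -15, -10, 20, -1, 19, -30, -22, 0, -20, -8, -9, -4, 3, -6, 14, -6, 4, 3, 2, 3, 2, -2, 0, -4, -3]⟩) (.leaf ⟨6, 5, true, [0, 39, 20, 6, 24, 6], [25, 42, 21, 23, 39, 21], [-8, 11, -9, -7, -154, 15, 10, -19, 1, -19, 30, 21, 2, 20, 7, 9, 4, -3, 6, -14, 6, -4, -3, -2, -3, -2, 2, 0, 4, 3]⟩))) (.node 2 (.node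 1 (.leaf ⟨6, 6, true, [0, 23, 14, 40, 34, 19], [14, 30, 37, 41, 22], [-16, -348, -44, -236, -344, -90, 29, -52, 0, -28, -18, 34, -149, 96, 85, 3, 6, -16, -19, -24, 2, -3, -6, -19, 2, -2, -2, 0, 17, -2, -2]⟩) (.leaf ⟨6, 6, true, [36, 25, 18, 43, 21, 2], [40, 32, 18, 27, 12, 6], [0, -28, 38, -57, -110, 1, -16, -18, 30, -75, 42, 0, -27, 41, 24, 13, -9, 3, -12, -17, 8, -1, 1, -4, 1, 3, -2, 0, 1, 9, -4]⟩)) (.node 1 (.leaf ⟨6, 6, true, [29, 27, 39, 27, 27, 14], [43, 30, 10, 25, 6], [2, 445, 89, 297, 517, 97, -26, 45, -48, 17, -20, -52, 254, -118, -115, -12, 2, 19, 23, 32, -5, 15, 6, 27, -4, 2, 8, 0, -22, 2, -1]⟩) (.leaf ⟨6, 6, true, [6, 23, 32, 26, 41, 13], [14, 4, 27, 27, 38, 26, 28], [-3, -442, -88, -298, -516, -97, 26, -44, 48, -17, 20, 51, -254, 118, 114, 12, -2, -19, -23, -32, 5, -15,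 -6, -27, 4, -2, -8, 0, 22, -2, 1]⟩)))) (.node 4 (.node 2 (.node 1 (.leaf ⟨6, 6, true, [24, 0, 11, 40, 8, 33, 27], [25, 0, 37, 30, 38, 37, 29], [-31, -142, -69, -87, -211, -29, -2, -51, -34, 5, -27, 37, -84, 59, 69, -1, 4, -4, -6, -11, 2, -12, -6, -10, -2, -5, 3, 0, 5, 0, 1]⟩) (.leaf ⟨6, 6, true, [10, 0, 26, 35, 31, 25, 11], [13, 18, 42, 35, 12, 25], [30, 145, 70, 86, 212, 29, 2, 52, 34, -5, 27, -38, 84, -59, -70, 1, -4, 4, 6, 11, -2, 12, 6, 10, 2, 5, -3, 0, -5, 0, -1]⟩)) (.node 1 (.leaf ⟨6, 6, true, [20, 0, 38, 8, 38, 40, 14], [22, 2, 40, 40, 4, 27, 22], [63, -78, -75, -25, -283, 32, 0, -62, -17, -68, 59, 3, -12, 76, 81, 17, 10, 0, -9, -31, 15, -17, -3, -5, 4, 0, 0, 0, 1, 3, -2]⟩) (.leaf ⟨6, 6, true, [25, 34, 20, 32, 24, 14], [34, 4, 38, 22, 12, 36, 21], [-64, 81, 76, 24, 284, -32, 0,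 63, 17, 68, -59, -4, 12, -76, -82, -17, -10, 0, 9, 31, -15, 17, 3, 5, -4, 0, 0, 0, -1, -3, 2]⟩))) (.node 2 (.node 1 (.leaf ⟨6, 6, true, [4, 2, 32, 27, 34, 42, 10], [20, 0, 16, 43, 27, 40, 26], [0, -36, -16, -29, -100, -2, -9, -18, 14, -23, 29, -3, -12, 12, 23, 5, -3, 0, -6, -12, 5, 0, 3, -4, 1, -1, 0, 0, 0, 2, -3]⟩) (.leaf ⟨6, 6, true, [40, 34, 34, 11, 26], [22, 38, 26, 26, 33, 10], [-1, 39, 17, 28, 101, 2, 9, 19, -14, 23, -29, 2, 12, -12, -24, -5, 3, 0, 6, 12, -5, 0, -3, 4, -1, 1, 0, 0, 0, -2, 3]⟩)) (.node 1 (.leaf ⟨6, 6, true, [2, 8, 21, 41, 33, 28], [37, 33, 11, 39, 40], [-17, 5, -53, 47, -170, 12, -15, -17, -20, -41, 18, 16, 57, 31, 35, 7, -4, 6, -6, -19, 9, -1, 1, -2, -3, -4, 0, 0, 2, 6, -1]⟩) (.leaf ⟨6, 6, true, [28, 22, 30, 35, 10, 4], [42, 22, 38, 38, 21, 22], [16, -3, 54, -48,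 171, -12, 15, 18, 20, 41, -18, -17, -55, -31, -36, -7, 4, -6, 6, 19, -9, 1, -1, 2, 3, 4, 0, 0, -2, -6, 1]⟩))))) (.node 8 (.node 4 (.node 2 (.node 1 (.leaf ⟨6, 6, true, [29, 6, 8, 18, 12, 38, 24], [6, 4, 20, 43, 19, 42, 6], [-41, -19, 9, -10, 8, -19, -13, 6, -17, -23, -26, 1, 10, 5, 7, -4, -4, -1, -4, 2, -2, 2, 0, -1, -1, -2, 2, 0, 1, -2, -1]⟩) (.leaf ⟨6, 6, true, [27, 6, 31, 43, 4, 41, 21], [20, 42, 8, 30, 41, 2], [42, 19, -9, 10, -8, 19, 13, -6, 17, 23, 26, -1, -8, -5, -8, 4, 4, 1, 4, -2, 2, -2, 0, 1, 1, 2, -2, 0, -1, 2, 1]⟩)) (.node 1 (.leaf ⟨6, 6, true, [33, 2, 4, 26, 13, 36], [31, 29, 39, 21, 6, 39], [-30, -128, -28, -139, -279, -35, -25, -51, -8, -65, 7, 28, -95, 59, 88, -2, 4, 1, -23, -16, 5, -19, -5, -9, 1, -2, 5, 0, 6, 8]⟩) (.leaf ⟨6, 6, true, [36, 27, 4, 35, 33, 14], [37, 12,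 14, 27, 2, 32], [29, 132, 29, 138, 280, 35, 25, 52, 8, 65, -7, -29, 93, -59, -89, 2, -4, -1, 23, 16, -5, 19, 5, 9, -1, 2, -5, 0, -6, -8]⟩))) (.node 2 (.node 1 (.leaf ⟨6, 6, true, [6, 39, 19, 6, 31, 25], [31, 34, 41, 22, 20, 29], [100, 187, -98, 193, 56, 97, -30, 14, -11, 57, 45, -40, 75, -16, -12, 11, 10, 5, 20, -1, 6, -7, -1, 11, -3, 1, -2, 0, -12, 0, 2]⟩) (.leaf ⟨6, 6, true, [29, 8, 34, 6, 27, 27], [21, 24, 29, 35, 26, 11], [0, 143, 122, 97, 324, 39, 18, 49, 35, -14, 11, -37, 148, -59, -63, 7, -6, 10, 11, 12, -2, 23, 4, 13, 0, 2, -6, 0, -9, -2, -2]⟩)) (.node 1 (.leaf ⟨6, 6, true, [19, 0, 43, 27, 31, 10, 24], [31, 42, 29, 40, 20, 22], [1, -143, -122, -97, -324, -39, -18, -49, -35, 14, -11, 37, -146, 59, 62, -7, 6, -10, -11, -12, 2, -23, -4, -13, 0, -2, 6, 0, 9, 2, 2]⟩) (.leaf ⟨6, 6,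 true, [12, 19, 36, 43, 19, 12], [24, 32, 38, 28, 16], [-76, -4, 159, -106, 57, -52, 27, 43, 21, -55, -45, -2, 9, -11, -58, -4, 0, -4, -3, 8, -6, 23, 2, 4, 0, 5, 5, 0, 2, -4, -4]⟩)))) (.node 4 (.node 2 (.node 1 (.leaf ⟨6, 6, true, [4, 37, 24, 38, 41, 11], [18, 0, 27, 34, 43, 26, 0], [77, 4, -159, 106, -57, 52, -27, -43, -21, 55, 45, 2, -7, 11, 57, 4, 0, 4, 3, -8, 6, -23, -2, -4, 0, -5, -5, 0, -2, 4, 4]⟩) (.leaf ⟨6, 6, true, [39, 20, 28, 30, 38, 35], [2, 26, 19, 42, 41, 21], [33, 4, -92, 61, -96, 17, -23, -4, -26, 6, -2, -9, 31, 35, 18, 7, 0, 0, -2, -13, 6, -4, 1, -1, 1, -1, -1, 0, 1, 2, -1]⟩)) (.node 1 (.leaf ⟨6, 6, true, [14, 22, 38, 20, 43, 30], [18, 20, 41, 39, 0, 31], [-32, -2, 92, -61, 96, -17, 23, 4, 26, -6, 2, 9, -33, -35, -19, -7, 0, 0, 2, 13, -6, 4, -1, 1, -1, 1, 1, 0, -1, -2,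 1]⟩) (.leaf ⟨6, 6, true, [42, 10, 28, 6, 33, 39], [11, 0, 42, 8, 18, 42], [-20, -76, -24, -73, -171, -30, 4, -14, 3, -1, -28, 22, -79, 32, -2, -4, -3, -7, -7, -1, -2, -1, -1, -5, 2, 2, 1, 0, 8, -2, -1]⟩))) (.node 2 (.node 1 (.leaf ⟨6, 6, true, [27, 23, 41, 20, 18, 31], [19, 41, 41, 36, 21, 6], [19, 79, 25, 72, 172, 30, -4, 15, -3, 1, 28, -23, 79, -32, 1, 4, 3, 7, 7, 1, 2, 1, 1, 5, -2, -2, -1, 0, -8, 2, 1]⟩) (.leaf ⟨6, 6, true, [20, 35, 40, 34, 30, 24], [12, 28, 20, 27, 35, 22], [8, -169, -154, -51, -237, -15, -1, -33, -56, 43, -27, 27, -83, 74, 58, -2, 5, -15, -12, -8, 0, -20, -3, -9, -1, -1, -3, 0, 9, -2, 5]⟩)) (.node 1 (.leaf ⟨6, 6, true, [13, 27, 40, 33, 19, 14], [10, 23, 31, 38, 22, 18], [-7, 171, 154, 51, 237, 15, 1, 33, 56, -43, 27, -27, 81, -74, -59, 2, -5, 15, 12, 8, 0, 20, 3,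 9, 1, 1, 3, 0, -9, 2, -5]⟩) (.leaf ⟨6, 6, true, [2, 0, 40, 43, 18, 37, 27], [39, 2, 25, 36, 24, 13, 22], [35, -78, -72, -24, -137, 1, 6, -30, -14, 13, -23, -5, -53, 40, 3, 1, 6, -5, -1, -4, 1, 1, -3, -2, -2, -3, 3, 0, 4, 1, 2]⟩)))))))
noncomputable def dF2370 : BT Fct := (.node 30 (.node 15 (.node 7 (.node 3 (.node 1 (.leaf ⟨6, 6, true, [13, 2, 22, 11, 38, 26, 24], [27, 32, 38, 24, 37, 39], [-34, 78, 72, 24, 137, -1, -6, 30, 14, -13, 23, 5, 55, -40, -4, -1, -6, 5, 1, 4, -1, -1, 3, 2, 2, 3, -3, 0, -4, -1, -2]⟩) (.node 1 (.leaf ⟨6, 6, true, [43, 32, 23, 34, 16, 13], [32, 2, 43, 34, 31, 22, 12], [-13, 331, 50, 222, 354, 76, -15, 58, 1, 33, 2, -27, 153, -88, -92, -5, -5, 12, 18, 26, -4, 9, 5, 19, -4, 1, 1, 0, -14, 2, 1]⟩) (.leaf ⟨6, 6, true, [41, 2, 21, 12, 37, 33, 0], [38, 0, 37, 18, 30,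 42], [14, -329, -50, -222, -354, -76, 15, -58, -1, -33, -2, 27, -155, 88, 91, 5, 5, -12, -18, -26, 4, -9, -5, -19, 4, -1, -1, 0, 14, -2, -1]⟩))) (.node 2 (.node 1 (.leaf ⟨6, 6, true, [39, 20, 18, 26, 39, 10], [22, 28, 40, 21, 10, 12], [45, 343, -46, 283, 321, 132, -62, 19, -18, 50, -18, -40, 162, -90, -44, -4, 12, 21, 39, 22, -1, -11, -4, 24, -2, -6, 7, 0, -21, -3, 2]⟩) (.leaf ⟨6, 6, true, [21, 18, 22, 38, 25, 14], [43, 0, 18, 22, 43, 19, 28], [-46, -339, 47, -284, -320, -132, 62, -18, 18, -50, 18, 39, -164, 90, 43, 4, -12, -21, -39, -22, 1, 11, 4, -24, 2, 6, -7, 0, 21, 3, -2]⟩)) (.node 1 (.leaf ⟨6, 6, true, [2, 38, 40, 38, 36, 4], [10, 2, 28, 33, 42, 26, 18], [-4, -92, -73, -26, -232, -7, -22, -50, -12, -16, 42, 18, -75, 48, 87, 3, -1, 1, -10, -21, 7, -20, -1, -11, -2, -11, 2, 0, 8,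 7]⟩) (.leaf ⟨6, 6, true, [13, 22, 43, 28, 23, 16], [8, 43, 4, 28, 12], [5, 94, 73, 26, 232, 7, 22, 50, 12, 16, -42, -18, 73, -48, -88, -3, 1, -1, 10, 21, -7, 20, 1, 11, 2, 11, -2, 0, -8, -7]⟩)))) (.node 4 (.node 2 (.node 1 (.leaf ⟨6, 6, true, [8, 12, 28, 41, 20, 16], [41, 0, 14, 18, 39, 32, 19], [42, -293, -152, -121, -471, -58, 11, -73, 5, -34, 34, 14, -130, 120, 104, 9, 4, -15, -22, -35, 10, -21, -7, -19, 0, 1, 1, 0, 11, 9, -1]⟩) (.leaf ⟨6, 6, true, [8, 37, 25, 6, 32, 4], [21, 2, 38, 32, 34, 34, 16], [-41, 293, 152, 121, 471, 58, -11, 73, -5, 34, -34, -14, 132, -120, -105, -9, -4, 15, 22, 35, -10, 21, 7, 19, 0, -1, -1, 0, -11, -9, 1]⟩)) (.node 1 (.leaf ⟨6, 6, true, [16, 28, 43, 32, 23], [40, 18, 35, 24, 42, 16], [-24, -313, -138, -195, -384, -100, 9, -56, -31, -22, -33, 36, -214, 98,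 105, -3, -2, -20, -25, -21, 0, -24, -3, -24, -1, -4, 2, 0, 20, -1, 1]⟩) (.leaf ⟨6, 6, true, [28, 2, 40, 29, 11, 42], [22, 33, 4, 42, 29, 16], [23, 317, 139, 194, 385, 100, -9, 57, 31, 22, 33, -37, 212, -98, -106, 3, 2, 20, 25, 21, 0, 24, 3, 24, 1, 4, -2, 0, -20, 1, -1]⟩))) (.node 2 (.node 1 (.leaf ⟨6, 6, true, [11, 21, 22, 42, 33, 29], [16, 2, 24, 6, 43, 21, 31], [11, 540, 259, 355, 1102, 56, -18, 129, 17, 117, -77, -109, 220, -252, -230, -30, -8, 25, 55, 81, -26, 47, 3, 41, -1, -3, 4, 0, -34, -12]⟩) (.leaf ⟨5, 6, true, [34, 6, 40, 40, 25, 32], [25, 8, 42, 12, 27, 42, 28], [44, 456, 121, 365, 998, 74, -31, 117, -31, 171, -107, -98, 186, -201, -193, -31, -1, 16, 52, 79, -26, 28, 0, 38, 0, 0, -1, 0, -31, -16, 5]⟩)) (.node 1 (.leaf ⟨6, 5, true, [8, 28, 36, 22, 6, 40], [19, 11, 26, 20, 43,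 25], [-45, -452, -120, -366, -997, -74, 31, -116, 31, -171, 107, 97, -188, 201, 192, 31, 1, -16, -52, -79, 26, -28, 0, -38, 0, 0, 1, 0, 31, 16, -5]⟩) (.leaf ⟨6, 6, true, [25, 36, 23, 12, 37, 22], [2, 25, 11, 38, 13, 34], [62, 12, -128, 93, -14, 20, -17, -10, -31, 69, -39, -2, -12, 0, 13, -5, 6, -1, 7, 4, -1, -9, -4, 3, 1, -3, -1, 0, -3, -2, 2]⟩))))) (.node 7 (.node 3 (.node 1 (.leaf ⟨6, 6, true, [14, 2, 25, 22, 42, 32, 11], [32, 0, 36, 40, 23, 13, 0], [-63, -8, 129, -94, 15, -20, 17, 11, 31, -69, 39, 1, 10, 0, -14, 5, -6, 1, -7, -4, 1, 9, 4, -3, -1, 3, 1, 0, 3, 2, -2]⟩) (.node 1 (.leaf ⟨6, 6, true, [4, 18, 40, 27, 6, 23], [20, 25, 37, 14, 40, 25], [73, -89, -122, 0, -289, 8, -2, -49, -17, -34, 51, -7, -65, 69, 78, 12, 1, -2, -12, -28, 13, -20, -3, -9, 4, -3, -1, 0, 1, 7, 2]⟩) (.leaf ⟨6,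 6, true, [14, 0, 39, 19, 0, 40, 11], [16, 21, 39, 11, 19, 4], [-74, 92, 123, -1, 290, -8, 2, 50, 17, 34, -51, 6, 65, -69, -79, -12, -1, 2, 12, 28, -13, 20, 3, 9, -4, 3, 1, 0, -1, -7, -2]⟩))) (.node 2 (.node 1 (.leaf ⟨6, 6, true, [35, 21, 42, 14, 42, 11], [2, 19, 26, 39, 31, 2], [-9, 11, 43, -22, 7, -9, 2, 9, 4, -25, -2, 4, 15, -7, -23, 0, -3, -2, -6, -2, 0, 13, 3, 2, 1, -1, 1, 0, 0, 3, -3]⟩) (.leaf ⟨6, 6, true, [10, 13, 25, 38, 34, 8], [13, 24, 38, 32, 22, 26], [8, -9, -42, 21, -6, 9, -2, -8, -4, 25, 2, -5, -13, 7, 22, 0, 3, 2, 6, 2, 0, -13, -3, -2, -1, 1, -1, 0, 0, -3, 3]⟩)) (.node 1 (.leaf ⟨4, 6, true, [13, 28, 42, 6, 23, 8], [40, 38, 4, 26, 23, 42], [27, -131, -61, -40, -111, -12, 8, -26, 8, 19, 14, 3, -65, 36, 36, 4, 4, -5, -6, -9, 3, -6, -5, -5, 1, -3, -5, 0, 4, 3, 5]⟩) (.leaf ⟨5,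 6, true, [40, 37, 10, 26, 6], [28, 40, 23, 38, 36, 24], [-58, -96, 36, -105, 17, -56, -14, 9, -13, 3, -41, 9, -85, 18, -6, -9, -8, -5, 0, 9, -8, 11, -2, -5, -2, -3, 0, 0, 5, -8, 1]⟩)))) (.node 4 (.node 2 (.node 1 (.leaf ⟨6, 5, true, [32, 20, 41, 10, 31, 29], [4, 6, 27, 8, 37, 6], [57, 100, -35, 104, -16, 56, 14, -8, 13, -3, 41, -10, 83, -18, 5, 9, 8, 5, 0, -9, 8, -11, 2, 5, 2, 3, 0, 0, -5, 8, -1]⟩) (.leaf ⟨6, 6, true, [23, 6, 22, 6, 2, 27, 22], [21, 42, 4, 43, 26, 2], [-6, -165, -63, -117, -292, -44, -2, -31, -6, -21, 8, 11, -111, 65, 46, 5, -2, -8, -13, -17, 4, -10, -1, -14, 3, -1, 1, 0, 10, 2]⟩)) (.node 1 (.leaf ⟨6, 6, true, [28, 2, 19, 28, 41, 11], [34, 21, 40, 14, 26, 8], [5, 167, 64, 116, 293, 44, 2, 32, 6, 21, -8, -12, 113, -65, -47, -5, 2, 8, 13, 17, -4, 10, 1, 14, -3, 1, -1, 0,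 -10, -2]⟩) (.leaf ⟨6, 6, true, [36, 28, 37, 42, 31, 25], [6, 40, 20, 26, 40, 23], [22, -136, -86, -54, -178, 4, 5, -28, 6, 8, 31, 13, -63, 51, 82, 8, 7, -1, -5, -16, 6, -12, -3, -11, 1, 0, -7, 0, 4, -1]⟩))) (.node 2 (.node 1 (.leaf ⟨6, 6, true, [21, 19, 42, 29, 37, 23], [26, 24, 8, 38, 31, 22], [-21, 138, 86, 54, 178, -4, -5, 28, -6, -8, -31, -13, 61, -51, -83, -8, -7, 1, 5, 16, -6, 12, 3, 11, -1, 0, 7, 0, -4, 1]⟩) (.leaf ⟨5, 6, true, [4, 43, 21, 33, 13], [40, 26, 36, 12, 40, 29], [79, 244, -27, 234, 342, 88, -8, 37, 1, 78, 1, -26, 160, -82, -42, -2, 7, 13, 23, 19, -2, 7, -1, 18, -4, 2, -5, 0, -15, -3, 1]⟩)) (.node 1 (.leaf ⟨6, 5, true, [10, 0, 28, 35, 21, 18, 0], [4, 21, 22, 30, 42, 4], [-80, -240, 28, -235, -341, -88, 8, -36, -1, -78, -1, 25, -162, 82, 41, 2, -7, -13, -23, -19, 2, -7,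 1, -18, 4, -2, 5, 0, 15, 3, -1]⟩) (.leaf ⟨5, 6, true, [35, 10, 4], [24, 41, 11, 30, 39, 35], [25, 112, 26, 109, 255, 39, 11, 22, 15, 32, -3, -9, 99, -56, -27, -3, 3, 7, 12, 13, -3, 10, 0, 10, -1, -1, -5, 0, -8, -2]⟩)))))) (.node 15 (.node 7 (.node 3 (.node 1 (.leaf ⟨5, 6, true, [11, 36, 38, 25, 11, 28], [38, 32, 11, 31, 43, 28], [4, 25, 58, -15, 199, 16, 33, 34, 18, 53, -35, 3, 25, -46, -39, -3, 12, -1, 13, 19, -8, 11, -3, 7, 4, 6, -5, 0, -2, -12]⟩) (.node 1 (.leaf ⟨6, 5, true, [12, 40, 0, 40, 6, 25], [22, 22, 34, 11, 12, 4], [-5, -22, -57, 14, -198, -16, -33, -33, -18, -53, 35, -4, -25, 46, 38, 3, -12, 1, -13, -19, 8, -11, 3, -7, -4, -6, 5, 0, 2, 12]⟩) (.leaf ⟨5, 6, true, [39, 2, 43, 32, 12, 26, 10], [35, 2, 28, 22, 38, 21, 30], [25, 231, 41, 189, 553, 35, -20, 73, -7, 119, -88, -62,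 119, -98, -131, -13, -2, 8, 29, 48, -16, 27, 2, 20, 3, 5, -3, 0, -17, -15, 2]⟩))) (.node 2 (.node 1 (.leaf ⟨6, 5, true, [22, 38, 27, 34, 37], [13, 33, 18, 35, 29, 16], [-26, -229, -40, -190, -552, -35, 20, -72, 7, -119, 88, 61, -117, 98, 130, 13, 2, -8, -29, -48, 16, -27, -2, -20, -3, -5, 3, 0, 17, 15, -2]⟩) (.leaf ⟨5, 6, true, [10, 21, 42, 41, 16, 6], [14, 39, 36, 27, 33, 43], [15, -14, -9, 15, 63, -11, -8, 1, -41, 51, -58, 0, -50, -6, -59, -15, 3, -6, 7, 17, -10, 12, -1, 2, -2, -3, 8, 0, 3, -8, 6]⟩)) (.node 1 (.leaf ⟨6, 5, true, [18, 11, 22, 29, 40, 26, 21], [35, 2, 13, 36, 28, 37, 18], [-16, 17, 10, -16, -62, 11, 8, 0, 41, -51, 58, -1, 50, 6, 58, 15, -3, 6, -7, -17, 10, -12, 1, -2, 2, 3, -8, 0, -3, 8, -6]⟩) (.leaf ⟨5, 6, true, [20, 29, 36, 19, 25, 12], [14, 4, 43, 26, 41, 30, 18],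 [18, 390, 143, 300, 923, 44, -17, 123, -30, 157, -137, -90, 158, -177, -201, -31, -2, 10, 48, 77, -27, 35, 0, 35, 1, 2, -2, 0, -27, -18, 4]⟩)))) (.node 4 (.node 2 (.node 1 (.leaf ⟨6, 5, true, [22, 42, 33, 26, 16, 10], [10, 26, 2, 31, 38, 2], [-19, -386, -142, -301, -922, -44, 17, -122, 30, -157, 137, 89, -160, 177, 200, 31, 2, -10, -48, -77, 27, -35, 0, -35, -1, -2, 2, 0, 27, 18, -4]⟩) (.leaf ⟨6, 6, true, [2, 33, 37, 16, 34, 14], [22, 6, 43, 38, 35, 32], [22, -56, -64, 4, -27, -13, 8, 1, -15, 42, -31, 11, -31, 24, 15, -3, 5, -4, 0, 4, -3, -8, -5, -2, 0, 1, -3, 0, 5, -3, 4]⟩)) (.node 1 (.leaf ⟨6, 6, true, [0, 40, 38, 4, 38, 6], [20, 18, 16, 36, 40, 6], [-21, 58, 64, -4, 27, 13, -8, -1, 15, -42, 31, -11, 29, -24, -16, 3, -5, 4, 0, -4, 3, 8, 5, 2, 0, -1, 3, 0, -5, 3, -4]⟩) (.leaf ⟨5, 5,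 true, [30, 39, 36, 33, 22, 12], [12, 41, 23, 4, 42, 41], [27, -23, -64, 36, -8, 5, 4, -3, 15, 28, 0, -7, 10, 0, 14, 2, 0, 1, 2, -2, 1, -1, -1, -2, 2, -2, -3, 0, 0, -1]⟩))) (.node 2 (.node 1 (.leaf ⟨6, 6, true, [2, 40, 40, 23, 27, 28], [39, 32, 43, 43, 22, 21], [32, 86, -24, 48, 46, 23, -6, 15, 7, 44, -8, -10, -25, -27, -31, -3, 2, 4, 8, 7, -2, 2, 0, 5, 1, 0, 2, 0, -3, 0, 1]⟩) (.leaf ⟨6, 6, true, [35, 0, 37, 11, 34, 33, 0], [6, 25, 10, 23, 42, 11], [-31, -84, 24, -48, -46, -23, 6, -15, -7, -44, 8, 10, 23, 27, 30, 3, -2, -4, -8, -7, 2, -2, 0, -5, -1, 0, -2, 0, 3, 0, -1]⟩)) (.node 1 (.leaf ⟨6, 6, true, [43, 29, 27, 6, 4], [26, 41, 14, 21, 43], [88, 422, -65, 358, 249, 171, -59, 18, -33, 24, 56, -29, 220, -87, 24, 9, 14, 28, 33, 10, 10, -35, -4, 19, 0, 0, -2, 0, -26, 8, -1]⟩) (.leaf ⟨6, 6,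 true, [4, 0, 43, 12, 25, 40, 10], [6, 21, 39, 16, 31], [-89, -420, 66, -359, -248, -171, 59, -17, 33, -24, -56, 28, -218, 87, -25, -9, -14, -28, -33, -10, -10, 35, 4, -19, 0, 0, 2, 0, 26, -8, 1]⟩))))) (.node 8 (.node 4 (.node 2 (.node 1 (.leaf ⟨6, 6, true, [28, 0, 14, 10, 34, 30, 12], [20, 2, 26, 38, 29, 10, 26], [-18, 72, 52, 63, 115, 20, 17, 7, 9, -7, 23, 0, 72, -33, -3, 1, 4, 6, 11, 7, -1, -1, -2, 5, -1, -3, 0, 0, -7, 1]⟩) (.leaf ⟨6, 6, true, [36, 4, 41, 41, 21, 24, 30], [31, 0, 11, 38, 2, 32, 16], [19, -70, -52, -63, -115, -20, -17, -7, -9, 7, -23, 0, -74, 33, 2, -1, -4, -6, -11, -7, 1, 1, 2, -5, 1, 3, 0, 0, 7, -1]⟩)) (.node 1 (.leaf ⟨6, 6, true, [28, 2, 27, 21, 41, 29, 26], [8, 33, 42, 31, 27, 4], [26, 211, 46, 147, 197, 71, -17, 7, 9, -5, 19, -8, 87, -71, -20, -4, 12, 15, 24, 16,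 -2, -14, -2, 12, -3, -1, 8, 0, -10, 0, -1]⟩) (.leaf ⟨6, 6, true, [6, 12, 20, 39, 32, 8], [34, 16, 33, 39, 30, 21], [-25, -211, -46, -147, -197, -71, 17, -7, -9, 5, -19, 8, -85, 71, 19, 4, -12, -15, -24, -16, 2, 14, 2, -12, 3, 1, -8, 0, 10, 0, 1]⟩))) (.node 2 (.node 1 (.leaf ⟨6, 5, true, [27, 2, 18, 42, 16, 37, 28], [43, 19, 37, 40, 31], [-11, 174, 94, 72, 252, 12, 5, 19, 24, 4, 9, -13, 34, -72, -42, -6, -1, 10, 14, 17, -4, 4, 1, 11, 1, -2, 2, 0, -9, -1, -2]⟩) (.leaf ⟨5, 6, true, [23, 39, 24, 14, 11], [43, 20, 27, 36, 16], [19, -170, -107, -63, -260, -12, -7, -18, -22, 0, -11, 10, -34, 72, 41, 6, 1, -10, -14, -17, 4, -4, -1, -11, -1, 2, -2, 0, 9, 1, 2]⟩)) (.node 1 (.leaf ⟨6, 6, true, [16, 25, 41, 21, 18, 8], [32, 39, 21, 18, 25], [7, 6, 43, -23, 86, -7, 33, 6, 36, 30, 5, -1, -11, -36,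 -27, -4, 0, 3, 2, 8, -3, 9, 1, 0, 2, -1, -1, 0, 1, 3, -2]⟩) (.leaf ⟨6, 6, true, [30, 38, 38, 21, 25, 14], [19, 20, 41, 13, 22, 0], [-6, -4, -43, 23, -86, 7, -33, -6, -36, -30, -5, 1, 9, 36, 26, 4, 0, -3, -2, -8, 3, -9, -1, 0, -2, 1, 1, 0, -1, -3, 2]⟩)))) (.node 4 (.node 2 (.node 1 (.leaf ⟨6, 6, true, [26, 23, 37, 2, 24, 6], [29, 4, 41, 41, 38, 30], [14, -114, -71, -57, -145, -20, 12, -24, 1, 14, 8, 5, -66, 34, 40, 3, 1, -6, -7, -11, 3, -7, -3, -8, 2, -1, -4, 0, 6, 1, 1]⟩) (.leaf ⟨6, 6, true, [10, 8, 39, 35, 6, 28], [16, 20, 41, 26, 38, 29], [-15, 116, 72, 56, 146, 20, -12, 25, -1, -14, -8, -6, 68, -34, -41, -3, -1, 6, 7, 11, -3, 7, 3, 8, -2, 1, 4, 0, -6, -1, -1]⟩)) (.node 1 (.leaf ⟨6, 6, true, [23, 31, 35, 26, 34, 0], [34, 32, 39, 24, 20, 11], [-2, -43, -48, -35, -179, 10, 2, -23, 24,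 -23, 27, 11, -20, 35, 71, 11, 7, 5, 1, -17, 8, -9, -3, -8, 2, -3, -5, 0, 2, 1, -2]⟩) (.leaf ⟨6, 6, true, [20, 2, 41, 30, 43, 2, 19], [4, 35, 27, 34, 30, 22], [3, 45, 48, 35, 179, -10, -2, 23, -24, 23, -27, -11, 18, -35, -72, -11, -7, -5, -1, 17, -8, 9, 3, 8, -2, 3, 5, 0, -2, -1, 2]⟩))) (.node 2 (.node 1 (.leaf ⟨6, 6, true, [25, 2, 21, 2, 38, 31, 12], [0, 30, 20, 43, 12, 24], [18, 16, -68, -51, -466, 80, 11, -72, 38, -117, 151, 45, 31, 73, 143, 35, 16, 12, -6, -52, 27, -28, -4, -12, 1, -5, -1, 0, 2, 15, -5]⟩) (.leaf ⟨6, 6, true, [32, 29, 34, 21, 43, 0], [32, 0, 29, 37, 27, 42, 30], [6, 283, 174, 175, 546, 36, 31, 91, 34, 39, -27, -42, 209, -130, -150, -8, -5, 11, 17, 35, -11, 42, 9, 21, 1, 1, 4, 0, -13, -4, -5]⟩)) (.node 1 (.leaf ⟨6, 6, true, [10, 6, 23, 30, 34, 6, 31], [43, 40, 38, 23,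 37, 29], [-5, -281, -174, -175, -546, -36, -31, -91, -34, -39, 27, 42, -211, 130, 149, 8, 5, -11, -17, -35, 11, -42, -9, -21, -1, -1, -4, 0, 13, 4, 5]⟩) (.leaf ⟨6, 6, true, [43, 31, 38, 26, 42], [41, 37, 22, 19, 8], [-6, 248, 157, 125, 468, 12, 26, 90, 37, 23, -41, -38, 161, -114, -151, -11, -8, 8, 15, 33, -12, 42, 10, 19, 1, 2, 4, 0, -9, -8, -4]⟩)))))))
noncomputable def dF2431 : BT Fct := (.node 30 (.node 15 (.node 7 (.node 3 (.node 1 (.leaf ⟨6, 6, true, [14, 18, 23, 36, 40], [23, 18, 37, 35, 36, 42], [5, -246, -156, -126, -467, -12, -26, -89, -37, -23, 41, 37, -159, 114, 150, 11, 8, -8, -15, -33, 12, -42, -10, -19, -1, -2, -4, 0, 9, 8, 4]⟩) (.node 1 (.leaf ⟨6, 6, true, [11, 30, 39, 20, 29, 11], [16, 41, 33, 42, 10, 4], [-85, 276, 181, 95, 420, 37, -3, 49, -26, -3, -13, -7, 136, -89,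 -118, -13, -2, 6, 15, 27, -9, 21, 3, 18, -6, 3, 9, 0, -9, 1, -1]⟩) (.leaf ⟨6, 6, true, [32, 37, 4, 6, 23, 34], [18, 42, 21, 34, 36, 25], [84, -274, -180, -96, -419, -37, 3, -48, 26, 3, 13, 6, -134, 89, 117, 13, 2, -6, -15, -27, 9, -21, -3, -18, 6, -3, -9, 0, 9, -1, 1]⟩))) (.node 2 (.node 1 (.leaf ⟨6, 6, true, [31, 2, 12, 26, 35, 22, 28], [18, 37, 18, 42, 14, 19], [4, 64, 25, 44, 114, 9, -2, 21, 2, 13, -13, -14, 39, -23, -25, -2, -1, 4, 5, 9, -3, 3, 1, 5, 0, 3, -1, 0, -3, -3, 1]⟩) (.leaf ⟨6, 6, true, [39, 2, 40, 40, 18, 37, 18], [24, 34, 31, 27, 13, 2], [-5, -61, -24, -45, -113, -9, 2, -20, -2, -13, 13, 13, -39, 23, 24, 2, 1, -4, -5, -9, 3, -3, -1, -5, 0, -3, 1, 0, 3, 3, -1]⟩)) (.node 1 (.leaf ⟨6, 6, true, [23, 12, 42, 25, 29, 14], [26, 13, 39, 32, 40, 29], [42, 133, -60, 164, 223, 54,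 -30, 14, -35, 65, 32, -26, 57, -52, -10, -6, -3, 11, 15, 13, -1, -14, -4, 9, -1, -1, 1, 0, -13, 2, 5]⟩) (.leaf ⟨6, 6, true, [42, 31, 2, 27, 21, 0], [32, 35, 8, 28, 40, 29], [-41, -133, 60, -164, -223, -54, 30, -14, 35, -65, -32, 26, -55, 52, 9, 6, 3, -11, -15, -13, 1, 14, 4, -9, 1, 1, -1, 0, 13, -2, -5]⟩)))) (.node 4 (.node 2 (.node 1 (.leaf ⟨6, 6, true, [35, 33, 31, 39, 31, 13], [28, 2, 21, 37, 25, 6, 27], [-20, 9, 74, -14, 73, -20, 18, 24, 23, -14, -15, -7, 15, -13, -45, 0, -9, -2, -2, 5, -4, 14, 4, 0, 0, 0, 0, 0, 4, 1, -2]⟩) (.leaf ⟨6, 6, true, [19, 0, 42, 36, 34, 38, 14], [16, 21, 30, 10, 6, 38], [19, -6, -73, 13, -72, 20, -18, -23, -23, 14, 15, 6, -15, 13, 44, 0, 9, 2, 2, -5, 4, -14, -4, 0, 0, 0, 0, 0, -4, -1, 2]⟩)) (.node 1 (.leaf ⟨6, 6, true, [27, 35, 24, 28, 32, 2], [27, 2, 26,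 10, 22, 41, 29], [-4, -68, -66, -21, -154, -10, 1, -16, 13, -16, -10, 13, -17, 45, 26, 6, 4, -5, -4, -7, 2, -11, -2, -6, -4, -2, -2, 0, 9, 6, 2]⟩) (.leaf ⟨6, 6, true, [39, 36, 34, 41, 31, 34], [6, 14, 34, 22, 36, 26], [3, 71, 67, 20, 155, 10, -1, 17, -13, 16, 10, -14, 17, -45, -27, -6, -4, 5, 4, 7, -2, 11, 2, 6, 4, 2, 2, 0, -9, -6, -2]⟩))) (.node 2 (.node 1 (.leaf ⟨6, 6, true, [35, 38, 40, 10, 32, 26], [39, 28, 41, 13, 27, 25], [-38, 154, 136, 59, 231, -5, 1, 49, -13, 2, -7, -13, 86, -55, -133, -6, -19, -1, 4, 17, -8, 35, 11, 12, -8, 5, 8, 0, -5, -4]⟩) (.leaf ⟨6, 6, true, [11, 25, 35, 41, 18, 21], [26, 14, 31, 2, 39, 29], [37, -151, -135, -60, -230, 5, -1, -48, 13, -2, 7, 12, -86, 55, 132, 6, 19, 1, -4, -17, 8, -35, -11, -12, 8, -5, -8, 0, 5, 4]⟩)) (.node 1 (.leaf ⟨6, 6, true, [4, 22,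 2, 32, 8, 4], [34, 2, 32, 24, 40, 43, 22], [2, 59, 38, 43, 127, 3, 0, 12, -1, 4, -6, -9, 42, -28, -28, -3, -2, 4, 4, 9, -3, 7, 1, 5, 0, 0, 0, 0, -3, -1]⟩) (.leaf ⟨6, 6, true, [27, 36, 42, 38, 36, 23], [30, 32, 2, 23, 4], [-3, -56, -37, -44, -126, -3, 0, -11, 1, -4, 6, 8, -42, 28, 27, 3, 2, -4, -4, -9, 3, -7, -1, -5, 0, 0, 0, 0, 3, 1]⟩))))) (.node 7 (.node 3 (.node 1 (.leaf ⟨6, 6, true, [6, 8, 36, 33, 22, 2], [16, 2, 43, 33, 6, 42, 23], [-54, -303, -64, -187, -201, -96, 22, -26, -27, 37, -92, 49, -141, 66, 24, -10, -2, -21, -17, -3, -8, -1, 0, -14, 4, 3, -3, 0, 15, -10, 2]⟩) (.node 1 (.leaf ⟨6, 6, true, [43, 2, 43, 25, 11, 39, 2], [2, 30, 18, 27, 37, 6], [53, 306, 65, 186, 202, 96, -22, 27, 27, -37, 92, -50, 141, -66, -25, 10, 2, 21, 17, 3, 8, 1, 0, 14, -4, -3, 3, 0, -15, 10, -2]⟩) (.leaf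 ⟨6, 6, true, [6, 43, 11, 39, 26, 14], [10, 16, 30, 35, 24], [-41, -418, -133, -320, -895, -51, 29, -107, 21, -151, 96, 93, -139, 188, 194, 31, 3, -13, -45, -73, 25, -30, -2, -33, 1, -2, -3, 0, 27, 14, -4]⟩))) (.node 2 (.node 1 (.leaf ⟨6, 6, true, [21, 32, 41, 12, 19], [29, 39, 33, 19, 11, 0], [-44, 136, 84, 61, 324, 13, -14, 42, -11, 29, -24, 13, 68, -73, -40, -14, 2, 7, 17, 26, -9, 3, 0, 11, -2, 1, -3, 0, -8, -4, -1]⟩) (.leaf ⟨6, 6, true, [10, 28, 21, 28, 38, 28], [4, 18, 34, 43, 29, 8], [45, -134, -84, -61, -324, -13, 14, -42, 11, -29, 24, -13, -70, 73, 39, 14, -2, -7, -17, -26, 9, -3, 0, -11, 2, -1, 3, 0, 8, 4, 1]⟩)) (.node 1 (.leaf ⟨6, 6, true, [36, 30, 37, 42, 38, 14], [24, 2, 27, 30, 11, 40, 28], [-16, -267, -75, -151, -248, -77, 9, -22, -33, 13, -21, 19, -132, 84, 9, -5, -11, -24,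 -25, -12, -1, 2, 1, -14, -2, 2, 0, 0, 12, 1, 5]⟩) (.leaf ⟨6, 6, true, [30, 0, 35, 35, 25, 8, 26], [8, 36, 28, 34, 27, 25], [17, 269, 75, 151, 248, 77, -9, 22, 33, -13, 21, -19, 130, -84, -10, 5, 11, 24, 25, 12, 1, -2, -1, 14, 2, -2, 0, 0, -12, -1, -5]⟩)))) (.node 4 (.node 2 (.node 1 (.leaf ⟨5, 6, true, [18, 8, 6, 43, 30, 37], [18, 35, 30, 40, 39, 4], [-20, 279, 156, 104, 362, 55, 4, 49, 11, -9, 9, -21, 153, -85, -102, -1, 0, 13, 22, 20, -3, 17, 0, 19, -3, 2, 2, 0, -10, 4, -1]⟩) (.leaf ⟨6, 6, true, [20, 30, 11, 37, 32, 27], [10, 33, 28, 42, 28, 8], [-13, -108, -11, -65, -171, -30, 14, -20, 9, -35, 27, 17, -22, 40, 35, 5, -2, -5, -11, -14, 4, -4, -1, -9, -2, 0, -1, 0, 7, 5]⟩)) (.node 1 (.leaf ⟨6, 6, true, [24, 29, 41, 37, 28, 12], [21, 11, 20, 41, 19, 37, 28], [-10, -66, -8, -38, -63, -22,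 13, 0, 4, 0, -5, 4, -20, 19, 15, 1, -2, -5, -7, -4, 0, 2, 0, -4, 0, -2, -1, 0, 3]⟩) (.leaf ⟨6, 6, true, [27, 19, 13, 10, 34, 26], [8, 28, 42, 27, 29, 22], [11, 68, 8, 38, 63, 22, -13, 0, -4, 0, 5, -4, 18, -19, -16, -1, 2, 5, 7, 4, 0, -2, 0, 4, 0, 2, 1, 0, -3]⟩))) (.node 2 (.node 1 (.leaf ⟨6, 6, true, [13, 21, 41, 29, 22, 12], [31, 34, 28, 43, 6, 27], [-49, -424, -69, -283, -602, -129, 19, -46, 11, -81, 35, 32, -138, 157, 104, 13, -14, -24, -46, -45, 12, 2, -3, -24, 1, 1, -10, 0, 18, 7, 2]⟩) (.leaf ⟨6, 6, true, [0, 11, 40, 30, 28, 25], [12, 22, 34, 11, 33, 28], [48, 428, 70, 282, 603, 129, -19, 47, -11, 81, -35, -33, 136, -157, -105, -13, 14, 24, 46, 45, -12, -2, 3, 24, -1, -1, 10, 0, -18, -7, -2]⟩)) (.node 1 (.leaf ⟨6, 6, true, [40, 16, 33, 34, 41, 26], [34, 10, 39, 42, 31, 6], [77, 172,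 -121, 174, 62, 85, -30, -10, -23, 69, -10, -20, 62, 5, -4, 4, 10, 4, 15, 7, 3, -5, -3, 8, -4, 2, 0, 0, -15, 0, 3]⟩) (.leaf ⟨6, 6, true, [23, 33, 43, 37, 33, 24], [19, 2, 33, 28, 41, 14, 23], [-78, -169, 122, -175, -61, -85, 30, 11, 23, -69, 10, 19, -62, -5, 3, -4, -10, -4, -15, -7, -3, 5, 3, -8, 4, -2, 0, 0, 15, 0, -3]⟩)))))) (.node 15 (.node 7 (.node 3 (.node 1 (.leaf ⟨6, 6, true, [37, 2, 25, 2, 26, 35], [10, 20, 41, 28, 22, 6], [40, -131, -183, 8, -299, -17, -31, -31, -33, 17, -2, 2, -66, 75, 67, 4, 0, -6, -9, -24, 8, -15, -3, -11, 0, -4, -1, 0, 8, 2, 3]⟩) (.node 1 (.leaf ⟨6, 6, true, [28, 26, 43, 21, 31], [10, 20, 42, 19, 37, 24], [-39, 133, 183, -8, 299, 17, 31, 31, 33, -17, 2, -2, 64, -75, -68, -4, 0, 6, 9, 24, -8, 15, 3, 11, 0, 4, 1, 0, -8, -2, -3]⟩) (.leaf ⟨6, 6, true, [10, 41,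 38, 37, 4], [2, 29, 6, 18, 24], [17, 110, -44, 143, 6, 64, -28, -12, -7, -37, 42, -2, 73, -19, 49, 3, 10, 13, 13, -5, 5, -28, -2, 1, -3, -3, 4, 0, -4, 4, 1]⟩))) (.node 2 (.node 1 (.leaf ⟨5, 6, true, [31, 8, 37, 24, 20, 39, 20], [24, 26, 36, 11, 43, 13], [-9, 60, 38, 27, 114, 8, -2, 17, -2, 10, -11, -9, 34, -25, -26, -3, -2, 4, 5, 9, -3, 3, 2, 5, 0, 1, 0, 0, -3, -2]⟩) (.leaf ⟨6, 5, true, [16, 36, 22, 2, 41], [12, 28, 24, 43, 39, 25], [8, -58, -37, -28, -113, -8, 2, -16, 2, -10, 11, 8, -32, 25, 25, 3, 2, -4, -5, -9, 3, -3, -2, -5, 0, -1, 0, 0, 3, 2]⟩)) (.node 1 (.leaf ⟨6, 6, true, [12, 39, 35, 19, 16, 19], [13, 11, 41, 32, 39], [-17, -41, -14, -37, -63, -13, -19, -17, -18, -8, 17, 4, -51, 10, 10, -5, -4, -3, -8, -3, 0, -7, 2, -3, -2, -1, 5, 0, 2, 2, 1]⟩) (.leaf ⟨6, 6, true, [20, 16, 42,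 22, 19, 43], [23, 43, 27, 21, 37, 11], [18, 41, 14, 37, 63, 13, 19, 17, 18, 8, -17, -4, 53, -10, -11, 5, 4, 3, 8, 3, 0, 7, -2, 3, 2, 1, -5, 0, -2, -2, -1]⟩)))) (.node 4 (.node 2 (.node 1 (.leaf ⟨6, 6, true, [6, 22, 36, 38, 25, 31], [38, 37, 11, 43, 33], [-3, 59, -3, 14, 1, 12, -26, 0, -17, -3, 1, -2, -11, -11, 6, -3, 0, 5, 4, 2, 0, -4, 2, 1, 0, -2, 2, 0, -4, -1]⟩) (.leaf ⟨6, 6, true, [14, 42, 10, 36, 39], [2, 21, 28, 42, 6, 4], [2, -56, 4, -15, 0, -12, 26, 1, 17, 3, -1, 1, 11, 11, -7, 3, 0, -5, -4, -2, 0, 4, -2, -1, 0, 2, -2, 0, 4, 1]⟩)) (.node 1 (.leaf ⟨6, 6, true, [25, 12, 41, 10, 28, 10], [32, 38, 27, 35, 41, 24], [-62, 57, 119, -36, 238, 1, 5, 11, 0, -10, 4, -6, -17, -66, -12, -8, 2, 8, 10, 17, -5, -7, 1, 6, 3, -1, -4, 0, -6]⟩) (.leaf ⟨6, 6, true, [37, 6, 33, 22, 37, 24, 10], [42,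 0, 38, 37, 40, 37, 29], [39, -7, -50, 23, -38, 12, -19, -4, 10, 7, 7, -5, -38, 17, 16, 2, 2, 2, -1, -4, 3, -4, -2, 1, 2, -2, -4, 0, -2, 2, 4]⟩))) (.node 2 (.node 1 (.leaf ⟨6, 6, true, [25, 35, 11, 4, 40, 16], [42, 35, 41, 27, 20, 38], [-38, 9, 50, -23, 38, -12, 19, 4, -10, -7, -7, 5, 36, -17, -17, -2, -2, -2, 1, 4, -3, 4, 2, -1, -2, 2, 4, 0, 2, -2, -4]⟩) (.leaf ⟨6, 4, true, [43, 10, 28, 39, 24, 31, 10], [11, 40, 43, 14, 6], [18, 37, -32, 29, -21, 20, -4, 13, -9, 10, -21, 2, 17, 7, 6, 3, 4, 2, 7, 1, 1, -3, -2, 2, -1, 1, -2, 0, -3, -1]⟩)) (.node 1 (.leaf ⟨4, 6, true, [16, 10, 31, 43, 33, 8], [32, 4, 27, 36, 26, 41, 0], [-29, 5, 58, -12, 89, -12, 3, -4, 10, -19, 32, -8, 13, -26, -15, -3, -6, 2, -5, 1, -1, 5, 4, 0, 1, -1, 2, 0, 1, 1, -1]⟩) (.leaf ⟨6, 4, true, [31, 2, 32, 26, 6, 35, 28], [11,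 27, 42, 39, 24, 29], [21, 0, -19, 16, 35, 21, 8, 6, 9, 19, 8, -3, 6, 0, 11, 3, 4, 0, 4, 0, 1, -2, -1, 1, 0, 1, -5, 0, -2, -1]⟩))))) (.node 7 (.node 3 (.node 1 (.leaf ⟨4, 6, true, [37, 19, 26, 38, 41, 20], [38, 2, 6, 27, 33, 36, 18], [-5, -43, -12, -39, -110, -29, -8, -15, -10, -11, -18, 8, -41, 19, -4, -3, -2, -4, -6, -2, -1, 0, -1, -3, 0, -1, 5, 0, 4, 1, 1]⟩) (.node 1 (.leaf ⟨6, 6, true, [22, 42, 33, 10, 10], [8, 31, 37, 26, 34, 2], [-32, 31, 61, -14, 70, -5, 24, 13, -8, -9, -1, -2, 43, -26, -26, -1, -2, -1, 1, 6, -3, 5, 4, 1, -2, 3, 3, 0, 1, -2, -4]⟩) (.leaf ⟨6, 6, true, [13, 10, 33, 34, 29, 12], [11, 11, 32, 0, 43, 23], [33, -29, -61, 14, -70, 5, -24, -13, 8, 9, 1, 2, -45, 26, 25, 1, 2, 1, -1, -6, 3, -5, -4, -1, 2, -3, -3, 0, -1, 2, 4]⟩))) (.node 2 (.node 1 (.leaf ⟨6, 4, true, [35,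 20, 38, 14, 25, 19], [0, 21, 42, 39, 19, 25], [31, 249, 105, 153, 476, 49, -6, 55, 27, 48, -9, -61, 90, -107, -121, -7, -5, 10, 23, 32, -10, 25, 4, 16, 0, 2, 3, 0, -13, -4, -1]⟩) (.leaf ⟨4, 6, true, [2, 39, 12, 39, 30, 6], [23, 0, 21, 36, 38, 26, 14], [-29, -249, -106, -155, -477, -49, 5, -55, -27, -49, 10, 60, -91, 107, 120, 7, 5, -10, -23, -32, 10, -25, -4, -16, 0, -2, -3, 0, 13, 4, 1]⟩)) (.node 1 (.leaf ⟨6, 6, true, [39, 0, 27, 39, 35, 4, 29], [24, 4, 20, 37, 22, 10, 12], [8, 173, 52, 64, 85, 22, -36, 24, 30, -60, 16, -20, 54, -24, 4, 5, -5, 17, 4, -2, 5, 1, 3, 6, 4, 1, -2, 0, -10, 3, -4]⟩) (.leaf ⟨6, 6, true, [39, 20, 10, 36, 32, 36], [28, 2, 34, 38, 26, 38], [-7, -171, -52, -64, -85, -22, 36, -24, -30, 60, -16, 20, -56, 24, -5, -5, 5, -17, -4, 2, -5, -1, -3, -6, -4, -1, 2, 0, 10,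 -3, 4]⟩)))) (.node 4 (.node 2 (.node 1 (.leaf ⟨6, 6, true, [20, 11, 27, 36, 33, 6], [25, 4, 41, 25, 26, 41, 21], [1, -106, -20, -63, -124, -19, 17, -20, -3, -11, -1, 8, -49, 39, 21, 3, 4, -6, -6, -6, 1, -2, -1, -4, -2, 0, 0, 0, 6, 0, -1]⟩) (.leaf ⟨6, 6, true, [22, 0, 40, 18, 34, 43, 4], [38, 29, 33, 27, 43, 24], [0, 106, 20, 63, 124, 19, -17, 20, 3, 11, 1, -8, 51, -39, -22, -3, -4, 6, 6, 6, -1, 2, 1, 4, 2, 0, 0, 0, -6, 0, 1]⟩)) (.node 1 (.leaf ⟨6, 6, true, [20, 39, 35, 20, 30, 19], [4, 25, 26, 37, 24, 0], [17, -19, 41, -1, 123, 6, 10, 7, 1, 26, 37, -20, -11, -27, 0, -1, -2, 3, -1, 0, 1, 7, -1, 4, 5, 0, -4, 0, -7, -3, 2]⟩) (.leaf ⟨6, 6, true, [13, 23, 35, 32, 40, 4], [18, 0, 42, 41, 35, 22, 8], [-16, 21, -41, 1, -123, -6, -10, -7, -1, -26, -37, 20, 9, 27, -1, 1, 2, -3, 1, 0, -1, -7, 1,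 -4, -5, 0, 4, 0, 7, 3, -2]⟩))) (.node 2 (.node 1 (.leaf ⟨6, 4, true, [22, 10, 29, 41, 29, 30], [34, 40, 35, 12, 10], [22, -135, -137, -71, -265, -13, -11, -29, -23, 29, -24, 26, -120, 61, 76, 0, 7, -10, -9, -8, 2, -33, -7, -6, 1, 4, -2, 0, 4, 0, 2]⟩) (.leaf ⟨4, 6, true, [6, 39, 30, 42, 6, 19], [33, 21, 34, 31, 10, 10], [-24, 137, 142, 72, 270, 13, 12, 29, 23, -29, 24, -25, 122, -61, -77, 0, -7, 10, 9, 8, -2, 33, 7, 6, -1, -4, 2, 0, -4, 0, -2]⟩)) (.node 1 (.leaf ⟨6, 4, true, [8, 37, 43, 22, 29, 37], [2, 10, 30, 38, 19, 10], [-68, -21, 90, -103, -96, -54, 14, -11, 26, -45, 5, 12, -38, 17, -3, 2, -10, 0, 0, -12, 0, 19, 2, -8, -1, -3, 4, 0, 4, -2, -5]⟩) (.leaf ⟨4, 6, true, [22, 36, 34, 30, 43, 32], [35, 11, 26, 2, 30, 37], [53, 44, -62, 108, 141, 58, -12, 15, -24, 37, 2, -12, 58, -27, -1,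 -2, 9, 2, 1, 13, 0, -18, -1, 9, 1, 3, -4, 0, -5, 2, 4]⟩)))))))
noncomputable def dF2491 : BT Fct := (.node 30 (.node 15 (.node 7 (.node 3 (.node 1 (.leaf ⟨6, 6, true, [34, 0, 29, 33, 10, 2, 31], [36, 0, 18, 4, 38, 30, 18], [-2, 31, 66, 1, 31, -6, 33, 3, 53, -23, 34, -6, 49, -2, -28, 7, 3, 2, 7, -5, 3, 27, 3, -1, 1, -4, -2, 0, -1, -2, -3]⟩) (.node 1 (.leaf ⟨6, 5, true, [0, 14, 26, 43, 14, 25], [11, 29, 34, 30, 26, 16], [-29, -94, 31, -67, -43, -50, 16, -9, -2, -29, 8, 5, -43, 14, 9, -2, -6, -5, -12, -4, -1, 3, 1, -5, 0, 0, 0, 0, 5, 1]⟩) (.leaf ⟨5, 6, true, [34, 0, 4, 38, 31, 11, 21], [41, 37, 35, 33, 16, 4], [34, 97, -38, 72, 38, 50, -17, 10, 3, 31, -9, -7, 43, -14, -10, 2, 6, 5, 12, 4, 1, -3, -1, 5, 0, 0, 0, 0, -5, -1]⟩))) (.node 2 (.node 1 (.leaf ⟨6, 6, true, [29, 43, 11, 22, 16, 36],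 [35, 20, 11, 42, 21, 33], [59, -476, -287, -210, -824, -83, 7, -112, -25, -18, 16, 60, -222, 189, 167, 11, 3, -25, -41, -50, 13, -39, -9, -31, 0, 0, 0, 0, 25, 9, 3]⟩) (.leaf ⟨6, 6, true, [36, 19, 23, 2, 39, 31], [21, 31, 10, 18, 40, 23], [-58, 478, 287, 210, 824, 83, -7, 112, 25, 18, -16, -60, 220, -189, -168, -11, -3, 25, 41, 50, -13, 39, 9, 31, 0, 0, 0, 0, -25, -9, -3]⟩)) (.node 1 (.leaf ⟨6, 6, true, [27, 39, 28, 10, 35, 4], [16, 43, 20, 40, 31, 10], [33, 86, -24, 89, 78, 30, -9, 11, -12, 21, -4, -7, 48, -16, -29, -1, 1, 3, 8, 4, 0, 0, 2, 2, 1, 3, 1, 0, -3]⟩) (.leaf ⟨4, 6, true, [10, 12, 16, 34, 30, 22], [39, 37, 21, 18, 43, 30], [-54, -216, -37, -178, -329, -63, -10, -66, -6, -59, 24, 44, -124, 66, 101, 1, -3, -5, -24, -22, 5, -11, -4, -15, -3, -8, 4, 0, 11, 4]⟩)))) (.node 4 (.node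 2 (.node 1 (.leaf ⟨6, 6, true, [39, 0, 16, 30, 42, 6, 18], [22, 11, 30, 13, 43, 23], [-1, 205, 55, 137, 186, 71, -29, 12, 17, -30, 52, -15, 145, -64, 19, 5, 6, 19, 18, 5, 4, -11, -2, 10, -2, -5, 2, 0, -14, 3, -1]⟩) (.leaf ⟨4, 6, true, [13, 21, 35, 29, 32, 25], [29, 38, 21, 29, 24, 8], [-26, -45, -2, -56, -73, -30, -18, -23, -22, -7, 2, 6, -51, 7, -15, -12, -3, -5, -10, 2, -2, 4, 3, -2, -3, -2, 9, 0, 1, 2, 1]⟩)) (.node 1 (.leaf ⟨6, 6, true, [30, 40, 38, 42, 36, 39], [24, 30, 38, 24, 34, 22], [33, 148, 22, 126, 268, 58, 2, 29, 6, 35, 11, -27, 86, -56, -50, 3, 1, 6, 19, 13, -2, 6, 4, 8, 1, 3, -4, 0, -10, -3, -1]⟩) (.leaf ⟨6, 6, true, [6, 23, 11, 38, 18, 42], [32, 28, 6, 40, 28, 21], [-32, -148, -22, -126, -268, -58, -2, -29, -6, -35, -11, 27, -84, 56, 49, -3, -1, -6, -19, -13, 2, -6, -4,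 -8, -1, -3, 4, 0, 10, 3, 1]⟩))) (.node 2 (.node 1 (.leaf ⟨4, 6, true, [2, 10, 6, 25, 14, 10], [26, 0, 38, 26, 10, 35, 20], [58, 412, 33, 333, 495, 142, -46, 39, -3, 49, 30, -33, 217, -137, -75, -5, 6, 31, 40, 29, -2, -1, 1, 27, -2, -4, 4, 0, -25, 1, 2]⟩) (.leaf ⟨6, 4, true, [38, 4, 36, 27, 33, 35, 28], [16, 29, 26, 42, 13], [-59, -409, -32, -334, -494, -142, 46, -38, 3, -49, -30, 32, -217, 137, 74, 5, -6, -31, -40, -29, 2, 1, -1, -27, 2, 4, -4, 0, 25, -1, -2]⟩)) (.node 1 (.leaf ⟨6, 6, true, [10, 0, 19, 31, 41, 28, 14], [11, 31, 27, 34, 21, 14], [3, -31, -36, -26, -73, 1, -5, -4, 1, 0, -11, 8, -19, 15, 8, 3, 2, -4, 2, -3, 1, -5, -2, -2, 0, 4, -2, 0, 2, -3]⟩) (.leaf ⟨6, 6, true, [10, 21, 22, 31, 39, 21], [42, 21, 36, 29, 0, 39], [-4, 35, 37, 25, 74, -1, 5, 5, -1, 0, 11, -9, 17, -15, -9,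 -3, -2, 4, -2, 3, -1, 5, 2, 2, 0, -4, 2, 0, -2, 3]⟩))))) (.node 7 (.node 3 (.node 1 (.leaf ⟨6, 6, true, [39, 41, 30, 24, 6], [38, 10, 43, 18, 37, 23], [-31, -156, -32, -116, -273, -36, 0, -32, 11, -59, 23, 30, -63, 62, 76, 6, -1, -6, -19, -21, 6, -8, -2, -10, -3, -3, -1, 0, 8, 5, -1]⟩) (.node 1 (.leaf ⟨6, 6, true, [39, 4, 41, 30, 23, 13], [32, 38, 22, 28, 38, 21], [30, 158, 33, 115, 274, 36, 0, 33, -11, 59, -23, -31, 65, -62, -77, -6, 1, 6, 19, 21, -6, 8, 2, 10, 3, 3, 1, 0, -8, -5, 1]⟩) (.leaf ⟨6, 6, true, [16, 29, 35, 31, 35, 14], [43, 32, 25, 41, 38, 8], [-24, -224, -59, -131, -250, -48, 10, -33, -9, -24, 9, 21, -85, 59, 68, 4, -1, -11, -16, -17, 3, -10, -3, -13, -1, -2, -2, 0, 11, 0, 1]⟩))) (.node 2 (.node 1 (.leaf ⟨6, 6, true, [21, 34, 34, 33, 10, 4], [41, 24, 37, 10, 6, 18], [-80,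 -161, 36, -156, -161, -64, 27, -43, 13, -38, -13, 25, -80, 36, 51, -4, 0, -2, -16, -5, -2, 0, -6, -8, 1, -4, 1, 0, 9, 1]⟩) (.leaf ⟨6, 6, true, [19, 23, 43, 24, 28, 25], [0, 11, 32, 35, 35, 20], [79, 163, -35, 155, 162, 64, -27, 44, -13, 38, 13, -26, 82, -36, -52, 4, 0, 2, 16, 5, 2, 0, 6, 8, -1, 4, -1, 0, -9, -1]⟩)) (.node 1 (.leaf ⟨6, 6, true, [6, 2, 18, 39, 18, 27, 2], [23, 13, 35, 33, 35, 22, 2], [-9, 157, 88, 66, 293, 32, 6, 58, 3, 48, -49, -33, 77, -58, -92, -5, 0, 4, 13, 27, -9, 23, 4, 15, -1, 0, 0, 0, -8, -7, 2]⟩) (.leaf ⟨6, 6, true, [0, 38, 24, 31, 32, 18], [34, 4, 27, 34, 27, 33, 2], [10, -157, -88, -66, -293, -32, -6, -58, -3, -48, 49, 33, -75, 58, 91, 5, 0, -4, -13, -27, 9, -23, -4, -15, 1, 0, 0, 0, 8, 7, -2]⟩)))) (.node 4 (.node 2 (.node 1 (.leaf ⟨6, 6, true, [29, 0, 36, 43,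 27, 30, 23], [30, 32, 34, 13, 29, 0], [-28, -150, 11, -110, -123, -44, 18, -17, 2, -25, -2, 12, -71, 36, 16, 1, -4, -9, -13, -8, 0, 0, 0, -7, 1, 0, -1, 0, 8, 1]⟩) (.leaf ⟨6, 6, true, [29, 19, 32, 43, 31, 27], [24, 8, 27, 24, 39, 20, 18], [-37, -256, -37, -159, -247, -50, 18, -38, -14, -41, 23, 11, -98, 74, 63, 4, -5, -12, -24, -21, 4, -10, 0, -14, -2, -1, -1, 0, 12, 7]⟩)) (.node 1 (.leaf ⟨6, 6, true, [22, 31, 18, 34, 38, 18], [10, 10, 27, 14, 34, 29], [36, 260, 38, 158, 248, 50, -18, 39, 14, 41, -23, -12, 96, -74, -64, -4, 5, 12, 24, 21, -4, 10, 0, 14, 2, 1, 1, 0, -12, -7]⟩) (.leaf ⟨6, 6, true, [24, 2, 10, 33, 36, 31, 10], [19, 0, 38, 2, 14, 20, 23], [-89, -65, 145, -124, 198, -58, 40, 13, -29, 32, -44, 7, -32, -20, -109, -14, -11, -14, -6, 16, -11, 34, 4, 0, 1, 7, 4, 0, 3, -5, 1]⟩)))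 (.node 2 (.node 1 (.leaf ⟨6, 6, true, [13, 19, 31, 41, 37, 18], [19, 41, 36, 35, 38, 12], [88, 67, -144, 123, -197, 58, -40, -12, 29, -32, 44, -8, 34, 20, 108, 14, 11, 14, 6, -16, 11, -34, -4, 0, -1, -7, -4, 0, -3, 5, -1]⟩) (.leaf ⟨6, 6, true, [10, 39, 43, 37, 26, 29], [2, 14, 35, 39, 36, 0], [-11, -383, -201, -207, -594, -60, 23, -62, -30, -2, -29, 47, -134, 137, 110, 9, 3, -20, -30, -34, 8, -15, -5, -22, -2, 4, -3, 0, 17, 1, 2]⟩)) (.node 1 (.leaf ⟨5, 6, true, [4, 11, 39, 24, 6, 27], [40, 0, 42, 26, 40, 29, 23], [-7, -82, 2, -48, -126, -31, 18, -12, 4, -22, 22, -3, -37, 20, -2, 5, -12, -4, -10, -10, 2, 9, 3, -8, 1, -1, 1, 0, 4, 2, -1]⟩) (.leaf ⟨6, 5, true, [39, 20, 30, 40, 26], [27, 6, 23, 23, 42], [8, 84, -2, 48, 126, 31, -18, 12, -4, 22, -22, 3, 35, -20, 1, -5, 12, 4, 10, 10, -2, -9,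 -3, 8, -1, 1, -1, 0, -4, -2, 1]⟩)))))) (.node 15 (.node 7 (.node 3 (.node 1 (.leaf ⟨6, 6, true, [10, 34, 19, 41, 33, 19], [19, 0, 38, 42, 10, 31, 18], [-48, -303, -126, -188, -615, -67, 4, -52, -14, -70, 26, 48, -142, 143, 105, 13, -6, -19, -25, -42, 11, -9, -3, -24, -2, -5, 0, 0, 19, -1, 1]⟩) (.node 1 (.leaf ⟨6, 6, true, [10, 31, 19, 40, 6, 25], [0, 12, 36, 42, 18, 18], [0, 186, -34, 122, -5, 60, -41, -1, 6, -38, 83, -16, 55, -16, 62, 8, -3, 13, 1, -11, 10, -23, 0, 3, -2, -3, 0, 0, -10, 6]⟩) (.leaf ⟨6, 6, true, [8, 26, 41, 6, 39, 11], [24, 33, 6, 43, 35, 27], [1, -186, 34, -122, 5, -60, 41, 1, -6, 38, -83, 16, -53, 16, -63, -8, 3, -13, -1, 11, -10, 23, 0, -3, 2, 3, 0, 0, 10, -6]⟩))) (.node 2 (.node 1 (.leaf ⟨6, 5, true, [23, 2, 29, 10, 41, 37], [16, 23, 34, 22, 36, 39], [82, -415, -325,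 -184, -718, -21, -4, -79, -5, -3, 2, 50, -195, 174, 213, 15, 27, -25, -28, -43, 16, -65, -14, -24, 4, 3, -10, 0, 20, 5, 1]⟩) (.leaf ⟨5, 6, true, [23, 6, 39, 18, 0], [6, 34, 16, 20, 43, 22], [-82, 384, 313, 166, 677, 10, 5, 75, 7, 2, -4, -48, 178, -165, -209, -15, -28, 23, 25, 41, -16, 65, 14, 22, -4, -3, 10, 0, -18, -5, -1]⟩)) (.node 1 (.leaf ⟨6, 6, true, [43, 8, 24, 18, 2, 25], [16, 6, 16, 20, 33, 39, 27], [-21, 129, 115, 42, 317, 1, 7, 62, 17, 18, -41, -19, 82, -57, -86, -6, -5, 1, 12, 22, -9, 15, 1, 12, 1, 7, -1, 0, -6, -6]⟩) (.leaf ⟨6, 6, true, [39, 32, 27, 40, 31, 20], [24, 2, 18, 27, 42, 30, 8], [20, -126, -114, -43, -316, -1, -7, -61, -17, -18, 41, 18, -82, 57, 85, 6, 5, -1, -12, -22, 9, -15, -1, -12, -1, -7, 1, 0, 6, 6]⟩)))) (.node 4 (.node 2 (.node 1 (.leaf ⟨6, 6, true, [18,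 38, 10, 28, 42, 6], [30, 29, 34, 19, 20, 39], [-1, 255, 134, 141, 500, 47, -27, 73, 7, 19, -9, -64, 127, -94, -105, 0, -9, 13, 15, 28, -7, 25, 6, 23, 5, 0, -4, 0, -16, -5, -1]⟩) (.leaf ⟨6, 6, true, [18, 31, 19, 34, 23, 8], [38, 26, 41, 10, 19], [0, -251, -133, -142, -499, -47, 27, -72, -7, -19, 9, 63, -129, 94, 104, 0, 9, -13, -15, -28, 7, -25, -6, -23, -5, 0, 4, 0, 16, 5, 1]⟩)) (.node 1 (.leaf ⟨6, 6, true, [10, 2, 24, 38, 22, 39, 14], [22, 21, 34, 12, 40, 22], [-56, 289, 123, 145, 222, 48, -30, 51, -6, -37, 23, -35, 173, -52, -88, 5, -17, 17, 14, 3, 2, 31, 10, 11, -4, -3, 4, 0, -12, 3, -2]⟩) (.leaf ⟨6, 6, true, [32, 0, 23, 37, 40, 27, 27], [35, 2, 38, 38, 34, 10, 16], [-16, 62, 31, 28, 22, 13, -22, 7, 6, -61, 30, -20, 35, -2, 9, 4, -6, 5, -3, -7, 5, -2, 2, 2, 3, -2, 0, 0, -4, 3, -2]⟩)))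 (.node 2 (.node 1 (.leaf ⟨6, 6, true, [12, 27, 40, 19, 25, 11], [37, 31, 37, 26, 25, 37], [17, -60, -31, -28, -22, -13, 22, -7, -6, 61, -30, 20, -37, 2, -10, -4, 6, -5, 3, 7, -5, 2, -2, -2, -3, 2, 0, 0, 4, -3, 2]⟩) (.leaf ⟨6, 6, true, [18, 43, 13, 28, 8, 42], [25, 0, 22, 11, 40, 28, 13], [0, 229, 94, 134, 330, 61, -11, 44, 13, 17, 24, -25, 127, -80, -76, 2, -5, 14, 15, 17, -2, 14, 6, 16, 0, 4, -3, 0, -12, 0, -2]⟩)) (.node 1 (.leaf ⟨5, 6, true, [2, 36, 42, 36, 16, 20], [22, 6, 18, 36, 27, 33], [-36, -117, -5, -80, -142, -43, -4, -12, 1, -49, 8, 3, -38, 38, 40, 3, -7, -4, -14, -13, 3, 1, 0, -8, 1, -3, 0, 0, 5, 0, -1]⟩) (.leaf ⟨6, 5, true, [20, 6, 41, 29, 6, 39, 30], [21, 16, 31, 43, 36], [35, 121, 6, 79, 143, 43, 4, 13, -1, 49, -8, -4, 36, -38, -41, -3, 7, 4, 14, 13, -3, -1, 0, 8, -1, 3,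 0, 0, -5, 0, 1]⟩))))) (.node 8 (.node 4 (.node 2 (.node 1 (.leaf ⟨5, 6, true, [11, 41, 39, 10, 26, 26], [21, 13, 25, 36, 13, 27], [40, 99, -49, 111, 83, 43, -15, 11, -5, 33, 0, -14, 75, -27, -6, 2, 4, 8, 11, 4, 1, -4, 0, 6, 2, 1, -1, 0, -7, -2]⟩) (.leaf ⟨6, 5, true, [31, 18, 37, 18, 23, 19], [13, 22, 36, 30, 39], [-41, -97, 50, -112, -82, -43, 15, -10, 5, -33, 0, 13, -73, 27, 5, -2, -4, -8, -11, -4, -1, 4, 0, -6, -2, -1, 1, 0, 7, 2]⟩)) (.node 1 (.leaf ⟨6, 6, true, [19, 23, 38, 21, 29, 14], [38, 6, 42, 14, 19, 31], [-16, -11, 17, 6, 52, -23, 26, 7, 0, 20, -35, 13, 12, -12, -27, -7, 1, -3, 1, 8, -5, 7, 0, 0, -2, -1, 1, 0, 4, 0, 1]⟩) (.leaf ⟨6, 6, true, [21, 37, 35, 4, 39, 39], [24, 0, 6, 28, 38, 12, 19], [17, 13, -17, -6, -52, 23, -26, -7, 0, -20, 35, -13, -14, 12, 26, 7, -1, 3, -1, -8,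 5, -7, 0, 0, 2, 1, -1, 0, -4, 0, -1]⟩))) (.node 2 (.node 1 (.leaf ⟨6, 6, true, [19, 23, 39, 11, 26, 19], [10, 2, 43, 40, 0], [-55, -216, 61, -193, -187, -49, 46, -29, 20, -86, 26, 39, -86, 52, 16, 8, -8, -11, -25, -18, 3, -3, 4, -12, 1, 5, -1, 0, 18, 5, -2]⟩) (.leaf ⟨6, 6, true, [8, 30, 10, 13, 41, 16], [11, 19, 40, 40, 43], [54, 220, -60, 192, 188, 49, -46, 30, -20, 86, -26, -40, 84, -52, -17, -8, 8, 11, 25, 18, -3, 3, -4, 12, -1, -5, 1, 0, -18, -5, 2]⟩)) (.node 1 (.leaf ⟨6, 6, true, [27, 31, 0, 42, 16], [22, 18, 2, 39, 42, 20], [-12, 87, 90, 47, 260, -5, 17, 43, 19, -2, -16, -29, 88, -47, -69, -5, -9, 2, -1, 15, -6, 26, 6, 6, 1, 5, 1, 0, -6, -4, -3]⟩) (.leaf ⟨6, 6, true, [10, 0, 28, 10, 43, 29, 16], [4, 40, 39, 11, 32, 27], [13, -85, -90, -47, -260, 5, -17, -43, -19, 2, 16, 29, -90,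 47, 68, 5, 9, -2, 1, -15, 6, -26, -6, -6, -1, -5, -1, 0, 6, 4, 3]⟩)))) (.node 4 (.node 2 (.node 1 (.leaf ⟨6, 6, true, [2, 39, 25, 34, 11, 19], [2, 41, 26, 35, 35, 18], [17, 89, 8, 85, 200, 12, 12, 26, -5, 43, -45, -11, 45, -33, -45, -5, 3, 0, 9, 15, -6, 8, 1, 7, 2, 2, 1, 0, -5, -6]⟩) (.leaf ⟨6, 6, true, [28, 2, 20, 43, 43, 30, 12], [25, 2, 42, 41, 33, 41, 16], [44, -401, -136, -230, -580, -103, 23, -85, 44, -50, 48, 36, -239, 111, 166, 8, -2, -12, -32, -37, 10, -32, -4, -29, 3, -9, -7, 0, 21, 8]⟩)) (.node 1 (.leaf ⟨6, 6, true, [26, 8, 23, 35, 20, 38, 4], [31, 42, 19, 22, 39, 41], [-45, 403, 137, 229, 581, 103, -23, 86, -44, 50, -48, -37, 241, -111, -167, -8, 2, 12, 32, 37, -10, 32, 4, 29, -3, 9, 7, 0, -21, -8]⟩) (.leaf ⟨6, 6, true, [39, 6, 42, 37, 26, 20], [24, 18, 18, 39, 20, 13], [-7,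 -108, -13, -62, -36, -37, 19, 5, -12, 30, -45, 11, -27, 31, -26, -3, -2, -11, -8, 3, -5, 12, 1, -2, 1, 3, -3, 0, 7, -5, 2]⟩))) (.node 2 (.node 1 (.leaf ⟨6, 6, true, [29, 0, 11, 42, 36, 18, 24], [24, 13, 40, 27, 43, 10], [8, 110, 13, 62, 36, 37, -19, -5, 12, -30, 45, -11, 25, -31, 25, 3, 2, 11, 8, -3, 5, -12, -1, 2, -1, -3, 3, 0, -7, 5, -2]⟩) (.leaf ⟨6, 5, true, [26, 39, 26, 0, 43, 14], [32, 2, 40, 6, 35, 20, 24], [13, 51, 0, 29, 2, 13, -4, -6, 14, -19, 26, -6, 23, -2, 17, 7, -2, 6, 1, -5, 4, -2, 0, 0, 0, -1, -3, 0, -4, 4]⟩)) (.node 1 (.leaf ⟨5, 6, true, [11, 39, 21, 39, 40, 27], [43, 0, 22, 39, 22, 27, 12], [-15, -51, 6, -33, 1, -13, 5, 6, -15, 17, -25, 7, -23, 2, -18, -7, 2, -6, -1, 5, -4, 2, 0, 0, 0, 1, 3, 0, 4, -4]⟩) (.leaf ⟨4, 6, true, [40, 19, 23, 10, 19], [23, 0, 19, 40, 32, 28,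 25], [11, -329, -194, -168, -677, -21, 4, -76, -35, -44, 17, 67, -106, 154, 155, 13, 13, -12, -28, -46, 16, -37, -8, -17, 0, 4, -3, 0, 14, 7, 1]⟩)))))))
noncomputable def dF2552 : BT Fct := (.node 30 (.node 15 (.node 7 (.node 3 (.node 1 (.leaf ⟨6, 4, true, [36, 0, 32, 29, 40, 25, 25], [4, 13, 21, 18, 41, 10], [-12, 332, 195, 167, 678, 21, -4, 77, 35, 44, -17, -68, 106, -154, -156, -13, -13, 12, 28, 46, -16, 37, 8, 17, 0, -4, 3, 0, -14, -7, -1]⟩) (.node 1 (.leaf ⟨6, 5, true, [12, 36, 27, 21, 38, 32], [21, 35, 41, 12, 25, 8], [-39, 141, 105, 57, 317, 3, -15, 41, -41, 39, -74, -19, 14, -63, -112, -22, 0, 0, 18, 34, -15, 22, 2, 12, -4, -3, 12, 0, -7, -10, 5]⟩) (.leaf ⟨5, 6, true, [22, 25, 38, 21, 19], [34, 19, 11, 0, 42, 21], [40, -171, -118, -74, -360, -14, 16, -44, 43, -40, 72, 20, -31,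 72, 116, 22, -1, -2, -21, -36, 15, -22, -2, -14, 4, 3, -12, 0, 9, 10, -5]⟩))) (.node 2 (.node 1 (.leaf ⟨6, 6, true, [4, 42, 38, 20, 35, 4], [28, 2, 25, 13, 39, 37, 25], [27, 164, 10, 144, 188, 54, -22, 6, -4, 10, 14, -16, 100, -61, -3, -2, 7, 15, 19, 13, -1, -8, -2, 11, -2, -4, 3, 0, -11, -1]⟩) (.leaf ⟨6, 6, true, [14, 10, 18, 30, 38, 25, 10], [0, 34, 21, 39, 43, 4], [-28, -160, -9, -145, -187, -54, 22, -5, 4, -10, -14, 15, -102, 61, 2, 2, -7, -15, -19, -13, 1, 8, 2, -11, 2, 4, -3, 0, 11, 1]⟩)) (.node 1 (.leaf ⟨6, 6, true, [4, 38, 12, 22, 37, 20], [29, 23, 18, 40, 28, 13], [-36, 152, 93, 38, 156, 7, -24, 21, 12, -32, -16, -4, 57, -34, -68, -7, -8, 6, 7, 10, -3, 16, 3, 7, -1, 2, 3, 0, -4]⟩) (.leaf ⟨6, 6, true, [29, 42, 26, 31, 31, 8], [0, 38, 36, 43, 36, 27], [-17, 290, 186, 162, 549,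 26, 42, 106, 50, 34, -72, -40, 239, -130, -152, -8, -2, 11, 18, 36, -13, 49, 10, 18, 3, 1, 4, 0, -12, -6, -7]⟩)))) (.node 4 (.node 2 (.node 1 (.leaf ⟨6, 6, true, [10, 28, 8, 34, 11, 6], [12, 27, 32, 19, 43, 28], [16, -287, -185, -163, -548, -26, -42, -105, -50, -34, 72, 39, -239, 130, 151, 8, 2, -11, -18, -36, 13, -49, -10, -18, -3, -1, -4, 0, 12, 6, 7]⟩) (.leaf ⟨6, 6, true, [22, 37, 27, 2, 43], [21, 35, 23, 18, 43], [2, -63, -4, -35, -27, -14, 14, 0, 3, 8, 5, -4, -13, 9, -2, 1, -1, -4, -5, -4, 0, 3, 1, -1, 1, -1, 0, 0, 3]⟩)) (.node 1 (.leaf ⟨6, 6, true, [10, 6, 21, 41, 39, 34], [14, 2, 42, 26, 36, 23], [-1, 63, 4, 35, 27, 14, -14, 0, -3, -8, -5, 4, 15, -9, 1, -1, 1, 4, 5, 4, 0, -3, -1, 1, -1, 1, 0, 0, -3]⟩) (.leaf ⟨6, 6, true, [24, 2, 19, 36, 24, 28], [41, 20, 39, 16, 22, 16], [-28,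 300, 190, 128, 572, 30, -6, 103, 24, 14, -19, -47, 178, -127, -127, -8, -10, 11, 19, 32, -10, 24, 5, 22, 4, 8, -2, 0, -16, -6, -2]⟩))) (.node 2 (.node 1 (.leaf ⟨6, 6, true, [10, 42, 36, 27, 35, 39], [40, 12, 22, 37, 21, 36], [28, 43, -12, 43, -2, 4, 4, 13, 2, 4, -28, -7, 3, -4, -32, 2, 0, -5, 1, 3, -2, 7, 1, 3, -1, 2, 3, 0, 0, -3]⟩) (.leaf ⟨6, 6, true, [24, 2, 4, 38, 25, 35], [8, 0, 23, 40, 13, 40, 30], [-27, -43, 12, -43, 2, -4, -4, -13, -2, -4, 28, 7, -1, 4, 31, -2, 0, 5, -1, -3, 2, -7, -1, -3, 1, -2, -3, 0, 0, 3]⟩)) (.node 1 (.leaf ⟨6, 6, true, [12, 2, 22, 4, 41, 27, 22], [14, 37, 41, 33, 42, 26], [-30, -24, 118, -64, 214, -65, 28, 31, 16, 20, -9, -38, -57, -31, -94, -7, -21, -10, -7, 12, -9, 38, 8, -3, 2, -1, 0, 0, 5, -5, -1]⟩) (.leaf ⟨6, 6, true, [16, 43, 43, 35, 26, 20], [22, 38,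 41, 39, 13, 34], [29, 28, -117, 63, -213, 65, -28, -30, -16, -20, 9, 37, 55, 31, 93, 7, 21, 10, 7, -12, 9, -38, -8, 3, -2, 1, 0, 0, -5, 5, 1]⟩))))) (.node 7 (.node 3 (.node 1 (.leaf ⟨6, 6, true, [8, 4, 34, 41, 16, 31, 16], [0, 22, 31, 34, 11, 31], [22, 17, 4, 22, 47, 0, 12, 4, 5, 8, 0, -9, 8, -16, -14, -2, 0, -1, 0, 4, -1, 1, 0, 3, 1, -1, 0, 0, -3, 4, -1]⟩) (.node 1 (.leaf ⟨6, 5, true, [0, 30, 35, 43, 2, 27], [33, 40, 25, 26, 39, 2], [-38, -229, -31, -112, -167, -57, 32, -20, -9, -7, -2, 14, -55, 46, 38, 1, -4, -15, -21, -13, 1, -2, -2, -8, -2, 2, -3, 0, 11, 1]⟩) (.leaf ⟨5, 6, true, [4, 6, 41, 13, 29, 14], [8, 27, 38, 30, 6, 4], [47, 265, 30, 139, 200, 68, -35, 25, 9, 12, 2, -19, 72, -55, -44, -1, 5, 17, 24, 15, -1, 2, 2, 10, 2, -2, 3, 0, -13, -1]⟩))) (.node 2 (.node 1 (.leaf ⟨6, 6, true,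 [12, 6, 32, 25, 27, 40, 8], [40, 0, 16, 22, 41, 23, 20], [30, 135, -29, 135, 236, 59, -11, 24, -3, 63, -19, -25, 82, -52, -33, -1, 2, 10, 18, 16, -3, 4, -1, 11, 2, 1, -3, 0, -11, -5]⟩) (.leaf ⟨6, 6, true, [4, 24, 29, 34, 31, 26], [11, 24, 43, 18, 40, 10], [-31, -132, 30, -136, -235, -59, 11, -23, 3, -63, 19, 24, -82, 52, 32, 1, -2, -10, -18, -16, 3, -4, 1, -11, -2, -1, 3, 0, 11, 5]⟩)) (.node 1 (.leaf ⟨6, 6, true, [18, 33, 22, 39, 27, 4], [26, 35, 25, 2, 30, 14], [-5, -54, -23, -32, -84, -16, 0, -11, 6, -9, 12, 7, -37, 18, 34, 0, 1, -2, -2, -5, 1, -7, -1, -5, -1, -2, -1, 0, 2]⟩) (.leaf ⟨6, 6, true, [32, 31, 2, 24, 34, 27], [0, 26, 38, 23, 32, 19], [4, 57, 24, 31, 85, 16, 0, 12, -6, 9, -12, -8, 37, -18, -35, 0, -1, 2, 2, 5, -1, 7, 1, 5, 1, 2, 1, 0, -2]⟩)))) (.node 4 (.node 2 (.node 1 (.leaf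 ⟨6, 6, true, [12, 36, 41, 25, 2, 22], [2, 30, 37, 11, 41, 21], [-123, -354, 43, -291, -253, -123, 32, 6, -27, -34, -58, 20, -124, 107, -4, 3, -19, -26, -33, -18, -3, 26, 5, -20, 1, 4, -5, 0, 21, -3, -1]⟩) (.leaf ⟨6, 6, true, [4, 31, 22, 41, 41, 11], [0, 14, 38, 16, 42, 27], [122, 356, -42, 290, 254, 123, -32, -5, 27, 34, 58, -21, 126, -107, 3, -3, 19, 26, 33, 18, 3, -26, -5, 20, -1, -4, 5, 0, -21, 3, 1]⟩)) (.node 1 (.leaf ⟨5, 6, true, [6, 10, 36, 42, 18, 23], [4, 11, 39, 41, 26, 28], [20, 82, -24, 71, 15, 28, -18, 27, -1, 15, -8, -7, 39, 7, -26, 8, 1, 2, 10, 1, 1, 7, 0, 3, 0, 2, -2, 0, -1, -5, 1]⟩) (.leaf ⟨6, 5, true, [10, 40, 30, 11, 37, 19], [39, 8, 41, 20, 25, 35], [-21, -79, 25, -72, -14, -28, 18, -26, 1, -15, 8, 6, -39, -7, 25, -8, -1, -2, -10, -1, -1, -7, 0, -3, 0, -2, 2, 0, 1,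 5, -1]⟩))) (.node 2 (.node 1 (.leaf ⟨6, 6, true, [0, 27, 2, 39, 31, 14], [43, 28, 8, 40, 6, 26], [24, -14, -10, 3, -42, 1, 8, -2, 5, -4, 8, -3, -4, 12, 3, 3, 0, -2, -5, -5, 2, 0, 1, -1, 0, 2, -1, 0, 0, 3]⟩) (.leaf ⟨6, 6, true, [13, 2, 29, 42, 39, 32, 29], [14, 4, 30, 38, 14, 4, 26], [-25, 18, 11, -4, 43, -1, -8, 3, -5, 4, -8, 2, 2, -12, -4, -3, 0, 2, 5, 5, -2, 0, -1, 1, 0, -2, 1, 0, 0, -3]⟩)) (.node 1 (.leaf ⟨6, 6, true, [13, 21, 40, 2, 38, 26], [34, 0, 23, 28, 31, 37, 27], [59, -56, -121, 29, -213, 16, -19, -13, 26, -14, -7, 8, -18, 38, 80, 10, 11, 6, 6, -10, 5, -30, -4, -6, 5, -4, -4, 0, 3]⟩) (.leaf ⟨6, 6, true, [30, 16, 36, 31, 38, 26], [27, 0, 10, 12, 35, 20, 12], [-60, 59, 122, -30, 214, -16, 19, 14, -26, 14, 7, -9, 18, -38, -81, -10, -11, -6, -6, 10, -5, 30, 4, 6, -5, 4, 4, 0, -3]⟩))))))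 (.node 15 (.node 7 (.node 3 (.node 1 (.leaf ⟨6, 6, true, [43, 10, 33, 41, 25, 36], [33, 8, 18, 43, 12, 39, 23], [-53, -35, 66, -68, -34, -23, 20, 24, 4, -26, -24, 2, 18, 15, -24, 3, -2, -5, -4, 1, -2, 17, 1, 0, -4, 3, 0, 0, 3, -2, -2]⟩) (.node 1 (.leaf ⟨6, 6, true, [11, 31, 37, 32, 24, 36], [22, 38, 19, 33, 33, 35], [54, 35, -66, 68, 34, 23, -20, -24, -4, 26, 24, -2, -16, -15, 23, -3, 2, 5, 4, -1, 2, -17, -1, 0, 4, -3, 0, 0, -3, 2, 2]⟩) (.leaf ⟨6, 6, true, [22, 42, 22, 19, 34, 24], [39, 21, 41, 29, 8], [-54, 361, 188, 135, 586, 90, -38, 85, -12, 12, -26, -24, 148, -121, -85, -14, 8, 20, 33, 36, -9, 16, 4, 22, 2, 1, 2, 0, -24, -9, -2]⟩))) (.node 2 (.node 1 (.leaf ⟨6, 6, true, [28, 26, 28, 35, 35, 25], [22, 22, 27, 43, 33, 42], [-2, -156, -33, -173, -220, -43, -1, -11, -10, -3, -39, 21,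 -144, 62, 35, -7, 17, -14, -15, -9, -1, -7, -2, -8, 2, 2, 1, 0, 13, -2, 2]⟩) (.leaf ⟨6, 6, true, [31, 6, 22, 22, 31, 39, 30], [40, 20, 22, 29, 36, 28], [1, 160, 34, 172, 221, 43, 1, 12, 10, 3, 39, -22, 142, -62, -36, 7, -17, 14, 15, 9, 1, 7, 2, 8, -2, -2, -1, 0, -13, 2, -2]⟩)) (.node 1 (.leaf ⟨6, 6, true, [40, 32, 12, 37, 10, 29], [19, 22, 37, 30, 28, 24], [-40, -178, 35, -145, -122, -60, 19, -26, 9, -31, -33, 24, -87, 40, 17, 0, -5, -4, -14, -7, -1, 5, -3, -7, 1, 2, 0, 0, 8, 2, -1]⟩) (.leaf ⟨6, 6, true, [4, 13, 29, 36, 23, 18], [23, 31, 2, 42, 38, 11], [41, 180, -35, 145, 122, 60, -19, 26, -9, 31, 33, -24, 85, -40, -18, 0, 5, 4, 14, 7, 1, -5, 3, 7, -1, -2, 0, 0, -8, -2, 1]⟩)))) (.node 4 (.node 2 (.node 1 (.leaf ⟨6, 6, true, [8, 25, 26, 42, 6, 4], [35, 32, 29, 24, 42, 27], [45, -151,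 -133, -57, -232, 3, 3, -54, 13, -4, 9, 14, -92, 53, 132, 6, 19, 2, -5, -17, 8, -34, -11, -12, 8, -3, -8, 0, 4, 4]⟩) (.leaf ⟨6, 6, true, [20, 25, 2, 25, 37, 2], [37, 22, 11, 30, 32], [-44, 151, 133, 57, 232, -3, -3, 54, -13, 4, -9, -14, 94, -53, -133, -6, -19, -2, 5, 17, -8, 34, 11, 12, -8, 3, 8, 0, -4, -4]⟩)) (.node 1 (.leaf ⟨6, 6, true, [0, 19, 38, 41, 31, 8], [42, 30, 11, 29, 29], [22, 313, 97, 216, 567, 45, -10, 72, 14, 81, -48, -65, 133, -121, -104, -10, 2, 16, 35, 45, -13, 25, -1, 21, 0, 1, -2, 0, -22, -11, 1]⟩) (.leaf ⟨6, 6, true, [21, 32, 43, 19, 26], [37, 35, 23, 21, 38, 21], [-23, -309, -96, -217, -566, -45, 10, -71, -14, -81, 48, 64, -135, 121, 103, 10, -2, -16, -35, -45, 13, -25, 1, -21, 0, -1, 2, 0, 22, 11, -1]⟩))) (.node 2 (.node 1 (.leaf ⟨6, 6, true, [33, 23, 41, 27, 21,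 18], [42, 41, 22, 27, 36, 20], [-7, 230, 148, 106, 488, 2, 17, 45, 42, 40, -33, -39, 60, -106, -121, -11, -8, 7, 24, 41, -16, 33, 5, 8, -3, -2, 3, 0, -7, -7, -3]⟩) (.leaf ⟨6, 6, true, [31, 2, 29, 26, 40, 35], [27, 43, 26, 36, 43, 23], [6, -227, -147, -107, -487, -2, -17, -44, -42, -40, 33, 38, -60, 106, 120, 11, 8, -7, -24, -41, 16, -33, -5, -8, 3, 2, -3, 0, 7, 7, 3]⟩)) (.node 1 (.leaf ⟨6, 6, true, [0, 26, 43, 38, 31, 2], [35, 0, 29, 11, 35, 20, 4], [-50, 120, 125, 66, 393, 18, 1, 35, -12, -4, -4, -30, 101, -69, -49, -10, 0, 10, 13, 22, -8, 11, 1, 10, 2, 1, 2, 0, -9, -7]⟩) (.leaf ⟨6, 6, true, [23, 0, 34, 21, 2, 29, 22], [2, 32, 13, 22, 6, 19], [49, -117, -124, -67, -392, -18, -1, -34, 12, 4, 4, 29, -101, 69, 48, 10, 0, -10, -13, -22, 8, -11, -1, -10, -2, -1, -2, 0, 9, 7]⟩))))) (.node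 8 (.node 4 (.node 2 (.node 1 (.leaf ⟨6, 6, true, [6, 4, 38, 24, 19, 13], [43, 24, 24, 12, 35, 16], [-91, -451, -38, -291, -376, -130, 43, -24, -14, -40, -37, 27, -153, 131, 50, 5, -18, -27, -38, -27, 0, 5, 1, -27, 0, 7, -7, 0, 25, 2, -1]⟩) (.leaf ⟨6, 6, true, [4, 38, 23, 13, 34, 30], [12, 26, 30, 2, 39, 6], [90, 453, 39, 290, 377, 130, -43, 25, 14, 40, 37, -28, 155, -131, -51, -5, 18, 27, 38, 27, 0, -5, -1, 27, 0, -7, 7, 0, -25, -2, 1]⟩)) (.node 1 (.leaf ⟨6, 6, true, [16, 0, 20, 39, 13, 18, 31], [39, 8, 6, 27, 36, 13, 28], [30, 46, -164, 118, -1, 36, -59, -29, -37, 68, -2, -21, -5, -21, 44, -9, 2, -1, 10, 7, -2, -33, -8, 0, -5, -3, 10, 0, -11, 1, 5]⟩) (.leaf ⟨6, 6, true, [26, 0, 41, 10, 37, 35], [38, 6, 33, 22, 37, 20], [-29, -44, 164, -118, 1, -36, 59, 29, 37, -68, 2, 21, 3, 21, -45,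 9, -2, 1, -10, -7, 2, 33, 8, 0, 5, 3, -10, 0, 11, -1, -5]⟩))) (.node 2 (.node 1 (.leaf ⟨5, 6, true, [33, 2, 43, 11, 27, 11, 6], [22, 13, 6, 25, 42], [63, -1, -91, 58, -23, 10, -3, -1, -17, 50, -29, 2, -9, 32, -14, 0, 2, -1, 2, 2, 0, -2, -2, 1, 1, 4, -4, 0, 0, 2, 3]⟩) (.leaf ⟨5, 6, true, [40, 38, 40, 29, 42, 36], [24, 18, 40, 0, 40, 19], [-57, 124, 140, 13, 233, -6, -20, 31, -12, -27, -13, 13, 39, -46, -54, -9, -6, 4, 8, 15, -6, 12, 5, 7, 0, 4, 1, 0, -7, -4, -3]⟩)) (.node 1 (.leaf ⟨6, 6, true, [23, 2, 23, 27, 42, 34, 0], [19, 11, 43, 25, 35], [-45, 385, 127, 239, 771, 51, 4, 109, -6, 96, -129, -39, 233, -165, -162, -26, 2, 19, 35, 61, -21, 36, 7, 32, 0, 3, 0, 0, -20, -17, -1]⟩) (.leaf ⟨6, 6, true, [22, 34, 25, 42, 4, 6], [38, 0, 31, 24, 19, 6, 30], [5, 133, -108, 158, 189, 48, -64, -6,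 -34, 65, -15, -34, 44, -58, 24, -13, 1, 5, 18, 18, -6, -28, -7, 5, -5, -3, 10, 0, -17, -2, 5]⟩)))) (.node 4 (.node 2 (.node 1 (.leaf ⟨6, 6, true, [10, 20, 8, 35, 20, 25], [39, 28, 35, 28, 19, 27], [-2, 532, 281, 300, 842, 114, -3, 86, 24, 8, 46, -65, 284, -183, -173, -5, -11, 30, 36, 43, -8, 40, 11, 33, 0, -2, -1, 0, -25, -3, -2]⟩) (.leaf ⟨6, 6, true, [43, 2, 41, 27, 40, 35, 12], [32, 43, 27, 18, 20, 37], [-29, -41, 58, -67, 47, -17, 19, 8, -6, -5, -27, 12, -23, 10, -43, -3, 1, -8, 0, 6, -4, 11, 0, 1, -1, 4, 2, 0, 4, -4]⟩)) (.node 1 (.leaf ⟨6, 5, true, [41, 16, 32, 41, 31, 20], [22, 8, 23, 14, 34, 16, 18], [-38, 113, 140, 57, 371, -4, -2, 43, -9, 11, -32, -21, 62, -83, -88, -13, -11, 0, 5, 29, -13, 15, 4, 13, -4, 0, 5, 0, -6, -3, 1]⟩) (.leaf ⟨5, 6, true, [4, 16, 42, 16, 31, 26], [18,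 2, 10, 34, 25, 35, 23], [45, -110, -152, -49, -377, 4, 0, -43, 11, -7, 30, 19, -62, 83, 87, 13, 11, 0, -5, -29, 13, -15, -4, -13, 4, 0, -5, 0, 6, 3, -1]⟩))) (.node 2 (.node 1 (.leaf ⟨6, 6, true, [40, 26, 40, 6, 8, 4], [4, 40, 0, 43, 16, 23], [-25, 321, 151, 146, 460, 72, 4, 51, -12, 33, -28, -19, 168, -101, -121, -9, 7, 12, 27, 32, -8, 25, 2, 22, -2, 3, 3, 0, -15, -3, -1]⟩) (.leaf ⟨6, 6, true, [25, 28, 43, 27, 4, 43], [21, 24, 30, 38, 30, 19], [26, -319, -151, -146, -460, -72, -4, -51, 12, -33, 28, 19, -170, 101, 120, 9, -7, -12, -27, -32, 8, -25, -2, -22, 2, -3, -3, 0, 15, 3, 1]⟩)) (.node 1 (.leaf ⟨6, 6, true, [43, 6, 43, 26, 38, 27, 10], [32, 0, 29, 8, 34, 26, 14], [49, -259, -170, -78, -237, -29, 4, -41, -18, 40, -17, 5, -120, 64, 111, -2, 13, -11, -17, -10, 2, -30, -8, -11, 2, -4,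 -4, 0, 10, 0, 3]⟩) (.leaf ⟨6, 6, true, [26, 38, 25, 22, 38, 21], [25, 12, 29, 39, 23, 36], [-48, 259, 170, 78, 237, 29, -4, 41, 18, -40, 17, -5, 122, -64, -112, 2, -13, 11, 17, 10, -2, 30, 8, 11, -2, 4, 4, 0, -10, 0, -3]⟩)))))))
noncomputable def dF2613 : BT Fct := (.node 30 (.node 15 (.node 7 (.node 3 (.node 1 (.leaf ⟨6, 6, true, [43, 29, 41, 38, 42, 27], [23, 32, 24, 38, 13, 20], [-50, 154, 159, 60, 417, -6, 18, 68, 22, 38, -61, -17, 87, -80, -131, -10, -7, 4, 16, 33, -14, 34, 4, 15, 2, 3, -1, 0, -4, -10]⟩) (.node 1 (.leaf ⟨6, 6, true, [19, 8, 32, 39, 29, 25, 19], [27, 0, 21, 43, 25, 28, 30], [49, -150, -158, -61, -416, 6, -18, -67, -22, -38, 61, 16, -89, 80, 130, 10, 7, -4, -16, -33, 14, -34, -4, -15, -2, -3, 1, 0, 4, 10]⟩) (.leaf ⟨6, 6, true, [30, 14, 35, 39, 14], [43, 29, 30, 13,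 34, 39], [-72, -60, 121, -82, 46, -32, 49, 14, 28, -30, -1, 12, 24, -31, -24, -1, -2, -5, -1, 1, -4, 15, 3, -2, 0, -3, 2, 0, 6, -2, -5]⟩))) (.node 2 (.node 1 (.leaf ⟨6, 6, true, [41, 32, 24, 39, 28, 4], [2, 38, 34, 20, 18, 8], [73, 60, -121, 82, -46, 32, -49, -14, -28, 30, 1, -12, -22, 31, 23, 1, 2, 5, 1, -1, 4, -15, -3, 2, 0, 3, -2, 0, -6, 2, 5]⟩) (.leaf ⟨6, 6, true, [0, 43, 35, 4, 39, 26], [23, 21, 38, 18, 16, 18], [23, -61, -60, -29, -125, -13, -1, -17, -3, 9, -17, 16, -79, 27, 3, -1, 4, -8, -3, -2, 0, -3, -3, -3, 0, -1, 2, 0, 4, 0, 2]⟩)) (.node 1 (.leaf ⟨6, 6, true, [29, 4, 38, 10, 32, 18, 25], [27, 0, 10, 34, 21, 14, 12], [15, 139, 43, 104, 254, 43, 8, 53, 7, 39, -9, -30, 75, -60, -49, -3, 6, 3, 21, 19, -5, 0, 0, 10, 2, 3, -3, 0, -7, -7]⟩) (.leaf ⟨6, 6, true, [30, 36, 27, 39, 21,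 42], [36, 29, 26, 39, 28, 11], [-16, -135, -42, -105, -253, -43, -8, -52, -7, -39, 9, 29, -77, 60, 48, 3, -6, -3, -21, -19, 5, 0, 0, -10, -2, -3, 3, 0, 7, 7]⟩)))) (.node 4 (.node 2 (.node 1 (.leaf ⟨6, 6, true, [40, 22, 34, 23, 21, 39], [4, 38, 27, 11, 41, 14], [17, 166, 3, 132, 143, 48, -10, 11, -5, 18, 20, -16, 75, -43, -37, 1, -5, 10, 13, 8, 1, 2, 2, 9, -1, 1, 1, 0, -11, 0, 1]⟩) (.leaf ⟨6, 6, true, [40, 0, 21, 42, 31, 40, 25], [38, 31, 34, 22, 30, 22], [-77, 103, 134, -16, 238, -17, -26, 20, -2, -24, -19, -12, 16, -63, -40, -13, -10, 10, 13, 21, -9, 15, 3, 3, -1, -9, 6, 0, -6, -6, -1]⟩)) (.node 1 (.leaf ⟨6, 6, true, [28, 25, 31, 35, 30, 39], [42, 38, 11, 20, 20, 42], [76, -100, -133, 15, -237, 17, 26, -19, 2, 24, 19, 11, -16, 63, 39, 13, 10, -10, -13, -21, 9, -15, -3, -3, 1, 9, -6,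 0, 6, 6, 1]⟩) (.leaf ⟨6, 6, true, [11, 0, 24, 42, 20, 16, 31], [33, 2, 28, 33, 24, 37, 6], [18, 548, 175, 303, 663, 129, -27, 83, 48, 5, 23, -59, 256, -175, -96, 3, 3, 41, 43, 37, -4, 11, 5, 31, 4, 2, -2, 0, -27, -4, -5]⟩))) (.node 2 (.node 1 (.leaf ⟨6, 6, true, [8, 29, 8, 35, 28, 27], [32, 42, 32, 21, 29, 38], [-68, 396, 277, 148, 626, 54, -12, 92, 7, -13, 24, -33, 200, -168, -140, -15, -9, 19, 21, 37, -9, 26, 10, 25, 2, 3, 5, 0, -21, -3, -3]⟩) (.leaf ⟨6, 6, true, [25, 2, 27, 41, 11, 30, 19], [26, 29, 41, 29, 10], [67, -394, -276, -149, -625, -54, 12, -91, -7, 13, -24, 32, -198, 168, 139, 15, 9, -19, -21, -37, 9, -26, -10, -25, -2, -3, -5, 0, 21, 3, 3]⟩)) (.node 1 (.leaf ⟨6, 6, true, [28, 0, 39, 24, 29, 36, 0], [14, 22, 29, 40, 32, 30], [-13, 157, 99, 81, 324, 55, -36, 2, -39, 2, 37,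 -20, 39, -76, -9, -12, 0, 10, 7, 24, -6, -17, -2, 14, -5, 1, 6, 0, -12, -2, 4]⟩) (.leaf ⟨6, 6, true, [19, 8, 13, 39, 40, 42], [6, 0, 26, 40, 24, 2, 18], [-23, 82, 25, 49, 96, 27, 3, 24, -14, 6, -15, -2, 72, -19, -27, 1, 0, 3, 9, 8, -1, 3, 1, 5, 0, 2, -2, 0, -4, -2, -1]⟩))))) (.node 7 (.node 3 (.node 1 (.leaf ⟨6, 6, true, [4, 8, 25, 34, 41, 10], [26, 31, 40, 32, 29, 13], [16, 107, 23, 62, 114, 26, 6, 14, 21, -4, 30, -16, 54, -28, 5, 8, 1, 9, 8, -1, 4, -1, 0, 4, 0, -1, -6, 0, -7, 5]⟩) (.node 1 (.leaf ⟨6, 6, true, [2, 27, 12, 35, 8], [4, 10, 10, 43, 6, 28], [-15, -107, -23, -62, -114, -26, -6, -14, -21, 4, -30, 16, -52, 28, -6, -8, -1, -9, -8, 1, -4, 1, 0, -4, 0, 1, 6, 0, 7, -5]⟩) (.leaf ⟨6, 6, true, [41, 4, 35, 33, 36, 35, 18], [42, 37, 41, 23, 40, 30], [-17, -313, -32, -161, -35, -61,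 36, -21, -10, 31, -25, 17, -99, 36, 37, -4, 4, -14, -13, 4, -6, -5, -7, -10, 4, -2, -8, 0, 16, -4, 2]⟩))) (.node 2 (.node 1 (.leaf ⟨6, 6, true, [39, 39, 12, 40, 32, 10], [19, 41, 36, 30, 10, 28], [16, 315, 33, 160, 36, 61, -36, 22, 10, -31, 25, -18, 101, -36, -38, 4, -4, 14, 13, -4, 6, 5, 7, 10, -4, 2, 8, 0, -16, 4, -2]⟩) (.leaf ⟨6, 6, true, [0, 16, 43, 18, 6, 0], [43, 24, 37, 23, 10, 29], [19, -581, -206, -331, -853, -116, 33, -147, 22, -66, 84, 52, -284, 188, 240, 16, 2, -20, -45, -60, 16, -47, -12, -38, 0, -4, -5, 0, 26, 11, 1]⟩)) (.node 1 (.leaf ⟨6, 6, true, [32, 2, 23, 36, 42, 0], [2, 42, 12, 18, 37, 29], [-20, 585, 207, 330, 854, 116, -33, 148, -22, 66, -84, -53, 282, -188, -241, -16, -2, 20, 45, 60, -16, 47, 12, 38, 0, 4, 5, 0, -26, -11, -1]⟩) (.leaf ⟨6, 6, true, [27, 39, 34, 4,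 38, 6], [11, 24, 42, 26, 33, 11], [1, -85, 13, -67, -25, -19, 27, -7, 1, 17, -23, 19, -37, 22, -20, -2, 4, -10, -4, 4, -4, 7, -3, -1, -2, 5, -1, 0, 6, 0, -1]⟩)))) (.node 4 (.node 2 (.node 1 (.leaf ⟨6, 6, true, [11, 2, 21, 21, 40, 24, 11], [6, 11, 41, 29, 8, 10], [-2, 87, -12, 66, 26, 19, -27, 8, -1, -17, 23, -20, 39, -22, 19, 2, -4, 10, 4, -4, 4, -7, 3, 1, 2, -5, 1, 0, -6, 0, 1]⟩) (.leaf ⟨6, 6, true, [19, 0, 23, 34, 23, 16, 4], [28, 8, 12, 20, 40, 19, 14], [-101, -170, -24, -204, -471, -8, 1, -49, 7, -123, 82, 80, -44, 90, 143, 20, 0, 1, -22, -44, 17, -25, 1, -18, -1, -5, -3, 0, 13, 8, -5]⟩)) (.node 1 (.leaf ⟨6, 6, true, [28, 4, 35, 43, 36, 26], [11, 0, 25, 29, 43, 21, 23], [102, 170, 24, 204, 471, 8, -1, 49, -7, 123, -82, -80, 46, -90, -144, -20, 0, -1, 22, 44, -17, 25, -1, 18, 1, 5,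 3, 0, -13, -8, 5]⟩) (.leaf ⟨6, 6, true, [20, 10, 39, 6, 33, 21], [19, 37, 38, 28, 41, 4], [5, 10, 14, 14, 1, -13, 7, -12, 17, -13, 13, 6, -9, -15, -2, -3, -2, 1, -3, 0, 0, -2, 2, 0, 1, -1, 1, 0, -1, 4, -1]⟩))) (.node 2 (.node 1 (.leaf ⟨6, 6, true, [28, 0, 21, 38, 33, 34, 19], [20, 4, 40, 24, 40, 25, 10], [14, -63, -12, -65, -162, -6, 4, -25, 12, -12, 39, 15, -71, 19, 33, 3, 1, -2, -5, -10, 4, -11, -1, -5, -1, -3, 1, 0, 3, 7, -1]⟩) (.leaf ⟨6, 6, true, [25, 0, 39, 8, 39, 18, 22], [43, 0, 27, 39, 33, 22, 10], [-15, 67, 13, 64, 163, 6, -4, 26, -12, 12, -39, -16, 69, -19, -34, -3, -1, 2, 5, 10, -4, 11, 1, 5, 1, 3, -1, 0, -3, -7, 1]⟩)) (.node 1 (.leaf ⟨6, 6, true, [22, 37, 33, 29, 4, 6], [27, 25, 35, 11, 18, 22], [12, -49, 18, -46, -106, -17, -4, -20, -3, -40, 42, 6, -53, 13, 35, 3, -2, 2,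 -9, -10, 5, -6, 1, -4, 2, -3, 1, 0, 0, 4, -1]⟩) (.leaf ⟨6, 6, true, [32, 0, 21, 36, 25, 43, 0], [38, 22, 16, 2, 18, 42], [-13, 53, -17, 45, 107, 17, 4, 21, 3, 40, -42, -7, 51, -13, -36, -3, 2, -2, 9, 10, -5, 6, -1, 4, -2, 3, -1, 0, 0, -4, 1]⟩)))))) (.node 15 (.node 7 (.node 3 (.node 1 (.leaf ⟨6, 6, true, [28, 12, 37, 25, 35, 43], [11, 21, 37, 33, 41, 19], [-4, 174, 72, 89, 210, 41, 3, 23, 9, -1, -17, -6, 75, -56, -19, -3, 7, 12, 18, 15, -2, 0, 0, 10, 2, -5, 0, 0, -11, 1, -3]⟩) (.node 1 (.leaf ⟨6, 6, true, [38, 40, 6, 21, 36, 10], [33, 0, 35, 42, 29, 36, 29], [3, -172, -71, -90, -209, -41, -3, -22, -9, 1, 17, 5, -73, 56, 18, 3, -7, -12, -18, -15, 2, 0, 0, -10, -2, 5, 0, 0, 11, -1, 3]⟩) (.leaf ⟨6, 6, true, [26, 43, 35, 27, 35, 35], [29, 19, 41, 18, 42, 12], [11, -126, -60, -87, -133, -57,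 1, -4, -17, 47, -75, 9, -111, 25, 8, -13, 8, -11, -5, 6, -7, -5, -5, -4, 1, 4, 3, 0, 4, -6, 4]⟩))) (.node 2 (.node 1 (.leaf ⟨6, 6, true, [29, 35, 35, 25, 25, 2], [39, 6, 29, 22, 37, 12], [-23, -168, 55, -163, -194, -79, 37, -30, 23, -54, 35, 30, -150, 30, 36, -3, -3, -10, -15, -12, 1, -8, -1, -11, 2, -4, 1, 0, 12, 3]⟩) (.leaf ⟨4, 7, true, [6], [], []⟩)) (.node 1 (.leaf ⟨7, 7, false, [31, 0, 31], [], [-7, 22, 16, 14, 40, 4, 1, 5, -1, -1, 4, -2, 16, -11, -5, 0, -1, 2, 1, 1, 0, 1, 1, 1, 0, 0, 0, 0, -1]⟩) (.leaf ⟨7, 7, false, [26, 13, 28], [], [3, 0, -3, 1, -1, 0, -1, 0, 0, 0, -1, -2]⟩)))) (.node 4 (.node 2 (.node 1 (.leaf ⟨7, 3, true, [27, 18, 23, 6], [26, 26, 40, 40, 18, 31], [-11, 43, 22, 31, 73, 5, -1, 12, -1, -3, 5, -4, 31, -16, -12, -1, -3, 4, 2, 2, 0, 2, 2, 2, 0, 0, 0, 0, -2]⟩) (.leaf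 ⟨3, 7, true, [40, 23, 11, 29, 11], [6, 20, 22, 16], [17, -55, -33, -35, -116, -9, 1, -16, 2, -2, -5, 7, -37, 25, 16, 2, 3, -5, -4, -5, 1, -3, -2, -3, 0, 0, 0, 0, 3, 1]⟩)) (.node 1 (.leaf ⟨7, 4, true, [26, 13, 23, 6, 0], [0, 6, 16, 32, 24, 6], [-14, 18, 21, 10, 46, 5, 2, 5, -4, 1, 7, 2, 17, -13, -6, -1, -1, 2, 1, 1, 0, 1, 1, 1, 0, 0, 0, 0, -1]⟩) (.leaf ⟨4, 7, true, [32, 19, 42, 16, 38], [6, 29, 31, 31, 14], [13, 4, -13, 4, -13, -1, -3, 0, 3, -2, -3, -6, -3, 4, 0, 1]⟩))) (.node 2 (.node 1 (.leaf ⟨7, 6, true, [22, 39, 42, 22, 30, 6], [40, 24, 39, 41, 21, 28], [-27, -97, -7, -92, -166, -26, 2, -20, 8, -28, 22, 22, -71, 34, 38, 2, -2, -5, -10, -11, 3, -7, -1, -7, -1, -3, 0, 0, 5, 4]⟩) (.leaf ⟨6, 7, true, [0, 20, 43, 20, 18, 27], [42, 35, 39, 37, 27, 19], [26, 100, 8, 91, 167, 26, -2, 21, -8,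 28, -22, -23, 71, -34, -39, -2, 2, 5, 10, 11, -3, 7, 1, 7, 1, 3, 0, 0, -5, -4]⟩)) (.node 1 (.leaf ⟨7, 6, true, [16, 19, 39, 31, 42, 26], [2, 4, 32, 42, 24, 19, 29], [24, 20, -18, 17, 15, 9, -8, 3, -6, 9, -9, -6, -7, -2, -8, -2, 1, 1, 3, 4, -1, -2, -1, 2, 0, 0, 1, 0, -1, -1, 1]⟩) (.leaf ⟨6, 7, true, [24, 0, 34, 14, 34, 33, 11], [32, 36, 31, 37, 25, 19], [-25, -16, 19, -18, -14, -9, 8, -2, 6, -9, 9, 5, 5, 2, 7, 2, -1, -1, -3, -4, 1, 2, 1, -2, 0, 0, -1, 0, 1, 1, -1]⟩))))) (.node 8 (.node 4 (.node 2 (.node 1 (.leaf ⟨7, 6, true, [18, 6, 26, 30, 22, 6], [37, 11, 30, 20, 6, 36, 30], [-7, -93, -30, -85, -181, -28, -5, -21, 11, -33, 16, 8, -74, 38, 37, 3, -3, -5, -10, -11, 3, -7, -1, -7, -1, -3, 0, 0, 5, 4]⟩) (.leaf ⟨6, 7, true, [41, 12, 26, 31, 34], [26, 43, 10, 6, 41, 19], [8, 93, 30, 85, 181,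 28, 5, 21, -11, 33, -16, -8, 76, -38, -38, -3, 3, 5, 10, 11, -3, 7, 1, 7, 1, 3, 0, 0, -5, -4]⟩)) (.node 1 (.leaf ⟨7, 6, true, [30, 24, 2, 0, 31, 14], [29, 24, 43, 26, 18, 35], [-14, -16, 18, -6, 32, -4, -8, 0, -11, -7, 32, 0, -2, -9, -9, -2, -7, 0, -6, -1, 0, -1, 3, 0, -2, 1, 2, 0, 1, 2, 1]⟩) (.leaf ⟨6, 7, true, [21, 37, 23, 33, 36, 12], [14, 30, 2, 25, 31], [13, 19, -17, 5, -31, 4, 8, 1, 11, 7, -32, -1, 2, 9, 8, 2, 7, 0, 6, 1, 0, 1, -3, 0, 2, -1, -2, 0, -1, -2, -1]⟩))) (.node 2 (.node 1 (.leaf ⟨7, 6, true, [13, 28, 41, 41, 19, 28], [29, 26, 32, 43, 33, 38], [-3, -54, -7, -37, -28, -16, -5, -9, -8, 0, 16, -2, -36, 6, -2, -3, -5, -4, -7, -1, -1, -2, 1, -2, -2, 1, 2, 0, 3, 1, 1]⟩) (.leaf ⟨7, 6, true, [8, 29, 2, 33, 33, 8], [43, 24, 42, 40, 34, 11], [-18, 10, 24, 4, 29, 3, -2, 1, 8, -17,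 17, -1, 22, -13, -4, 1, -4, 4, -1, -2, 1, 3, 3, 0, 0, 0, 0, 0, -1, 1, -1]⟩)) (.node 1 (.leaf ⟨6, 7, true, [42, 35, 23, 27, 39, 43], [14, 37, 38, 34, 40, 21], [17, -7, -23, -5, -28, -3, 2, 0, -8, 17, -17, 0, -22, 13, 3, -1, 4, -4, 1, 2, -1, -3, -3, 0, 0, 0, 0, 0, 1, -1, 1]⟩) (.leaf ⟨7, 6, true, [12, 31, 23, 6, 32, 6], [43, 4, 43, 31, 25, 34, 20], [5, -72, -24, -51, -77, -21, -3, -15, -5, -2, 10, 1, -55, 21, 2, -2, -5, -6, -8, -2, -1, -3, 0, -3, -2, 1, 2, 0, 4, 1, 1]⟩)))) (.node 4 (.node 2 (.node 1 (.leaf ⟨6, 7, true, [11, 0, 23, 34, 30, 10, 25], [4, 11, 40, 34, 21, 14], [-6, 75, 25, 50, 78, 21, 3, 16, 5, 2, -10, -2, 55, -21, -3, 2, 5, 6, 8, 2, 1, 3, 0, 3, 2, -1, -2, 0, -4, -1, -1]⟩) (.leaf ⟨7, 6, true, [4, 31, 28, 6, 32, 6], [6, 0, 38, 32, 35, 35, 13], [9, -11, -6, 4, 19, -5, -14, -1,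 -8, -9, 24, -13, -3, -5, -10, -1, -8, 0, -6, -1, 0, -1, 3, 0, -2, 1, 2, 0, 1, 2, 1]⟩)) (.node 1 (.leaf ⟨6, 7, true, [28, 34, 24, 42, 11, 22], [8, 31, 2, 33, 20, 12], [-8, 11, 6, -4, -19, 5, 14, 1, 8, 9, -24, 13, 5, 5, 9, 1, 8, 0, 6, 1, 0, 1, -3, 0, 2, -1, -2, 0, -1, -2, -1]⟩) (.leaf ⟨7, 4, true, [6, 26, 13, 18, 0], [6, 28, 30, 23, 8, 6], [16, -46, -36, -27, -79, -7, -3, -11, 0, 5, -9, 1, -32, 23, 8, 0, 1, -4, -2, -2, 0, -2, -2, -2, 0, 0, 0, 0, 2]⟩))) (.node 2 (.node 1 (.leaf ⟨4, 7, true, [2, 20, 30, 19], [6, 27, 20, 12, 4], [-14, 48, 34, 30, 78, 7, 3, 11, 0, -4, 8, -1, 33, -23, -9, 0, -1, 4, 2, 2, 0, 2, 2, 2, 0, 0, 0, 0, -2]⟩) (.leaf ⟨7, 6, true, [18, 34, 8, 37, 29], [18, 6, 23, 32, 23], [7, -3, -3, 0, 4, 0, -5, 4, -3, 1, 2, -4, 0, 2, -4, 0, 0, 0, -1, 0, 0, 2, 0, 1]⟩)) (.node 1 (.leaf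 ⟨6, 7, true, [20, 22, 6, 19], [13, 6, 25, 11, 12], [-6, 3, 3, 0, -4, 0, 5, -4, 3, -1, -2, 4, 2, -2, 3, 0, 0, 0, 1, 0, 0, -2, 0, -1]⟩) (.leaf ⟨7, 6, true, [25, 43, 34, 25, 4], [25, 8, 6, 18, 12], [-8, -12, 7, -8, 11, -2, 5, -6, -5, 5, 6, 3, 0, -3, 3, 0, -1, 0, -2, 0, 0, 2, 0, 0, -1, -1]⟩)))))))
noncomputable def dF2674 : BT Fct := (.node 30 (.node 15 (.node 7 (.node 3 (.node 1 (.leaf ⟨7, 6, true, [10, 21, 22, 19, 6], [6, 22, 10, 33, 41, 2], [15, -9, -11, 4, -1, 2, 6, -1, 1, 9, 5, -9, 4, 2, -4, 1, -1, -1, -1, 0, 0, 3, 0, 1, -1, 0, -1]⟩) (.node 1 (.leaf ⟨6, 7, true, [4, 41, 39, 28, 27, 0], [6, 8, 26, 18, 11], [-14, 11, 11, -4, 1, -2, -6, 1, -1, -9, -5, 9, -6, -2, 3, -1, 1, 1, 1, 0, 0, -3, 0, -1, 1, 0, 1]⟩) (.leaf ⟨7, 4, true, [33, 20, 23, 10, 4], [0, 37, 4, 39, 39, 29], [1, 20, 0, 13, 20,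 5, -2, 7, 5, 0, 3, -2, 11, -9, -1, 0, -1, 2, 0, 0, 0, 0, 1, 1, 0, 0, 0, 0, -1]⟩))) (.node 2 (.node 1 (.leaf ⟨4, 7, true, [4, 35, 43, 18, 16], [24, 30, 25, 11], [-1, -20, 2, -16, -19, -5, 2, -7, -5, -1, -2, 2, -12, 9, 0, 0, 1, -2, 0, 0, 0, 0, -1, -1, 0, 0, 0, 0, 1]⟩) (.leaf ⟨7, 7, true, [20, 14, 24, 11], [28, 19, 10, 19, 8], [3, -21, -4, -17, -23, -5, 0, -6, -5, -1, -3, 0, -13, 7, 1, 0, 1, -2, 0, 0, -1, 0, -1, -1, 0, 0, 0, 0, 1]⟩)) (.node 1 (.leaf ⟨7, 5, true, [2, 40, 26, 41, 2], [21, 2, 42, 19, 13], [-4, 1, 6, 0, 5, 0, 0, -2, 1, -1, 0, 3, 0, 0, -1, 0, 0, 0, 0, 1, 0, -1]⟩) (.leaf ⟨5, 7, true, [12, 36, 28, 33, 10], [6, 20, 13, 25, 6], [6, 32, 6, 18, 36, 11, -1, 6, -3, 2, 2, -5, 17, -9, -5, 0, 1, 2, 3, 1, 0, 1, 0, 2, 0, 0, 0, 0, -2]⟩)))) (.node 4 (.node 2 (.node 1 (.leaf ⟨7, 5, true, [41,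 34, 28, 6, 28], [2, 38, 23, 25, 35, 41], [-4, -9, -6, 0, -16, -1, 7, -3, 0, 2, -1, 4, -2, 3, 5, 0, 1, 0, 0, 0, 0, -2, 0, -1, -1, 0, 0, 0, 1]⟩) (.leaf ⟨5, 7, true, [25, 18, 39, 8, 38], [12, 35, 38, 16, 11], [9, 43, 12, 22, 54, 12, -9, 7, -1, 1, 2, -7, 19, -12, -11, 0, 0, 2, 3, 2, 0, 2, 0, 3, 1, 0, 0, 0, -3]⟩)) (.node 1 (.leaf ⟨7, 2, true, [29, 23, 18, 6, 0], [6, 23, 14, 6, 14], [-5, -7, 7, -9, 1, 0, 4, 1, -2, -1, -1, 2, -4, -1, -4, 0, 0, 0, 0, 0, 0, 2, -1, 0, 0, 0, 0, 0, 1]⟩) (.leaf ⟨2, 7, true, [10, 2, 33, 31, 11], [6, 20, 16, 20], [17, 10, -28, 18, -50, 6, -7, -8, 2, -8, 13, -1, 4, 10, 12, 3, 0, 0, 0, -6, 3, -5, 1, 0, 0, 0, 0, 0, -1]⟩))) (.node 2 (.node 1 (.leaf ⟨7, 5, true, [10, 13, 26, 41, 2], [2, 38, 21, 23, 28], [-14, -43, -2, -24, -44, -11, 9, -8, 0, 0, 2, 5, -12, 12, 10, 0, 0,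 -2, -2, -3, 0, -1, 0, -3, -2, 0, 0, 0, 3]⟩) (.leaf ⟨7, 6, true, [23, 18, 11, 6, 0], [0, 39, 34, 29, 11, 29], [-5, -46, -12, -30, -53, -12, 7, -7, 2, -2, -1, 4, -22, 10, 9, 0, 0, -2, -3, -2, 0, 0, 0, -3, -1, -1, 0, 0, 3]⟩)) (.node 1 (.leaf ⟨7, 6, true, [8, 11, 25, 23, 6], [6, 14, 29, 41, 2], [3, -13, 1, -3, 9, 0, 7, -2, 3, 5, 6, -4, 3, 1, -1, 1, -1, 0, -1, 0, 0, 2, 0, 1, 0, -1, -1]⟩) (.leaf ⟨7, 5, true, [35, 43, 18, 31, 29], [22, 43, 40, 21, 6], [-6, 66, 28, 46, 95, 13, -4, 16, 1, -1, 12, -9, 44, -26, -12, 0, -3, 6, 2, 2, 1, 3, 3, 3, 0, -1, 0, 0, -3]⟩))))) (.node 7 (.node 3 (.node 1 (.leaf ⟨5, 7, true, [0, 37, 33, 31, 4], [21, 6, 43, 34, 19], [0, -99, -28, -72, -130, -24, 7, -20, -1, -4, -12, 13, -61, 35, 16, 0, 2, -8, -5, -4, -1, -3, -3, -5, 0, 1, 0, 0, 5]⟩) (.node 1 (.leaf ⟨7, 6, true,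 [19, 11, 25, 6, 0], [34, 40, 14, 39, 20, 23], [0, 5, -9, 9, -9, -2, -5, -3, -2, 3, -2, -2, 3, 3, 4, -2, 0, 1, 0, -1, 1, -1, 0, 0, 0, -2, 1]⟩) (.leaf ⟨6, 7, true, [36, 28, 22, 14, 4], [4, 6, 24, 10, 18], [-1, -2, 10, -10, 10, 2, 5, 4, 2, -3, 2, 1, -3, -3, -5, 2, 0, -1, 0, 1, -1, 1, 0, 0, 0, 2, -1]⟩))) (.node 2 (.node 1 (.leaf ⟨7, 6, true, [35, 2, 30, 20, 14], [26, 6, 31, 21, 2, 22, 27], [-22, 49, 31, 28, 80, 9, 0, 2, 2, -4, 20, -5, 25, -25, 0, -1, -2, 6, 3, 2, 0, -2, 2, 1, 0, -1, 1, 0, -2, -1]⟩) (.leaf ⟨6, 7, true, [4, 11, 40, 38, 18, 11], [2, 38, 10, 18, 21, 6], [23, -49, -31, -28, -80, -9, 0, -2, -2, 4, -20, 5, -23, 25, -1, 1, 2, -6, -3, -2, 0, 2, -2, -1, 0, 1, -1, 0, 2, 1]⟩)) (.node 1 (.leaf ⟨7, 6, true, [32, 27, 20, 16, 2], [30, 42, 30, 19, 14, 42], [-9, 141, 131, 78, 257, 17, 12,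 38, 33, -24, 22, -26, 123, -59, -80, 2, -7, 9, 9, 8, -2, 35, 7, 6, -1, -3, 0, 0, -4, 0, -2]⟩) (.leaf ⟨6, 7, true, [39, 19, 14, 10, 34, 6], [38, 12, 2, 43, 0], [10, -139, -131, -78, -257, -17, -12, -38, -33, 24, -22, 26, -125, 59, 79, -2, 7, -9, -9, -8, 2, -35, -7, -6, 1, 3, 0, 0, 4, 0, 2]⟩)))) (.node 4 (.node 2 (.node 1 (.leaf ⟨7, 6, true, [26, 12, 18, 8, 2], [11, 8, 38, 20, 34, 26], [74, -454, -185, -170, -349, -50, 32, -60, -15, 43, -9, 29, -179, 117, 122, 6, 20, -22, -25, -21, 5, -28, -14, -15, 4, -1, -13, 0, 17, 3, 9]⟩) (.leaf ⟨6, 7, true, [28, 0, 43, 33, 43, 34, 16], [2, 28, 26, 33, 18], [-73, 456, 185, 170, 349, 50, -32, 60, 15, -43, 9, -29, 177, -117, -123, -6, -20, 22, 25, 21, -5, 28, 14, 15, -4, 1, 13, 0, -17, -3, -9]⟩)) (.node 1 (.leaf ⟨7, 6, true, [26, 19, 21, 2], [8, 23, 42,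 22, 8, 11], [39, -73, -76, -17, -136, -2, -12, -25, -31, 23, 13, 3, -60, 29, 16, 0, 4, -7, -6, -7, 2, -8, -1, -4, 0, 2, 1, 0, 3, 1, 2]⟩) (.leaf ⟨7, 6, true, [28, 22, 31, 24, 2], [42, 6, 32, 34, 26, 32, 25], [65, -27, -108, 66, -78, 54, -9, -20, -22, 23, 36, 11, -1, 11, 44, 5, 9, 0, -7, -3, 7, -28, -2, 3, 1, 1, -6, 0, 0, 7, 3]⟩))) (.node 2 (.node 1 (.leaf ⟨6, 7, true, [6, 0, 28, 38, 34, 10, 26], [2, 21, 30, 25, 4], [-66, 30, 109, -67, 79, -54, 9, 21, 22, -23, -36, -12, 1, -11, -45, -5, -9, 0, 7, 3, -7, 28, 2, -3, -1, -1, 6, 0, 0, -7, -3]⟩) (.leaf ⟨7, 6, true, [31, 27, 31, 2], [36, 0, 21, 10, 43, 39, 29], [-12, -175, -81, -85, -275, -28, -1, -47, -11, -27, 25, 23, -63, 56, 92, 4, 0, -5, -14, -20, 6, -21, -2, -12, 0, -3, -2, 0, 8, 2, -1]⟩)) (.node 1 (.leaf ⟨6, 7, true, [36, 0, 27, 14, 40,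 10, 30], [2, 23, 31, 22, 0], [13, 177, 81, 85, 275, 28, 1, 47, 11, 27, -25, -23, 61, -56, -93, -4, 0, 5, 14, 20, -6, 21, 2, 12, 0, 3, 2, 0, -8, -2, 1]⟩) (.leaf ⟨7, 6, true, [23, 29, 33, 19, 2], [36, 11, 33, 23, 35, 24, 13], [-13, -113, -37, -63, -181, -21, 5, -31, -7, -19, 11, 18, -44, 39, 47, 2, 0, -4, -10, -14, 4, -10, -1, -8, 0, -1, 0, 0, 6, 3, -1]⟩)))))) (.node 15 (.node 7 (.node 3 (.node 1 (.leaf ⟨6, 7, true, [28, 14, 36, 40, 33, 22, 27], [8, 10, 2, 30, 11], [12, 116, 38, 62, 182, 21, -5, 32, 7, 19, -11, -19, 44, -39, -48, -2, 0, 4, 10, 14, -4, 10, 1, 8, 0, 1, 0, 0, -6, -3, 1]⟩) (.node 1 (.leaf ⟨7, 6, true, [8, 29, 14, 0, 2], [39, 24, 24, 38, 20, 11], [-1, 24, 44, 11, 21, 6, 10, -6, 24, -36, 47, -7, 13, -17, -14, 6, -11, 6, -3, -6, 3, 5, 6, -4, 0, -2, 0, 0, 2, 6, -1]⟩) (.leaf ⟨6,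 7, true, [13, 2, 33, 18, 37, 22, 4], [2, 4, 28, 8], [2, -24, -44, -11, -21, -6, -10, 6, -24, 36, -47, 7, -11, 17, 13, -6, 11, -6, 3, 6, -3, -5, -6, 4, 0, 2, 0, 0, -2, -6, 1]⟩))) (.node 2 (.node 1 (.leaf ⟨7, 5, true, [31, 42, 42, 39, 14], [29, 22, 37, 24, 20, 32], [-37, -16, 52, -17, 67, -7, 27, -3, -4, 3, 9, 18, 16, -13, -5, -3, -1, 0, 0, 4, -2, 4, 0, 1, -2, -1, -1, 0, 1, 1, -2]⟩) (.leaf ⟨7, 7, false, [32, 11, 35], [], [19, -60, -60, -28, -148, -15, -16, -9, 5, -7, -8, -10, -45, 34, 20, 3, 0, -4, -5, -9, 2, -5, 0, -6, 0, 1, 1, 0, 4, -1, 2]⟩)) (.node 1 (.leaf ⟨7, 6, true, [43, 12, 39, 27, 24], [11, 43, 35, 18, 40, 32], [7, 284, 89, 175, 370, 66, -13, 47, -2, 38, 22, -9, 166, -101, -51, -8, 3, 17, 23, 21, -3, 9, 1, 18, 1, -1, -1, 0, -17, 0, -5]⟩) (.leaf ⟨6, 7, true, [32, 2, 43, 26, 41,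 37, 26], [25, 26, 38, 13, 42, 2], [-6, -282, -89, -175, -370, -66, 13, -47, 2, -38, -22, 9, -168, 101, 50, 8, -3, -17, -23, -21, 3, -9, -1, -18, -1, 1, 1, 0, 17, 0, 5]⟩)))) (.node 4 (.node 2 (.node 1 (.leaf ⟨7, 6, true, [19, 23, 31, 6, 2], [24, 4, 20, 36, 20, 36, 16], [-36, -22, 170, -98, 95, -59, 40, 9, 33, -33, 46, -17, -9, -17, -70, 0, -16, -3, -8, -2, -2, 39, 9, -6, -1, -3, 0, 0, 7, 2, -2]⟩) (.leaf ⟨6, 7, true, [25, 0, 20, 34, 33, 42, 12], [2, 14, 6, 30, 22, 18], [37, 24, -170, 98, -95, 59, -40, -9, -33, 33, -46, 17, 7, 17, 69, 0, 16, 3, 8, 2, 2, -39, -9, 6, 1, 3, 0, 0, -7, -2, 2]⟩)) (.node 1 (.leaf ⟨7, 6, true, [10, 21, 42, 11], [20, 43, 19, 11, 32], [-22, -93, 65, -65, -48, -20, 21, -7, 24, -42, 27, 16, 4, 21, -5, 9, -7, -3, -12, -11, 3, 11, 4, -5, 1, 1, -4, 0, 6, 5, -2]⟩) (.leaf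 ⟨6, 7, true, [19, 41, 13, 36, 34, 34], [0, 10, 39, 12, 18, 8], [23, 93, -65, 65, 48, 20, -21, 7, -24, 42, -27, -16, -2, -21, 4, -9, 7, 3, 12, 11, -3, -11, -4, 5, -1, -1, 4, 0, -6, -5, 2]⟩))) (.node 2 (.node 1 (.leaf ⟨7, 6, true, [6, 0, 32, 16, 23, 38, 26], [21, 39, 24, 22, 20], [-19, 286, 100, 201, 539, 98, 1, 58, -41, 85, -38, -18, 190, -89, -141, -7, 8, 7, 29, 35, -9, 29, -3, 28, -2, 5, 1, 0, -19, -4, 3]⟩) (.leaf ⟨6, 7, true, [4, 8, 28, 24, 38, 20], [27, 6, 38, 43, 37, 41], [18, -283, -99, -202, -538, -98, -1, -57, 41, -85, 38, 17, -190, 89, 140, 7, -8, -7, -29, -35, 9, -29, 3, -28, 2, -5, -1, 0, 19, 4, -3]⟩)) (.node 1 (.leaf ⟨7, 6, true, [2, 25, 13, 19, 35, 27], [2, 36, 23, 38, 21, 24], [-25, 31, 120, -10, 194, -2, 38, 1, 9, 1, 14, 29, 32, -45, -35, -5, 2, 0, 2, 13, -4, 11, -1, 8,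 0, 1, -2, 0, -3, 3, -5]⟩) (.leaf ⟨6, 7, true, [37, 29, 8, 43, 11, 32], [19, 35, 41, 38, 22, 30], [24, -27, -119, 9, -193, 2, -38, 0, -9, -1, -14, -30, -34, 45, 34, 5, -2, 0, -2, -13, 4, -11, 1, -8, 0, -1, 2, 0, 3, -3, 5]⟩))))) (.node 8 (.node 4 (.node 2 (.node 1 (.leaf ⟨7, 6, true, [16, 26, 34, 39, 16, 10], [10, 20, 13, 34, 26, 31], [-34, 201, 116, 107, 315, 32, -18, 57, 7, -19, -3, -49, 125, -72, -58, 0, -4, 13, 11, 15, -3, 11, 6, 12, 0, 3, 2, 0, -12, -4, 1]⟩) (.leaf ⟨6, 7, true, [10, 0, 21, 11, 35, 21, 11], [35, 19, 36, 23, 14, 25], [33, -197, -115, -108, -314, -32, 18, -56, -7, 19, 3, 48, -127, 72, 57, 0, 4, -13, -11, -15, 3, -11, -6, -12, 0, -3, -2, 0, 12, 4, -1]⟩)) (.node 1 (.leaf ⟨7, 6, true, [6, 19, 26, 36, 25, 22], [13, 0, 18, 36, 18, 38, 26], [76, -233, -210, -94, -428, -31,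 -17, -46, -11, 14, -43, 1, -148, 113, 60, 7, 9, -18, -12, -19, 4, -15, -7, -13, 0, 0, 1, 0, 12, -1, 3]⟩) (.leaf ⟨6, 7, true, [13, 0, 35, 26, 43, 33], [25, 23, 41, 35, 18, 20], [-75, 233, 210, 94, 428, 31, 17, 46, 11, -14, 43, -1, 150, -113, -61, -7, -9, 18, 12, 19, -4, 15, 7, 13, 0, 0, -1, 0, -12, 1, -3]⟩))) (.node 2 (.node 1 (.leaf ⟨7, 6, true, [2, 40, 28, 40, 23, 27], [10, 21, 22, 37, 23, 41], [21, 9, -2, 18, 44, -1, -13, 16, 6, 7, -17, -31, 11, -8, -23, 1, 0, 0, 1, 1, -1, 4, 2, 2, 2, 3, 0, 0, -1, -3, 2]⟩) (.leaf ⟨6, 7, true, [24, 38, 33, 18, 21], [20, 0, 42, 29, 35, 13, 25], [-20, -7, 2, -18, -44, 1, 13, -16, -6, -7, 17, 31, -13, 8, 22, -1, 0, 0, -1, -1, 1, -4, -2, -2, -2, -3, 0, 0, 1, 3, -2]⟩)) (.node 1 (.leaf ⟨7, 6, true, [19, 33, 21, 6, 2], [31, 40, 16, 40, 23, 28], [32, 235, 2,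 164, 236, 78, -22, 29, 3, 30, 6, -29, 106, -64, -35, 0, 4, 13, 20, 14, 0, -1, 1, 14, 0, -2, 2, 0, -14, 1, -3]⟩) (.leaf ⟨6, 7, true, [19, 0, 6, 26, 14, 6, 30], [13, 14, 39, 10, 37], [-33, -232, -1, -165, -235, -78, 22, -28, -3, -30, -6, 28, -106, 64, 34, 0, -4, -13, -20, -14, 0, 1, -1, -14, 0, 2, -2, 0, 14, -1, 3]⟩)))) (.node 4 (.node 2 (.node 1 (.leaf ⟨7, 4, true, [34, 30, 34, 14, 18], [39, 34, 10, 35, 6], [37, -121, -120, -63, -300, -30, -31, -19, 11, -15, -13, -20, -93, 71, 41, 6, 0, -8, -10, -18, 4, -10, 0, -12, 0, 2, 2, 0, 8, -2, 3]⟩) (.leaf ⟨6, 7, true, [36, 35, 10, 29, 0], [25, 35, 42, 11, 0], [3, 74, 59, 37, 193, 7, 6, 33, 5, 19, -31, -12, 55, -36, -55, -4, 1, 1, 8, 16, -6, 11, 1, 8, -1, 6, -1, 0, -4, -4]⟩)) (.node 1 (.leaf ⟨7, 6, true, [2, 26, 10, 13, 18], [24, 23, 28, 43, 2],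 [7, -111, -100, -52, -300, -18, -20, -37, -1, -27, 28, 2, -84, 59, 69, 7, -2, -3, -12, -24, 8, -15, 0, -13, 1, -5, 2, 0, 7, 3, 2]⟩) (.leaf ⟨6, 7, true, [23, 6, 37, 31, 23, 6], [10, 40, 35, 35, 24, 18], [-6, 4, -28, -17, -108, 22, -8, -14, 19, -17, 12, 3, -1, 19, 67, 9, 10, 6, 4, -8, 5, -9, -4, -4, 2, -2, -5, 0, -2, -2, -2]⟩))) (.node 2 (.node 1 (.leaf ⟨7, 6, true, [2, 39, 11, 24, 34, 29], [2, 27, 12, 43, 36, 25], [-6, 57, 82, 47, 254, -7, 22, 23, -24, 24, -6, 3, 46, -53, -88, -12, -10, -2, 1, 17, -7, 14, 4, 10, -2, 1, 4, 0, -2, 3]⟩) (.leaf ⟨6, 7, true, [8, 10, 18, 42, 32, 18], [40, 42, 32, 2, 41, 10], [20, -49, -7, -17, 34, -23, 4, 2, -26, 38, -29, 0, -44, -3, -39, -9, -2, -13, -6, 11, -7, 1, -1, 2, -2, 2, 5, 0, 3, -1, 3]⟩)) (.node 1 (.leaf ⟨7, 6, true, [38, 6, 37, 31, 23, 38], [8, 2,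 36, 23, 34, 30, 18], [-6, 28, -15, 5, -76, 19, -7, -7, 27, -37, 23, -2, 28, 14, 43, 9, 3, 11, 5, -12, 7, -2, 0, -3, 2, -2, -5, 0, -2, 1, -3]⟩) (.leaf ⟨5, 7, true, [35, 36, 21, 6, 16, 24], [0, 32, 14, 40, 38, 21], [37, 220, 56, 126, 291, 64, -7, 23, 12, 40, 5, -26, 75, -83, -39, -5, 8, 12, 21, 22, -4, 0, -1, 15, 0, -2, 1, 0, -14, -1]⟩)))))))
noncomputable def dF2735 : BT Fct := (.node 30 (.node 15 (.node 7 (.node 3 (.node 1 (.leaf ⟨7, 5, true, [11, 34, 16, 20, 14, 6], [6, 16, 32, 26, 10, 43], [-68, -137, 26, -86, -101, -45, 26, -9, -18, -34, 9, 38, -14, 38, 13, 2, -9, -6, -15, -12, 2, 6, 2, -8, 0, 1, -2, 0, 9, 2, -2]⟩) (.node 1 (.leaf ⟨6, 7, true, [38, 19, 16, 26, 40, 34], [40, 38, 28, 25, 26], [-21, -215, -45, -146, -124, -75, 17, -29, -6, 7, -47, 28, -153, 21, 64, -15, 8, -7, -8, 3,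 -8, -22, -6, -13, 3, -2, 3, 0, 12, -3, 1]⟩) (.leaf ⟨7, 6, true, [8, 11, 25, 38, 35, 8], [6, 26, 36, 22, 11, 28], [23, 194, 35, 130, 86, 71, -16, 24, 7, -6, 45, -22, 137, -10, -60, 15, -7, 5, 7, -4, 8, 21, 5, 12, -3, 2, -3, 0, -11, 3, -1]⟩))) (.node 2 (.node 1 (.leaf ⟨5, 7, true, [11, 41, 11, 39, 32, 8], [6, 25, 29, 42, 42, 0], [54, -169, -156, -31, -306, 2, -5, -48, -10, 16, 6, 22, -49, 69, 77, 7, 9, -9, -12, -16, 5, -18, -6, -9, -1, 0, -1, 0, 6, 2, 2]⟩) (.leaf ⟨7, 5, true, [19, 21, 38, 0, 38, 11], [8, 25, 36, 40, 34, 16], [-40, 148, 134, 19, 264, -6, 2, 43, 11, -15, -12, -24, 33, -58, -73, -7, -8, 7, 11, 15, -5, 17, 5, 8, 1, 0, 1, 0, -5, -2, -2]⟩)) (.node 1 (.leaf ⟨6, 7, true, [40, 0, 22, 27, 36, 20, 25], [40, 16, 43, 29, 30, 21], [12, -228, -103, -118, -293, -34, 17, -40, -25, 23, -27,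 24, -123, 81, 47, -2, 7, -19, -15, -11, 0, -12, -6, -9, 0, 0, -1, 0, 12, -1, 3]⟩) (.leaf ⟨7, 6, true, [0, 38, 31, 37, 28, 26], [33, 26, 42, 22, 19, 32], [2, 207, 81, 106, 251, 30, -20, 35, 26, -22, 21, -26, 107, -70, -43, 2, -6, 17, 14, 10, 0, 11, 5, 8, 0, 0, 1, 0, -11, 1, -3]⟩)))) (.node 4 (.node 2 (.node 1 (.leaf ⟨6, 7, true, [28, 43, 43, 39, 18, 37], [0, 25, 37, 23, 43, 16], [14, -506, -172, -242, -620, -102, 53, -102, 20, -19, 35, 47, -199, 149, 162, 12, 1, -22, -34, -38, 7, -25, -11, -32, 1, -3, -7, 0, 25, 4, 2]⟩) (.leaf ⟨7, 6, true, [31, 41, 11, 21, 22, 43], [22, 13, 18, 37, 30, 35], [-38, 567, 238, 268, 770, 117, -35, 111, -25, 26, -25, -33, 244, -183, -183, -15, -1, 26, 39, 47, -9, 30, 11, 38, -1, 2, 6, 0, -29, -3, -4]⟩)) (.node 1 (.leaf ⟨5, 7, true, [38, 34, 39, 23, 2, 18], [6,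 20, 8, 33, 43, 2], [36, -145, -93, -74, -264, -7, 6, -44, 1, 11, 21, 19, -82, 53, 64, 6, 9, -7, -8, -12, 4, -13, -5, -8, 0, -3, -1, 0, 6, 1, 1]⟩) (.leaf ⟨7, 5, true, [11, 23, 39, 26, 16, 22], [18, 38, 31, 12, 8, 41], [-55, 228, 163, 118, 450, 26, 9, 58, -7, -5, -11, -15, 143, -98, -90, -9, -10, 13, 14, 22, -6, 19, 6, 15, 0, 2, 0, 0, -11, 0, -3]⟩))) (.node 2 (.node 1 (.leaf ⟨6, 7, true, [22, 11, 39, 31, 24], [6, 19, 31, 6, 29, 12], [36, 250, 51, 176, 328, 85, -12, 12, 5, 32, 12, -21, 122, -103, -20, -6, 12, 16, 26, 24, -4, -8, -5, 19, -3, -3, 3, 0, -17, -1]⟩) (.leaf ⟨7, 6, true, [34, 12, 23, 38, 37, 6], [25, 30, 0, 38, 10, 23], [-19, -309, -108, -205, -475, -100, -3, -21, 0, -39, -19, 13, -167, 137, 39, 9, -12, -20, -31, -33, 6, 3, 5, -25, 3, 4, -2, 0, 21, 0, 2]⟩)) (.node 1 (.leaf ⟨5,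 7, true, [39, 13, 19, 35, 41, 6], [22, 19, 35, 36, 34], [43, 246, 28, 158, 340, 59, -19, 41, 7, 76, -28, -33, 85, -86, -65, -7, 7, 10, 27, 30, -8, 4, -1, 16, 0, 2, 0, 0, -14, -7, 1]⟩) (.leaf ⟨7, 5, true, [29, 10, 23, 35, 27, 28], [21, 27, 41, 6, 32, 37], [-74, -163, 54, -118, -150, -40, 38, -27, -13, -70, 42, 45, -24, 41, 39, 4, -8, -4, -21, -20, 6, 2, 2, -9, 0, -3, -1, 0, 9, 8, -3]⟩))))) (.node 7 (.node 3 (.node 1 (.leaf ⟨6, 7, true, [19, 0, 12, 34, 32, 31, 14], [21, 34, 32, 30, 41, 13], [58, 158, -23, 120, 81, 66, -11, 2, 4, 22, -17, -5, 69, -47, -23, -1, 15, 7, 18, 14, -2, -9, -2, 11, -3, -3, 4, 0, -6, 3]⟩) (.node 1 (.leaf ⟨7, 6, true, [13, 41, 33, 0, 35, 20], [33, 2, 12, 37, 39, 41, 18], [-53, -179, 10, -135, -120, -70, 11, -7, -3, -21, 14, 9, -85, 58, 27, 1, -14, -9, -19, -15, 2,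 8, 1, -12, 3, 3, -4, 0, 7, -3]⟩) (.leaf ⟨6, 7, true, [28, 2, 28, 14, 27, 16], [38, 30, 12, 40, 19, 6], [38, 115, -7, 83, 8, 43, -22, -9, 15, 8, 37, -2, 16, -19, 28, 2, 5, 11, 8, -3, 4, -12, 0, 3, -2, -7, 1, 0, -3, 7, -2]⟩))) (.node 2 (.node 1 (.leaf ⟨7, 6, true, [0, 29, 36, 8, 42, 27], [8, 37, 23, 40, 18, 18], [-57, -32, 77, -39, 178, -24, 37, 23, -21, -2, -27, 6, 45, -26, -54, -5, -6, -5, -2, 13, -6, 18, 1, 4, 2, 6, -2, 0, -2, -6]⟩) (.leaf ⟨6, 7, true, [28, 21, 23, 39, 0], [38, 30, 42, 23, 24, 27], [-40, -42, 54, -66, -48, -38, 34, 16, 18, -13, -1, 15, -14, 21, -6, 6, -4, -8, -2, -4, -1, 9, 0, -3, -1, 0, -4, 0, 8, -5, -1]⟩)) (.node 1 (.leaf ⟨7, 6, true, [18, 26, 22, 35, 18, 13], [4, 38, 22, 20, 29], [15, 125, 22, 108, 236, 57, -17, -2, -24, 19, 13, -7, 75, -66, -20, -9, 3, 14, 8, 14,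 -1, -3, 1, 10, 1, -1, 3, 0, -13, 6, -1]⟩) (.leaf ⟨5, 7, true, [8, 42, 21, 28, 30, 8], [4, 37, 11, 34, 37], [105, -188, -182, -27, -299, -1, -21, -57, -42, 36, 3, 11, -110, 59, 59, 0, 10, -15, -16, -14, 3, -18, -3, -10, -1, 0, 5, 0, 7, 1, 3]⟩)))) (.node 4 (.node 2 (.node 1 (.leaf ⟨7, 5, true, [37, 14, 34, 14, 0], [18, 18, 14, 43, 8], [-132, 249, 251, 52, 450, 16, 40, 66, 37, -29, 8, 5, 155, -93, -80, -3, -10, 19, 21, 23, -5, 23, 3, 16, 1, -1, -6, 0, -11, 0, -5]⟩) (.leaf ⟨5, 7, true, [19, 8, 20, 40, 33], [36, 31, 43, 20, 40, 34], [-5, -26, -13, -37, -11, -5, -3, -12, -1, 16, -16, -1, -40, 0, 10, -3, 6, -4, 5, 6, -3, -3, -5, 1, 0, -2, 0, 0, 0, -4]⟩)) (.node 1 (.leaf ⟨7, 5, true, [25, 27, 40, 30, 35, 27], [0, 32, 13, 34, 16, 8], [-26, 109, 95, 77, 201, 24, 22, 26, -5, -10, 30, 13, 101, -45,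 -36, 0, -7, 10, 1, 4, 1, 9, 6, 6, 0, 1, -1, 0, -5, 5, -2]⟩) (.leaf ⟨7, 7, true, [37, 34, 33, 19, 22, 11], [6, 38, 43, 6, 41, 26], [-7, 188, 174, 92, 366, 19, 15, 37, 44, -8, 25, -23, 101, -93, -90, -4, -4, 11, 16, 20, -6, 34, 5, 11, 1, -5, 0, 0, -8, -3, -2]⟩))) (.node 2 (.node 1 (.leaf ⟨6, 7, true, [41, 2, 28, 20, 37, 27, 10], [12, 39, 4, 42, 21, 13], [1, -217, -64, -118, -213, -64, 16, -21, 10, 5, -33, 15, -82, 59, 29, -2, 3, -16, -12, -8, -3, -1, -3, -9, -2, -1, 1, 0, 11, -2, 1]⟩) (.leaf ⟨7, 6, true, [34, 38, 23, 25, 14], [30, 6, 27, 31, 39, 4, 6], [17, 136, -3, 73, 28, 45, -30, 7, -4, -11, 24, -17, 21, -14, -5, 5, -2, 10, 6, -2, 5, -5, 2, 2, 2, 2, 0, 0, -6, 1, 1]⟩)) (.node 1 (.leaf ⟨6, 7, true, [2, 10, 18, 34, 30, 0], [2, 10, 35, 42, 27, 10], [29, -26, -39, 2, -28, 23, 7, -3, 12, 19,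 6, 1, -11, 14, 24, 5, 6, -2, 2, -3, 2, -5, -2, 0, 0, 1, -5, 0, -2]⟩) (.leaf ⟨7, 6, true, [29, 2, 43, 34, 11, 23], [4, 31, 35, 19, 11, 2], [-12, -33, -18, -31, -119, -38, -22, -6, -7, -26, -13, -9, -34, 20, -5, -2, -6, -2, -7, -6, 0, 0, 2, -6, 0, 0, 6, 0, 6, -1, 2]⟩)))))) (.node 15 (.node 7 (.node 3 (.node 1 (.leaf ⟨6, 7, true, [37, 6, 29, 38, 23, 12, 28], [32, 2, 42, 16, 34, 29, 20], [-58, -397, -52, -254, -458, -101, 66, -63, 10, -22, 15, 64, -157, 125, 76, 9, 0, -27, -24, -25, 2, 0, -7, -22, -4, -1, -6, 0, 26, -2, -1]⟩) (.node 1 (.leaf ⟨7, 6, true, [26, 32, 31, 38, 18, 18], [19, 8, 19, 41, 22, 35, 22], [65, 360, 14, 238, 352, 90, -79, 59, -6, 14, -17, -72, 128, -102, -62, -6, -1, 25, 20, 17, 0, -4, 8, 17, 4, 2, 7, 0, -23, 1, 3]⟩) (.leaf ⟨6, 7, true, [2, 31, 18, 43, 29, 20], [32, 41,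 22, 34, 0, 40], [-16, 96, 89, 24, 234, 13, 6, 20, -1, 14, -14, -12, 12, -55, -30, -6, 0, 4, 9, 21, -7, 2, -2, 9, 0, 1, -1, 0, -6, -2, -2]⟩))) (.node 2 (.node 1 (.leaf ⟨7, 6, true, [23, 8, 41, 26, 14, 8], [4, 21, 21, 38, 38, 19], [29, -133, -133, -38, -342, -24, -21, -24, 5, -22, 10, 0, -41, 78, 44, 9, -1, -6, -13, -29, 9, -6, 3, -14, 0, 0, 2, 0, 9, 1, 4]⟩) (.leaf ⟨6, 7, true, [33, 42, 36, 33, 42, 10], [33, 33, 40, 35, 22, 21], [15, -163, -156, -97, -362, -36, -29, -22, -4, 25, -50, 29, -112, 63, 85, 1, 10, -11, -10, -12, 2, -23, -7, -9, -2, 3, -2, 0, 6, 1, -1]⟩)) (.node 1 (.leaf ⟨7, 6, true, [23, 0, 25, 34, 18, 38, 22], [6, 31, 20, 38, 40, 24], [18, 44, 42, 39, 68, 6, -1, 4, 14, -39, 36, -45, 22, 5, -46, 5, -10, 3, 0, -6, 2, 13, 7, -3, 2, -1, 4, 0, 2, -3, 5]⟩) (.leaf ⟨6, 7, true, [34,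 28, 42, 29, 43, 4], [23, 0, 19, 14, 38, 35, 24], [40, -117, -63, -54, -225, -14, 6, -24, 8, -14, -11, 7, -50, 50, 13, 8, 3, -10, -10, -11, 3, 2, 0, -6, -1, 0, -1, 0, 7, 4, -1]⟩)))) (.node 4 (.node 2 (.node 1 (.leaf ⟨7, 6, true, [2, 39, 39, 11, 29, 6], [0, 42, 28, 43, 29, 35], [-29, 96, 44, 41, 184, 10, -8, 19, -7, 15, 6, -7, 34, -39, -9, -8, -2, 8, 9, 10, -3, -3, -1, 5, 1, 0, 1, 0, -6, -4, 1]⟩) (.leaf ⟨7, 6, true, [10, 32, 2, 18, 29, 25], [38, 19, 12, 37, 31, 24], [-82, -35, 116, -39, 134, -24, 36, 6, -9, -43, 25, 26, 53, -28, -3, -5, -9, 2, -7, 1, -1, 12, 2, 1, -2, -2, -1, 0, 0, 1, -3]⟩)) (.node 1 (.leaf ⟨6, 7, true, [25, 34, 11, 23, 37, 14], [36, 23, 40, 21, 19, 13], [81, 37, -115, 38, -133, 24, -36, -5, 9, 43, -25, -27, -51, 28, 2, 5, 9, -2, 7, -1, 1, -12, -2, -1, 2, 2, 1, 0, 0, -1,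 3]⟩) (.leaf ⟨7, 5, true, [39, 18, 23, 38, 18, 35], [38, 0, 24, 8, 42, 19, 21], [-39, -207, -71, -164, -398, -89, -11, -13, 24, -69, -21, 3, -117, 114, 60, 10, -12, -10, -23, -32, 8, 0, 1, -21, 5, 3, -5, 0, 14, 1, -1]⟩))) (.node 2 (.node 1 (.leaf ⟨5, 7, true, [11, 33, 33, 6, 38, 22], [25, 33, 25, 36, 19, 26], [38, 208, 76, 161, 399, 89, 12, 14, -25, 67, 22, -3, 117, -114, -61, -10, 12, 10, 23, 32, -8, 0, -1, 21, -5, -3, 5, 0, -14, -1, 1]⟩) (.leaf ⟨7, 6, true, [25, 41, 13, 37, 23, 39], [34, 2, 43, 36, 18, 2, 23], [-40, 368, 185, 213, 609, 91, 6, 57, -15, 17, 31, -23, 214, -141, -89, -6, -5, 25, 28, 30, -4, 13, 5, 21, 1, 0, -1, 0, -21, 0, -2]⟩)) (.node 1 (.leaf ⟨7, 6, true, [22, 14, 26, 37, 26, 30], [23, 19, 42, 22, 41, 13], [-20, 197, 64, 111, 339, 49, -9, 56, -52, 37, -44, -5, 114, -51,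 -89, -10, 0, 4, 16, 22, -5, 11, 2, 19, 3, 7, 1, 0, -13, -6, -3]⟩) (.leaf ⟨7, 6, true, [11, 29, 11, 2, 31, 25], [34, 42, 34, 33, 39, 20], [0, -17, -31, -2, -28, 35, 8, -14, -19, -7, 26, 19, 31, 15, 36, 7, 5, 3, 2, -6, 5, -8, -4, -1, -2, 2, -6, 0, -1, 4, -1]⟩))))) (.node 8 (.node 4 (.node 2 (.node 1 (.leaf ⟨6, 7, true, [10, 28, 41, 25, 12, 24], [18, 24, 41, 42, 42, 21], [1, 19, 31, 2, 28, -35, -8, 14, 19, 7, -26, -19, -33, -15, -37, -7, -5, -3, -2, 6, -5, 8, 4, 1, 2, -2, 6, 0, 1, -4, 1]⟩) (.leaf ⟨7, 6, true, [42, 8, 41, 10, 28, 25], [34, 2, 37, 24, 38, 23, 2], [-54, 45, 114, -14, 141, -13, 4, 19, 31, -44, 21, -1, 38, -38, -24, -2, -8, 6, 3, 6, -2, 12, 3, 0, -2, -4, 2, 0, -2, 2, -2]⟩)) (.node 1 (.leaf ⟨6, 7, true, [14, 43, 21, 13, 21, 2], [26, 43, 30, 43, 32, 29], [55, -43, -114, 14, -141,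 13, -4, -19, -31, 44, -21, 1, -40, 38, 23, 2, 8, -6, -3, -6, 2, -12, -3, 0, 2, 4, -2, 0, 2, -2, 2]⟩) (.leaf ⟨7, 6, true, [14, 38, 21, 33, 27, 6], [40, 4, 21, 38, 8, 6, 19], [-5, -313, -201, -147, -574, -48, 4, -20, -36, -25, -36, 30, -78, 147, 73, 15, -2, -21, -29, -42, 11, -10, 2, -22, -2, 10, -2, 0, 19, 0, 1]⟩))) (.node 2 (.node 1 (.leaf ⟨6, 7, true, [20, 4, 18, 41, 31, 24, 27], [41, 16, 43, 25, 35, 16], [6, 315, 201, 147, 574, 48, -4, 20, 36, 25, 36, -30, 76, -147, -74, -15, 2, 21, 29, 42, -11, 10, -2, 22, 2, -10, 2, 0, -19, 0, -1]⟩) (.leaf ⟨7, 6, true, [39, 0, 19, 13, 34, 19, 20], [39, 2, 19, 38, 36, 26, 20], [-61, 103, 132, -10, 236, -19, 19, 26, 16, 9, -17, 38, 20, -69, -42, -13, -2, 4, 7, 21, -8, 9, 4, 9, -3, -1, -1, 0, -4, -1, -4]⟩)) (.node 1 (.leaf ⟨6, 7, true, [19, 42, 41, 21,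 27, 10], [32, 6, 22, 16, 41, 18, 11], [60, -101, -131, 9, -235, 19, -19, -25, -16, -9, 17, -39, -18, 69, 41, 13, 2, -4, -7, -21, 8, -9, -4, -9, 3, 1, 1, 0, 4, 1, 4]⟩) (.leaf ⟨7, 6, true, [31, 11, 21, 2, 21, 12], [12, 0, 11, 25, 35, 20, 28], [-32, 82, 56, 69, 161, 24, 17, 4, 0, 5, 32, 19, 82, -45, 1, -3, 1, 9, 8, 6, 0, -3, 0, 5, -2, -3, -1, 0, -3, 3, -3]⟩)))) (.node 4 (.node 2 (.node 1 (.leaf ⟨6, 7, true, [23, 6, 18, 43, 18, 31, 10], [22, 30, 43, 41, 16, 27], [33, -80, -56, -69, -161, -24, -17, -4, 0, -5, -32, -19, -84, 45, -2, 3, -1, -9, -8, -6, 0, 3, 0, -5, 2, 3, 1, 0, 3, -3, 3]⟩) (.leaf ⟨7, 6, true, [11, 24, 16, 38, 42, 28], [10, 31, 18, 39, 25, 42], [70, -239, -191, -102, -503, -47, 5, -65, 26, -30, 28, -15, -131, 115, 91, 15, 0, -10, -21, -38, 12, -16, -3, -20, 1, 0, -1, 0, 15, 5,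 2]⟩)) (.node 1 (.leaf ⟨6, 7, true, [35, 2, 39, 32, 42, 8, 2], [4, 29, 42, 14, 21, 12], [-71, 242, 192, 101, 504, 47, -5, 66, -26, 30, -28, 14, 131, -115, -92, -15, 0, 10, 21, 38, -12, 16, 3, 20, -1, 0, 1, 0, -15, -5, -2]⟩) (.leaf ⟨7, 6, true, [11, 11, 42, 42, 42, 25], [19, 42, 20, 6, 24, 2], [-107, -274, 36, -180, -143, -117, 60, 2, -20, -27, -22, 41, -85, 72, 2, -3, -16, -19, -27, -14, -2, 23, 3, -16, -1, 0, -4, 0, 19, -2, -1]⟩))) (.node 2 (.node 1 (.leaf ⟨6, 7, true, [11, 39, 36, 35, 24, 31], [39, 19, 39, 6, 21, 25], [106, 276, -35, 179, 144, 117, -60, -1, 20, 27, 22, -42, 87, -72, -3, 3, 16, 19, 27, 14, 2, -23, -3, 16, 1, 0, 4, 0, -19, 2, 1]⟩) (.leaf ⟨7, 6, true, [0, 43, 43, 35, 23, 8], [40, 35, 43, 40, 32, 42], [42, -60, -111, 1, -188, -15, -27, 5, -1, -4, -27, -21, -16, 58, 15, 6,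 -2, -4, -6, -12, 3, -3, 1, -6, 0, 6, -2, 0, 5, -4, 3]⟩)) (.node 1 (.leaf ⟨6, 7, true, [10, 29, 37, 6, 28, 32], [37, 24, 26, 41, 27, 25], [-41, 60, 111, -1, 188, 15, 27, -5, 1, 4, 27, 21, 18, -58, -16, -6, 2, 4, 6, 12, -3, 3, -1, 6, 0, -6, 2, 0, -5, 4, -3]⟩) (.leaf ⟨7, 6, true, [30, 34, 28, 24, 6], [28, 35, 23, 21, 39, 30], [-7, 144, 53, 106, 221, 51, 1, 14, 0, -2, 47, 0, 98, -62, 12, 0, 3, 15, 12, 8, 2, -7, 0, 9, -1, -5, -2, 0, -12, 4, -1]⟩)))))))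
noncomputable def dF2796 : BT Fct := (.node 30 (.node 15 (.node 7 (.node 3 (.node 1 (.leaf ⟨6, 7, true, [4, 24, 11, 36, 30, 20], [43, 24, 4, 39, 35, 25], [6, -141, -52, -107, -220, -51, -1, -13, 0, 2, -47, -1, -98, 62, -13, 0, -3, -15, -12, -8, -2, 7, 0, -9, 1, 5, 2, 0, 12, -4, 1]⟩) (.node 1 (.leaf ⟨7, 6, true, [19, 2, 25, 33, 35, 16, 21], [38, 6, 21, 25, 2, 14, 29], [-34, 181, 110, 81, 242, 28, -5, 39, 10, -23, 20, -24, 105, -59, -62, 1, -7, 13, 11, 7, 0, 22, 6, 8, 0, 0, 3, 0, -9, -3, -1]⟩) (.leaf ⟨7, 6, true, [29, 29, 8, 38, 22, 22], [12, 11, 27, 43, 29, 40], [39, 38, -21, 48, 0, 1, -35, 16, 17, -27, 14, -41, 22, -2, -15, 5, -6, 6, -2, -10, 4, 4, 6, 1, 5, 2, 0, 0, -3, -2, 3]⟩))) (.node 2 (.node 1 (.leaf ⟨6, 7, true, [0, 12, 38, 19, 22, 28], [32, 2, 38, 30, 21, 34, 8], [-38, -38, 21,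 -48, 0, -1, 35, -16, -17, 27, -14, 41, -20, 2, 14, -5, 6, -6, 2, 10, -4, -4, -6, -1, -5, -2, 0, 0, 3, 2, -3]⟩) (.leaf ⟨7, 6, true, [2, 10, 33, 39, 36, 6], [16, 0, 22, 39, 21, 30, 8], [51, -253, -187, -74, -452, -34, -6, -51, -5, -12, 18, 8, -92, 110, 97, 11, -1, -10, -24, -34, 10, -20, -1, -21, -1, 3, -1, 0, 13, 5, 3]⟩)) (.node 1 (.leaf ⟨6, 7, true, [29, 32, 14, 42, 29, 29], [35, 40, 38, 31, 11, 2], [-50, 253, 187, 74, 452, 34, 6, 51, 5, 12, -18, -8, 94, -110, -98, -11, 1, 10, 24, 34, -10, 20, 1, 21, 1, -3, 1, 0, -13, -5, -3]⟩) (.leaf ⟨7, 5, true, [40, 20, 40, 4, 41, 20], [13, 38, 18, 21, 0], [-18, -30, 7, -32, -67, -18, -16, 0, 14, -32, 25, -14, -23, 18, 22, 4, -6, 2, -5, -9, 3, -2, 2, -6, -1, 0, 0, 0, 2, 0, 1]⟩)))) (.node 4 (.node 2 (.node 1 (.leaf ⟨5, 7, true, [42, 35, 4, 40, 0], [41,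 2, 10, 27, 42, 41, 11], [23, 64, -1, 54, 105, 29, 14, 4, -15, 35, -24, 11, 40, -27, -28, -4, 7, 0, 8, 11, -3, 2, -2, 8, 1, 0, 0, 0, -4, 0, -1]⟩) (.leaf ⟨7, 6, true, [43, 6, 33, 2, 40, 30], [8, 2, 24, 10, 28, 41, 29], [37, 37, -127, 93, -118, 14, -49, 18, -13, -10, -2, -36, 46, 26, 26, 9, -6, 4, 0, -17, 8, -9, 5, -4, 3, 0, 0, 0, -2, -3, 1]⟩)) (.node 1 (.leaf ⟨6, 7, true, [20, 0, 29, 43, 24, 27, 12], [31, 0, 41, 41, 28, 42, 11], [-38, -34, 128, -94, 119, -14, 49, -17, 13, 10, 2, 35, -46, -26, -27, -9, 6, -4, 0, 17, -8, 9, -5, 4, -3, 0, 0, 0, 2, 3, -1]⟩) (.leaf ⟨7, 6, true, [25, 31, 40, 27, 14, 10], [20, 23, 38, 25, 35, 8], [-114, 151, 236, 35, 422, 12, 55, 67, -3, -18, -12, 19, 166, -88, -99, -7, -6, 8, 11, 28, -9, 33, 5, 17, -4, 3, -2, 0, -8, -2, -7]⟩))) (.node 2 (.node 1 (.leaf ⟨6, 7,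 true, [13, 21, 37, 28, 19, 32], [10, 26, 6, 2, 27, 18], [113, -148, -235, -36, -421, -12, -55, -66, 3, 18, 12, -20, -166, 88, 98, 7, 6, -8, -11, -28, 9, -33, -5, -17, 4, -3, 2, 0, 8, 2, 7]⟩) (.leaf ⟨7, 6, true, [36, 13, 29, 36, 21], [22, 20, 42, 35, 20, 26, 30], [-31, 83, 105, 30, 257, 26, 35, 7, -1, 11, 21, 16, 78, -50, -36, -4, -2, 6, 8, 17, -4, 11, -1, 12, 0, -3, -3, 0, -7, 2, -5]⟩)) (.node 1 (.leaf ⟨6, 7, true, [4, 0, 6, 21, 39, 24, 18], [35, 42, 8, 29, 43, 28], [30, -81, -104, -31, -256, -26, -35, -6, 1, -11, -21, -17, -76, 50, 35, 4, 2, -6, -8, -17, 4, -11, 1, -12, 0, 3, 3, 0, 7, -2, 5]⟩) (.leaf ⟨6, 7, true, [40, 8, 21, 25], [40, 11, 11, 30, 43, 34], [20, -137, -131, -52, -297, -29, 5, -37, -1, 9, 10, 18, -87, 60, 69, 6, 0, -6, -5, -18, 5, -19, -4, -12, -1, -5, -2, 0, 11, 1, 2]⟩)))))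 (.node 7 (.node 3 (.node 1 (.leaf ⟨7, 6, true, [0, 35, 39, 19, 24, 31], [22, 18, 16, 41], [-18, 116, 121, 36, 259, 25, -4, 32, 2, -8, -12, -12, 71, -49, -65, -6, 1, 4, 4, 17, -5, 18, 3, 11, 1, 5, 2, 0, -10, -1, -2]⟩) (.node 1 (.leaf ⟨6, 7, true, [23, 20, 10, 40, 42, 14], [10, 32, 43, 25, 11], [26, -27, -34, -11, -38, -10, 0, -4, 2, 24, -24, -4, -45, 16, 2, -1, 3, -3, 1, 3, -2, 2, -3, -1, 0, -1, 0, 0, 1, -3, 2]⟩) (.leaf ⟨7, 6, true, [28, 11, 25, 43, 24, 32], [42, 2, 39, 32, 43, 27], [-54, 110, 113, 52, 227, 29, 18, 18, -8, -18, 37, 14, 106, -61, -28, -2, -4, 9, 5, 7, 0, 4, 4, 8, 0, 0, -1, 0, -6, 4, -4]⟩))) (.node 2 (.node 1 (.leaf ⟨6, 7, true, [29, 38, 43, 38, 18, 0], [25, 40, 40, 10, 26, 26], [-6, -210, -65, -125, -271, -59, 21, -27, 13, -15, -18, 23, -90, 72, 39, 2, -1, -13, -17, -15,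 1, -3, -2, -14, 2, 1, -1, 0, 14, 1, -1]⟩) (.leaf ⟨7, 6, true, [13, 28, 36, 25, 30, 16], [4, 19, 39, 42, 39, 28], [14, 189, 49, 111, 231, 55, -22, 22, -12, 16, 14, -21, 74, -61, -35, -2, 2, 11, 16, 14, -1, 2, 1, 13, -2, -1, 1, 0, -13, -1, 1]⟩)) (.node 1 (.leaf ⟨5, 7, true, [6, 10, 37, 40, 23, 28], [0, 11, 34, 18, 16, 21], [45, 129, -55, 103, 59, 42, -25, -3, -15, 22, 5, -8, 49, -22, 6, -1, 2, 7, 9, 5, 0, -10, 1, 4, -1, 1, 3, 0, -6, -2, -2]⟩) (.leaf ⟨7, 5, true, [8, 29, 40, 30, 21, 4], [23, 41, 33, 36, 18, 29], [-27, -210, -12, -148, -244, -61, 11, -11, 21, -28, -14, 6, -110, 67, 18, 4, -1, -13, -15, -15, 2, 4, -2, -11, 1, 0, -2, 0, 11, 1, 4]⟩)))) (.node 4 (.node 2 (.node 1 (.leaf ⟨6, 7, true, [6, 43, 33, 6, 22, 14], [43, 8, 36, 25, 23], [1, -38, -30, -41, -94, -11, 4, 10, 12, -8, -15,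 -3, -23, 25, 15, 5, 1, -4, -3, -4, 1, -1, -2, -2, 1, 3, -3, 0, 1, -1, -1]⟩) (.leaf ⟨7, 6, true, [23, 36, 8, 42, 8, 20], [2, 11, 41, 19, 39, 6], [19, -21, -30, 13, -54, -4, -20, -19, -7, 1, 7, -7, -22, 9, 4, -2, -1, 0, -2, -5, 1, -4, 2, -4, -1, -2, 4, 0, 3, 0, 3]⟩)) (.node 1 (.leaf ⟨6, 7, true, [13, 31, 35, 39, 36, 23], [35, 27, 10, 12, 21], [52, -9, -68, 15, -105, -2, -7, -20, 18, 10, -4, -2, -35, 7, 20, 1, 4, 1, 0, -1, 1, -7, -3, -1, -1, 1, 1, 0, -1, 1, 1]⟩) (.leaf ⟨7, 6, true, [10, 13, 36, 29, 37, 26], [22, 40, 8, 34, 11, 30], [-76, 108, 166, 29, 359, 28, 36, 33, -27, 5, 14, 20, 109, -64, -56, -7, -3, 5, 9, 18, -5, 16, 2, 12, 1, -3, -3, 0, -6, 1, -5]⟩))) (.node 2 (.node 1 (.leaf ⟨6, 7, true, [27, 37, 21, 34, 22, 16], [2, 12, 29, 6, 28, 8], [-37, -90, 1, -118, -178, -16, 14, -44, 26,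 -51, 52, 25, -74, 31, 79, 4, -1, 1, -9, -11, 4, -16, -2, -11, -2, -5, 0, 0, 5, 5, -3]⟩) (.leaf ⟨7, 6, true, [35, 14, 39, 34, 20, 20], [26, 24, 32, 6, 42, 11], [50, 53, -45, 104, 70, 5, -29, 40, -22, 43, -56, -37, 45, -8, -65, -1, 0, -3, 5, 3, -2, 12, 3, 6, 2, 6, 1, 0, -2, -6, 5]⟩)) (.node 1 (.leaf ⟨6, 7, true, [30, 25, 0, 43, 29, 14], [0, 35, 10, 12, 23, 28], [85, 130, -96, 139, 115, 58, -12, 20, -3, 69, -40, -30, 56, -20, -26, 3, 8, 4, 22, 15, -2, -5, -3, 8, 1, 4, -4, 0, -10, -5, 1]⟩) (.leaf ⟨7, 6, true, [4, 39, 28, 2, 19, 24], [26, 35, 25, 12, 6, 4], [-81, -167, 61, -156, -220, -69, 0, -24, 7, -77, 39, 24, -85, 43, 40, 0, -9, -6, -26, -23, 4, 1, 4, -13, -1, -3, 5, 0, 13, 4, 1]⟩)))))) (.node 15 (.node 7 (.node 3 (.node 1 (.leaf ⟨6, 7, true, [2, 38, 38, 27, 10, 16], [2, 33, 6, 25, 12,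 8], [-1, -10, -37, -2, -94, -12, -2, 4, -6, 3, 2, 0, -19, 21, 5, 2, -3, -5, -2, -7, 1, 1, 0, -2, 1, 0, 0, 0, 1, -3, 1]⟩) (.node 1 (.leaf ⟨7, 6, true, [10, 21, 42, 31, 14, 24], [30, 4, 30, 26, 42, 29, 11], [-20, 71, 100, 29, 243, 27, 19, 5, 1, 4, 7, 12, 64, -55, -26, -5, 3, 9, 7, 16, -3, 4, 0, 8, -1, -1, -1, 0, -5, 4, -3]⟩) (.leaf ⟨5, 7, true, [33, 0, 43, 20, 8], [40, 25, 40, 36, 40], [18, -35, -45, 0, -64, -3, -5, -1, -4, 12, -16, -1, -16, 20, 14, 1, 1, -3, -1, -2, 0, -3, -3, -1, 0, 0, 0, 0, 0, -1, 1]⟩))) (.node 2 (.node 1 (.leaf ⟨7, 5, true, [20, 18, 42, 29, 31, 2], [37, 29, 16, 33, 35, 4], [-30, 96, 99, 30, 210, 18, 19, 10, -1, -5, 22, 7, 61, -54, -35, -4, -1, 7, 6, 11, -2, 8, 3, 7, 0, -1, -1, 0, -4, 2, -3]⟩) (.leaf ⟨4, 7, true, [34, 20, 30, 26, 2, 22], [40, 43, 40, 10, 20], [84, -350,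 -269, -154, -536, -42, -2, -72, -13, 64, -34, 35, -257, 139, 131, 5, 15, -23, -19, -21, 5, -43, -16, -15, 2, 1, -7, 0, 12, 2, 9]⟩)) (.node 1 (.leaf ⟨7, 4, true, [12, 29, 10, 36, 28, 20], [32, 20, 42, 19, 38, 8], [-64, 291, 209, 126, 388, 27, -14, 63, 18, -71, 26, -45, 212, -105, -112, -2, -15, 19, 14, 12, -3, 38, 16, 9, -2, 0, 8, 0, -8, -3, -7]⟩) (.leaf ⟨6, 7, true, [2, 11, 30, 12, 35, 0], [30, 32, 39, 35, 19, 40], [43, -73, -54, -39, -141, -34, 12, -1, 2, 22, -52, 16, -69, 38, -24, -3, 3, -12, -2, 0, -3, 5, -3, -2, 0, 1, 1, 0, 9, -2, 1]⟩)))) (.node 4 (.node 2 (.node 1 (.leaf ⟨7, 6, true, [22, 35, 10, 33, 39, 14], [4, 34, 31, 13, 10, 2], [-56, 90, 91, 36, 212, 41, 5, 0, -5, -13, 55, 4, 82, -50, 13, 0, -1, 12, 5, 7, 1, -2, 1, 6, 0, -2, -2, 0, -11, 3, -3]⟩) (.leaf ⟨6, 7, true, [12, 36,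 39, 22, 41, 2], [8, 31, 2, 27, 28, 12], [10, -14, 3, -20, -25, -4, 12, -3, 8, 0, -4, -7, -4, 9, 5, 3, 1, 0, -1, -1, 0, 1, 0, -1, 0, 3, -3, 0, 1, 0, -1]⟩)) (.node 1 (.leaf ⟨7, 6, true, [6, 37, 42, 29, 13, 22], [13, 33, 22, 18, 2, 28], [-22, 75, 51, 50, 171, 19, 2, 12, -13, 7, 10, 13, 49, -43, -26, -6, -1, 4, 6, 10, -2, 4, 0, 7, 0, -4, 2, 0, -5, 1, -1]⟩) (.leaf ⟨6, 7, true, [14, 30, 25, 2, 33, 21], [2, 0, 32, 36, 21, 10, 8], [-29, 68, 50, 10, 157, -2, 10, 23, 7, -2, -31, -16, 51, -24, -30, -4, -1, 1, 4, 15, -6, 10, 1, 5, -4, 4, 0, 0, -1, -5, -3]⟩))) (.node 2 (.node 1 (.leaf ⟨7, 6, true, [37, 31, 6, 40, 29, 31], [24, 31, 34, 42, 35, 16], [72, -209, -183, -81, -492, -32, -42, -46, 4, -11, 12, 0, -157, 103, 74, 10, 2, -11, -15, -34, 10, -21, -2, -18, 4, -2, 2, 0, 10, 3, 7]⟩) (.leaf ⟨7, 6,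 true, [6, 29, 13, 37, 14, 26], [23, 18, 41, 31, 32], [22, -281, -254, -93, -618, -39, -33, -78, -39, -10, 22, 36, -170, 147, 160, 11, 3, -9, -24, -45, 14, -38, -7, -26, 0, -9, 0, 0, 20, 4, 8]⟩)) (.node 1 (.leaf ⟨6, 7, true, [0, 30, 41, 21, 19, 24], [13, 19, 39, 27, 18, 12], [-21, 281, 254, 93, 618, 39, 33, 78, 39, 10, -22, -36, 172, -147, -161, -11, -3, 9, 24, 45, -14, 38, 7, 26, 0, 9, 0, 0, -20, -4, -8]⟩) (.leaf ⟨7, 6, true, [13, 20, 42, 42, 33, 6], [24, 2, 34, 41, 29, 42, 18], [26, -122, -173, -41, -284, -28, -39, -39, -44, 35, -38, 19, -126, 57, 50, -9, 5, -10, -8, -7, 0, -23, -7, -9, 1, -3, 8, 0, 5, -2, 7]⟩))))) (.node 8 (.node 4 (.node 2 (.node 1 (.leaf ⟨6, 7, true, [23, 0, 33, 40, 11, 33, 21], [18, 10, 33, 2, 28, 8], [-25, 122, 173, 41, 284, 28, 39, 39, 44, -35, 38, -19, 128, -57,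 -51, 9, -5, 10, 8, 7, 0, 23, 7, 9, -1, 3, -8, 0, -5, 2, -7]⟩) (.leaf ⟨7, 6, true, [38, 0, 33, 2, 20, 8, 18], [22, 43, 26, 32], [-61, -354, -72, -263, -379, -135, 10, -23, 19, -7, -67, 8, -195, 109, 37, 0, -12, -22, -32, -22, -1, 17, 1, -22, 3, 2, -4, 0, 19, -5, 1]⟩)) (.node 1 (.leaf ⟨6, 7, true, [2, 36, 22, 39, 32, 6], [32, 42, 39, 26, 41, 12], [60, 356, 73, 262, 380, 135, -10, 24, -19, 7, 67, -9, 197, -109, -38, 0, 12, 22, 32, 22, 1, -17, -1, 22, -3, -2, 4, 0, -19, 5, -1]⟩) (.leaf ⟨7, 5, true, [6, 20, 8, 35, 27, 19], [40, 32, 24, 8, 43, 4], [24, 10, 0, 63, 141, 47, 51, -3, 0, 52, 34, -3, 68, -39, 1, 3, 7, 5, 4, 5, 2, 0, -5, 9, 1, -5, -5, 0, -4, 6]⟩))) (.node 2 (.node 1 (.leaf ⟨5, 7, true, [2, 14, 35, 16, 22, 14], [35, 0, 39, 32, 41, 29, 23], [-20, -39, -19, -76, -187, -58, -51, 0, 3,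 -51, -37, 3, -85, 48, 3, -3, -8, -7, -7, -7, -2, 0, 5, -11, -1, 5, 5, 0, 6, -6]⟩) (.leaf ⟨7, 6, true, [20, 40, 16, 43, 36, 18], [20, 2, 26, 13, 27, 43, 30], [68, -304, -277, -53, -506, -40, -37, -60, -23, 29, 11, -4, -160, 128, 120, 10, 3, -13, -19, -41, 13, -25, -7, -21, 0, -6, -5, 0, 15, 4, 10]⟩)) (.node 1 (.leaf ⟨6, 7, true, [25, 2, 19, 38, 18, 28], [33, 0, 39, 30, 35, 20, 22], [-67, 306, 277, 53, 506, 40, 37, 60, 23, -29, -11, 4, 158, -128, -121, -10, -3, 13, 19, 41, -13, 25, 7, 21, 0, 6, 5, 0, -15, -4, -10]⟩) (.leaf ⟨7, 4, true, [37, 19, 2, 22, 42, 23], [4, 14, 30, 38, 20, 22], [40, -294, -197, -132, -401, -28, -2, -64, -15, 51, -9, 40, -200, 104, 119, 3, 12, -17, -16, -18, 5, -40, -13, -12, 1, 1, -7, 0, 9, 3, 7]⟩)))) (.node 4 (.node 2 (.node 1 (.leaf ⟨4, 7, true, [13, 30, 28, 2,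 25, 31], [6, 31, 18, 37, 31, 18], [-33, 274, 182, 120, 362, 24, 2, 59, 16, -49, 4, -37, 185, -95, -115, -3, -11, 15, 15, 17, -5, 39, 12, 11, -1, -1, 7, 0, -8, -3, -7]⟩) (.leaf ⟨7, 3, true, [36, 43, 28, 2, 21, 28], [0, 24, 30, 6, 42, 10], [-3, 8, -27, 26, -46, 14, -15, -21, -29, 8, 19, 7, -26, 5, 21, -1, 0, 4, -1, -5, 3, -6, 1, -1, -1, -8, 2, 0, 0, 3, 3]⟩)) (.node 1 (.leaf ⟨7, 5, true, [41, 32, 21, 18, 41, 11], [14, 4, 18, 38, 19, 8, 0], [-1, -178, -63, -99, -264, -42, -17, -25, 26, -28, 14, -13, -105, 66, 50, 7, 0, -9, -15, -21, 5, -7, -1, -13, 0, -1, 0, 0, 8, 1, 6]⟩) (.leaf ⟨5, 7, true, [35, 24, 18, 40, 40, 26], [21, 29, 40, 38, 42, 38], [2, 148, 50, 82, 221, 31, 18, 22, -24, 27, -16, 14, 88, -57, -46, -7, -1, 7, 12, 19, -5, 7, 1, 11, 0, 1, 0, 0, -6, -1, -6]⟩))) (.node 2 (.node 1 (.leaf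 ⟨6, 7, true, [8, 16, 41, 29, 32, 18], [35, 31, 23, 11, 37, 6], [59, -196, -175, -15, -338, -21, 0, -40, -7, 11, 3, -5, -34, 88, 71, 10, 1, -8, -18, -28, 8, -12, 0, -17, 0, 6, -2, 0, 10, 2, 2]⟩) (.leaf ⟨7, 6, true, [35, 27, 11, 42, 33, 38], [31, 20, 28, 34, 34, 37], [-10, 55, 36, -54, 1, -13, -34, 17, 18, -24, -24, -15, -72, -9, -27, -4, 0, -2, 7, 9, -4, 1, -1, 4, 0, -4, 4, 0, -1, -4, 2]⟩)) (.node 1 (.leaf ⟨6, 7, true, [41, 12, 41, 20, 43, 6], [42, 33, 42, 30, 33, 13], [42, -108, -97, 14, -92, 14, 13, -10, -34, 50, -10, -20, -2, 36, -22, 8, 5, -15, -4, -6, 0, 9, 0, -2, -1, 4, 0, 0, 7, -7, 3]⟩) (.leaf ⟨7, 6, true, [23, 0, 37, 40, 6, 27, 19], [28, 38, 13, 21, 0, 40], [-79, 229, 217, 42, 388, 16, 19, 28, 24, -36, 26, 40, 92, -104, -19, -14, -5, 23, 14, 24, -4, 1, 0, 14, 1, -6, -2, 0, -15,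 9, -7]⟩)))))))
noncomputable def dF2857 : BT Fct := (.node 30 (.node 15 (.node 7 (.node 3 (.node 1 (.leaf ⟨5, 7, true, [38, 40, 11, 33, 2, 41], [21, 32, 35, 32, 32, 10], [58, 525, 9, 418, 642, 122, -23, 88, -45, 124, -26, -74, 259, -165, -140, -17, 5, 21, 38, 51, -11, 7, 5, 33, -3, 5, 5, 0, -26, -9, 5]⟩) (.node 1 (.leaf ⟨7, 5, true, [0, 42, 29, 14, 13, 11], [40, 2, 32, 42, 12, 39], [-73, -464, 48, -389, -495, -107, 38, -79, 40, -117, 33, 82, -214, 131, 119, 14, -5, -17, -33, -42, 9, -2, -5, -27, 3, -6, -6, 0, 22, 10, -7]⟩) (.leaf ⟨6, 7, true, [13, 43, 19, 11, 6], [33, 42, 25, 38, 16, 39], [7, -14, 43, -19, 33, -41, 9, 4, 12, -14, -15, -6, -43, -6, -24, -6, -9, -2, -8, 4, -3, 7, 4, 1, 4, -2, 0, 0, 3, 0, -2]⟩))) (.node 2 (.node 1 (.leaf ⟨7, 6, true, [0, 43, 32, 2, 28, 18], [20, 18, 39,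 36, 6], [23, -105, -154, -40, -326, 11, -38, -22, -2, 0, 2, -8, -47, 74, 63, 12, 9, -6, -2, -22, 7, -17, -4, -13, -4, 4, 2, 0, 5, -2, 6]⟩) (.leaf ⟨6, 7, true, [34, 41, 21, 24, 32, 4], [40, 35, 22, 24, 34, 34], [123, 381, 98, 318, 770, 100, -9, 72, -8, 123, -42, -65, 200, -184, -177, -19, 7, 19, 33, 56, -16, 15, 6, 32, 4, 10, 5, 0, -23, -3, 1]⟩)) (.node 1 (.leaf ⟨7, 6, true, [40, 33, 35, 31, 19, 25], [24, 27, 32, 40, 35, 2], [-151, -298, -19, -277, -581, -81, 27, -58, 2, -117, 55, 75, -139, 139, 151, 16, -8, -13, -27, -46, 14, -9, -5, -25, -4, -11, -6, 0, 18, 4, -3]⟩) (.leaf ⟨7, 7, true, [2, 19, 42, 22, 41, 22], [23, 34, 13, 19, 42, 13], [-71, 258, 249, 128, 593, 40, 51, 91, 3, 1, -40, -15, 224, -119, -155, -7, -7, 14, 20, 38, -11, 44, 5, 26, -1, 8, -2, 0, -14, -2, -9]⟩)))) (.node 4 (.node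 2 (.node 1 (.leaf ⟨6, 7, true, [30, 18, 27, 42, 23, 16, 26], [32, 27, 24, 43, 27, 14], [5, 426, 145, 281, 898, 120, 6, 97, -14, 128, -105, -58, 275, -198, -194, -26, 18, 18, 43, 74, -23, 35, 3, 38, -3, 5, 4, 0, -22, -15, 2]⟩) (.leaf ⟨7, 6, true, [12, 41, 31, 2, 29, 13], [36, 29, 2, 20, 34, 26], [25, -507, -224, -322, -1087, -139, -24, -111, 20, -134, 92, 48, -336, 243, 218, 29, -17, -24, -49, -84, 25, -41, -4, -45, 3, -4, -3, 0, 27, 14]⟩)) (.node 1 (.leaf ⟨5, 7, true, [13, 21, 2, 28, 6, 29], [6, 42, 35, 14, 21, 21], [53, 55, -28, 81, 98, 18, -8, 13, -14, 36, -40, -17, 56, -15, -29, -1, 6, 2, 11, 8, -3, 7, -1, 5, 0, 2, 0, 0, -3, -4]⟩) (.leaf ⟨7, 5, true, [23, 41, 34, 34, 14, 18], [36, 25, 28, 31, 34, 12], [-23, -174, -83, -140, -391, -48, -21, -31, 24, -50, 27, 3, -146, 83, 68, 7, -6,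 -10, -21, -26, 7, -17, 1, -17, 0, 0, 2, 0, 11, 2, 4]⟩))) (.node 2 (.node 1 (.leaf ⟨6, 7, true, [35, 2, 35, 6, 39, 32], [28, 11, 23, 31, 34, 6], [84, -381, -281, -118, -657, -59, 5, -92, -33, 11, -6, 38, -150, 156, 130, 9, 5, -20, -31, -39, 10, -33, -8, -24, 1, 3, 0, 0, 20, 5, 3]⟩) (.leaf ⟨7, 6, true, [35, 31, 19, 23, 23], [33, 38, 12, 36, 42, 35], [-99, 442, 338, 147, 804, 74, 10, 101, 28, -4, 13, -30, 195, -190, -151, -12, -5, 24, 36, 48, -12, 38, 8, 30, -1, -4, -1, 0, -24, -4, -5]⟩)) (.node 1 (.leaf ⟨5, 7, true, [8, 33, 30, 40, 26, 11], [34, 2, 22, 33, 31, 43, 25], [62, 274, 6, 223, 284, 78, -16, 17, 3, 15, 32, -42, 147, -83, -49, 3, -8, 20, 17, 11, 0, 3, 8, 8, 0, 2, 3, 0, -10, 0, -3]⟩) (.leaf ⟨7, 5, true, [8, 24, 2, 39, 26, 37], [2, 19, 25, 30, 34, 13], [-52, -311, -47, -238, -391,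 -89, 2, -21, 1, -23, -35, 32, -176, 106, 63, 0, 7, -22, -21, -19, 2, -7, -7, -13, 0, -1, -2, 0, 13, -1, 5]⟩))))) (.node 7 (.node 3 (.node 1 (.leaf ⟨7, 6, true, [25, 32, 38, 34, 27, 11], [27, 37, 24, 31, 43, 21], [-100, 13, 172, -85, 139, -66, 13, 17, 16, -40, -8, 34, -12, -51, -33, -15, -8, 1, -10, 8, -7, 16, 8, 2, -3, -1, 3, 0, 5, -1, -3]⟩) (.node 1 (.leaf ⟨5, 7, true, [35, 23, 39, 42, 22], [16, 42, 26, 39, 25, 25], [-6, 55, 32, 112, 230, -22, 13, 39, 12, 38, -38, -28, 99, -39, -81, -4, -19, 3, 7, 13, -8, 26, 7, 3, 2, -2, 2, 0, -3, -4, -2]⟩) (.leaf ⟨7, 5, true, [24, 4, 16, 35, 37, 19, 19], [10, 29, 35, 6, 35, 8], [26, -114, -92, -140, -378, 7, -29, -48, -7, -45, 30, 18, -144, 73, 100, 7, 19, -7, -12, -22, 10, -31, -7, -9, -2, 3, -1, 0, 7, 3, 4]⟩))) (.node 2 (.node 1 (.leaf ⟨6, 7, true,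 [2, 39, 24, 2, 20, 27], [2, 41, 2, 31, 41, 26], [-35, -152, 9, -161, -189, -62, -11, -32, 12, -51, 3, 6, -113, 36, 46, 1, -2, -6, -11, -15, 2, 3, 0, -11, 2, -3, 2, 0, 5, -2, -3]⟩) (.leaf ⟨7, 6, true, [19, 2, 8, 25, 37, 35, 20], [43, 34, 26, 2, 23, 36], [8, 213, 60, 186, 340, 77, 30, 41, -17, 58, 8, 10, 158, -70, -67, -4, 2, 10, 16, 24, -4, 2, 0, 17, -2, 2, -3, 0, -9, 3, 1]⟩)) (.node 1 (.leaf ⟨7, 6, true, [13, 21, 35, 8, 24, 12], [2, 24, 26, 36, 19, 40], [53, -389, -343, -163, -707, -134, -74, -14, 12, -1, -115, -62, -199, 191, 77, 13, -14, -25, -34, -48, 8, 3, 5, -33, 7, 7, -2, 0, 21, -14, 6]⟩) (.leaf ⟨6, 7, true, [36, 25, 42, 11, 20, 29], [35, 20, 39, 23, 33, 11], [-54, 393, 344, 162, 708, 134, 74, 15, -12, 1, 115, 61, 197, -191, -78, -13, 14, 25, 34, 48, -8, -3, -5, 33, -7, -7, 2, 0,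 -21, 14, -6]⟩)))) (.node 4 (.node 2 (.node 1 (.leaf ⟨6, 7, true, [11, 23, 13, 22, 39, 19], [18, 0, 42, 18, 40, 32, 2], [42, -253, -125, -95, -359, -38, 6, -51, -13, -8, -9, 10, -149, 92, 43, 10, 0, -13, -17, -25, 6, -12, -1, -16, 4, 0, 1, 0, 12, 1, 8]⟩) (.leaf ⟨6, 7, true, [22, 39, 35, 41, 39], [41, 2, 31, 35, 37, 8, 25], [47, -49, -99, 21, -159, 15, -5, -33, -11, 29, 4, 7, -45, 24, 49, 5, 9, 2, 8, -9, 4, -21, -6, -4, 1, -4, -1, 0, 3, 1, 3]⟩)) (.node 1 (.leaf ⟨7, 6, true, [28, 0, 35, 29, 21, 35, 23], [38, 40, 34, 4, 38, 23], [-59, 110, 153, 9, 305, 0, 19, 42, 6, -22, 2, -1, 90, -58, -70, -8, -9, 2, -3, 18, -6, 26, 6, 10, -1, 3, 0, 0, -7, 0, -5]⟩) (.leaf ⟨5, 7, true, [0, 40, 33, 13, 10, 18], [21, 12, 34, 36, 41, 21], [-34, -211, 11, -149, -246, -51, 19, -47, -4, -36, 37, 29, -86, 49, 58,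 1, 2, -8, -23, -18, 3, -1, -1, -11, 0, -4, 3, 0, 13, 2, -1]⟩))) (.node 2 (.node 1 (.leaf ⟨7, 5, true, [4, 37, 42, 31, 16, 6], [21, 25, 26, 2, 4, 6], [29, 212, -5, 147, 248, 51, -17, 47, 4, 36, -35, -25, 86, -49, -59, -1, -2, 8, 23, 18, -3, 1, 1, 11, 0, 4, -3, 0, -13, -2, 1]⟩) (.leaf ⟨6, 7, true, [30, 0, 39, 24, 26, 10], [27, 22, 38, 23, 14, 13], [37, -364, -122, -159, -365, -91, 5, -28, 10, -13, -29, 8, -141, 97, 93, 5, -1, -15, -27, -24, 2, -13, -2, -21, 4, 2, -3, 0, 20, -4, -1]⟩)) (.node 1 (.leaf ⟨7, 6, true, [36, 13, 27, 36, 19, 23], [23, 37, 31, 6, 32, 6], [-48, 403, 166, 173, 473, 102, 10, 32, -14, 21, 33, 4, 170, -120, -109, -8, 2, 17, 31, 32, -4, 17, 1, 26, -4, -3, 2, 0, -23, 5, -1]⟩) (.leaf ⟨6, 7, true, [19, 4, 42, 38, 41, 29, 21], [41, 4, 38, 36, 22, 27, 6], [32, 303, 75, 197,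 417, 76, -26, 63, -16, 25, -35, -50, 167, -84, -105, -2, 1, 13, 25, 28, -6, 11, 4, 21, 4, 6, 0, 0, -14, -6, -2]⟩)))))) (.node 15 (.node 7 (.node 3 (.node 1 (.leaf ⟨7, 6, true, [34, 6, 8, 29, 37, 23], [16, 24, 10, 42, 22, 33], [-18, -362, -129, -227, -563, -91, 12, -72, 21, -32, 29, 44, -212, 118, 124, 5, -1, -17, -30, -37, 8, -16, -4, -27, -4, -5, 1, 0, 18, 5, 4]⟩) (.node 1 (.leaf ⟨7, 6, true, [28, 0, 41, 10, 27, 32, 14], [18, 32, 18, 6, 25, 2], [-51, -111, -12, -67, -246, -16, 16, -44, -13, -48, 58, 45, -44, 54, 66, 8, -7, 0, -16, -23, 10, -11, 0, -8, -1, -10, -3, 0, 6, 13]⟩) (.leaf ⟨7, 6, true, [0, 37, 41, 26, 14, 28], [32, 0, 40, 33, 20, 18], [-84, 386, 250, 141, 612, 64, -13, 98, 26, -23, 14, -40, 165, -132, -113, 0, -11, 18, 31, 29, -6, 29, 8, 23, -1, -3, -3, 0, -20, -6, -4]⟩)))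 (.node 2 (.node 1 (.leaf ⟨6, 7, true, [20, 18, 41, 0, 31, 14], [29, 14, 27, 34, 6], [83, -383, -249, -142, -611, -64, 13, -97, -26, 23, -14, 39, -165, 132, 112, 0, 11, -18, -31, -29, 6, -29, -8, -23, 1, 3, 3, 0, 20, 6, 4]⟩) (.leaf ⟨6, 7, true, [8, 39, 42, 39, 28, 21], [32, 11, 28, 36, 30, 21], [-30, 161, 67, 102, 237, 38, 6, 27, 8, 7, 10, -15, 117, -53, -31, -1, 0, 8, 7, 11, -1, -4, 3, 10, -1, 3, -1, 0, -8, 5, -1]⟩)) (.node 1 (.leaf ⟨7, 6, true, [10, 31, 10, 2, 21], [29, 2, 26, 13, 8, 35, 25], [46, -198, -114, -115, -346, -49, -22, -31, -4, -15, -15, 1, -146, 76, 45, 4, -1, -10, -11, -19, 3, 0, -2, -15, 1, -2, 2, 0, 11, -6, 3]⟩) (.leaf ⟨6, 7, true, [16, 2, 30, 6, 21, 38, 12], [14, 0, 21, 10, 26, 34, 25], [-25, -124, -21, -81, -164, -31, 1, -28, -4, -20, 40, 15, -57, 36, 40, 3, -4, -7,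 -16, -16, 4, -7, 1, -9, -2, 1, 1, 0, 7, 4]⟩)))) (.node 4 (.node 2 (.node 1 (.leaf ⟨7, 6, true, [0, 38, 28, 8, 33, 21], [8, 19, 42, 31, 24, 36], [62, -17, -106, 8, -169, -3, -31, 5, 15, 7, -57, -27, -49, 43, 4, 3, 5, -3, 5, -3, 0, -4, -2, -4, 2, 1, 1, 0, 2, -6, 4]⟩) (.leaf ⟨5, 7, true, [27, 25, 34, 28, 42, 23], [31, 4, 42, 22, 21, 6], [37, 3, -46, 34, -40, 17, -40, -50, 6, -16, 67, -3, -41, -14, 77, -2, 3, 11, -5, -8, 6, -27, -2, -3, 4, -6, 3, 0, -8, 9, 1]⟩)) (.node 1 (.leaf ⟨7, 5, true, [10, 8, 35, 10, 33, 6], [6, 2, 41, 32, 10, 37, 18], [-14, -62, -17, -61, -109, -32, 23, 41, -1, 9, -76, -9, -4, 48, -58, 5, -3, -15, 0, -1, -4, 22, 2, -3, -4, 7, -2, 0, 12, -10, 1]⟩) (.leaf ⟨6, 7, true, [24, 0, 11, 30, 40, 28, 6], [40, 0, 31, 42, 38, 22, 22], [-123, 467, 443, 183, 1078, 87, 55, 84, 25,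 22, 43, -14, 249, -267, -165, -16, -1, 32, 44, 60, -15, 43, 7, 35, 4, -6, -6, 0, -27, -4, -7]⟩))) (.node 2 (.node 1 (.leaf ⟨7, 6, true, [36, 18, 35, 23, 23, 6], [18, 43, 33, 41, 41, 14], [151, -570, -529, -241, -1304, -110, -71, -103, -18, -27, -57, 12, -326, 323, 194, 19, 3, -40, -51, -71, 17, -50, -9, -43, -4, 7, 7, 0, 33, 3, 9]⟩) (.leaf ⟨7, 5, true, [6, 35, 31, 11, 6, 20], [2, 32, 10, 28, 40, 29], [112, -227, -243, -133, -734, -39, -57, -83, 5, -33, 0, 22, -202, 137, 95, 6, 8, -13, -28, -41, 13, -21, -1, -19, -1, -2, 8, 0, 15, 6, 5]⟩)) (.node 1 (.leaf ⟨5, 7, true, [2, 42, 36, 32, 35, 32], [0, 21, 34, 38, 13, 22], [-116, 163, 225, 93, 655, 17, 60, 75, -2, 29, -3, -17, 168, -119, -86, -6, -10, 9, 22, 37, -13, 21, 1, 15, 1, 2, -8, 0, -11, -6, -5]⟩) (.leaf ⟨7, 6, true, [37, 22, 12, 38,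 43, 23], [40, 8, 35, 39, 31, 29], [26, 158, -110, 132, -9, 35, -54, 25, 8, 31, -25, -30, 13, -14, -28, -4, -4, 3, 8, 12, -2, -9, 1, 5, -5, 0, 3, 0, -5, 3, 3]⟩))))) (.node 8 (.node 4 (.node 2 (.node 1 (.leaf ⟨6, 7, true, [21, 36, 18, 10, 27, 6], [43, 4, 27, 19, 38, 29], [-25, -158, 110, -132, 9, -35, 54, -25, -8, -31, 25, 30, -11, 14, 27, 4, 4, -3, -8, -12, 2, 9, -1, -5, 5, 0, -3, 0, 5, -3, -3]⟩) (.leaf ⟨7, 6, true, [21, 35, 28, 27, 2, 20], [2, 6, 20, 40, 10, 19], [107, 71, -230, 157, -191, 85, -79, -16, -22, 1, 23, -25, 63, 38, 70, 13, 6, 8, 9, -19, 12, -43, -4, -1, -1, 6, -3, 0, -1, 2, 4]⟩)) (.node 1 (.leaf ⟨6, 7, true, [10, 19, 38, 31, 39], [21, 2, 25, 37, 8, 29, 6], [-108, -67, 231, -158, 192, -85, 79, 17, 22, -1, -23, 24, -65, -38, -71, -13, -6, -8, -9, 19, -12, 43, 4, 1, 1, -6, 3,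 0, 1, -2, -4]⟩) (.leaf ⟨7, 6, true, [29, 38, 34, 43, 37, 19], [32, 21, 39, 32, 27, 16], [11, -203, -95, -143, -358, -52, -8, -49, 1, -27, 1, 19, -160, 83, 61, 1, 1, -14, -15, -17, 3, -14, -4, -13, -3, -4, 2, 0, 10, 5, 2]⟩))) (.node 2 (.node 1 (.leaf ⟨7, 6, true, [43, 33, 20, 13, 36, 20], [21, 34, 6, 20, 20, 11], [-32, 538, 237, 286, 786, 134, 7, 75, -4, 22, 6, -9, 281, -206, -158, -15, 3, 30, 45, 56, -12, 22, 5, 40, -3, -5, 6, 0, -31, 0, -4]⟩) (.leaf ⟨6, 7, true, [2, 30, 43, 18, 2, 22], [21, 12, 36, 28, 41, 11], [33, -536, -237, -286, -786, -134, -7, -75, 4, -22, -6, 9, -283, 206, 157, 15, -3, -30, -45, -56, 12, -22, -5, -40, 3, 5, -6, 0, 31, 0, 4]⟩)) (.node 1 (.leaf ⟨5, 7, true, [0, 33, 39, 13, 20, 8], [29, 31, 27, 2, 26, 39], [9, 69, -10, 52, 7, 15, -1, 10, 6, 0, -17, 2, 24, -7, 2,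 2, 7, 4, 8, 2, 1, -1, -1, 1, 2, -1, -1, 0, -2, -1, -1]⟩) (.leaf ⟨7, 5, true, [8, 42, 21, 12, 40, 26], [28, 38, 36, 29, 38], [14, -128, -53, -79, -156, -30, -16, -19, -1, -7, 8, -14, -69, 41, 17, 1, -7, -8, -13, -11, 1, -4, 1, -7, -2, 2, 2, 0, 6, 0, 3]⟩)))) (.node 4 (.node 2 (.node 1 (.leaf ⟨7, 6, true, [2, 22, 4, 38, 38, 2], [25, 36, 30, 36, 43, 19], [-124, 13, 190, -101, 134, -45, 33, 17, 2, -49, 49, 44, 28, -60, -38, -13, -17, -2, -14, 7, -4, 11, 7, 1, -3, 1, 5, 0, 2, 5, -6]⟩) (.leaf ⟨7, 6, true, [35, 0, 25, 11, 37, 35, 28], [21, 12, 29, 34, 32, 16, 2], [-110, -429, 11, -299, -240, -143, 7, -16, -31, -38, -36, 8, -189, 101, 58, -5, -21, -26, -35, -14, -7, -9, -1, -25, -7, 6, -2, 0, 23, 1, 3]⟩)) (.node 1 (.leaf ⟨6, 7, true, [0, 42, 13, 19, 34, 23], [31, 11, 21, 38, 32, 43], [109, 432,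 -10, 298, 241, 143, -7, 17, 31, 38, 36, -9, 189, -101, -59, 5, 21, 26, 35, 14, 7, 9, 1, 25, 7, -6, 2, 0, -23, -1, -3]⟩) (.leaf ⟨7, 6, true, [16, 34, 14, 34, 16], [10, 20, 13, 40, 28, 25], [-15, -105, -33, 2, -68, -2, 14, -38, -5, -17, 63, -8, 17, 22, 38, 8, -11, 1, -13, -17, 7, -1, 3, -9, 0, -6, -5, 0, 4, 9, 1]⟩))) (.node 2 (.node 1 (.leaf ⟨5, 7, true, [0, 35, 22, 21, 14, 4], [11, 19, 38, 13, 37, 2], [24, -11, -65, 55, -69, 13, 2, -4, -29, 9, 10, 1, 14, 18, 39, 3, 8, 0, 1, -8, 4, -10, -3, -4, 0, -4, 3, 0, 0, 1, 1]⟩) (.leaf ⟨7, 5, true, [4, 39, 16, 6, 32, 20], [32, 26, 33, 34, 0], [-28, 28, 93, -55, 137, -6, 12, 3, 26, 0, -10, 13, -1, -30, -50, -6, -6, 0, 2, 15, -6, 13, 1, 8, 0, 3, -4, 0, -2, 0, -3]⟩)) (.node 1 (.leaf ⟨6, 7, true, [20, 0, 27, 39, 22, 2, 31], [19, 43, 11, 31, 42, 23], [6,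 -85, 8, -14, 236, -37, 5, 5, -5, 45, -34, -26, -88, -36, -13, -13, 2, -8, 1, 21, -11, 4, -1, -4, 0, -9, -1, 0, 5, -4, 4]⟩) (.leaf ⟨7, 6, true, [32, 39, 20, 27, 13, 6], [30, 6, 27, 39, 22, 6, 21], [-14, 124, 33, 29, -129, 48, 9, -1, 1, -37, 37, 36, 117, 13, -3, 10, -1, 10, 3, -13, 9, 0, 0, 9, 0, 8, 0, 0, -8, 5, -6]⟩)))))))
noncomputable def dF2918 : BT Fct := (.node 30 (.node 15 (.node 7 (.node 3 (.node 1 (.leaf ⟨3, 8, true, [18, 4, 20, 37, 23, 23, 18], [], []⟩) (.node 1 (.leaf ⟨8, 8, false, [22, 14, 25, 4], [], [1, 31, 7, 19, 33, 9, -4, 5, -1, -1, 2, -3, 13, -8, -4, 0, 0, 2, 2, 2, 0, 0, 0, 2, 0, 0, 0, 0, -2]⟩) (.leaf ⟨8, 6, true, [29, 23, 16, 8, 6], [29, 2, 40, 18, 36, 13, 20], [34, 63, -99, 94, -146, 43, -35, -10, -7, -52, 23, 1, 45, 12, 34, 7, 1, 1, 2, -12, 7, -26, 0, 3, -1, -2, 0,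 0, 1, 5, -1]⟩))) (.node 2 (.node 1 (.leaf ⟨8, 6, true, [8, 10, 30, 11, 6], [19, 34, 39, 22, 30, 29], [5, 8, 4, 2, 20, 4, 0, -6, 3, 3, 6, -4, -1, -8, 5, -1, 1, 2, 1, 1, 0, -1, -1, 0, 0, 0, 0, 0, -1]⟩) (.leaf ⟨6, 8, true, [6, 36, 39, 33, 29, 8], [6, 18, 28, 33, 13], [-4, -8, -4, -2, -20, -4, 0, 6, -3, -3, -6, 4, 3, 8, -6, 1, -1, -2, -1, -1, 0, 1, 1, 0, 0, 0, 0, 0, 1]⟩)) (.node 1 (.leaf ⟨8, 6, true, [26, 6, 28, 25, 0], [19, 2, 21, 16, 37, 28, 8], [19, 90, 72, 15, -85, 43, -29, -26, 22, -77, 78, 0, 37, -5, 17, 12, 0, 11, 9, -14, 10, 7, -1, 2, -2, -7, 3, 0, -8, 4, -3]⟩) (.leaf ⟨8, 8, false, [25, 34, 12, 0, 41, 27], [], [13, -25, -169, 78, -60, 0, -6, 17, -29, 24, -55, 0, 8, 16, 17, -5, 1, -10, -7, 2, -3, -33, 1, 1, 1, 5, -3, 0, 9, 1, 2]⟩)))) (.node 4 (.node 2 (.node 1 (.leaf ⟨8, 6, true, [2,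 21, 30, 20, 11, 0], [10, 37, 39, 23, 8, 6], [28, -199, -367, 72, -254, -42, 12, 16, -46, 64, -120, 10, -28, 71, 45, -9, 1, -28, -23, -5, -6, -63, 2, -7, 2, 12, -7, 0, 27, 2, 4]⟩) (.leaf ⟨8, 6, true, [0, 30, 34, 20, 31, 14], [27, 2, 25, 31, 10, 42, 24], [-10, 47, 181, -70, 100, 0, 11, -8, 38, -20, 57, -2, -5, -28, -37, 4, -3, 11, 10, 1, 2, 38, -1, 1, -1, -5, 3, 0, -9, -2, -2]⟩)) (.node 1 (.leaf ⟨6, 8, true, [4, 35, 25, 20, 43, 19], [11, 30, 11, 20, 42, 0], [9, -45, -180, 69, -99, 0, -11, 9, -38, 20, -57, 1, 7, 28, 36, -4, 3, -11, -10, -1, -2, -38, 1, -1, 1, 5, -3, 0, 9, 2, 2]⟩) (.leaf ⟨8, 6, true, [14, 11, 28, 14], [13, 41, 34, 32, 24, 6], [0, -38, -10, -17, -28, -8, 7, -2, -1, 10, -5, 4, -5, 9, -1, 1, -1, -2, -2, -2, 0, 2, 0, -2, 0, 0, 0, 0, 2]⟩))) (.node 2 (.node 1 (.leaf ⟨8, 6, true,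 [0, 37, 30, 19, 22, 10], [21, 28, 19, 41, 41, 11], [26, -120, -352, 118, -174, -21, -1, 24, -54, 59, -119, 3, 2, 49, 40, -9, 1, -23, -18, 0, -6, -65, 2, -2, 2, 10, -6, 0, 22, 2, 4]⟩) (.leaf ⟨8, 8, true, [6, 19, 38, 37, 21, 18], [4, 39, 43, 19, 20, 26], [-21, -26, 154, -115, -17, -20, 7, -25, 30, -27, 46, 10, -37, 0, -6, 4, 0, 7, 4, -6, 3, 31, -2, -6, 0, -5, 4, 0, -5, -1, -2]⟩)) (.node 1 (.leaf ⟨3, 9, true, [32, 31, 34, 14, 4], [], []⟩) (.leaf ⟨9, 9, false, [30, 22, 26, 0], [], [1, 16, 4, 9, 18, 5, -2, 2, 0, 1, 1, -1, 7, -3, -2, 0, 0, 1, 1, 1, 0, 0, 0, 1, 0, 0, 0, 0, -1]⟩))))) (.node 7 (.node 3 (.node 1 (.leaf ⟨9, 6, true, [31, 8, 4, 6], [6, 0, 31, 25, 37, 24, 27], [-7, -90, -43, -53, -137, -15, 3, -25, -1, -10, 10, 12, -49, 25, 35, 0, 1, -4, -6, -9, 2, -7, -1, -7, 0, -2, 0, 0, 5, 1]⟩)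 (.node 1 (.leaf ⟨6, 9, true, [40, 12, 42, 10, 29], [6, 31, 32, 14, 0], [8, 90, 43, 53, 137, 15, -3, 25, 1, 10, -10, -12, 51, -25, -36, 0, -1, 4, 6, 9, -2, 7, 1, 7, 0, 2, 0, 0, -5, -1]⟩) (.leaf ⟨9, 6, true, [22, 16, 18, 6], [32, 39, 4, 28, 10, 42], [-37, -94, 107, -111, 87, -59, 39, -2, 9, 25, -35, 6, -53, -4, -36, -7, -2, -3, -4, 11, -8, 32, 0, -5, -2, 2, 3, 0, 0, -7, 1]⟩))) (.node 2 (.node 1 (.leaf ⟨6, 9, true, [20, 2, 28, 36, 26, 23], [6, 23, 28, 19, 4], [36, 96, -106, 110, -86, 59, -39, 3, -9, -25, 35, -7, 55, 4, 35, 7, 2, 3, 4, -11, 8, -32, 0, 5, 2, -2, -3, 0, 0, 7, -1]⟩) (.leaf ⟨9, 6, true, [28, 26, 24, 8, 6], [25, 4, 36, 25, 6, 40, 18], [33, 183, 3, 164, 228, 53, 6, 39, 14, 34, -4, -26, 121, -54, -57, 0, 0, 9, 11, 13, -1, 5, 3, 12, 0, 4, -3, 0, -8, 3]⟩)) (.node 1 (.leaf ⟨6, 9, true,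 [30, 20, 39, 35, 22, 38, 0], [6, 21, 26, 12, 4], [-32, -181, -3, -164, -228, -53, -6, -39, -14, -34, 4, 26, -123, 54, 56, 0, 0, -9, -11, -13, 1, -5, -3, -12, 0, -4, 3, 0, 8, -3]⟩) (.leaf ⟨9, 6, true, [10, 12, 20, 35, 41], [34, 0, 37, 8, 19, 35, 24], [-8, -12, -4, -11, 1, -2, -3, 0, -2, -5, -1, -4, -7, -4, -1, -1, -1, -1, -1, 0, 0, 1, 0, -1, 0, -2, 1, 0, 0, 1]⟩)))) (.node 4 (.node 2 (.node 1 (.leaf ⟨6, 9, true, [39, 2, 30, 37, 20, 33, 29], [32, 36, 31, 36, 10, 31], [9, 14, 4, 11, -1, 2, 3, 0, 2, 5, 1, 4, 5, 4, 0, 1, 1, 1, 1, 0, 0, -1, 0, 1, 0, 2, -1, 0, 0, -1]⟩) (.leaf ⟨9, 6, true, [0, 22, 8, 6, 32, 6], [32, 29, 14, 34, 14, 19], [-10, -124, -29, -68, -72, -33, -5, -23, -9, 5, -16, 9, -33, 11, 43, -6, 2, -1, -9, -1, -2, -6, -1, -7, 0, -1, 1, 0, 2, -1, 1]⟩)) (.node 1 (.leaf ⟨6, 9, true,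 [36, 6, 32, 34, 31, 18], [14, 30, 2, 24, 33, 14], [9, 128, 30, 67, 73, 33, 5, 24, 9, -5, 16, -10, 31, -11, -44, 6, -2, 1, 9, 1, 2, 6, 1, 7, 0, 1, -1, 0, -2, 1, -1]⟩) (.leaf ⟨9, 6, true, [19, 22, 41, 30, 41], [2, 27, 18, 37, 26, 25], [-22, 116, 102, 60, 334, 10, -8, 30, -11, 10, -6, -19, 53, -78, -62, -12, -8, 5, 7, 23, -9, 5, 2, 11, -2, 2, 3, 0, -7, -1, 1]⟩))) (.node 2 (.node 1 (.leaf ⟨6, 9, true, [19, 40, 29, 43, 21, 19], [6, 26, 14, 25, 6, 14], [23, -114, -102, -60, -334, -10, 8, -30, 11, -10, 6, 19, -55, 78, 61, 12, 8, -5, -7, -23, 9, -5, -2, -11, 2, -2, -3, 0, 7, 1, -1]⟩) (.leaf ⟨9, 3, true, [4, 27, 39, 31, 42, 26], [6, 0, 20, 24, 42, 41, 0], [-2, -13, -3, -11, -17, -5, 2, -1, 1, -2, 0, -2, -7, 4, 0, 0, -1, -1, -1, -1, 0, 0, 0, -1, 0, 0, 0, 0, 1]⟩)) (.node 1 (.leaf ⟨3, 9, true, [30,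 43, 32, 19, 4], [14, 43, 35, 38, 6, 31], [8, 3, -10, 7, -25, 1, -2, -3, -4, 1, -1, 5, 1, 6, 4, 1, 1, 0, -1, -2, 1, -1, 0, 0, 0, 0, 0, 0, 0, 1]⟩) (.leaf ⟨9, 6, true, [6, 13, 29, 40, 42, 10], [14, 27, 34, 26, 32, 19], [11, 84, -4, 57, 65, 11, -27, 11, -5, 4, -23, 4, 33, -19, -10, -4, -2, 8, 5, 8, -2, 4, 1, 4, 0, 0, 2, 0, -6, -4]⟩)))))) (.node 15 (.node 7 (.node 3 (.node 1 (.leaf ⟨9, 9, false, [24, 0, 30, 2, 27, 19, 21], [], [-22, -95, 1, -69, -64, -13, 24, -11, 2, -9, 22, -9, -40, 14, 9, 3, 1, -9, -6, -8, 2, -3, -1, -5, 0, -2, -1, 0, 6, 5]⟩) (.node 1 (.leaf ⟨9, 9, true, [23, 31, 2, 30, 32], [35, 10, 43, 6, 33, 22], [68, 213, -37, 180, 140, 44, -45, 21, -16, 43, -53, 16, 82, -36, -23, -8, 3, 18, 17, 20, -5, 4, 2, 11, 0, 4, 4, 0, -14, -13, 1]⟩) (.leaf ⟨9, 9, true, [2, 0, 42, 30, 27, 6, 16],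 [32, 8, 2, 30, 22], [-132, -481, 44, -378, -314, -78, 115, -52, 22, -69, 120, -44, -195, 75, 47, 17, 0, -44, -34, -43, 11, -13, -5, -25, 0, -10, -7, 0, 31, 28, -1]⟩))) (.node 2 (.node 1 (.leaf ⟨9, 6, true, [4, 6, 27, 19, 32, 6], [28, 26, 34, 24, 29], [-53, -183, 46, -131, -19, -77, 34, -13, 6, 3, -52, 27, -83, 7, 1, -11, -4, -9, -11, 8, -9, 4, 0, -7, -1, -1, 1, 0, 9, -3, 1]⟩) (.leaf ⟨6, 9, true, [6, 32, 35, 25, 36, 14], [0, 6, 26, 33, 21, 6], [54, 185, -46, 131, 19, 77, -34, 13, -6, -3, 52, -27, 81, -7, -2, 11, 4, 9, 11, -8, 9, -4, 0, 7, 1, 1, -1, 0, -9, 3, -1]⟩)) (.node 1 (.leaf ⟨9, 6, true, [0, 14, 38, 10, 32, 25], [4, 30, 10, 35, 36, 25], [-98, -514, 13, -397, -512, -141, 49, -78, -2, -104, 30, 39, -225, 120, 96, 5, -5, -29, -37, -39, 5, 1, -3, -32, 1, -8, 1, 0, 28, 4, -2]⟩) (.leaf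 ⟨9, 6, true, [0, 42, 32, 11, 23, 10], [27, 2, 20, 36, 32, 27, 10], [19, 28, 30, -7, 55, 4, 10, 13, 12, 6, -16, 2, 16, -2, -28, 0, 3, -2, 3, 7, -2, 5, -1, 5, 1, 6, -1, 0, -3, -2, -2]⟩)))) (.node 4 (.node 2 (.node 1 (.leaf ⟨6, 9, true, [21, 28, 43, 21, 24, 8], [8, 10, 25, 33, 43, 0], [-18, -26, -30, 7, -55, -4, -10, -13, -12, -6, 16, -2, -18, 2, 27, 0, -3, 2, -3, -7, 2, -5, 1, -5, -1, -6, 1, 0, 3, 2, 2]⟩) (.leaf ⟨9, 9, true, [13, 25, 6, 30, 4], [31, 6, 26, 31, 18, 12], [28, 39, -42, 54, 8, 25, -2, 0, -14, 24, -6, -1, 10, -6, -5, -1, 4, 1, 5, 3, 0, -3, 0, 2, 0, 0, 2, 0, -3, -2, 1]⟩)) (.node 1 (.leaf ⟨9, 6, true, [31, 10, 12, 4], [19, 42, 26, 34, 21, 11], [-21, -145, 46, -134, -104, -53, 34, -22, 18, -8, 9, 2, -98, 25, 18, 2, -6, -1, -9, -6, 0, 15, -2, -11, 1, -3, 2, 0, 3, -2, 1]⟩) (.leaf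 ⟨6, 9, true, [35, 38, 42, 39, 13], [13, 11, 30, 4], [22, 145, -46, 134, 104, 53, -34, 22, -18, 8, -9, -2, 100, -25, -19, -2, 6, 1, 9, 6, 0, -15, 2, 11, -1, 3, -2, 0, -3, 2, -1]⟩))) (.node 2 (.node 1 (.leaf ⟨9, 6, true, [6, 32, 24, 39, 24, 41], [36, 39, 35, 30, 23, 4], [6, 69, 20, 44, 69, -24, -34, 13, 11, 5, -57, 32, 48, -7, -1, -7, -6, 14, 4, 13, -6, 11, 0, 4, -1, 4, 0, 0, -6, -11]⟩) (.leaf ⟨6, 9, true, [43, 12, 43, 18, 13, 39], [28, 37, 40, 10, 29, 16], [-7, -67, -19, -45, -68, 24, 34, -12, -11, -5, 57, -33, -46, 7, 0, 7, 6, -14, -4, -13, 6, -11, 0, -4, 1, -4, 0, 0, 6, 11]⟩)) (.node 1 (.leaf ⟨9, 6, true, [28, 42, 40, 23, 0], [16, 29, 33, 35, 41, 30], [1, -60, -31, -33, -91, -9, 2, -18, 1, -5, 13, 7, -30, 19, 26, 2, 1, -3, -4, -7, 2, -6, -1, -5, 0, 0, -1, 0, 3, 1]⟩) (.leaf ⟨9, 5, true,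 [11, 23, 24, 10, 6], [31, 16, 38, 22, 32, 12], [-15, -52, 10, -48, -58, -23, 5, -9, 7, -17, 4, 3, -28, 9, 7, 0, -2, -3, -7, -4, 0, 1, 1, -4, 0, 0, 2, 0, 3, 1, -1]⟩))))) (.node 7 (.node 3 (.node 1 (.leaf ⟨5, 9, true, [16, 40, 37, 32, 21], [16, 23, 10, 28, 6], [19, 54, -16, 52, 55, 23, -6, 9, -6, 19, -5, -4, 28, -9, -8, 0, 2, 3, 7, 4, 0, -1, -1, 4, 0, 0, -2, 0, -3, -1, 1]⟩) (.node 1 (.leaf ⟨9, 6, true, [2, 6, 38, 35, 41], [18, 2, 32, 40, 19], [-4, -45, -6, -27, -26, -10, 10, -6, 3, -1, -3, 6, -15, 4, 6, -1, 1, -2, -3, -1, -1, 0, 0, -3, 0, 1, 0, 0, 3, -1]⟩) (.leaf ⟨6, 9, true, [40, 6, 42, 27, 22, 13], [6, 20, 25, 32, 11], [5, 45, 6, 27, 26, 10, -10, 6, -3, 1, 3, -6, 17, -4, -7, 1, -1, 2, 3, 1, 1, 0, 0, 3, 0, -1, 0, 0, -3, 1]⟩))) (.node 2 (.node 1 (.leaf ⟨9, 6, true, [41, 38, 19, 10], [18,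 31, 41, 19, 13, 36], [-12, 37, 57, 9, 45, -3, 15, 0, 21, -23, 25, -2, 18, -17, -28, 3, -9, 2, 0, 0, 0, 10, 5, -2, -1, -2, 0, 0, 2, 3, -2]⟩) (.leaf ⟨6, 9, true, [20, 41, 27, 20, 40, 31], [6, 8, 11, 19, 28], [13, -35, -57, -9, -45, 3, -15, 0, -21, 23, -25, 2, -20, 17, 27, -3, 9, -2, 0, 0, 0, -10, -5, 2, 1, 2, 0, 0, -2, -3, 2]⟩)) (.node 1 (.leaf ⟨9, 6, true, [43, 40, 6, 26, 6], [36, 2, 20, 6, 40, 18, 20], [-5, -100, -61, -39, -177, -21, -5, -19, -12, -32, -1, 10, -22, 52, 45, 5, -2, -5, -13, -16, 5, -6, -1, -7, 1, -1, -1, 0, 5, 2]⟩) (.leaf ⟨6, 9, true, [40, 30, 23, 37, 26], [24, 39, 34, 10, 8], [4, 103, 62, 38, 178, 21, 5, 20, 12, 32, 1, -11, 22, -52, -46, -5, 2, 5, 13, 16, -5, 6, 1, 7, -1, 1, 1, 0, -5, -2]⟩)))) (.node 4 (.node 2 (.node 1 (.leaf ⟨9, 7, true, [12, 11, 20, 43, 2], [40, 27,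 25, 38, 35, 19], [4, 7, 31, -17, 64, -10, 13, 23, 27, -7, -18, -8, 33, -10, -23, 1, 0, -3, 2, 6, -3, 5, -1, 2, 1, 8, -2, 0, -1, -3, -3]⟩) (.leaf ⟨7, 9, true, [24, 16, 43, 10, 39, 10], [29, 13, 8, 35, 2], [14, -88, -98, -28, -249, -9, -27, -37, -21, 1, 9, 6, -94, 55, 47, 2, 1, -3, -8, -16, 5, -11, 0, -9, -1, -7, 3, 0, 6, 2, 5]⟩)) (.node 1 (.leaf ⟨9, 6, true, [21, 6, 39, 40, 27], [25, 14, 28, 34, 40, 19], [-26, 0, 0, 6, 37, -4, 7, 0, -3, 11, -5, 7, 13, -10, 3, -3, -3, 3, 1, 5, -2, 2, 0, -2, -1, -1, 1, 0, -1, -3, 1]⟩) (.leaf ⟨6, 9, true, [36, 0, 12, 23, 38, 24, 30], [0, 26, 34, 37, 29, 23], [25, 3, 1, -7, -36, 4, -7, 1, 3, -11, 5, -8, -13, 10, -4, 3, 3, -3, -1, -5, 2, -2, 0, 2, 1, 1, -1, 0, 1, 3, -1]⟩))) (.node 2 (.node 1 (.leaf ⟨9, 6, true, [0, 36, 35, 22, 6, 16], [29, 34, 21, 37, 42, 29],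 [-12, 564, 290, 295, 1001, 115, -58, 120, -1, 16, -17, -85, 297, -233, -175, -19, -3, 36, 37, 59, -14, 29, 10, 42, 5, 5, 3, 0, -37, -6, -2]⟩) (.leaf ⟨9, 6, true, [26, 28, 26, 11, 6], [18, 22, 41, 16, 11, 31], [6, 106, 45, 71, 182, 25, -35, 12, -25, -1, 37, -20, 48, -44, -35, -6, -8, 4, -1, 10, -2, 0, 3, 11, -8, 2, 6, 0, -8, 3, 2]⟩)) (.node 1 (.leaf ⟨6, 9, true, [24, 4, 35, 11, 27, 12, 19], [0, 42, 34, 28, 41, 22], [-26, -166, -11, -148, -237, -48, -11, -41, -18, -33, 4, 29, -112, 56, 60, 1, 1, -8, -11, -14, 2, -6, -3, -11, -1, -4, 3, 0, 7, -2]⟩) (.leaf ⟨9, 6, true, [12, 38, 25, 11, 28], [6, 18, 22, 11, 40, 25], [48, 246, 6, 208, 283, 56, -11, 50, 16, 41, -27, -19, 145, -67, -68, -4, -2, 16, 16, 21, -4, 9, 4, 15, 1, 6, -2, 0, -12, -3]⟩)))))))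
noncomputable def dF2978 : BT Fct := (.node 30 (.node 15 (.node 7 (.node 3 (.node 1 (.leaf ⟨9, 6, true, [4, 26, 34, 36, 31], [32, 39, 39, 34, 21, 12], [-11, -93, -37, -46, -96, -20, 5, -7, -6, 13, -17, 12, -14, 31, 21, 2, 1, -4, -4, -5, 0, 3, -2, -5, -2, 1, -1, 0, 4, -4, 1]⟩) (.node 1 (.leaf ⟨6, 9, true, [18, 34, 33, 18, 6, 27], [40, 12, 36, 38, 27], [10, 95, 38, 45, 97, 20, -5, 8, 6, -13, 17, -13, 16, -31, -22, -2, -1, 4, 4, 5, 0, -3, 2, 5, 2, -1, 1, 0, -4, 4, -1]⟩) (.leaf ⟨9, 6, true, [11, 23, 6, 27, 8], [12, 0, 25, 34, 6, 30, 22], [36, 132, 54, 89, 357, 29, 14, 63, 14, 57, -74, -20, 110, -60, -86, -8, 13, 1, 18, 30, -10, 17, -2, 17, 2, 10, -5, 0, -9, -9]⟩))) (.node 2 (.node 1 (.leaf ⟨6, 9, true, [23, 2, 25, 35, 32, 37, 23], [21, 21, 6, 27, 10], [-37, -128, -53, -90, -356, -29, -14,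 -62, -14, -57, 74, 19, -112, 60, 85, 8, -13, -1, -18, -30, 10, -17, 2, -17, -2, -10, 5, 0, 9, 9]⟩) (.leaf ⟨9, 8, true, [42, 42, 18, 18, 27], [39, 2, 31, 25, 20], [-6, 12, 10, 2, 45, 4, 0, 4, -2, 4, 0, -3, 6, -9, -5, -1, 0, 1, 2, 3, -1, 2, 0, 1, -1, 0, 0, 0, -1, -1]⟩)) (.node 1 (.leaf ⟨8, 9, true, [2, 27, 32, 32], [2, 34, 18, 35, 42, 30], [29, -185, -376, 78, -297, -40, 4, 10, -52, 48, -118, 15, -42, 73, 54, -9, 2, -29, -24, -7, -5, -68, 2, -7, 3, 10, -6, 0, 27, 3, 4]⟩) (.leaf ⟨9, 5, true, [35, 38, 16, 26, 19], [38, 4, 32, 11, 41, 38, 11], [-14, -94, -16, -56, -55, -37, 16, -6, -1, 15, -23, 19, -32, 9, 11, -5, 1, -5, -4, 1, -3, 3, -2, -5, -1, 0, 0, 0, 4, -3, 1]⟩)))) (.node 4 (.node 2 (.node 1 (.leaf ⟨5, 9, true, [32, 11, 20, 38, 38, 32, 20], [0, 27, 43, 34, 23, 27], [22, 98, 3, 65, 47,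 37, -18, 7, 3, -11, 21, -22, 32, -9, -12, 5, -1, 5, 4, -1, 3, -3, 2, 5, 1, 0, 0, 0, -4, 3, -1]⟩) (.leaf ⟨9, 6, true, [34, 23, 20, 16, 8], [33, 0, 23, 43, 11, 18, 29], [-13, -221, -27, -154, -205, -18, 57, -43, -4, -30, 68, -14, -109, 59, 48, 11, 7, -21, -16, -26, 9, -12, -4, -11, 1, -5, -5, 0, 12, 12, 1]⟩)) (.node 1 (.leaf ⟨6, 9, true, [35, 39, 20, 11, 0], [24, 18, 18, 35, 6], [12, 225, 28, 153, 206, 18, -57, 44, 4, 30, -68, 13, 107, -59, -49, -11, -7, 21, 16, 26, -9, 12, 4, 11, -1, 5, 5, 0, -12, -12, -1]⟩) (.leaf ⟨9, 6, true, [16, 32, 30, 39, 10], [42, 30, 4, 38, 4], [39, -69, -122, -3, -211, 5, -14, -21, 1, 9, -8, 17, -25, 41, 59, 6, 6, -3, -2, -10, 4, -17, -4, -6, 0, 1, -3, 0, 2, -1, 1]⟩))) (.node 2 (.node 1 (.leaf ⟨9, 6, true, [2, 0, 11, 25, 14, 34, 27], [42, 24, 41, 38, 0, 2], [-40,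 -187, -26, -140, -161, -48, 36, -8, -6, 5, -30, 14, -70, 38, -4, 0, 2, -20, -10, -7, -2, 3, 0, -10, -1, 2, -2, 0, 13]⟩) (.leaf ⟨6, 9, true, [34, 6, 39, 6, 4, 40], [11, 20, 39, 30, 13, 22], [39, 191, 27, 139, 162, 48, -36, 9, 6, -5, 30, -15, 68, -38, 3, 0, -2, 20, 10, 7, 2, -3, 0, 10, 1, -2, 2, 0, -13]⟩)) (.node 1 (.leaf ⟨9, 6, true, [40, 22, 26, 6, 14], [38, 13, 43, 37, 38, 42], [-12, 35, 50, -1, 71, -18, -30, 6, 4, -18, 5, 11, 12, -11, -9, -5, -9, 6, -4, 6, -3, 5, 2, 3, -2, 3, 1, 0, -3, -2]⟩) (.leaf ⟨6, 9, true, [39, 37, 14, 28, 20], [0, 33, 18, 27, 41, 16], [13, -35, -50, 1, -71, 18, 30, -6, -4, 18, -5, -11, -10, 11, 8, 5, 9, -6, 4, -6, 3, -5, -2, -3, 2, -3, -1, 0, 3, 2]⟩))))) (.node 7 (.node 3 (.node 1 (.leaf ⟨9, 6, true, [19, 13, 2, 28, 41, 30], [40, 29, 36, 43, 28, 31], [-5, -62,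 10, -47, -76, -45, -22, -9, 2, -30, 1, 18, -27, 20, 9, -3, -9, 0, -12, -4, -1, 3, 2, -3, -2, 3, 1, 0, 3]⟩) (.node 1 (.leaf ⟨6, 9, true, [22, 16, 35, 23, 32, 19], [29, 34, 43, 43, 27, 10], [6, 62, -10, 47, 76, 45, 22, 9, -2, 30, -1, -18, 29, -20, -10, 3, 9, 0, 12, 4, 1, -3, -2, 3, 2, -3, -1, 0, -3]⟩) (.leaf ⟨6, 9, true, [21, 0, 28, 39, 27, 8, 22], [8, 0, 2, 26, 0], [-35, -149, 3, -150, -194, -41, -9, -33, -14, -32, 5, 24, -112, 47, 54, 0, 0, -7, -9, -11, 1, -5, -3, -10, 0, -4, 3, 0, 5, -3]⟩))) (.node 2 (.node 1 (.leaf ⟨9, 6, true, [36, 30, 38, 37, 24], [22, 34, 30, 25, 38, 13], [78, 308, -13, 270, 286, 57, -35, 51, 10, 48, -51, -4, 178, -69, -69, -6, -2, 23, 19, 25, -5, 11, 5, 18, 0, 8, -1, 0, -15, -7]⟩) (.leaf ⟨9, 6, true, [39, 20, 28, 23, 34, 2], [13, 25, 13, 38, 20, 14], [97, 295, -13,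 216, 185, 60, -64, 18, -10, 21, -39, 24, 130, -29, -12, -4, 0, 28, 18, 18, -2, 6, 2, 16, 1, 7, 1, 0, -21, -15, 1]⟩)) (.node 1 (.leaf ⟨6, 9, true, [32, 21, 39, 12, 24, 12], [32, 6, 33, 42, 4, 6], [-98, -292, 14, -217, -184, -60, 64, -17, 10, -21, 39, -25, -130, 29, 11, 4, 0, -28, -18, -18, 2, -6, -2, -16, -1, -7, -1, 0, 21, 15, -1]⟩) (.leaf ⟨9, 6, true, [40, 11, 35, 32, 13], [18, 2, 34, 21, 38, 24, 0], [102, 234, -57, 215, 128, 46, -77, 17, -23, 42, -51, 34, 91, -35, -23, -11, -1, 22, 13, 22, -6, 4, 4, 13, -2, 7, 7, 0, -16, -16, 2]⟩)))) (.node 4 (.node 2 (.node 1 (.leaf ⟨6, 9, true, [42, 37, 25, 28, 40, 32], [8, 6, 32, 12, 40, 8], [-103, -230, 58, -216, -127, -46, 77, -16, 23, -42, 51, -35, -93, 35, 22, 11, 1, -22, -13, -22, 6, -4, -4, -13, 2, -7, -7, 0, 16, 16, -2]⟩) (.leaf ⟨9, 6, true,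 [36, 38, 10, 29, 14], [2, 4, 32, 16, 27, 37, 21], [-46, -162, -1, -106, -147, -44, 18, -20, 7, -61, 28, -15, -47, 33, 40, 5, -4, -10, -15, -18, 5, -3, -1, -10, 2, -4, -1, 0, 8, 4, -1]⟩)) (.node 1 (.leaf ⟨6, 9, true, [10, 0, 18, 34, 8, 24, 10], [14, 28, 43, 37, 8], [47, 162, 1, 106, 147, 44, -18, 20, -7, 61, -28, 15, 49, -33, -41, -5, 4, 10, 15, 18, -5, 3, 1, 10, -2, 4, 1, 0, -8, -4, 1]⟩) (.leaf ⟨9, 6, true, [11, 37, 41, 43, 0], [38, 30, 16, 42, 24, 14], [-6, 2, 18, -15, -58, -12, -9, -4, 3, -39, 16, -8, 6, 10, 15, 2, -1, 2, -5, -6, 3, -1, 1, -1, -1, -1, 0, 0, 0, 3]⟩))) (.node 2 (.node 1 (.leaf ⟨6, 9, true, [24, 37, 12, 40, 35, 25], [13, 16, 2, 4], [5, 2, -17, 14, 59, 12, 9, 5, -3, 39, -16, 7, -8, -10, -16, -2, 1, -2, 5, 6, -3, 1, -1, 1, 1, 1, 0, 0, 0, -3]⟩) (.leaf ⟨9, 6, true, [42, 16,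 36, 28, 37, 18], [19, 4, 31, 38, 10, 41, 21], [-14, -311, -119, -204, -535, -64, -1, -79, 7, -61, 40, 48, -159, 114, 149, 10, 1, -10, -30, -38, 11, -21, -8, -21, -2, -6, -2, 0, 15, 7, 1]⟩)) (.node 1 (.leaf ⟨6, 9, true, [19, 42, 42, 26, 36, 18], [14, 23, 29, 37, 38, 6], [13, 314, 120, 203, 536, 64, 1, 80, -7, 61, -40, -49, 159, -114, -150, -10, -1, 10, 30, 38, -11, 21, 8, 21, 2, 6, 2, 0, -15, -7, -1]⟩) (.leaf ⟨9, 6, true, [36, 36, 39, 32, 18], [36, 32, 8, 10, 20, 43], [-87, 118, 224, -45, 313, 6, 46, 52, 36, -41, 4, -16, 100, -72, -101, 1, -1, -2, 7, 20, -7, 27, 5, 11, -2, 5, 1, 0, -4, 0, -5]⟩)))))) (.node 15 (.node 7 (.node 3 (.node 1 (.leaf ⟨9, 6, true, [12, 6, 35, 11], [21, 30, 38, 26, 30, 2], [39, 150, 0, 105, -80, 65, -27, -5, 17, -46, 58, -10, 86, 7, -17, 15, -2, 9, 7, -12, 10, 7,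 3, 6, -4, -4, 3, 0, -6, 7, -2]⟩) (.node 1 (.leaf ⟨6, 9, true, [18, 0, 30, 10, 36, 19, 27], [39, 12, 36, 8, 4], [-40, -148, 1, -106, 81, -65, 27, 6, -17, 46, -58, 9, -84, -7, 16, -15, 2, -9, -7, 12, -10, -7, -3, -6, 4, 4, -3, 0, 6, -7, 2]⟩) (.leaf ⟨9, 6, true, [29, 30, 41, 10, 31, 14], [2, 41, 21, 39, 32, 12], [2, -120, -24, -71, -102, -37, 8, -14, -4, 0, 12, 9, -50, 25, 11, -1, -4, -6, -12, -6, 0, 0, 1, -6, -1, 3, -1, 0, 7, 2, -1]⟩))) (.node 2 (.node 1 (.leaf ⟨6, 9, true, [21, 32, 19, 39, 19, 34], [32, 35, 13, 6, 24, 8], [-1, 122, 24, 71, 102, 37, -8, 14, 4, 0, -12, -9, 48, -25, -12, 1, 4, 6, 12, 6, 0, 0, -1, 6, 1, -3, 1, 0, -7, -2, 1]⟩) (.leaf ⟨9, 6, true, [4, 35, 29, 30, 32, 11], [38, 31, 25, 41, 35, 39], [36, -191, -235, 1, -271, -60, 8, -8, -21, 47, -93, 28, -43, 69, 38, -6, -1, -16,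 -18, -8, -4, -28, 2, -10, 1, 9, -3, 0, 19, -3, 1]⟩)) (.node 1 (.leaf ⟨6, 9, true, [29, 41, 22, 10, 25, 8], [10, 32, 8, 28, 34, 4], [-37, 194, 236, -2, 272, 60, -8, 9, 21, -47, 93, -29, 43, -69, -39, 6, 1, 16, 18, 8, 4, 28, -2, 10, -1, -9, 3, 0, -19, 3, -1]⟩) (.leaf ⟨9, 6, true, [14, 4, 43, 14], [20, 34, 30, 38, 30, 35], [45, -59, -115, 40, -21, 12, -23, -17, -21, 54, 14, -12, -19, 11, 31, -3, 0, -1, -3, -2, 0, -15, -2, -4, 0, -1, 1, 0, 0, 1, 4]⟩)))) (.node 4 (.node 2 (.node 1 (.leaf ⟨6, 9, true, [19, 28, 43, 32, 39, 23], [10, 41, 14, 13, 0], [-46, 62, 116, -41, 22, -12, 23, 18, 21, -54, -14, 11, 19, -11, -32, 3, 0, 1, 3, 2, 0, 15, 2, 4, 0, 1, -1, 0, 0, -1, -4]⟩) (.leaf ⟨9, 5, true, [13, 37, 0], [18, 34, 26, 6, 2, 14], [22, 34, 19, 25, -59, 17, 6, -18, 38, -62, 67, -10, 23, -4, 17, 14,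 -9, 8, -4, -16, 9, -3, 4, -5, 0, -3, -3, 0, 1, 12, -2]⟩)) (.node 1 (.leaf ⟨5, 9, true, [35, 26, 21, 13, 6], [4, 36, 12], [-24, -65, -26, -46, 19, -28, -4, 15, -37, 59, -68, 12, -40, 13, -13, -14, 8, -10, 1, 14, -9, 3, -4, 3, 0, 3, 3, 0, 1, -12, 2]⟩) (.leaf ⟨9, 6, true, [33, 40, 2, 41, 6], [4, 2, 33, 42, 30, 27, 8], [-9, -291, -167, -172, -561, -65, -3, -56, -26, -24, -34, 58, -150, 115, 114, 5, 6, -17, -25, -28, 6, -21, -9, -19, -1, -3, 1, 0, 16, 3, 2]⟩))) (.node 2 (.node 1 (.leaf ⟨6, 9, true, [21, 32, 34, 19, 19, 25], [14, 6, 2, 32], [8, 294, 168, 171, 562, 65, 3, 57, 26, 24, 34, -59, 150, -115, -115, -5, -6, 17, 25, 28, -6, 21, 9, 19, 1, 3, -1, 0, -16, -3, -2]⟩) (.leaf ⟨9, 4, true, [35, 19, 14, 10, 0], [27, 2, 24, 36, 39, 20, 0], [-22, 123, 68, 16, -25, -42, -30, 5, 27, -35, -42, 34,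 24, 0, -12, -4, -12, 15, 9, 1, -4, 24, 4, -2, -1, 2, 6, 0, -5, -12, -6]⟩)) (.node 1 (.leaf ⟨4, 9, true, [2, 22, 41, 38, 33, 19], [14, 11, 18, 34, 2], [1, -82, -28, -11, 99, 50, 30, 3, -23, 18, 57, -38, 9, -20, 5, 4, 10, -11, -7, 1, 4, -22, -2, 4, 1, -2, -6, 0, 3, 12, 4]⟩) (.leaf ⟨8, 9, true, [21, 25, 31, 31, 6, 8], [6, 31, 13, 26, 4], [6, -16, -13, -5, -41, -4, -1, -6, 1, -3, 1, 1, -5, 10, 6, 0, 0, -1, -2, -3, 1, -2, 0, -1, 0, 0, 0, 0, 1, 1]⟩))))) (.node 8 (.node 4 (.node 2 (.node 1 (.leaf ⟨6, 9, true, [42, 0, 29, 33, 37, 10, 26], [13, 40, 38, 22, 29, 11], [5, -110, -93, -44, -241, -14, -6, -11, -26, -6, -12, 15, -38, 65, 27, 7, -1, -10, -11, -17, 5, -6, 0, -7, -1, 3, -1, 0, 7, 1, 1]⟩) (.leaf ⟨9, 6, true, [10, 2, 38, 36, 32, 22, 19], [36, 33, 24, 35, 29, 11], [38, 269, 83, 164, 333, 30,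 -38, 29, 22, 22, -34, 5, 104, -87, -42, -13, -1, 26, 21, 31, -9, 12, 2, 15, 1, 1, 3, 0, -17, -11, -1]⟩)) (.node 1 (.leaf ⟨6, 9, true, [29, 2, 18, 28, 39, 19, 29], [6, 25, 6, 14, 24, 29], [87, -261, -252, -34, -363, -16, 11, -58, -38, 77, -26, 15, -139, 88, 93, 0, 12, -17, -7, -19, 4, -28, -9, -13, -1, -1, -2, 0, 9, -1, 4]⟩) (.leaf ⟨9, 6, true, [43, 40, 22, 20], [12, 2, 30, 39, 28, 40, 14], [-85, 278, 256, 43, 381, 21, -13, 60, 38, -76, 27, -16, 146, -91, -96, 0, -12, 18, 8, 20, -4, 28, 9, 14, 1, 1, 2, 0, -10, 1, -4]⟩))) (.node 2 (.node 1 (.leaf ⟨8, 9, true, [0, 33, 14, 11, 20, 6], [6, 29, 6, 28, 16, 14], [-8, 36, 43, 24, 125, -2, 11, 25, -6, 24, -33, -5, 42, -25, -52, -4, -2, -1, 4, 11, -5, 14, 2, 5, -1, 1, 2, 0, -1, -3]⟩) (.leaf ⟨9, 6, true, [40, 33, 30, 25, 6], [11, 0, 22, 40, 30, 23,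 28], [3, -17, -31, 7, -23, -12, -17, 5, -3, 22, -39, 18, 20, 14, 12, -2, -1, 4, 2, 4, -3, 7, -1, -1, -3, 3, 0, 0, -1, -10, 1]⟩)) (.node 1 (.leaf ⟨6, 9, true, [24, 2, 11, 33, 2, 30, 22], [6, 19, 25, 28, 41], [-4, 19, 32, -8, 24, 12, 17, -4, 3, -22, 39, -19, -18, -14, -13, 2, 1, -4, -2, -4, 3, -7, 1, 1, 3, -3, 0, 0, 1, 10, -1]⟩) (.leaf ⟨6, 9, true, [40, 26, 29, 40, 32, 36], [6, 31, 10, 16, 19], [7, -1, -15, 10, 14, 12, -1, -2, -13, 19, -5, -1, 0, 3, -1, 2, 0, 0, 2, 1, 0, 1, -1, 1, 0, 0, -2, 0, -1, -1, 1]⟩)))) (.node 4 (.node 2 (.node 1 (.leaf ⟨9, 6, true, [18, 29, 24, 11, 6], [2, 22, 40, 16, 24, 30], [-7, -14, 11, -19, -32, -17, 3, 0, 13, -20, 4, 2, -7, 0, 2, -2, 0, -1, -3, -2, 0, -1, 1, -2, 0, 0, 2, 0, 2, 1, -1]⟩) (.leaf ⟨6, 9, true, [12, 42, 39, 37, 23, 14], [6, 10, 33, 16, 32], [4, 39,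 -11, 22, -44, 13, 9, 10, 4, -18, 19, 0, 14, 15, -27, 9, -4, -6, 1, -10, 4, -2, 2, 3, 0, 2, -2, 0, 5, 3, -1]⟩)) (.node 1 (.leaf ⟨9, 7, true, [42, 29, 10, 18, 8], [34, 0, 24, 24, 36, 13, 23], [18, 116, 44, 53, 169, 3, -11, 39, 31, 1, -36, -5, 79, -33, -36, -3, -2, 7, 10, 17, -6, 9, 0, 8, 1, 9, -1, 0, -8, -9, -3]⟩) (.leaf ⟨7, 9, true, [14, 28, 21, 34, 42, 25], [6, 23, 8, 18, 43, 10], [-39, -55, 19, -26, -20, 12, 28, -30, -36, 6, 45, 17, -34, -1, 15, 0, 2, -3, -5, -8, 4, -4, 0, -2, -1, -10, 0, 0, 4, 10, 1]⟩))) (.node 2 (.node 1 (.leaf ⟨3, 9, true, [19, 4, 36, 20, 23, 36, 19], [29, 31, 2, 27, 13, 36], [-16, -19, 83, -69, -10, -23, 41, 4, 30, -13, 23, -8, -67, 9, -26, 7, -8, 0, 1, -3, 1, 22, -1, -4, 1, -3, 1, 0, 1, -2]⟩) (.leaf ⟨9, 3, true, [29, 14, 6, 35, 18, 27], [33, 34, 33, 38, 6, 29],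 [-4, -59, -78, 9, -36, 15, -19, -13, -28, 5, 0, -2, 34, 2, 32, -4, 9, -8, -6, -4, 1, -25, 0, 0, -1, 1, -2, 0, 4, 7]⟩)) (.node 1 (.leaf ⟨6, 9, true, [10, 2, 42, 41, 16, 18, 26], [2, 26, 25, 26, 4], [-19, -31, -28, 0, -58, -11, 0, -18, -17, 5, 7, 7, -29, 11, 21, -2, -1, 0, -1, -5, 1, -4, -1, -3, -2, -8, 1, 0, 4, 3, 2]⟩) (.leaf ⟨9, 6, true, [24, 20, 35, 41, 32, 10], [12, 2, 23, 2, 21, 36, 30], [-3, -79, 25, -78, -24, -7, 26, 5, 19, -15, 14, -15, -18, 6, -11, 5, 2, -10, -6, -4, 1, 1, 0, -3, 2, 6, -2, 0, 3, 2, -2]⟩)))))))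
noncomputable def dF3039 : BT Fct := (.node 30 (.node 15 (.node 7 (.node 3 (.node 1 (.leaf ⟨6, 9, true, [27, 37, 32, 26, 41, 16], [2, 22, 22, 33, 14], [29, -18, -64, 20, -69, 10, 2, -8, -3, 17, 7, 6, -15, 14, 28, 4, 3, -1, 0, -6, 3, -8, -2, -2, 1, 0, -4, 0, 1, 1]⟩) (.node 1 (.leaf ⟨9, 6, true, [16, 13, 16, 2], [43, 36, 33, 38, 29, 16], [-31, -29, 52, -47, 15, -25, 4, 2, 3, -20, -10, -3, -6, -5, -23, -4, -3, -2, -3, 3, -3, 8, 2, -1, -1, 0, 4, 0, 2, -1]⟩) (.leaf ⟨6, 9, true, [13, 18, 35, 14, 29, 8], [16, 2, 26, 8, 18], [15, 225, 14, 152, 225, 75, -24, 22, -17, 25, -11, -5, 111, -62, -23, -4, 13, 12, 23, 19, -3, -12, -2, 16, -3, 0, 3, 0, -12, -2, 1]⟩))) (.node 2 (.node 1 (.leaf ⟨9, 6, true, [2, 27, 24, 6, 23, 14], [32, 23, 14, 41, 26, 19], [31, -18, -12, -5, -79, -44, -26, 2, 13, -6, -32,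 22, -24, 31, 2, -2, -15, 7, -10, -2, -1, 18, 4, -5, 3, 4, -1, 0, -1, -8, -1]⟩) (.leaf ⟨6, 9, true, [39, 2, 29, 34, 43, 23], [0, 2, 22, 20, 33, 4], [-39, 108, 97, 48, 273, 3, 16, 52, -1, 16, -42, -25, 95, -48, -61, -6, -4, 1, 4, 21, -8, 18, 3, 9, -1, 1, 1, 0, -5, -6]⟩)) (.node 1 (.leaf ⟨9, 6, true, [11, 2, 37, 33, 35, 40], [12, 10, 33, 39, 28, 12], [18, -202, -96, -117, -337, -16, 8, -63, 3, -25, 64, 16, -135, 62, 69, 9, 5, -10, -10, -29, 10, -21, -4, -14, 1, -3, -2, 0, 11, 11]⟩) (.leaf ⟨9, 9, true, [35, 33, 43, 38, 27, 27], [4, 32, 2, 27, 22, 20], [-52, -166, 33, -141, -106, -52, 30, -14, 14, -34, 25, -7, -65, 27, 21, 4, -3, -12, -13, -13, 2, 0, -1, -9, 0, -2, -3, 0, 10, 7, -2]⟩)))) (.node 4 (.node 2 (.node 1 (.leaf ⟨9, 9, true, [24, 29, 36, 12, 18, 26], [36, 4, 29, 38, 18, 36, 6], [52,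 151, -37, 132, 88, 47, -28, 12, -14, 33, -26, 8, 58, -24, -20, -4, 3, 11, 12, 12, -2, 0, 1, 8, 0, 2, 3, 0, -9, -7, 2]⟩) (.leaf ⟨5, 9, true, [0, 19, 42, 37, 43, 14], [0, 43, 36, 28, 31, 24], [-11, 10, 12, -2, 12, -7, 1, 3, 0, -3, 1, 0, -4, -6, 0, -1, 0, 0, 1, 3, -1, -2, 0, 0, 0, 0, 0, 0, 1, -1, -1]⟩)) (.node 1 (.leaf ⟨9, 5, true, [0, 36, 38, 36, 31, 10], [35, 8, 38, 40, 42, 32], [14, 23, -4, 20, 24, 17, -5, 1, 0, 5, 1, -2, 18, 0, -5, 1, 0, 2, 1, -1, 1, 2, 0, 2, 0, 0, 0, 0, -3, 1, 1]⟩) (.leaf ⟨9, 9, true, [29, 2, 39, 18, 25], [41, 11, 38, 34, 23, 6], [111, 296, -149, 305, 133, 73, -111, 22, -52, 59, -97, 41, 176, -43, 5, -16, 9, 25, 18, 25, -6, -17, 4, 18, -1, 9, 4, 0, -19, -14]⟩))) (.node 2 (.node 1 (.leaf ⟨6, 9, true, [30, 0, 10, 36, 21, 41, 19], [12, 28, 33, 19, 2, 31], [3, 183, 89,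 118, 338, 34, 5, 53, 6, 28, -13, -25, 108, -65, -80, -2, -6, 9, 11, 21, -5, 17, 4, 15, -1, 4, -2, 0, -11, -2, 1]⟩) (.leaf ⟨6, 9, true, [16, 2, 30, 26, 41, 19, 24], [12, 40, 40, 30, 18, 16], [8, 154, 111, 73, 304, 34, 14, 62, 17, -1, 9, -23, 122, -60, -47, 4, -1, 10, 5, 15, -2, 17, 3, 13, 1, 7, -5, 0, -12, -2, -2]⟩)) (.node 1 (.leaf ⟨9, 6, true, [13, 31, 18, 43, 41, 10], [42, 10, 33, 38, 18, 43, 27], [-7, -153, -111, -73, -304, -34, -14, -62, -17, 1, -9, 23, -122, 60, 46, -4, 1, -10, -5, -15, 2, -17, -3, -13, -1, -7, 5, 0, 12, 2, 2]⟩) (.leaf ⟨6, 9, true, [27, 0, 35, 37, 19, 16, 31], [26, 21, 33, 37, 33, 37], [-27, -343, -67, -196, -320, -76, 12, -37, -22, -33, 30, 5, -119, 102, 45, 7, -14, -20, -36, -27, 4, -3, 1, -17, -4, 6, -1, 0, 18, 5, 3]⟩))))) (.node 7 (.node 3 (.node 1 (.leaf ⟨6,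 9, true, [19, 4, 42, 23, 43, 29, 10], [33, 0, 2, 33, 2, 24, 18], [-23, 668, 256, 428, 1141, 127, -6, 153, -17, 116, -78, -111, 373, -237, -232, -22, -2, 30, 50, 83, -21, 36, 6, 49, -3, 6, 1, 0, -39, -9, 3]⟩) (.node 1 (.leaf ⟨9, 6, true, [33, 39, 12, 36, 31, 20], [19, 2, 36, 19, 27, 42, 29], [0, -794, -263, -515, -1241, -150, 34, -168, 19, -127, 98, 104, -427, 257, 244, 25, 3, -41, -58, -93, 23, -39, -7, -56, 3, -8, -2, 0, 47, 14, -3]⟩) (.leaf ⟨6, 9, true, [10, 0, 39, 35, 28, 39, 18], [20, 8, 33, 40, 35, 27], [4, 5, 77, -2, 112, -13, 28, 21, 19, -4, -13, -9, 26, -26, -62, -2, -1, -4, 1, 9, -5, 22, 4, 2, 1, 2, 3, 0, 1, -5, -1]⟩))) (.node 2 (.node 1 (.leaf ⟨9, 6, true, [2, 20, 16, 6, 23, 14], [22, 38, 8, 35, 20, 0], [-5, -36, -85, -16, -148, 3, -24, -25, -19, 2, 11, 11, -40, 32, 65, 2, 1,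 2, -3, -11, 5, -22, -4, -4, -1, -2, -3, 0, 1, 5, 1]⟩) (.leaf ⟨6, 9, true, [0, 2, 24, 30, 42, 27, 13], [43, 2, 27, 36, 27, 13, 25], [-33, 643, 274, 401, 1067, 136, -23, 140, -31, 38, -18, -103, 381, -237, -202, -15, -16, 36, 33, 64, -14, 22, 11, 45, -3, 5, 2, 0, -32, 3, 2]⟩)) (.node 1 (.leaf ⟨9, 6, true, [4, 42, 26, 25, 29, 10], [21, 0, 16, 41, 33, 41, 29], [10, -769, -281, -488, -1167, -159, 51, -155, 33, -49, 38, 96, -435, 257, 214, 18, 17, -47, -41, -74, 16, -25, -12, -52, 3, -7, -3, 0, 40, 2, -2]⟩) (.leaf ⟨6, 9, true, [24, 16, 32, 38, 38, 13], [38, 2, 33, 23, 40, 27], [-10, 77, 66, 46, 164, -2, -6, 29, -29, 21, -58, 2, 52, -33, -84, -11, 0, -4, 3, 18, -8, 18, 2, 10, -1, 3, 6, 0, -1, -6, 2]⟩)))) (.node 4 (.node 2 (.node 1 (.leaf ⟨9, 6, true, [2, 16, 28, 37, 21, 4], [8, 13, 38, 28, 25,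 13], [76, 193, -73, 152, 10, 36, -64, 2, 23, 5, -9, 26, 61, -6, 58, 2, -3, 30, 14, 5, 2, -9, 1, 4, 1, 3, -3, 0, -16, -9, -2]⟩) (.leaf ⟨9, 9, true, [33, 35, 6, 38, 28], [2, 16, 31, 40, 22, 18], [2, 62, 40, 34, 132, 10, 6, 20, 3, 13, -11, -6, 41, -24, -31, -1, 0, 3, 3, 9, -3, 8, 1, 5, 0, 3, 0, 0, -3, -2]⟩)) (.node 1 (.leaf ⟨6, 9, true, [6, 0, 28, 2, 26, 25, 8], [0, 35, 41, 21, 28, 38], [-44, -16, 53, -58, -37, -14, -6, 2, 1, -35, 26, 10, -22, 0, 53, 1, 1, 3, -3, -2, 1, -12, -4, -2, -3, -2, 1, 0, 1, -3, 1]⟩) (.leaf ⟨9, 6, true, [36, 38, 43, 14, 23], [22, 30, 14, 11, 34, 20], [44, 1, -57, 49, 19, 9, 8, -4, -1, 34, -27, -9, 15, 3, -52, -1, -1, -4, 2, 1, -1, 12, 4, 1, 3, 2, -1, 0, 0, 3, -1]⟩))) (.node 2 (.node 1 (.leaf ⟨6, 9, true, [42, 20, 38, 22, 28, 38], [2, 10, 30, 42, 31, 26], [-39, -118,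 -3, -95, -96, -34, -21, 7, -19, -15, -31, 3, -59, 44, -3, 1, -7, -9, -13, -2, -2, 3, 2, -3, 0, 3, 1, 0, 5, -4, 1]⟩) (.leaf ⟨6, 9, true, [18, 8, 21, 41, 18, 29], [24, 37, 43, 27, 35], [37, 28, -2, 44, 64, -6, 10, 14, 8, 24, -62, -16, 21, -1, -63, -4, 5, -1, 6, 12, -5, 16, 0, 4, -2, 1, 4, 0, 1, 0, 2]⟩)) (.node 1 (.leaf ⟨9, 6, true, [0, 43, 35, 23, 23, 30], [35, 18, 38, 32, 27], [-38, -59, -6, -62, -100, -4, -6, -18, -8, -26, 60, 18, -35, 7, 66, 4, -5, -1, -8, -14, 5, -16, 0, -6, 2, -1, -4, 0, 1, 0, -2]⟩) (.leaf ⟨6, 9, true, [6, 36, 42, 20, 26, 30], [12, 11, 40, 40, 30, 10], [-43, 280, 171, 124, 439, 39, -15, 69, -1, 5, -38, -17, 151, -87, -111, -8, 2, 10, 24, 31, -9, 18, 1, 20, -4, 3, 6, 0, -14, -2]⟩)))))) (.node 15 (.node 7 (.node 3 (.node 1 (.leaf ⟨9, 6, true, [6, 10, 39, 26, 14, 18],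 [31, 28, 35, 14, 2, 42], [41, -327, -183, -151, -493, -54, 21, -75, 1, -8, 35, 20, -172, 96, 116, 8, -2, -13, -27, -34, 9, -18, -1, -23, 4, -3, -6, 0, 17, 2]⟩) (.node 1 (.leaf ⟨6, 9, true, [21, 0, 42, 2, 41, 24, 16], [41, 4, 28, 40, 29, 30], [-3, 15, 24, 2, 53, -10, 6, 9, -1, 8, -18, -6, 14, -7, -19, 0, -1, -1, 1, 4, -2, 5, 1, 2, 0, -1, 1, 0, 0, -1]⟩) (.leaf ⟨9, 6, true, [6, 30, 12, 41, 33, 10], [20, 6, 16, 14, 29, 34, 26], [69, 255, -31, 196, 121, 44, -76, 22, -5, 18, -49, 34, 99, -32, -7, -9, -2, 27, 16, 19, -4, 4, 2, 12, 0, 7, 2, 0, -17, -14]⟩))) (.node 2 (.node 1 (.leaf ⟨6, 9, true, [35, 10, 40, 30, 42, 26, 28], [11, 11, 41, 25, 22, 14], [-42, -188, 5, -174, -232, -43, 10, -27, 16, -56, 29, 27, -85, 63, 82, 8, 3, -7, -18, -19, 5, -11, -3, -12, 1, -3, -4, 0, 12, 3, -2]⟩) (.leaf ⟨9,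 6, true, [35, 28, 26, 12], [18, 16, 34, 43, 29, 42], [20, 78, -8, 96, 150, 25, 16, 14, -14, 46, -8, -35, 38, -46, -72, -5, -2, -3, 11, 10, -3, 8, 2, 6, -1, 1, 3, 0, -5, 2, 2]⟩)) (.node 1 (.leaf ⟨6, 9, true, [19, 21, 38, 28, 25, 16, 6], [41, 30, 10, 10, 22], [-15, 269, 34, 208, 404, 75, -48, 48, -31, 19, -53, -14, 143, -90, -54, -13, 4, 13, 25, 35, -10, -8, -3, 20, -6, 3, 7, 0, -16, -4]⟩) (.leaf ⟨9, 6, true, [2, 21, 41, 38, 28, 10], [31, 0, 36, 22, 30, 35, 26], [35, -221, -47, -166, -394, -77, 30, -43, 29, -13, 28, 26, -124, 85, 50, 10, -5, -7, -22, -30, 8, 11, 4, -18, 6, -1, -6, 0, 13, -1]⟩)))) (.node 4 (.node 2 (.node 1 (.leaf ⟨6, 9, true, [27, 0, 38, 18, 32, 38, 28], [2, 31, 6, 31, 21, 29], [-117, 108, 181, -30, 276, -47, 20, 73, 4, -40, -38, -1, 71, -63, -68, -11, -15, 2, -4, 21, -9,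 20, 6, 6, 2, 6, -1, 0, -4, -3, -4]⟩) (.leaf ⟨9, 6, true, [40, 12, 43, 36, 22, 27], [21, 0, 30, 19, 42, 25, 2], [161, 67, -187, 159, -166, 68, -66, -53, -8, 57, -7, 20, 2, 38, 51, 5, 13, 15, 15, -6, 5, -14, -4, 3, -2, -2, 3, 0, -7, -7, 4]⟩)) (.node 1 (.leaf ⟨6, 9, true, [6, 40, 22, 30, 43, 24], [14, 37, 42, 26, 31, 28], [86, -72, -174, 43, -248, 23, -28, -13, 5, 17, -22, 6, -37, 61, 94, 12, 13, 4, 5, -11, 6, -37, -6, -5, 6, -1, -8, 0, 2, -1, 2]⟩) (.leaf ⟨9, 6, true, [16, 37, 13, 43, 0], [20, 40, 20, 20, 2, 19], [-84, 89, 178, -34, 266, -18, 26, 15, -5, -16, 23, -7, 44, -64, -97, -12, -13, -3, -4, 12, -6, 37, 6, 6, -6, 1, 8, 0, -3, 1, -2]⟩))) (.node 2 (.node 1 (.leaf ⟨5, 9, true, [43, 34, 31, 43, 26, 0], [38, 16, 33, 27, 11], [90, -78, -143, 30, -221, 15, 0, -13, -18, 30, 9, -2, -17, 46,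 -14, 8, 1, -9, -11, -14, 6, 5, 4, -3, 3, 4, 1, 0, 4, -1, 2]⟩) (.leaf ⟨9, 5, true, [33, 40, 16, 36, 13], [4, 27, 42, 30, 35, 42], [-24, 348, 136, 168, 395, 19, -70, 44, 12, -4, -76, 30, 130, -85, -12, -17, -4, 35, 28, 37, -12, 4, -1, 17, -3, 2, 2, 0, -21, -14, -2]⟩)) (.node 1 (.leaf ⟨7, 9, true, [20, 41, 27, 27, 41, 26], [14, 20, 35, 27, 35, 27], [32, 258, 112, 113, 421, 48, -18, 48, 17, 37, -1, -53, 37, -101, -74, -6, -1, 12, 19, 29, -7, 5, 3, 14, 3, 7, 0, 0, -16, -6, 1]⟩) (.leaf ⟨9, 7, true, [18, 33, 22, 39, 27, 21], [29, 31, 18, 34, 8, 11], [-56, -400, -123, -209, -539, -76, 48, -65, -15, -49, 20, 47, -98, 124, 88, 9, 2, -24, -28, -40, 9, -8, -4, -22, -3, -9, -1, 0, 25, 11, -1]⟩))))) (.node 8 (.node 4 (.node 2 (.node 1 (.leaf ⟨6, 9, true, [2, 38, 34, 43, 32, 29], [32, 23, 14, 38, 31,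 11], [-55, 326, 174, 173, 387, 34, -15, 102, 3, -29, -27, -42, 232, -69, -145, 6, -20, 11, 16, 17, -4, 44, 10, 16, -1, 6, 0, 0, -14, -4, -1]⟩) (.leaf ⟨6, 9, true, [21, 2, 21, 6, 42, 27, 20], [0, 43, 36, 4, 27, 14], [18, 273, 35, 164, 211, 58, -27, 52, 1, 10, -3, -33, 144, -38, -54, 7, -3, 13, 17, 5, 3, 11, 2, 16, 0, 5, -3, 0, -16, 1, -1]⟩)) (.node 1 (.leaf ⟨9, 6, true, [2, 39, 10, 12, 28, 10], [41, 0, 12, 24, 42, 10, 22], [28, -66, -33, -17, -65, -27, -23, -28, -5, 9, -40, 50, -57, 7, 33, -13, 1, 6, -4, 12, -7, -5, 0, -5, 0, -1, 5, 0, 3, -11, 1]⟩) (.leaf ⟨9, 9, true, [2, 21, 42, 14, 11, 8], [2, 24, 6, 28, 21, 14], [-52, -15, 78, -18, 135, -19, 14, 17, 11, -50, 37, -37, 35, -20, -10, 3, -7, -3, -6, -4, 2, 6, 2, 0, 1, -2, -1, 0, -1, 4, -1]⟩))) (.node 2 (.node 1 (.leaf ⟨9, 9, true, [14,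 10, 23, 37, 30, 37], [31, 14, 35, 41, 16, 6], [95, 174, -88, 138, -43, 35, -58, 1, -15, 66, -83, 57, 31, -2, -5, -9, 5, 19, 16, 18, -6, 0, 0, 8, -1, 6, 3, 0, -9, -14, 1]⟩) (.leaf ⟨6, 9, true, [27, 41, 28, 32, 0, 38], [11, 34, 14, 12, 19, 13], [-5, 263, 113, 127, 310, 63, -8, 37, 10, -18, 27, -34, 128, -84, -44, 2, 3, 17, 22, 15, 0, 4, 0, 17, -1, 1, 2, 0, -18, 1, -2]⟩)) (.node 1 (.leaf ⟨9, 6, true, [4, 36, 38, 36, 10], [21, 16, 35, 29, 19, 43], [8, -230, -105, -109, -274, -53, 4, -33, -10, 20, -25, 32, -114, 78, 39, -2, -3, -15, -20, -13, 0, -4, 0, -15, 1, -1, -2, 0, 16, -1, 2]⟩) (.leaf ⟨6, 9, true, [43, 34, 37, 32, 10, 8], [10, 41, 34, 37, 30, 21], [-17, 0, 139, -70, 157, -32, 44, 17, 31, 31, -5, -18, -52, -45, -55, -3, -5, 5, 7, 16, -7, 28, 0, 0, 0, 0, 3, 0, -5, -5, 1]⟩)))) (.node 4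 (.node 2 (.node 1 (.leaf ⟨9, 6, true, [38, 41, 41, 2, 14, 0], [43, 27, 39, 4, 34], [42, 128, -132, 157, -57, 55, -72, -2, -33, -20, -15, 25, 106, 25, 41, 0, 4, 6, 1, -6, 5, -25, 1, 7, 0, 2, -2, 0, -3, 0, -1]⟩) (.leaf ⟨6, 9, true, [43, 12, 34, 28, 39, 18], [2, 19, 34, 36, 19, 0], [-13, 124, 57, 46, 109, -14, -15, 28, -16, 1, -39, -6, 32, -29, -61, -8, -5, -2, 1, 13, -5, 2, 2, 10, -3, 3, 7, 0, -2, 1]⟩)) (.node 1 (.leaf ⟨9, 6, true, [40, 35, 10, 6, 22, 13], [19, 41, 39, 40, 13, 6], [-30, -313, -55, -184, -237, -12, 63, -50, 20, -19, 83, -12, -112, 57, 78, 14, 7, -16, -13, -29, 9, -8, -4, -20, 3, -7, -9, 0, 14, 9]⟩) (.leaf ⟨6, 9, true, [19, 0, 24, 41, 12, 22, 6], [16, 28, 41, 21, 29, 30], [13, 132, 6, 104, 136, 47, -9, 18, 5, 17, 28, -15, 83, -38, -3, 5, 0, 11, 10, 4, 2, -5, 2, 8, 0, 1, -2,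 0, -9, 0, -1]⟩))) (.node 2 (.node 1 (.leaf ⟨9, 6, true, [39, 31, 34, 42, 42, 28], [39, 0, 40, 6, 2, 30, 25], [9, -52, -11, -44, -90, -39, -13, -9, -7, -9, -51, 25, -50, 27, -5, -8, -1, -3, -5, 3, -4, 8, -1, -4, 0, 1, 3, 0, 4, -5, 1]⟩) (.leaf ⟨6, 9, true, [10, 34, 30, 22, 38, 20], [32, 43, 23, 11, 30], [47, -224, -157, -90, -342, -16, 10, -66, 16, -15, 23, 28, -105, 80, 161, 8, 21, -1, -12, -26, 11, -38, -13, -16, 8, -2, -11, 0, 8, 8, -1]⟩)) (.node 1 (.leaf ⟨9, 6, true, [29, 38, 41, 22, 33, 18], [21, 37, 27, 13, 43, 13], [-89, 51, 163, -39, 232, -5, 36, 46, -12, -2, 22, -47, 32, -55, -146, -2, -19, -16, 1, 11, -7, 32, 11, 7, -8, -2, 9, 0, 3, 2, 1]⟩) (.leaf ⟨6, 9, true, [24, 37, 41, 28, 38, 29], [2, 21, 34, 6, 36, 10], [18, -102, -42, -14, -32, -30, 14, -3, -36, 4, -35, -5, -10, 41, 8,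 2, -1, -7, -11, -3, -1, 7, -2, -1, 3, 4, -2, 0, 3, -7, 1]⟩)))))))
noncomputable def dF3100 : BT Fct := (.node 30 (.node 15 (.node 7 (.node 3 (.node 1 (.leaf ⟨9, 6, true, [41, 36, 31, 28, 11], [33, 0, 6, 28, 38, 27, 21], [6, 214, 45, 92, 114, 48, -40, 16, 34, 6, 14, 13, 57, -58, -20, -5, 0, 17, 18, 12, -1, -4, 3, 7, -3, -2, 3, 0, -10, 2, -1]⟩) (.node 1 (.leaf ⟨6, 9, true, [29, 38, 26, 10, 19, 28], [14, 2, 40, 35, 36, 24, 11], [-35, 24, 133, -36, 205, -43, 27, 33, -1, 32, -52, -3, -16, -30, -71, -12, 1, -6, 6, 24, -12, 26, 1, 5, -3, 1, 2, 0, -1, -8]⟩) (.leaf ⟨9, 6, true, [0, 11, 35, 27, 32, 30], [6, 23, 38, 33, 30, 19], [59, 88, -130, 114, -123, 61, -53, -20, -1, -22, 31, 11, 63, 13, 59, 9, -2, 16, 1, -15, 10, -23, 0, 1, 3, 1, -1, 0, -6, 3]⟩))) (.node 2 (.node 1 (.leaf ⟨6, 9, true, [42,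 30, 20, 35, 29, 23], [2, 8, 20, 39, 40, 14], [-35, 112, 58, 57, 131, 11, -2, 26, -3, 0, 14, -2, 67, -31, -14, 1, -5, 8, 6, 7, -1, -4, -1, 8, -2, -1, 0, 0, -3, 2]⟩) (.leaf ⟨9, 6, true, [13, 34, 30, 37, 18, 31], [2, 0, 25, 38, 8, 23, 19], [12, -238, -65, -144, -231, -34, 30, -41, 5, -11, 6, -5, -121, 51, 26, 2, 6, -19, -14, -17, 3, 1, 0, -15, 2, -1, -1, 0, 11, 3]⟩)) (.node 1 (.leaf ⟨6, 9, true, [31, 2, 36, 23, 43, 22, 2], [4, 30, 13, 2, 23, 18], [1, 47, 9, 16, 16, -4, -4, 29, -6, 10, -43, 1, 30, 2, -29, 1, -1, -2, 3, 6, -2, 6, 0, 4, 0, 4, 0, 0, -2, -3, -1]⟩) (.leaf ⟨9, 6, true, [10, 42, 40, 26, 2, 31], [13, 35, 22, 42, 27, 13], [-3, -94, -21, -43, -70, -11, 10, -35, 6, -13, 40, 2, -51, 7, 34, -1, 1, -1, -6, -9, 2, -6, 0, -7, 0, -4, 0, 0, 5, 3, 1]⟩)))) (.node 4 (.node 2 (.node 1 (.leaf ⟨6,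 9, true, [40, 11, 19, 29, 6], [32, 11, 43, 33, 33, 10], [10, 275, 76, 140, 315, 45, -25, 66, -7, 43, -26, -14, 114, -81, -58, -9, 6, 11, 18, 22, -5, 6, 0, 17, 0, 6, 1, 0, -14, -4, -1]⟩) (.leaf ⟨9, 6, true, [2, 32, 39, 36, 29, 22], [41, 42, 16, 35, 13], [11, -211, -85, -89, -287, -42, 5, -59, 5, -36, 2, 25, -88, 73, 52, 6, -7, -4, -14, -16, 3, -3, 1, -14, 0, -4, 0, 0, 10, -1, 1]⟩)) (.node 1 (.leaf ⟨9, 6, true, [12, 37, 4, 41, 33, 38], [39, 2, 16, 21, 39, 25, 6], [49, 260, 13, 171, 118, 26, -55, 29, 15, -8, -49, 30, 127, -32, -30, -3, -6, 27, 16, 15, -3, 21, 4, 10, 0, 6, 3, 0, -14, -16, -2]⟩) (.leaf ⟨9, 6, true, [38, 4, 0, 38, 33, 0], [19, 37, 28, 20, 36], [56, 220, -46, 165, 49, 29, -80, 2, -11, 11, -55, 43, 68, -19, 8, -11, -3, 26, 13, 16, -4, -2, 3, 9, 0, 2, 5, 0, -13, -13]⟩))) (.node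 2 (.node 1 (.leaf ⟨6, 9, true, [43, 2, 26, 34, 18, 35, 30], [32, 43, 43, 41, 6, 0], [-57, -218, 47, -166, -48, -29, 80, -1, 11, -11, 55, -44, -66, 19, -9, 11, 3, -26, -13, -16, 4, 2, -3, -9, 0, -2, -5, 0, 13, 13]⟩) (.leaf ⟨9, 6, true, [37, 0, 23, 40, 16, 24, 19], [41, 18, 23, 6, 24, 35], [-98, 209, 185, 45, 276, -50, -5, 65, 21, -57, -49, 29, 109, -77, -75, -14, -26, 16, 0, 26, -11, 29, 12, 5, 1, 6, 1, 0, -7, -9, -6]⟩)) (.node 1 (.leaf ⟨6, 9, true, [8, 38, 26, 36, 18, 4], [13, 27, 2, 31, 37, 34], [97, -206, -184, -46, -275, 50, 5, -64, -21, 57, 49, -30, -109, 77, 74, 14, 26, -16, 0, -26, 11, -29, -12, -5, -1, -6, -1, 0, 7, 9, 6]⟩) (.leaf ⟨9, 6, true, [42, 30, 35, 30, 25, 21], [23, 12, 10, 42, 22, 43], [-25, -122, -24, -83, -82, -26, 42, -6, 0, 0, -4, -7, -47, 24, -40, 0, -4, -15, -7,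 -8, 0, 11, 4, -5, 1, -3, -1, 0, 10, 6, -1]⟩))))) (.node 7 (.node 3 (.node 1 (.leaf ⟨6, 9, true, [34, 21, 14, 2, 24], [22, 2, 10, 39, 39, 34], [24, 124, 25, 82, 83, 26, -42, 7, 0, 0, 4, 6, 49, -24, 39, 0, 4, 15, 7, 8, 0, -11, -4, 5, -1, 3, 1, 0, -10, -6, 1]⟩) (.node 1 (.leaf ⟨6, 9, true, [6, 35, 41, 31, 28, 21], [24, 0, 40, 43, 25, 6, 22], [45, -18, -56, 24, 28, 74, -7, -20, -23, 54, 21, -35, -8, 14, 1, 6, 29, -10, 18, -4, 4, -18, -13, 8, -5, -5, 5, 0, -2, 8, 6]⟩) (.leaf ⟨9, 6, true, [41, 35, 18, 16, 42, 40], [31, 35, 41, 29, 16, 13], [-65, -60, 61, -84, -74, -82, 29, 11, 25, -62, 2, 25, -25, -3, 5, -3, -28, 2, -23, -3, -2, 15, 12, -12, 5, 3, -6, 0, 7, -3, -6]⟩))) (.node 2 (.node 1 (.leaf ⟨9, 6, true, [10, 40, 31, 6, 19, 31], [23, 23, 31, 38, 28, 25], [-55, -155, 44, -68, 315, -47, 67,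 27, -30, 99, -50, -71, -89, -62, -94, -21, 2, -29, 4, 27, -16, 10, -3, 2, -3, -2, -1, 0, 7, 2, 4]⟩) (.leaf ⟨6, 9, true, [21, 11, 22, 10, 39, 22, 31], [10, 32, 27, 39, 36, 6], [54, 159, -43, 67, -314, 47, -67, -26, 30, -99, 50, 70, 87, 62, 93, 21, -2, 29, -4, -27, 16, -10, 3, -2, 3, 2, 1, 0, -7, -2, -4]⟩)) (.node 1 (.leaf ⟨9, 6, true, [11, 37, 8, 43, 0], [26, 10, 37, 20, 41, 25, 8], [-23, 12, -75, 64, -80, 8, -19, 4, -14, -23, 29, -12, 63, 8, 46, 8, -7, 5, -3, -20, 9, -8, 6, -6, 3, -3, -3, 0, -1, 0, -2]⟩) (.leaf ⟨6, 9, true, [2, 27, 36, 29, 42, 31], [36, 39, 2, 39, 0], [24, -12, 75, -64, 80, -8, 19, -4, 14, 23, -29, 12, -61, -8, -47, -8, 7, -5, 3, 20, -9, 8, -6, 6, -3, 3, 3, 0, 1, 0, 2]⟩)))) (.node 4 (.node 2 (.node 1 (.leaf ⟨9, 6, true, [6, 43, 28, 39, 40], [2, 36, 39, 20, 4, 6], [-7,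 164, -2, 149, 171, 22, -3, 24, -21, 42, -6, -15, 78, -61, -53, -7, -7, 8, 15, 14, -4, 0, 1, 10, -3, 0, 3, 0, -7, 0, 2]⟩) (.leaf ⟨9, 6, true, [0, 35, 36, 14, 18], [36, 0, 33, 26, 36, 18, 22], [-3, -100, -63, -66, -231, 30, 20, -47, 15, -19, 96, 12, -50, 23, 84, 11, 7, -5, -5, -26, 12, -31, -1, -10, -1, -6, -4, 0, 6, 13, -1]⟩)) (.node 1 (.leaf ⟨6, 9, true, [6, 36, 19, 21, 31], [19, 37, 41, 16, 10], [2, 103, 64, 65, 232, -30, -20, 48, -15, 19, -96, -13, 50, -23, -85, -11, -7, 5, 5, 26, -12, 31, 1, 10, 1, 6, 4, 0, -6, -13, 1]⟩) (.leaf ⟨9, 6, true, [0, 39, 24, 33, 0], [20, 40, 28, 28, 40, 35], [108, -12, -225, 56, -480, 23, -92, -83, -15, -45, 34, 54, -37, 80, 166, 6, 2, 18, -11, -31, 15, -32, 1, -12, -1, 0, 3, 0, -8, -2, -3]⟩))) (.node 2 (.node 1 (.leaf ⟨6, 9, true, [8, 19, 10, 6, 40, 20],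 [4, 32, 25, 38, 0], [-109, 16, 226, -57, 481, -23, 92, 84, 15, 45, -34, -55, 35, -80, -167, -6, -2, -18, 11, 31, -15, 32, -1, 12, 1, 0, -3, 0, 8, 2, 3]⟩) (.leaf ⟨9, 6, true, [42, 39, 31, 8, 41, 12], [33, 34, 18, 37, 13, 28], [40, -119, -95, -83, -179, 23, 7, -87, 6, 4, 67, 17, -143, 4, 134, -4, 24, 4, 2, -9, 6, -47, -11, -4, 0, -7, 1, 0, -1, 6, -1]⟩)) (.node 1 (.leaf ⟨6, 9, true, [13, 8, 41, 27, 2, 27, 18], [12, 37, 43, 36, 30, 34], [-39, 119, 95, 83, 179, -23, -7, 87, -6, -4, -67, -17, 145, -4, -135, 4, -24, -4, -2, 9, -6, 47, 11, 4, 0, 7, -1, 0, 1, -6, 1]⟩) (.leaf ⟨9, 5, true, [39, 8, 26, 13, 4], [19, 23, 26, 36, 43, 29], [-22, -244, -51, -143, -224, -38, 55, -41, 0, -8, 22, 15, -106, 51, 54, 5, 4, -16, -15, -16, 3, -9, -4, -13, -1, -3, -4, 0, 13, 6]⟩)))))) (.node 15 (.node 7 (.node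 3 (.node 1 (.leaf ⟨5, 9, true, [2, 10, 43, 35, 24, 24], [14, 31, 18, 38], [16, 211, 51, 117, 189, 27, -52, 37, 0, 3, -22, -11, 89, -42, -50, -5, -5, 14, 12, 14, -3, 9, 4, 11, 1, 3, 4, 0, -11, -6]⟩) (.node 1 (.leaf ⟨9, 7, true, [4, 42, 26, 30, 28, 11], [18, 27, 6, 29, 38, 23], [-21, -227, -71, -165, -289, -41, 40, -20, 21, -25, 13, 1, -107, 63, 62, 10, 3, -16, -15, -20, 5, -10, -4, -14, 2, 1, -6, 0, 11, 4, -2]⟩) (.leaf ⟨7, 9, true, [23, 41, 8, 11, 18, 6], [21, 32, 34, 36, 2, 0], [55, 124, -21, 109, 61, 18, -58, 1, -14, 20, -29, -7, 30, -7, -33, -7, -1, 8, 8, 9, -3, 3, 2, 6, -2, 0, 7, 0, -5, -5, 4]⟩))) (.node 2 (.node 1 (.leaf ⟨9, 6, true, [30, 36, 43, 10, 40, 22], [0, 2, 23, 26, 42, 41, 11], [21, -9, -128, 63, -77, 8, -57, -21, -33, 12, -40, 28, 41, 3, 55, -11, 8, 3, -2, 2, -2, -25, 1,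 0, -1, 3, 0, 0, 0, -4]⟩) (.leaf ⟨9, 6, true, [6, 14, 35, 27, 33, 21], [10, 43, 35, 23, 27, 18], [-18, 88, -10, 41, 22, -6, -42, 14, 11, 11, -62, 29, 57, 9, 30, -3, -3, 17, 10, 8, -3, 8, -2, 2, -1, 2, -3, 0, -7, -14, -1]⟩)) (.node 1 (.leaf ⟨6, 9, true, [2, 10, 30, 6, 37, 14], [18, 18, 11, 40, 35, 27], [17, -84, 11, -42, -21, 6, 42, -13, -11, -11, 62, -30, -59, -9, -31, 3, 3, -17, -10, -8, 3, -8, 2, -2, 1, -2, 3, 0, 7, 14, 1]⟩) (.leaf ⟨9, 6, true, [8, 42, 39, 23, 23, 18], [31, 35, 18, 43, 20, 20], [-66, -288, -11, -180, -175, -66, 82, -48, 4, -7, 22, 3, -115, 30, 27, -3, 4, -24, -17, -14, 0, -6, -3, -16, -2, -8, 0, 0, 19, 12]⟩)))) (.node 4 (.node 2 (.node 1 (.leaf ⟨6, 9, true, [43, 22, 33, 37, 22, 21], [28, 38, 30, 38, 28, 20], [65, 292, 12, 179, 176, 66, -82, 49, -4, 7, -22, -4, 113, -30,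 -28, 3, -4, 24, 17, 14, 0, 6, 3, 16, 2, 8, 0, 0, -19, -12]⟩) (.leaf ⟨9, 6, true, [32, 36, 36, 28, 6], [29, 2, 22, 22, 43, 29, 25], [-38, 71, 53, 51, 223, 3, -20, 18, -17, -8, -23, 1, 64, -38, -13, -11, 0, 11, 10, 15, -7, 7, 1, 4, 2, 2, 2, 0, -5, -12, -1]⟩)) (.node 1 (.leaf ⟨6, 9, true, [39, 11, 32, 19, 13], [0, 6, 29, 10, 18, 25], [39, -69, -53, -51, -223, -3, 20, -18, 17, 8, 23, -1, -66, 38, 12, 11, 0, -11, -10, -15, 7, -7, -1, -4, -2, -2, -2, 0, 5, 12, 1]⟩) (.leaf ⟨9, 7, true, [21, 8, 38, 29, 19, 2], [11, 40, 19, 34, 0, 31], [53, -288, -228, -85, -528, -41, -3, -80, -7, 8, -13, 62, -113, 118, 124, 4, 9, -13, -21, -25, 5, -22, -7, -19, -3, -1, 0, 0, 14, 0, 1]⟩))) (.node 2 (.node 1 (.leaf ⟨7, 9, true, [13, 36, 8, 39, 24, 39], [36, 40, 30, 16, 42, 20], [-65, 349, 282, 115, 674, 56, 17,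 89, 2, -1, 19, -56, 158, -152, -145, -7, -9, 17, 26, 34, -7, 27, 7, 25, 3, 0, -1, 0, -18, 1, -3]⟩) (.leaf ⟨9, 6, true, [2, 16, 39, 11, 32, 13], [10, 34, 24, 32, 21], [68, -129, -244, -8, -457, 13, -55, -77, -34, 5, 19, 34, -90, 92, 148, 6, 8, 2, -12, -27, 11, -40, -6, -12, -1, 0, 0, 0, 3, 0, 1]⟩)) (.node 1 (.leaf ⟨6, 9, true, [19, 23, 30, 24, 35, 11], [30, 16, 6, 29, 37], [-67, 131, 244, 8, 457, -13, 55, 77, 34, -5, -19, -34, 88, -92, -149, -6, -8, -2, 12, 27, -11, 40, 6, 12, 1, 0, 0, 0, -3, 0, -1]⟩) (.leaf ⟨6, 9, true, [28, 6, 38, 42, 16, 19], [31, 38, 42, 29, 30, 25], [-43, 291, 138, 199, 406, -19, -33, 130, -13, 20, -145, -8, 256, -49, -172, -8, -29, 9, 6, 35, -16, 64, 15, 14, -1, 10, 2, 0, -9, -21]⟩))))) (.node 8 (.node 4 (.node 2 (.node 1 (.leaf ⟨9, 6, true, [11, 41, 6, 35, 27],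 [22, 36, 6, 8, 38, 42], [-1, -496, -140, -346, -552, -12, 83, -154, 17, -39, 188, -9, -343, 80, 191, 14, 31, -28, -19, -52, 20, -70, -17, -25, 1, -14, -4, 0, 22, 31]⟩) (.leaf ⟨9, 9, true, [0, 16, 41, 39, 40, 27], [24, 39, 10, 25, 38, 6], [-22, -648, -250, -414, -1179, -98, 43, -155, -18, -163, 84, 106, -249, 277, 261, 35, 4, -26, -66, -93, 29, -35, -5, -46, 4, -1, -4, 0, 38, 10, -4]⟩)) (.node 1 (.leaf ⟨9, 9, true, [39, 33, 43, 43, 30, 18], [6, 20, 41, 34, 37, 8], [25, 681, 258, 432, 1215, 108, -47, 159, 18, 165, -82, -108, 263, -283, -266, -35, -4, 28, 68, 95, -29, 35, 5, 48, -4, 1, 4, 0, -40, -10, 4]⟩) (.leaf ⟨9, 6, true, [11, 39, 10, 29, 37], [22, 8, 38, 25, 14, 25], [38, 88, -126, 103, 3, 74, -26, -4, -28, 28, 63, -45, 21, -10, 37, 2, 9, 3, 9, -5, 7, -25, -5, 2, -3, -7, 2, 0, -5, 7,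 5]⟩))) (.node 2 (.node 1 (.leaf ⟨6, 9, true, [6, 29, 39, 16, 23, 20], [13, 37, 29, 14, 41, 4], [-37, -88, 126, -103, -3, -74, 26, 4, 28, -28, -63, 45, -19, 10, -38, -2, -9, -3, -9, 5, -7, 25, 5, -2, 3, 7, -2, 0, 5, -7, -5]⟩) (.leaf ⟨9, 6, true, [43, 37, 32, 16, 33], [26, 36, 11, 18, 33, 43], [-144, -637, -89, -471, -787, -102, 48, -111, -15, -171, 173, 30, -270, 153, 211, 22, -7, -43, -51, -78, 22, -53, -5, -41, 5, -15, -8, 0, 39, 21, -5]⟩)) (.node 1 (.leaf ⟨6, 9, true, [18, 0, 22, 42, 21, 28, 24], [10, 26, 33, 38, 14], [143, 641, 90, 470, 788, 102, -48, 112, 15, 171, -173, -31, 268, -153, -212, -22, 7, 43, 51, 78, -22, 53, 5, 41, -5, 15, 8, 0, -39, -21, 5]⟩) (.leaf ⟨6, 9, true, [36, 43, 11, 20, 32, 37], [6, 8, 40, 30, 43, 28, 23], [-34, -396, -188, -241, -734, -16, 56, -77, 13, -113,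 145, -31, -160, 148, 147, 33, 12, -36, -32, -72, 28, -50, -5, -27, 3, -13, -10, 0, 31, 31, -2]⟩)))) (.node 4 (.node 2 (.node 1 (.leaf ⟨9, 6, true, [0, 40, 10, 31, 8, 22], [6, 22, 39, 27, 34], [55, 460, 179, 292, 762, 19, -76, 84, -15, 120, -169, 42, 186, -156, -153, -36, -13, 43, 36, 78, -30, 53, 6, 30, -3, 15, 11, 0, -35, -36, 2]⟩) (.leaf ⟨6, 9, true, [0, 30, 38, 40, 38, 21], [14, 35, 30, 36, 19, 11], [-9, 489, 126, 334, 705, 103, -31, 124, -3, 41, -46, -49, 289, -161, -151, -10, -2, 19, 40, 45, -11, 19, 6, 33, 3, 0, -2, 0, -19, -10, -2]⟩)) (.node 1 (.leaf ⟨9, 6, true, [6, 25, 29, 36, 18, 13], [37, 28, 38, 31, 25, 31], [30, -425, -135, -283, -677, -100, 11, -117, 1, -34, 22, 60, -263, 153, 145, 7, 1, -12, -36, -39, 9, -16, -5, -30, -3, 2, 3, 0, 15, 5, 2]⟩) (.leaf ⟨9, 9, true, [23, 34,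 31, 25, 30, 35], [6, 32, 23, 34, 37, 25], [-75, -694, -151, -449, -850, -104, 79, -138, 11, -144, 186, -22, -321, 189, 202, 29, -1, -46, -60, -84, 27, -54, -7, -43, 0, -10, -5, 0, 36, 36]⟩))) (.node 2 (.node 1 (.leaf ⟨6, 9, true, [39, 14, 12, 10, 0], [40, 33, 31, 39, 0, 35], [108, 223, -145, 268, 42, 134, -46, -19, 14, -4, 74, -20, 145, -10, 11, 19, 3, 12, 16, -7, 10, -23, 2, 9, -3, -8, -4, 0, -1, 9]⟩) (.leaf ⟨9, 6, true, [34, 42, 26, 24, 28], [37, 42, 34, 13, 4], [-129, -317, 146, -337, -106, -147, 70, 8, -12, -5, -52, 11, -185, 24, -3, -16, -2, -21, -22, -1, -8, 20, -3, -14, 3, 6, 3, 0, 7, -4]⟩)) (.node 1 (.leaf ⟨6, 9, true, [27, 42, 10, 23, 2, 21], [2, 39, 14, 39, 36, 24], [14, 142, -115, 153, 39, 42, -45, 41, -19, -3, -5, -18, 52, -37, -35, 1, -13, 0, 5, 1, 2, -19, 7, 10, 3, 1, -2,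 0, 0, 2, -3]⟩) (.leaf ⟨9, 6, true, [26, 2, 11, 33, 42, 29, 14], [38, 0, 36, 32, 41, 21, 25], [-36, -252, 112, -231, -121, -60, 71, -54, 21, -7, 26, 10, -99, 54, 45, 2, 14, -10, -12, -10, 0, 16, -8, -16, -3, -3, 1, 0, 7, 3, 3]⟩)))))))
noncomputable def dF3161 : BT Fct := (.node 30 (.node 15 (.node 7 (.node 3 (.node 1 (.leaf ⟨6, 9, true, [13, 43, 22, 34, 31, 41], [32, 42, 20, 40, 34, 24], [6, -38, -164, -10, -382, 46, -72, -52, -26, -88, 60, 10, -47, 79, 129, 14, 2, 4, 0, -30, 15, -55, -9, -3, -1, -8, -1, 0, 5, 10, -1]⟩) (.node 1 (.leaf ⟨9, 6, true, [24, 35, 22, 38, 36, 10], [43, 10, 26, 33, 35, 29, 29], [18, 150, 167, 88, 464, -28, 46, 65, 24, 98, -81, -2, 94, -96, -141, -17, -3, 6, 7, 39, -17, 58, 10, 9, 1, 10, 2, 0, -12, -15, 1]⟩) (.leaf ⟨6, 9, true, [6, 2, 10, 41, 23, 2, 4], [0, 43,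 36, 30, 22, 26], [145, -623, -500, -226, -1161, -67, -13, -175, -46, 14, 30, 69, -361, 252, 277, 14, 14, -28, -41, -71, 21, -76, -14, -40, -2, -1, -2, 0, 26, 11, 5]⟩))) (.node 2 (.node 1 (.leaf ⟨9, 6, true, [36, 36, 42, 10], [36, 14, 24, 38, 30, 42], [-143, 640, 504, 235, 1179, 72, 11, 177, 46, -13, -29, -70, 368, -255, -280, -14, -14, 29, 42, 72, -21, 76, 14, 41, 2, 1, 2, 0, -27, -11, -5]⟩) (.leaf ⟨9, 9, true, [29, 16, 37, 21, 41, 43], [0, 6, 28, 20, 31, 20], [40, 18, -166, 107, -188, 73, -44, -27, -15, -58, 75, -5, 74, 12, 63, 10, 1, -3, -8, -25, 13, -54, 4, -1, 1, -3, -5, 0, 9, 21, -2]⟩)) (.node 1 (.leaf ⟨9, 9, true, [8, 25, 23, 8, 6], [11, 0, 29, 18, 30, 36, 28], [-40, -33, 162, -116, 170, -78, 46, 25, 15, 57, -76, 6, -81, -9, -62, -10, -1, 2, 7, 24, -13, 54, -4, 0, -1, 3, 5, 0, -8,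 -21, 2]⟩) (.leaf ⟨6, 9, true, [8, 43, 24, 34, 10, 28], [0, 6, 2, 32, 20, 25], [28, 120, -99, 113, -19, 81, -66, 3, -17, -25, 35, -15, 78, -12, 58, 4, 3, 10, 4, -7, 8, -41, 1, 7, 3, -3, -3, 0, -6, 8, -1]⟩)))) (.node 4 (.node 2 (.node 1 (.leaf ⟨9, 6, true, [29, 40, 6, 29, 18, 16], [29, 23, 42, 37, 31, 12], [-50, -230, 96, -191, -63, -99, 92, -16, 19, 15, -14, 7, -125, 29, -48, -1, -2, -20, -11, -2, -6, 38, -2, -13, -3, 1, 2, 0, 13, -3, 1]⟩) (.leaf ⟨6, 9, true, [23, 28, 11, 30, 40, 29], [2, 42, 22, 38, 43, 10], [36, -28, -164, 43, -329, 36, -35, -33, 14, -62, 82, -1, 16, 60, 101, 18, -3, -2, -13, -34, 17, -45, -2, -4, 1, 1, -6, 0, 4, 15, -3]⟩)) (.node 1 (.leaf ⟨9, 6, true, [43, 2, 34, 18, 14, 11], [8, 43, 18, 40, 14, 30], [-80, -177, 162, -190, 183, -67, 85, 9, -10, 43, -39, -16, -103, -29,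 -82, -12, 5, -17, 0, 17, -13, 39, 0, -7, -1, -5, 4, 0, 9, -5, 3]⟩) (.leaf ⟨6, 9, true, [43, 21, 34, 29, 20, 36], [6, 22, 38, 36, 24, 28], [16, 17, -132, 38, -257, 28, -35, -13, -6, -26, 8, 16, -25, 35, 35, 3, -1, -4, -3, -12, 6, -34, -1, 0, 4, 0, -2, 0, 8, 5, -2]⟩))) (.node 2 (.node 1 (.leaf ⟨9, 6, true, [8, 38, 24, 27, 31, 10], [13, 32, 38, 38, 23, 21], [-17, -48, 124, -56, 221, -38, 39, 9, 6, 24, -10, -14, 11, -29, -32, -3, 1, 2, 1, 10, -6, 34, 1, -2, -4, 0, 2, 0, -6, -5, 2]⟩) (.leaf ⟨6, 9, true, [8, 13, 29, 43, 33, 22], [27, 43, 6, 37, 40, 6], [10, 191, -5, 131, 162, 54, -33, 45, -23, -5, -23, -9, 74, -46, -53, -6, 1, 4, 15, 13, -3, -10, 4, 13, 3, -4, 1, 0, -1, -1]⟩)) (.node 1 (.leaf ⟨9, 6, true, [4, 33, 43, 24, 11, 8], [31, 38, 40, 21, 37, 18], [12, -111, 0, -71, -116, -46, 11, -36,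 21, 13, 0, 19, -41, 35, 45, 3, -2, 4, -10, -6, 1, 13, -3, -9, -3, 6, 0, 0, -4, -4]⟩) (.leaf ⟨6, 9, true, [2, 21, 38, 43, 24, 21], [21, 38, 22, 38, 29, 18], [-29, 40, -10, 26, 55, 21, -43, 8, -6, -29, 8, 1, 25, -37, 24, -6, -5, 4, 6, 7, -2, -27, 1, 4, 2, -7, 0, 0, 0, 1, -2]⟩))))) (.node 7 (.node 3 (.node 1 (.leaf ⟨9, 6, true, [4, 35, 43, 43, 23, 26], [19, 19, 40, 14, 13, 29], [76, 183, 16, 130, 109, 15, -9, 18, 2, 49, -50, 15, 69, 3, -47, 0, 3, 16, 8, 11, -2, 33, 1, 8, -2, 11, 2, 0, -14, -11, 2]⟩) (.node 1 (.leaf ⟨5, 9, true, [0, 39, 31, 23, 42, 6], [14, 35, 24, 20, 38, 24], [74, -62, -247, 53, -420, 44, -38, -29, -18, -24, 40, 12, -14, 83, 78, 15, 5, -6, -8, -32, 15, -39, -1, -5, 4, -1, -5, 0, 9, 8]⟩) (.leaf ⟨9, 5, true, [8, 35, 29, 23, 23], [8, 38, 32, 11, 2], [15, 443, 243, 223, 676,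 8, -58, 73, 10, 60, -128, 24, 174, -139, -115, -27, -9, 42, 32, 64, -23, 51, 5, 25, -4, 9, 9, 0, -33, -28]⟩))) (.node 2 (.node 1 (.leaf ⟨9, 9, true, [2, 40, 22, 27, 31, 12], [21, 13, 6, 37, 35, 4], [-8, -286, -143, -97, -380, -8, 33, -66, 16, -78, 88, 2, -62, 89, 90, 19, -5, -16, -18, -37, 13, -33, -1, -18, 2, -11, -7, 0, 21, 16, -1]⟩) (.leaf ⟨9, 9, true, [36, 26, 19, 31], [8, 32, 24, 43, 34, 18], [10, 303, 147, 106, 398, 13, -35, 68, -16, 79, -87, -3, 69, -92, -93, -19, 5, 17, 19, 38, -13, 33, 1, 19, -2, 11, 7, 0, -22, -16, 1]⟩)) (.node 1 (.leaf ⟨6, 9, true, [8, 6, 42, 42, 41, 29], [13, 39, 28, 35, 23, 2], [39, 103, -154, 144, -150, 55, -49, 13, -20, -42, 25, -17, 63, 39, 29, 16, -8, -2, 2, -22, 12, -30, 1, 3, 4, 1, -5, 0, 1, 5, -2]⟩) (.leaf ⟨9, 6, true, [8, 13, 36, 31, 25, 31], [41,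 20, 6, 43, 10, 25], [-37, -86, 158, -135, 168, -50, 47, -11, 20, 43, -24, 16, -56, -42, -32, -16, 8, 3, -1, 23, -12, 30, -1, -2, -4, -1, 5, 0, -2, -5, 2]⟩)))) (.node 4 (.node 2 (.node 1 (.leaf ⟨6, 9, true, [25, 0, 22, 40, 25, 13, 11], [0, 24, 32, 26, 37, 30], [69, 128, -143, 177, 21, 58, -41, 23, -28, 40, -23, -15, 49, -10, -10, -2, 2, -1, 10, 2, 2, -25, -1, 10, 3, 0, -3, 0, -2, 3, 1]⟩) (.leaf ⟨9, 6, true, [33, 39, 18, 38, 34, 11], [35, 2, 28, 40, 22, 16, 22], [-133, -396, 150, -375, -195, -92, 111, -54, 34, -66, 90, -13, -162, 49, 34, 11, 1, -25, -27, -25, 4, 16, -2, -24, -3, -6, 0, 0, 19, 12, -1]⟩)) (.node 1 (.leaf ⟨7, 9, true, [35, 4, 6, 2, 32, 19, 25], [21, 6, 33, 18, 38, 36], [32, -203, -222, -78, -499, -40, -61, -22, 3, -56, 33, -24, -125, 131, 99, 15, -12, -14, -25, -44, 14, -33,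 1, -20, 6, 4, -6, 0, 15, 3, 3]⟩) (.leaf ⟨9, 7, true, [2, 16, 35, 43, 27, 11], [27, 39, 18, 26, 38, 18], [-33, 172, 214, 60, 463, 30, 65, 18, -3, 54, -35, 26, 111, -125, -96, -15, 12, 12, 23, 42, -14, 33, -1, 18, -6, -4, 6, 0, -13, -3, -3]⟩))) (.node 2 (.node 1 (.leaf ⟨6, 9, true, [10, 24, 35, 26, 2, 4], [14, 22, 38, 35, 26, 23], [57, 14, -154, 90, -186, 54, -38, -11, -29, -15, 34, 4, 17, 23, 38, 5, 4, -6, -6, -14, 7, -35, 2, 2, -2, 0, 2, 0, 5, 7]⟩) (.leaf ⟨9, 6, true, [10, 40, 39, 25, 31], [0, 2, 27, 34, 25, 11], [32, 367, 150, 186, 442, -2, -58, 55, 21, 51, -122, 32, 143, -79, -75, -17, -8, 42, 30, 46, -15, 47, 2, 18, 2, 8, 2, 0, -29, -27]⟩)) (.node 1 (.leaf ⟨6, 9, true, [16, 37, 4, 27, 42, 23], [24, 41, 41, 25, 27, 11], [47, 302, 6, 213, 300, 102, -31, 68, -16, 16, 5, -32, 185, -51,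 -68, 5, 5, 7, 19, 13, 1, -5, 3, 23, 3, 2, -5, 0, -10]⟩) (.leaf ⟨9, 6, true, [16, 11, 39, 18, 11, 0], [19, 6, 10, 18, 13, 36, 23], [-48, -333, -14, -231, -336, -112, 35, -72, 16, -18, -7, 34, -199, 57, 71, -5, -5, -9, -21, -15, -1, 5, -3, -25, -3, -2, 5, 0, 12]⟩)))))) (.node 15 (.node 7 (.node 3 (.node 1 (.leaf ⟨6, 9, true, [42, 31, 20, 40, 30, 23], [8, 20, 23, 35, 41, 8], [55, 12, -153, 90, -183, 54, -36, -10, -29, -14, 36, 1, 19, 23, 38, 5, 4, -6, -6, -14, 7, -35, 2, 2, -2, 0, 2, 0, 5, 7]⟩) (.node 1 (.leaf ⟨9, 6, true, [6, 38, 2, 34, 31, 8], [18, 4, 28, 39, 25, 33, 26], [-119, -280, 160, -288, 9, -88, 106, -21, 35, -12, 31, -29, -132, 16, -14, 4, -1, -20, -11, -9, -1, 26, -5, -16, 2, -6, -5, 0, 12, 8]⟩) (.leaf ⟨6, 9, true, [30, 36, 2, 19, 19], [13, 14, 30, 36, 30, 4], [23, 209, -22,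 186, 228, 65, -24, 46, -14, 16, -15, -18, 137, -55, -61, -4, 3, 4, 19, 16, -3, -9, 4, 16, -1, 0, -1, 0, -4, 0, -1]⟩))) (.node 2 (.node 1 (.leaf ⟨9, 6, true, [2, 4, 42, 14, 20, 25], [14, 30, 27, 38, 40, 8], [-87, -477, 29, -384, -402, -99, 94, -77, 20, -42, 82, -10, -250, 94, 85, 13, 0, -30, -36, -39, 9, 0, -7, -30, 1, -6, -2, 0, 21, 15, 1]⟩) (.leaf ⟨9, 9, true, [33, 30, 40, 10, 27, 28], [2, 24, 38, 13, 36, 4], [202, -30, -551, 246, -737, 116, -140, -84, -39, -5, 29, 50, 44, 145, 223, 21, 16, 7, -2, -47, 23, -94, -10, -10, -2, 5, -6, 0, 7, 4, 4]⟩)) (.node 1 (.leaf ⟨9, 9, true, [33, 33, 40, 27, 14, 31], [42, 41, 23, 33, 27, 40], [-224, -80, 548, -324, 655, -134, 166, 71, 41, -5, -8, -58, -91, -128, -213, -18, -15, -17, -5, 38, -21, 91, 9, 4, 2, -7, 5, 0, 0, 1, -4]⟩) (.leaf ⟨6, 9, true,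 [26, 2, 31, 35, 31, 35], [43, 27, 20, 43, 16, 10], [-15, 72, 79, 15, 101, -30, -12, 24, -3, -2, -55, 20, 36, 6, -3, -3, -2, 10, 9, 14, -5, 23, -3, 5, 0, 3, 0, 0, -11, -19]⟩)))) (.node 4 (.node 2 (.node 1 (.leaf ⟨9, 6, true, [37, 6, 28, 20, 11], [6, 18, 22, 13, 35, 18], [-8, -198, -86, -102, -201, 7, 40, -39, 5, -9, 75, -27, -90, 14, 15, 6, 3, -21, -17, -24, 7, -26, 2, -12, 0, -5, -1, 0, 19, 24]⟩) (.leaf ⟨6, 9, true, [22, 39, 28, 39, 20, 24], [42, 26, 20, 43, 36, 40], [117, 342, -136, 294, 94, 143, -70, 21, -4, 2, 49, -27, 135, -48, 11, 9, 8, 18, 26, 0, 10, -34, -1, 17, 4, -1, -5, 0, -15, 6, -1]⟩)) (.node 1 (.leaf ⟨9, 6, true, [2, 36, 19, 2, 40, 26], [41, 39, 20, 11, 42, 10], [-96, -278, 127, -243, -66, -140, 50, -14, 2, 5, -73, 38, -109, 40, -17, -12, -9, -11, -22, 6, -12, 37, 2, -14,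 -4, 3, 6, 0, 11, -11, 1]⟩) (.leaf ⟨6, 9, true, [29, 0, 40, 23, 41, 32, 12], [4, 16, 43, 36, 24, 27], [5, -69, -109, -21, -266, 17, -26, -30, -20, -52, 25, 27, -39, 50, 76, 7, 5, -2, -4, -21, 9, -36, -4, -4, 2, -3, -3, 0, 9, 6]⟩))) (.node 2 (.node 1 (.leaf ⟨9, 6, true, [31, 0, 25, 38, 16, 30, 22], [26, 0, 36, 33, 37, 21, 6], [-27, -41, 106, -57, 184, -35, 52, 17, 22, 42, -4, -35, -8, -33, -66, -4, -4, -8, -3, 12, -7, 33, 3, -2, -2, 1, 2, 0, -2, -1]⟩) (.leaf ⟨6, 9, true, [13, 23, 19, 35, 35, 27], [13, 36, 30, 23, 35, 2], [14, 474, -10, 313, 286, 154, -69, 81, -9, -16, 36, -19, 247, -126, -23, 0, 12, 27, 36, 16, 6, -33, -1, 32, 2, 2, -1, 0, -27, 6, -3]⟩)) (.node 1 (.leaf ⟨9, 6, true, [10, 2, 22, 24, 29], [21, 41, 37, 23, 14, 19], [-55, -631, 20, -433, -378, -170, 113, -99, 13, 0, 10, -1,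 -313, 148, 36, 6, -10, -43, -46, -30, -2, 27, -1, -40, -2, -6, -1, 0, 37, 4, 3]⟩) (.leaf ⟨5, 9, true, [0, 10, 33, 39, 19, 28], [38, 12, 41, 24, 8], [-28, 36, -11, 16, -66, 8, -44, 0, 6, -78, 50, -10, -10, -5, 49, 2, -7, 2, -5, -10, 6, -26, 0, 2, 2, -9, -1, 0, 1, 7, -1]⟩))))) (.node 7 (.node 3 (.node 1 (.leaf ⟨9, 5, true, [0, 41, 26, 29, 20, 6], [27, 12, 10, 30, 6, 38], [8, -114, 16, -76, 20, -16, 66, -9, -4, 70, -27, 0, -23, 16, -43, 1, 8, -10, 0, 3, -4, 23, -1, -6, -2, 7, 0, 0, 4, -2, 1]⟩) (.node 1 (.leaf ⟨6, 9, true, [31, 0, 25, 34, 19, 43, 28], [8, 41, 39, 34, 21, 29], [-8, 176, -45, 99, -69, 83, -50, 13, -2, -95, 83, 7, 113, -15, 54, 14, -4, 12, 0, -21, 14, -37, 4, 6, 4, -3, -3, 0, 1, 9, -5]⟩) (.leaf ⟨9, 6, true, [2, 23, 32, 10, 30], [38, 27, 36, 42, 39, 25], [30, -96, 40, -39, 115,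 -75, 28, -4, 0, 103, -106, 3, -80, 4, -62, -17, 3, -4, 5, 28, -16, 40, -3, -2, -4, 5, 4, 0, -6, -14, 5]⟩))) (.node 2 (.node 1 (.leaf ⟨6, 9, true, [36, 24, 38, 18, 30, 6], [8, 40, 38, 38, 41, 20], [161, 259, -264, 289, -143, 123, -85, 0, -35, 73, -33, 33, 104, -2, 36, 3, 13, 18, 24, 2, 5, -43, -2, 13, 3, 5, -2, 0, -8, -4]⟩) (.leaf ⟨9, 6, true, [32, 21, 27, 6, 2, 21], [33, 29, 40, 38, 41, 8], [-183, -369, 261, -367, 61, -141, 111, -13, 37, -83, 54, -41, -151, 19, -26, 0, -12, -28, -31, -11, -3, 40, 1, -19, -3, -7, 1, 0, 15, 9]⟩)) (.node 1 (.leaf ⟨6, 9, true, [23, 26, 29, 40, 19, 42], [14, 35, 28, 8, 41, 20], [36, 92, -108, 111, -88, 59, -39, 2, -9, -26, 34, -5, 54, 2, 37, 7, 2, 3, 4, -11, 8, -32, 0, 5, 2, -2, -3, 0, 0, 7, -2]⟩) (.leaf ⟨9, 6, true, [2, 24, 35, 27, 21, 18], [6, 18, 36, 40,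 28, 16], [-55, -154, 117, -162, 60, -62, 59, -9, 11, 19, -10, -6, -80, 6, -33, -4, -1, -10, -8, 5, -6, 29, -1, -8, -2, 0, 2, 0, 4, -2, 2]⟩)))) (.node 4 (.node 2 (.node 1 (.leaf ⟨6, 9, true, [27, 21, 10, 43, 28, 24], [19, 6, 39, 22, 39, 28], [-62, -722, -202, -447, -1074, -76, 60, -149, 41, -232, 233, -9, -301, 240, 237, 46, -9, -48, -70, -111, 39, -76, -5, -46, 3, -10, -10, 0, 45, 51, -6]⟩) (.leaf ⟨9, 6, true, [0, 2, 33, 2, 28, 21, 10], [18, 20, 30, 40, 11, 29], [-4, 422, 201, 231, 864, 32, 14, 114, -35, 204, -168, -17, 174, -195, -209, -37, 12, 20, 51, 86, -33, 67, 2, 30, -3, 4, 7, 0, -26, -36, 6]⟩)) (.node 1 (.leaf ⟨6, 9, true, [14, 35, 31, 16, 20, 2], [32, 8, 42, 23, 12, 11, 20], [47, -199, -147, -117, -429, -39, -37, -59, 13, -54, 13, 18, -150, 73, 73, 3, 5, -13, -15, -27, 6, -20,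 0, -13, 1, -7, 3, 0, 17, 4, -3]⟩) (.leaf ⟨9, 6, true, [24, 35, 21, 14, 10, 19], [19, 23, 36, 43, 25, 12], [-23, 311, 150, 195, 511, 57, 11, 72, -15, 64, -34, -10, 197, -90, -85, -6, -6, 23, 22, 36, -8, 23, 1, 19, -1, 9, -2, 0, -24, -9, 3]⟩))) (.node 2 (.node 1 (.leaf ⟨9, 6, true, [8, 39, 11, 11, 39, 28], [38, 0, 42, 33, 35, 8, 23], [-73, -451, -4, -267, -269, -88, 109, -57, 32, -51, 52, 0, -135, 81, 18, 11, -8, -29, -25, -26, 3, 8, 0, -24, 0, -10, -4, 0, 28, 11]⟩) (.leaf ⟨6, 9, true, [11, 6, 41, 33, 6, 18, 30], [30, 19, 28, 42, 16, 28], [74, 453, 4, 267, 269, 88, -109, 57, -32, 51, -52, 0, 133, -81, -19, -11, 8, 29, 25, 26, -3, -8, 0, 24, 0, 10, 4, 0, -28, -11]⟩)) (.node 1 (.leaf ⟨9, 6, true, [35, 20, 28, 43, 40], [16, 43, 19, 26, 10], [97, 399, 144, 279, 634, 25, -42, 74, -14, 107, -168,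 16, 216, -105, -170, -23, -3, 30, 28, 64, -24, 66, 8, 29, -1, 16, 8, 0, -29, -33]⟩) (.leaf ⟨6, 9, true, [30, 13, 8, 43, 11], [12, 25, 36, 16, 40, 14], [-98, -397, -143, -280, -633, -25, 42, -73, 14, -107, 168, -17, -214, 105, 169, 23, 3, -30, -28, -64, 24, -66, -8, -29, 1, -16, -8, 0, 29, 33]⟩)))))))
noncomputable def dF3221 : BT Fct := (.node 30 (.node 15 (.node 7 (.node 3 (.node 1 (.leaf ⟨9, 6, true, [43, 37, 33, 11], [14, 2, 26, 37, 22, 19, 21], [64, 520, 183, 323, 733, 50, -81, 77, -9, 84, -138, 22, 215, -160, -111, -28, -1, 49, 41, 70, -23, 40, 4, 31, -1, 10, 8, 0, -39, -30, 2]⟩) (.node 1 (.leaf ⟨9, 9, true, [36, 12, 8, 22, 6], [6, 42, 2, 27, 36, 18], [-9, 479, 288, 159, 695, 12, -24, 117, -5, 115, -127, -29, 160, -135, -180, -19, 0, 27, 32, 54, -18, 76, 3, 29, -4, 18, 7, 0, -38,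 -22, 1]⟩) (.leaf ⟨9, 6, true, [34, 18, 34, 37], [30, 6, 20, 13, 35, 19, 8], [-31, -190, -21, -128, -110, -37, 44, -28, 20, 0, 33, -2, -74, 30, 48, 5, 5, -11, -8, -13, 2, -4, -1, -13, -3, 0, -6, 0, 8, 6, -2]⟩))) (.node 2 (.node 1 (.leaf ⟨6, 9, true, [41, 10, 23, 33, 36, 22, 11], [16, 6, 22, 41], [30, 193, 22, 127, 111, 37, -44, 29, -20, 0, -33, 1, 74, -30, -49, -5, -5, 11, 8, 13, -2, 4, 1, 13, 3, 0, 6, 0, -8, -6, 2]⟩) (.leaf ⟨9, 6, true, [2, 11, 4, 28, 35, 29], [38, 22, 32, 0, 35, 24], [-111, -353, 184, -307, 16, -166, 81, 3, 38, 8, -64, 28, -171, 32, -33, -11, -15, -17, -21, 9, -15, 47, 2, -17, 1, -5, -1, 0, 15, -11, 2]⟩)) (.node 1 (.leaf ⟨9, 6, true, [4, 35, 32, 19, 14, 18], [41, 12, 21, 25, 35, 24], [-29, -30, 240, -96, 397, -33, 37, -12, 45, 27, -13, -19, -50, -51, -71, -10, 0, 7,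 11, 28, -14, 41, -2, 2, -3, -7, 4, 0, -5, -6, 5]⟩) (.leaf ⟨6, 9, true, [19, 2, 26, 39, 12, 28], [8, 26, 26, 28, 34, 4], [30, 32, -240, 96, -397, 33, -37, 12, -45, -27, 13, 19, 48, 51, 70, 10, 0, -7, -11, -28, 14, -41, 2, -2, 3, 7, -4, 0, 5, 6, -5]⟩)))) (.node 4 (.node 2 (.node 1 (.leaf ⟨9, 6, true, [19, 10, 10, 38, 30], [29, 2, 27, 33, 38, 34, 16], [-26, 76, -13, 27, 51, 6, -65, 8, 3, 9, -64, 26, 69, -1, 59, -6, -2, 22, 8, 10, -3, -1, -1, 2, 0, 1, -4, 0, -11, -13, -1]⟩) (.leaf ⟨6, 9, true, [38, 30, 12, 43, 40, 30], [11, 42, 24, 20, 10], [27, -74, 13, -27, -51, -6, 65, -8, -3, -9, 64, -26, -71, 1, -60, 6, 2, -22, -8, -10, 3, 1, 1, -2, 0, -1, 4, 0, 11, 13, 1]⟩)) (.node 1 (.leaf ⟨9, 6, true, [0, 6, 14, 43, 12, 26], [19, 29, 34, 23, 42, 28], [-3, -78, 37, -46, 32, -22, 21, -9, 4, 31, -16,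 -10, -14, 14, -16, 3, -1, 0, -1, 3, -3, 24, -2, -7, -2, 5, 3, 0, -2, -7, 2]⟩) (.leaf ⟨6, 9, true, [12, 8, 40, 42, 41, 24, 16], [22, 31, 19, 37, 10], [4, 78, -37, 46, -32, 22, -21, 9, -4, -31, 16, 10, 16, -14, 15, -3, 1, 0, 1, -3, 3, -24, 2, 7, 2, -5, -3, 0, 2, 7, -2]⟩))) (.node 2 (.node 1 (.leaf ⟨9, 6, true, [14, 41, 39, 40, 20, 20], [27, 2, 42, 21, 38, 26], [74, 324, 108, 206, 434, 43, -24, 52, 23, 70, -46, -17, 143, -87, -100, -8, -2, 24, 22, 36, -10, 40, 5, 19, -1, 10, 2, 0, -26, -14]⟩) (.leaf ⟨6, 9, true, [25, 34, 25, 16, 14, 34], [2, 40, 25, 35, 24, 23], [-73, -322, -108, -206, -434, -43, 24, -52, -23, -70, 46, 17, -145, 87, 99, 8, 2, -24, -22, -36, 10, -40, -5, -19, 1, -10, -2, 0, 26, 14]⟩)) (.node 1 (.leaf ⟨3, 9, true, [21, 35, 23, 43, 43, 10], [12, 2, 20, 35, 32, 10, 29], [110,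 -721, -396, -334, -1078, -127, 27, -179, -35, 39, -6, 81, -415, 248, 245, 7, 13, -31, -45, -60, 13, -44, -14, -45, -4, 1, 1, 0, 26, 3, 6]⟩) (.leaf ⟨9, 3, true, [13, 16, 39, 18, 22, 12], [25, 4, 18, 23, 38, 41, 20], [-89, 785, 387, 385, 1106, 130, -47, 186, 33, -32, -18, -70, 441, -256, -251, -10, -14, 38, 49, 66, -15, 47, 15, 48, 4, 1, 0, 0, -30, -8, -6]⟩))))) (.node 7 (.node 3 (.node 1 (.leaf ⟨9, 6, true, [38, 6, 18, 28, 40, 2], [19, 24, 40, 38, 42, 19], [-180, -368, 21, -358, -561, -123, 42, -56, -2, -84, 12, 68, -190, 156, 135, 11, -11, -13, -28, -39, 8, 16, -5, -32, -6, -11, -2, 0, 17, -5]⟩) (.node 1 (.leaf ⟨6, 9, true, [39, 16, 24, 26, 38, 38], [11, 20, 31, 39, 40, 2], [181, 368, -21, 358, 561, 123, -42, 56, 2, 84, -12, -68, 192, -156, -136, -11, 11, 13, 28, 39, -8, -16, 5, 32, 6,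 11, 2, 0, -17, 5]⟩) (.leaf ⟨9, 6, true, [42, 6, 25, 12, 27], [29, 11, 2, 19, 2, 21], [-5, -553, -137, -347, -772, -134, 75, -134, 38, -33, 66, 56, -280, 180, 181, 19, 0, -20, -42, -55, 14, -3, -8, -43, -3, -6, -3, 0, 25, 8, -1]⟩))) (.node 2 (.node 1 (.leaf ⟨6, 9, true, [28, 2, 19, 40, 13, 2, 19], [0, 22, 10, 13, 29, 2], [6, 553, 137, 347, 772, 134, -75, 134, -38, 33, -66, -56, 282, -180, -182, -19, 0, 20, 42, 55, -14, 3, 8, 43, 3, 6, 3, 0, -25, -8, 1]⟩) (.leaf ⟨9, 6, true, [0, 36, 29, 33, 11, 23], [21, 10, 21, 42, 21, 41, 8], [39, 5, 0, 10, 21, -3, 4, -4, 15, 36, 17, -19, -31, 2, 12, 1, 1, 6, -3, 4, 0, 18, -3, -1, -6, -2, 1, 0, -7, 2, 1]⟩)) (.node 1 (.leaf ⟨6, 9, true, [12, 4, 11, 24, 42, 33, 29], [8, 11, 25, 33, 41, 6], [-40, -2, 1, -11, -20, 3, -4, 5, -15, -36, -17, 18, 31, -2, -13,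 -1, -1, -6, 3, -4, 0, -18, 3, 1, 6, 2, -1, 0, 7, -2, -1]⟩) (.leaf ⟨9, 6, true, [8, 39, 37, 42, 42, 0], [31, 2, 31, 13, 38, 31, 28], [27, 187, 124, 80, 245, -21, -36, 24, 14, 31, -82, 25, 66, -34, -49, -12, -8, 26, 11, 28, -10, 40, 2, 10, -1, 9, 4, 0, -19, -18, -2]⟩)))) (.node 4 (.node 2 (.node 1 (.leaf ⟨6, 9, true, [32, 0, 23, 19, 36, 28, 25], [4, 43, 43, 36, 38, 8], [-28, -183, -123, -81, -244, 21, 36, -23, -14, -31, 82, -26, -68, 34, 48, 12, 8, -26, -11, -28, 10, -40, -2, -10, 1, -9, -4, 0, 19, 18, 2]⟩) (.leaf ⟨6, 9, true, [10, 37, 42, 31, 31, 21], [35, 39, 13, 41, 26, 13], [39, -103, -90, -78, -213, 18, -40, -58, -34, 4, -5, 3, -149, 77, 44, 8, 12, -4, 9, -10, 3, -21, -8, -7, 1, -3, 2, 0, 6, -4, 6]⟩)) (.node 1 (.leaf ⟨9, 6, true, [0, 30, 35, 30, 27, 22], [27, 30, 43, 13, 37], [-81,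 -70, 96, -51, 103, -39, 86, 38, 38, -21, 50, -22, 76, -52, -29, -2, -10, -13, -20, -5, 1, 15, 6, -2, -1, -1, -4, 0, 5, 14, -6]⟩) (.leaf ⟨6, 9, true, [19, 6, 35, 28, 32, 25, 27], [13, 39, 41, 23, 6, 28], [-51, -72, 90, -99, 16, -65, -2, -5, -16, -38, -41, 4, -46, 15, -33, -10, -8, -10, -9, 8, -8, 16, 2, -2, 0, 0, 6, 0, 3, -6, -1]⟩))) (.node 2 (.node 1 (.leaf ⟨9, 6, true, [2, 24, 20, 28, 6, 14], [28, 0, 6, 18, 41, 31, 21], [-15, -228, -91, -117, -226, 21, 76, -30, 22, 10, 106, -30, -81, 30, 61, 19, 11, -18, -10, -33, 14, -25, -5, -14, 0, -6, -9, 0, 16, 21, 1]⟩) (.leaf ⟨9, 6, true, [12, 40, 39, 35, 43, 33], [33, 2, 20, 22, 39, 31, 4], [-43, -797, -63, -560, -577, -166, 102, -159, -7, -2, 61, 39, -441, 131, 192, -3, 22, -39, -41, -39, 3, -21, -14, -43, -3, -14, 3, 0, 31, 6, 3]⟩)) (.node 1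 (.leaf ⟨6, 9, true, [19, 6, 30, 32, 26, 43, 23], [10, 38, 25, 39, 30, 21], [44, 797, 63, 560, 577, 166, -102, 159, 7, 2, -61, -39, 443, -131, -193, 3, -22, 39, 41, 39, -3, 21, 14, 43, 3, 14, -3, 0, -31, -6, -3]⟩) (.leaf ⟨6, 9, true, [43, 32, 2, 43, 29, 39], [42, 39, 37, 32, 40, 25], [-72, -35, 97, -118, -24, -37, -2, -7, -8, -35, 18, 15, -71, 6, -1, -4, -7, -3, -3, 2, -3, 10, 2, -5, -3, -5, 3, 0, 2, -3]⟩)))))) (.node 15 (.node 7 (.node 3 (.node 1 (.leaf ⟨9, 6, true, [23, 41, 41, 43, 38, 28], [24, 11, 12, 39, 32, 38, 23], [52, -43, -92, 58, -22, 29, 24, -2, 10, 27, 5, -25, 38, 5, 7, 7, 8, -5, -2, -9, 5, -13, -3, 1, 3, 3, -4, 0, 3, 8]⟩) (.node 1 (.leaf ⟨5, 9, true, [42, 41, 22, 35, 40, 14], [12, 40, 34, 18, 21, 8], [-29, -229, -59, -179, -279, -64, -14, -28, -1, -11, -21, 25, -147, 56,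 69, 0, 0, -13, -11, -10, -1, -12, -6, -14, 1, 1, 0, 0, 7, -4, -1]⟩) (.leaf ⟨6, 9, true, [38, 8, 26, 43, 20, 33], [23, 29, 10, 20, 2, 22], [-48, 10, -6, 2, 66, 8, -50, -8, -45, -21, -37, 20, -16, -14, 33, -11, 5, 0, 8, 14, -7, -19, -7, 2, -6, -1, 9, 0, -4, -6]⟩))) (.node 2 (.node 1 (.leaf ⟨9, 6, true, [6, 28, 11, 41, 28, 18], [33, 37, 26, 10, 2, 23], [70, 70, 1, 58, -20, 0, 28, 17, 43, 29, 14, -10, 49, 3, -41, 8, -6, 8, -3, -7, 5, 22, 8, 2, 6, 3, -8, 0, -1, 1]⟩) (.leaf ⟨9, 9, true, [2, 19, 11, 23, 33, 21], [35, 6, 36, 34, 23], [-59, -148, 56, -165, -198, -72, 18, -34, -18, -40, 23, 24, -64, 57, -27, -4, -15, -20, -26, -18, 0, 39, 2, -12, -9, -2, 15, 0, 11, -2, -2]⟩)) (.node 1 (.leaf ⟨7, 9, true, [38, 36, 35, 32, 35, 14], [41, 39, 29, 4, 43, 28], [-331, -468, 566, -621, 310, -212, 222,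 -15, 10, -62, 54, 10, -254, -55, -84, -17, -13, -36, -30, 12, -16, 71, 2, -16, 2, -18, 3, 0, 17, 7, -9]⟩) (.leaf ⟨9, 7, true, [18, 36, 35, 36, 39, 8], [30, 43, 11, 20, 36, 21], [310, 374, -565, 552, -374, 199, -198, 4, -8, 53, -32, -19, 214, 69, 92, 20, 14, 27, 24, -20, 18, -74, -3, 11, -2, 16, -4, 0, -11, -2, 9]⟩)))) (.node 4 (.node 2 (.node 1 (.leaf ⟨6, 9, true, [2, 36, 20, 38, 14, 22], [27, 2, 38, 42, 34, 4], [-83, -420, 82, -388, -398, -165, 62, -30, 14, -74, -12, 54, -220, 110, 70, 3, -9, -24, -37, -23, -1, 14, 1, -30, 4, 1, -6, 0, 23, -3, -3]⟩) (.leaf ⟨9, 6, true, [20, 42, 39, 8, 20, 11], [23, 2, 39, 21, 37], [82, 389, -90, 370, 362, 155, -58, 26, -14, 72, 10, -52, 206, -104, -67, -3, 9, 22, 35, 21, 1, -14, -1, 28, -4, -1, 6, 0, -21, 3, 3]⟩)) (.node 1 (.leaf ⟨5, 9, true, [34, 38,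 27, 22, 14, 12], [4, 27, 42, 39, 10, 24], [7, 56, 16, -4, 19, 25, -23, -12, -10, -11, 15, 1, 4, -12, 23, 1, 8, 5, 11, -2, 2, -5, -2, 2, 0, -4, 2, 0, -6, -3]⟩) (.leaf ⟨9, 5, true, [13, 39, 37, 33, 18], [24, 43, 11, 23, 2, 18], [-50, -245, -14, -134, -147, -51, 71, -10, 14, -7, 29, -19, -84, 40, -6, 5, -6, -23, -23, -14, 2, -1, 0, -12, 0, 0, -4, 0, 18, 13]⟩))) (.node 2 (.node 1 (.leaf ⟨7, 9, true, [10, 40, 23, 38, 34, 2], [2, 19, 39, 32, 34, 31, 22], [13, -636, -261, -398, -882, -142, -23, -98, -1, -91, 2, -39, -368, 234, 159, 19, 4, -47, -44, -61, 13, -28, -10, -41, 1, -6, 3, 0, 32, 3, 6]⟩) (.leaf ⟨9, 7, true, [4, 37, 43, 28, 18, 18], [30, 37, 27, 16, 34, 4], [7, 684, 248, 440, 892, 140, 5, 103, -1, 97, -27, 51, 387, -239, -163, -22, -5, 53, 47, 66, -15, 31, 11, 43, -1, 8, -2, 0, -35,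 -8, -6]⟩)) (.node 1 (.leaf ⟨6, 9, true, [40, 33, 26, 6, 14, 0], [37, 25, 32, 2, 38], [-35, -166, 2, -158, -249, -51, -21, -40, -19, -56, 4, 29, -136, 63, 73, 3, -2, -6, -13, -17, 2, -13, -3, -14, 0, -4, 3, 0, 11, -2, 1]⟩) (.leaf ⟨9, 6, true, [8, 43, 33, 31, 29, 13], [19, 19, 42, 16, 31, 11], [101, 436, -9, 356, 423, 85, -49, 71, 13, 82, -71, -1, 249, -102, -99, -12, -1, 32, 30, 40, -8, 22, 6, 28, 0, 10, 0, 0, -28, -13, -1]⟩))))) (.node 8 (.node 4 (.node 2 (.node 1 (.leaf ⟨6, 9, true, [41, 4, 20, 39, 26, 21, 11], [8, 21, 30, 2, 25, 43], [-61, -97, 26, -134, -142, -29, -17, -31, -29, -38, 23, 24, -92, 28, 42, -2, -4, -4, -5, -8, 1, -5, 0, -10, -1, -5, 5, 0, 4, -4, -1]⟩) (.leaf ⟨9, 6, true, [43, 13, 28, 14], [13, 11, 26, 42, 21, 40], [106, 288, -28, 272, 270, 55, -31, 53, 25, 56, -67, -6,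 172, -56, -61, -4, 2, 22, 17, 24, -5, 11, 2, 20, 1, 9, -3, 0, -16, -6, 1]⟩)) (.node 1 (.leaf ⟨8, 9, true, [19, 23, 11, 6, 19], [40, 22, 28, 40, 19, 36], [-71, -301, -136, -180, -325, -121, 15, -21, -4, -10, -66, 36, -163, 70, 68, -9, -7, -21, -23, -14, -5, -27, 0, -19, 1, 0, -1, 0, 24, -1]⟩) (.leaf ⟨9, 8, true, [19, 16, 37, 33, 40, 14], [35, 42, 11, 23, 12], [51, 223, 141, 120, 279, 113, 7, 12, 6, 2, 89, -46, 130, -59, -62, 12, 8, 13, 18, 7, 7, 24, -1, 15, -1, -2, 0, 0, -19, 6]⟩))) (.node 2 (.node 1 (.leaf ⟨9, 6, true, [2, 33, 6, 27, 12], [42, 0, 28, 22, 12, 41, 18], [-104, 310, 287, 101, 640, 62, 77, 65, 22, -19, 88, -83, 204, -169, -173, -4, -8, 3, 14, 22, -3, 40, 7, 23, -7, 2, 5, 0, -15, 15, -4]⟩) (.leaf ⟨6, 9, true, [41, 28, 38, 27, 38, 25], [12, 29, 11, 39, 36], [105, -308, -287,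 -101, -640, -62, -77, -65, -22, 19, -88, 83, -206, 169, 172, 4, 8, -3, -14, -22, 3, -40, -7, -23, 7, -2, -5, 0, 15, -15, 4]⟩)) (.node 1 (.leaf ⟨9, 9, true, [6, 0, 24, 35, 36, 22, 28], [39, 27, 33, 39, 33, 21], [-2, 825, 277, 564, 1296, 189, -18, 180, -18, 72, -23, -130, 503, -291, -257, -15, -16, 45, 44, 77, -15, 26, 14, 57, -3, 9, -1, 0, -40, 6, 2]⟩) (.leaf ⟨9, 9, true, [34, 11, 41, 33, 11, 25], [34, 20, 42, 20, 30, 4], [1, -856, -285, -582, -1332, -199, 22, -184, 18, -74, 21, 132, -517, 297, 260, 15, 16, -47, -46, -79, 15, -26, -14, -59, 3, -9, 1, 0, 42, -6, -2]⟩)))) (.node 4 (.node 2 (.node 1 (.leaf ⟨9, 6, true, [16, 31, 40, 36, 24, 11], [2, 26, 37, 31, 18], [79, 280, -172, 326, 75, 145, -65, 26, -7, -16, 48, -25, 249, -42, 6, 11, 0, 14, 8, -7, 11, -44, 8, 14, -1, 4, -8, 0, -4, 18,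 -2]⟩) (.leaf ⟨6, 9, true, [39, 0, 22, 16, 41, 26, 19], [14, 6, 12, 25, 22, 37], [-80, -277, 173, -327, -74, -145, 65, -25, 7, 16, -48, 24, -249, 42, -7, -11, 0, -14, -8, 7, -11, 44, -8, -14, 1, -4, 8, 0, 4, -18, 2]⟩)) (.node 1 (.leaf ⟨9, 5, true, [8, 14, 39, 27, 20, 11], [41, 18, 25, 18, 43], [-76, -59, 119, -70, 135, -52, 77, 28, 33, -10, 3, -27, -26, -40, -87, -9, -9, -14, -9, 5, -5, 16, 5, -2, 0, -1, -1, 0, 11, 14, -1]⟩) (.leaf ⟨5, 9, true, [6, 36, 29, 16, 14], [30, 21, 38, 11, 30, 4], [84, 94, -119, 96, -100, 63, -80, -24, -33, 15, -3, 23, 43, 31, 81, 9, 10, 16, 12, -3, 5, -16, -5, 4, 0, 1, 1, 0, -13, -14, 1]⟩))) (.node 2 (.node 1 (.leaf ⟨9, 5, true, [38, 0, 35, 23, 37, 41, 13], [29, 12, 31, 41, 18, 31, 10], [12, 417, 139, 273, 559, 38, -36, 85, -7, 63, -90, 3, 191, -126, -168, -28,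 -8, 21, 28, 53, -19, 33, 10, 25, -3, 6, 10, 0, -19, -14, 2]⟩) (.leaf ⟨5, 9, true, [40, 13, 40, 37, 22], [6, 4, 30, 24, 34, 19, 21], [-4, -413, -152, -264, -567, -38, 34, -84, 9, -59, 88, -6, -191, 126, 167, 28, 8, -21, -28, -53, 19, -33, -10, -25, 3, -6, -10, 0, 19, 14, -2]⟩)) (.node 1 (.leaf ⟨9, 6, true, [34, 24, 34, 40, 36, 30], [8, 4, 23, 28, 34, 21, 29], [75, 905, 297, 605, 1227, 199, -43, 145, 34, 62, 0, -71, 506, -271, -248, -10, -14, 58, 60, 73, -13, 52, 16, 56, 0, 6, -3, 0, -46, -10, -3]⟩) (.leaf ⟨6, 9, true, [36, 27, 12, 39, 24, 39], [8, 10, 18, 33, 39, 14], [-74, -903, -297, -605, -1227, -199, 43, -145, -34, -62, 0, 71, -508, 271, 247, 10, 14, -58, -60, -73, 13, -52, -16, -56, 0, -6, 3, 0, 46, 10, 3]⟩)))))))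
noncomputable def dF3282 : BT Fct := (.node 30 (.node 15 (.node 7 (.node 3 (.node 1 (.leaf ⟨9, 6, true, [35, 33, 20, 41, 27, 23], [39, 0, 12, 26, 40, 28, 26], [-46, 31, 46, -26, 4, -40, 4, 61, 29, -8, 1, 9, 37, -19, 3, -6, -6, 6, -13, 1, 1, 0, 2, 3, 7, 12, -7, 0, -3, 0, -3]⟩) (.node 1 (.leaf ⟨5, 9, true, [37, 26, 37, 12, 11, 22], [24, 2, 28, 26, 39, 14], [16, 6, 41, -8, 16, 10, 27, 1, 3, -6, 28, 7, 21, 14, 0, 7, 1, 0, -3, -4, 3, 7, -1, 3, -1, 4, -6, 0, 1, 0, -1]⟩) (.leaf ⟨9, 5, true, [34, 0, 4, 40, 22, 10, 25], [12, 10, 20, 36, 27, 36], [-60, -211, -43, -139, -162, -41, 23, -25, 1, -13, 15, -24, -108, 17, 19, -1, 1, -19, -10, -13, 1, -13, -1, -14, 1, -8, 4, 0, 12, 10, 1]⟩))) (.node 2 (.node 1 (.leaf ⟨6, 9, true, [34, 21, 31, 37, 11, 27], [26, 11, 21, 38, 6, 35], [-221, -1, 538, -251,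 701, -139, 130, 90, 46, 5, -51, -48, -57, -149, -221, -27, -17, -7, 3, 47, -26, 88, 12, 7, 2, -4, 9, 0, -5, -5, -4]⟩) (.leaf ⟨6, 9, true, [6, 21, 43, 18, 33, 30], [18, 40, 30, 35, 35, 22], [98, 343, 109, 229, 422, -6, -45, 59, 10, 92, -185, 30, 141, -61, -136, -22, 0, 34, 28, 56, -21, 59, 4, 21, -4, 13, 10, 0, -24, -28, 3]⟩)) (.node 1 (.leaf ⟨9, 6, true, [0, 10, 36, 10, 33, 10], [4, 22, 12, 37, 34, 29], [-76, -263, -114, -169, -376, 14, 23, -50, -12, -84, 162, -20, -108, 50, 128, 19, -1, -26, -23, -49, 19, -56, -3, -17, 4, -11, -9, 0, 19, 23, -3]⟩) (.leaf ⟨6, 9, true, [25, 32, 6, 29, 37], [6, 0, 30, 42, 32, 2, 29], [67, 24, -137, 67, -193, 4, -70, 17, 10, -25, 1, -68, -8, 49, 22, 11, -7, 7, -4, -23, 8, -8, 7, -6, 5, 3, 1, 0, 0, -6, 8]⟩)))) (.node 4 (.node 2 (.node 1 (.leaf ⟨9, 6, true,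 [8, 35, 40, 34, 23, 10], [0, 28, 39, 41, 37, 4], [-111, -229, 135, -214, 47, -35, 120, -41, -6, 6, 42, 51, -79, -18, -3, -5, 9, -26, -9, 6, -4, 2, -9, -5, -5, -7, -3, 0, 13, 16, -8]⟩) (.leaf ⟨6, 9, true, [29, 16, 42, 19, 20, 8], [33, 36, 22, 22, 32], [18, 350, 50, 232, 415, 115, -36, 23, 9, 48, -15, -27, 137, -121, -60, -10, 13, 22, 41, 35, -7, -8, -5, 26, -3, -3, 7, 0, -22, -6, 3]⟩)) (.node 1 (.leaf ⟨9, 6, true, [35, 23, 21, 29, 11], [24, 8, 23, 43, 16, 28], [-62, -555, -52, -379, -561, -146, 86, -47, -5, -67, 58, 10, -224, 152, 79, 16, -11, -41, -54, -52, 11, 2, 3, -37, 3, -1, -9, 0, 35, 16, -3]⟩) (.leaf ⟨7, 9, true, [21, 35, 21, 27, 11, 12], [27, 2, 28, 32, 4, 42, 26], [-60, -238, -136, -103, -469, -54, -21, -57, -27, -17, 32, 58, -132, 100, 142, 5, -3, -3, -22, -33, 9, -32, -5, -23,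 -2, -10, 0, 0, 19, 5, 5]⟩))) (.node 2 (.node 1 (.leaf ⟨9, 7, true, [43, 22, 10, 23, 8], [24, 29, 35, 35, 10, 20], [40, 160, 141, 43, 423, 46, 43, 48, 29, 9, -9, -68, 99, -89, -136, -2, 4, -5, 17, 26, -7, 29, 4, 19, 2, 8, -1, 0, -14, 0, -5]⟩) (.leaf ⟨6, 9, true, [19, 26, 39, 36, 21, 24], [14, 42, 20, 10, 38, 34], [210, -890, -836, -335, -2088, -86, -113, -270, -20, -73, 50, 188, -477, 449, 488, 37, 33, -40, -49, -127, 38, -121, -24, -69, 1, -2, -6, 0, 50, -3, 2]⟩)) (.node 1 (.leaf ⟨9, 6, true, [0, 40, 21, 16, 32, 22], [35, 27, 42, 33, 14, 25], [-209, 891, 836, 335, 2088, 86, 113, 270, 20, 73, -50, -188, 477, -449, -489, -37, -33, 40, 49, 127, -38, 121, 24, 69, -1, 2, 6, 0, -50, 3, -2]⟩) (.leaf ⟨9, 9, true, [13, 42, 40, 39, 25, 28], [42, 2, 18, 14, 4, 41], [-2, 16, 5, 7, 19, 3, -2, 3, 0,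 1, 2, -1, 7, -1, -1, 0, 0, 1, 1, 1, 0, -1, 0, 1, 0, 0, 0, 0, -1]⟩))))) (.node 7 (.node 3 (.node 1 (.leaf ⟨6, 9, true, [11, 28, 38, 20, 4, 29], [8, 29, 34, 23, 40, 27], [54, -638, -279, -424, -1187, -166, -25, -160, 18, -50, -21, 153, -427, 269, 242, 10, 15, -27, -32, -62, 11, -22, -12, -47, 3, -3, 2, 0, 29, -17, -2]⟩) (.node 1 (.leaf ⟨9, 6, true, [39, 24, 27, 11, 6, 33], [28, 21, 39, 29, 10], [-29, 766, 286, 511, 1287, 189, -3, 175, -20, 61, 1, -146, 481, -289, -256, -13, -16, 38, 40, 72, -13, 25, 13, 54, -3, 5, -1, 0, -37, 12, 2]⟩) (.leaf ⟨6, 9, true, [2, 26, 34, 11, 32, 0], [29, 35, 32, 30, 2, 28], [-28, -147, 4, -136, -296, -61, 36, -12, 4, -35, -6, 39, -64, 63, 31, 3, -3, -12, -22, -23, 5, 14, 3, -11, -2, 1, -4, 0, 11, 3, -2]⟩))) (.node 2 (.node 1 (.leaf ⟨9, 6, true, [0, 34, 18, 20,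 4, 6], [4, 33, 10, 35, 27, 2], [-16, -58, -6, -11, 150, 30, 14, -12, 0, 16, 49, -56, -23, -32, -12, 3, 5, -7, 9, 6, -1, -20, -5, 0, 2, -5, 2, 0, 2, 7, 2]⟩) (.leaf ⟨9, 9, true, [18, 37, 18, 8, 36], [2, 38, 24, 41, 39, 6], [-21, -71, -58, -20, -76, 6, 8, -15, 10, 8, 19, -33, -42, -6, 8, 1, 5, -10, 1, -9, 2, -16, 1, -6, -1, -6, 4, 0, 6, 9]⟩)) (.node 1 (.leaf ⟨6, 9, true, [16, 31, 34, 6, 25, 21], [20, 2, 21, 38, 36, 32, 23], [32, -80, -49, -16, -87, -23, 4, -16, -6, 23, -4, 0, -51, 25, 25, -3, 0, -3, -3, -4, 0, -9, -3, -2, 0, 2, -1, 0, 3, -3, 2]⟩) (.leaf ⟨9, 6, true, [24, 35, 23, 42, 42, 29], [38, 36, 25, 4, 35, 13], [-76, -125, 47, -131, -59, -8, 46, -8, 10, -42, 47, -17, -36, 6, -6, 9, 2, -16, -10, -13, 4, 3, 1, -9, 0, -6, -1, 0, 10, 13, -2]⟩)))) (.node 4 (.node 2 (.node 1 (.leaf ⟨9, 9,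 true, [39, 33, 27, 6, 20], [14, 29, 6, 26, 32, 41], [21, 25, -3, 26, -166, 42, 9, -16, 22, -47, 76, -15, 38, 30, -2, 20, 0, -2, -1, -22, 12, 5, 2, 0, -5, -3, 0, 0, 1, 11, -2]⟩) (.leaf ⟨6, 9, true, [2, 39, 27, 16, 35, 39], [32, 8, 41, 33, 37, 6, 0], [-3, 158, 75, 65, 213, 29, -5, 39, 16, -3, -2, -14, 73, -52, -37, 0, -1, 10, 9, 14, -3, 7, 4, 10, 1, 5, -2, 0, -8, -5, -2]⟩)) (.node 1 (.leaf ⟨9, 6, true, [6, 20, 16, 32, 41, 18], [18, 2, 22, 35, 18, 33, 11], [-41, -363, -77, -212, -359, -60, 55, -63, -12, -16, 45, -3, -160, 83, 56, 6, 3, -29, -22, -31, 7, -13, -6, -21, -1, -9, 0, 0, 21, 15, 2]⟩) (.leaf ⟨9, 9, true, [2, 24, 43, 43, 29, 12], [28, 12, 42, 4, 34, 24], [-5, 92, 250, -7, 518, -26, 23, 9, 48, 45, -52, -18, 10, -73, -98, -15, -1, 17, 19, 43, -19, 48, 0, 10, -4, -2, 4, 0, -12, -13,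 5]⟩))) (.node 2 (.node 1 (.leaf ⟨9, 9, true, [34, 27, 37, 39, 19, 20], [10, 30, 8, 35, 38, 2], [-60, -376, -247, -200, -710, -13, 49, -42, -42, -72, 118, -9, -130, 115, 124, 24, 4, -44, -37, -67, 25, -57, -3, -25, 4, -4, -7, 0, 30, 28, -5]⟩) (.leaf ⟨6, 9, true, [10, 35, 21, 6, 27, 34], [37, 21, 42, 25, 11, 32], [15, -125, -63, -127, -522, -18, -6, -63, 12, -84, 64, 69, -70, 89, 76, 10, 3, -6, -30, -40, 15, -15, 4, -10, 1, -1, 3, 0, 13, 12, -3]⟩)) (.node 1 (.leaf ⟨9, 6, true, [2, 30, 2, 39, 23, 16], [0, 2, 33, 16, 34, 16, 13], [-12, 158, 71, 145, 558, 28, 2, 67, -12, 86, -62, -71, 84, -95, -81, -10, -3, 8, 32, 42, -15, 15, -4, 12, -1, 1, -3, 0, -15, -12, 3]⟩) (.leaf ⟨9, 9, true, [6, 39, 32, 13, 24, 8], [10, 42, 2, 41, 12, 20], [100, 230, 61, 191, 305, -19, -51, 18, -2, 84, -134, 55, 92,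 -51, -72, -22, -12, 33, 12, 43, -19, 42, 4, 14, -1, 16, 10, 0, -22, -30, 2]⟩)))))) (.node 15 (.node 7 (.node 3 (.node 1 (.leaf ⟨9, 9, true, [36, 24, 34, 36, 23, 16], [18, 11, 32, 34, 43, 6], [-145, -451, -67, -347, -469, -17, 103, -44, 6, -104, 176, -71, -186, 85, 93, 28, 14, -53, -26, -61, 23, -48, -6, -26, 1, -20, -12, 0, 36, 40, -2]⟩) (.node 1 (.leaf ⟨6, 9, true, [35, 0, 13, 22, 40, 8, 25], [28, 2, 38, 38, 25, 19], [-8, -52, 0, -32, -53, -14, 8, -6, -9, 22, -12, 5, -31, 16, 10, 0, 2, -2, -3, 0, -1, 3, -1, -3, -1, 2, 0, 0, 2, -3]⟩) (.leaf ⟨9, 6, true, [4, 10, 39, 34, 38, 27], [16, 2, 10, 32, 37, 21, 19], [76, 354, 1, 248, 263, 58, -82, 41, 3, 6, -53, 21, 158, -61, -40, -9, -5, 30, 22, 25, -5, 6, 4, 19, 1, 4, 3, 0, -21, -12]⟩))) (.node 2 (.node 1 (.leaf ⟨6, 9, true, [6, 42, 31, 28, 43,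 14], [10, 2, 31, 24, 43, 22, 27], [-6, -46, -17, -40, 66, -8, 4, 5, -17, 38, -74, 18, -59, 5, 35, -12, 18, 3, 8, 15, -7, -15, -7, -1, 7, -3, -4, 0, 6, -8, 1]⟩) (.leaf ⟨9, 6, true, [29, 32, 12, 35, 29, 11], [42, 4, 34, 43, 32, 29, 2], [53, 269, 23, 196, 98, 44, -56, 21, 13, -18, 32, -2, 153, -39, -58, 6, -20, 17, 6, 3, 3, 21, 9, 13, -7, 7, 6, 0, -20, -2, -1]⟩)) (.node 1 (.leaf ⟨9, 5, true, [42, 35, 28, 22, 16], [6, 29, 42, 2, 18, 16], [-29, 469, 263, 280, 1096, 80, -1, 133, 19, 144, -39, -130, 180, -258, -253, -29, -5, 9, 55, 79, -25, 33, 3, 37, -4, -5, 2, 0, -28, 1, 4]⟩) (.leaf ⟨5, 9, true, [39, 0, 34, 8, 33, 10, 21], [8, 19, 41, 10, 4], [31, -436, -251, -262, -1055, -69, 0, -129, -21, -143, 41, 128, -163, 249, 247, 29, 6, -7, -52, -77, 25, -33, -3, -35, 4, 5, -2, 0, 26, -1, -4]⟩))))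 (.node 4 (.node 2 (.node 1 (.leaf ⟨6, 9, true, [20, 0, 40, 12, 40, 39, 23], [6, 32, 37, 33, 42, 38], [91, 193, -125, 249, 60, 148, -34, -34, 22, -34, 147, -57, 122, -20, 33, 24, 1, 12, 12, -17, 16, -31, 0, 7, -2, -16, -3, 0, -1, 20]⟩) (.leaf ⟨9, 6, true, [0, 12, 36, 39, 43, 28], [40, 0, 42, 32, 20, 6, 26], [-115, -335, 114, -345, -178, -176, 64, 17, -20, 22, -128, 51, -183, 43, -19, -21, 0, -24, -21, 6, -14, 28, -1, -15, 2, 14, 2, 0, 10, -15]⟩)) (.node 1 (.leaf ⟨6, 9, true, [43, 40, 36, 27, 34], [39, 35, 33, 27, 35, 29], [-55, -67, -108, 38, 20, 89, 3, 1, -55, -34, 72, -55, 18, -26, 16, 3, 11, -27, -4, -8, 5, -54, -5, 4, -8, -7, 6, 0, 10, 24]⟩) (.leaf ⟨9, 6, true, [38, 28, 13, 10], [27, 36, 6, 21, 28, 12], [-9, -201, 115, -236, -194, -123, 67, -32, 61, 8, -5, 27, -131, 65, 8, 6, -8, 1,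 -13, -15, 1, 45, 2, -18, 8, 1, -9, 0, 7, -9]⟩))) (.node 2 (.node 1 (.leaf ⟨9, 6, true, [34, 2, 28, 27, 37, 39], [36, 0, 26, 2, 19, 24, 31], [-16, -119, -19, -69, -48, -14, 12, -23, -6, -8, 20, -6, -69, 2, 37, -1, 1, -7, -6, -7, 1, -15, -4, -8, 1, -6, -1, 0, 8, 7, 1]⟩) (.leaf ⟨9, 6, true, [0, 40, 27, 19, 14, 11], [32, 6, 18, 40, 21, 0], [6, -293, -37, -249, -450, -71, 40, -64, 29, -13, 38, 11, -208, 88, 74, 14, -4, -16, -30, -31, 10, 3, -5, -21, -2, -4, 0, 0, 9, 13, 2]⟩)) (.node 1 (.leaf ⟨6, 9, true, [20, 0, 38, 43, 32, 39, 21], [16, 26, 31, 18, 37, 6], [-7, 296, 38, 248, 451, 71, -40, 65, -29, 13, -38, -12, 208, -88, -75, -14, 4, 16, 30, 31, -10, -3, 5, 21, 2, 4, 0, 0, -9, -13, -2]⟩) (.leaf ⟨9, 6, true, [35, 10, 27, 11, 11], [34, 33, 41, 23, 12, 11], [-35, -154, -34, -91, -92, -5, 45,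 -3, -6, -18, 29, -30, -6, 22, -3, 11, 0, -18, -11, -18, 6, 2, 0, -8, 3, -2, -4, 0, 11, 8, -2]⟩))))) (.node 8 (.node 4 (.node 2 (.node 1 (.leaf ⟨6, 9, true, [38, 0, 27, 20, 43, 35, 20], [10, 20, 28, 23, 34], [36, 156, 34, 91, 92, 5, -45, 3, 6, 18, -29, 30, 4, -22, 2, -11, 0, 18, 11, 18, -6, -2, 0, 8, -3, 2, 4, 0, -11, -8, 2]⟩) (.leaf ⟨9, 6, true, [2, 32, 24, 23, 2, 20], [22, 27, 34, 19, 30, 26], [-49, -406, -77, -259, -371, -41, 61, -64, -2, -27, 47, -28, -169, 101, 43, 13, 9, -33, -21, -32, 8, -7, -6, -21, -3, -8, -1, 0, 25, 13, 3]⟩)) (.node 1 (.leaf ⟨6, 9, true, [19, 41, 19, 30, 33, 18], [31, 19, 28, 2, 33, 2], [50, 406, 77, 259, 371, 41, -61, 64, 2, 27, -47, 28, 171, -101, -44, -13, -9, 33, 21, 32, -8, 7, 6, 21, 3, 8, 1, 0, -25, -13, -3]⟩) (.leaf ⟨9, 6, true, [19, 14, 23, 40, 25, 19,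 6], [31, 43, 26, 33, 34, 14], [107, 82, -11, 1, -279, -91, -40, -12, 59, 34, -114, 92, -18, 79, 34, 2, -6, 36, 5, -2, 0, 56, 5, -9, 10, 7, -6, 0, -13, -32, -1]⟩))) (.node 2 (.node 1 (.leaf ⟨9, 6, true, [8, 38, 29, 20, 33, 22], [6, 13, 19, 35, 33, 28], [-12, 242, 115, 154, 345, 65, 17, 54, -15, 7, 39, -48, 182, -107, -137, 2, -8, 2, 19, 15, -3, 26, 8, 17, -5, 2, 9, 0, -15, 2]⟩) (.leaf ⟨9, 6, true, [6, 38, 36, 38, 25, 18], [38, 6, 34, 39, 21, 39, 0], [-51, -170, -24, -115, -363, -64, -24, -24, 7, -71, -17, 49, -69, 72, 53, 0, -11, -7, -18, -17, 2, -2, 2, -14, -2, -2, 6, 0, 9, -3, -3]⟩)) (.node 1 (.leaf ⟨8, 9, true, [12, 39, 12, 36, 33], [2, 21, 10, 36, 35, 26], [-29, 156, 522, -187, 196, 23, 31, -34, 100, -86, 180, -2, -7, -51, -87, 21, -5, 29, 26, -8, 11, 103, -2, 1, -2, -13, 8, 0, -26,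 -2, -7]⟩) (.leaf ⟨9, 8, true, [40, 2, 25, 8, 0, 35, 21], [0, 32, 16, 6, 14, 2], [8, -250, -521, 118, -260, -36, -7, 23, -98, 77, -158, -7, -33, 65, 95, -18, 6, -38, -32, 0, -9, -106, 1, -6, 2, 11, -9, 0, 32, 7, 7]⟩)))) (.node 4 (.node 2 (.node 1 (.leaf ⟨5, 9, true, [34, 23, 10, 39, 20, 23], [26, 0, 30, 19, 41, 39], [33, 254, 33, 158, 201, 69, -11, 51, -13, 20, 2, -24, 99, -43, -78, 5, -1, 6, 20, 9, 1, 6, 3, 15, 2, 5, -1, 0, -9, -2, -2]⟩) (.leaf ⟨9, 5, true, [2, 14, 20, 6, 8, 22], [27, 2, 24, 16, 30, 6, 14], [-78, -475, -39, -314, -365, -105, 63, -77, 17, -40, 40, 8, -193, 77, 99, 1, 3, -26, -34, -27, 3, -12, -5, -27, -2, -9, -1, 0, 23, 12, 2]⟩)) (.node 1 (.leaf ⟨6, 9, true, [29, 0, 34, 22, 28, 41], [23, 38, 43, 8, 36, 4], [-9, 135, 41, 86, 243, 26, -13, 41, 6, 23, -2, -43, 53, -23, -76,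 5, -12, 1, 10, 13, -3, 11, 3, 10, 3, 2, -2, 0, -6, -3]⟩) (.leaf ⟨9, 6, true, [2, 42, 2, 14, 21, 0], [20, 6, 23, 20, 41, 22, 26], [-36, -356, -47, -242, -407, -62, 65, -67, -2, -43, 44, 27, -147, 57, 97, 1, 14, -21, -24, -31, 7, -17, -5, -22, -3, -6, 0, 0, 20, 13]⟩))) (.node 2 (.node 1 (.leaf ⟨6, 9, true, [30, 35, 33, 2, 20], [26, 35, 35, 41, 31, 23], [-17, 98, 31, 20, -19, 20, 8, 13, 33, -35, 30, -6, 17, 14, 8, 13, -3, 5, 8, -10, 7, -2, -2, 2, 2, -1, -7, 0, -1, 4, -3]⟩) (.leaf ⟨9, 6, true, [29, 39, 10, 31, 27, 22], [21, 2, 33, 14, 34, 31], [-4, -192, -30, -89, -45, -33, 16, -24, -31, 26, -8, -3, -57, 0, 0, -10, 4, -14, -14, 2, -5, -1, 1, -7, -2, -1, 6, 0, 7, 1, 3]⟩)) (.node 1 (.leaf ⟨6, 9, true, [20, 28, 33, 39, 30, 40], [10, 29, 13, 38, 43, 28], [74, -82, -159, 15, -324, 37, 11, -47,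 17, 7, 69, 19, -28, 59, 101, 19, 7, 0, -6, -30, 14, -24, -3, -10, 2, -4, -7, 0, 7, 5, -1]⟩) (.leaf ⟨9, 6, true, [0, 37, 42, 12, 38, 28], [41, 2, 32, 35, 22, 43, 14], [-119, -139, 153, -171, 160, -73, 41, 21, -13, -27, -27, -35, -66, -25, -80, -13, -5, -20, -8, 12, -10, 18, 1, -2, -2, 0, 5, 0, 7, 5, 1]⟩)))))))
noncomputable def dF3343 : BT Fct := (.node 30 (.node 15 (.node 7 (.node 3 (.node 1 (.leaf ⟨6, 9, true, [19, 6, 21, 24, 36, 18, 6], [31, 27, 43, 32, 30, 39], [-20, -11, 54, -33, -50, 0, 21, 9, -6, -23, 18, 6, -20, 23, -9, 6, 0, -5, -3, -6, 2, 9, 2, -3, 1, -1, 0, 0, 4, -1, -2]⟩) (.node 1 (.leaf ⟨9, 6, true, [31, 39, 23, 16, 6, 32], [25, 10, 34, 28, 38, 31, 4], [-25, -210, -60, -123, -114, -36, 31, -35, 10, 3, 24, -22, -74, 11, 30, 0, 2, -15, -11, -12, 2, -15, -4, -9, -1, -3, -2, 0,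 10, 11, 2]⟩) (.leaf ⟨6, 9, true, [11, 24, 29, 39, 28, 13], [10, 30, 34, 34, 24, 26], [16, -209, -130, -66, -433, 10, 42, -47, 49, -116, 120, -13, -63, 105, 61, 31, -10, -16, -19, -49, 20, -33, 0, -15, 5, -5, -7, 0, 22, 23, -5]⟩))) (.node 2 (.node 1 (.leaf ⟨9, 6, true, [41, 43, 39, 28, 33], [24, 0, 34, 40, 21, 2, 27], [-60, 4, 128, -81, 287, -41, 8, 23, -45, 97, -77, -4, -24, -74, -42, -25, 12, -3, 6, 32, -16, 27, -2, 4, -5, 1, 5, 0, -9, -13, 5]⟩) (.leaf ⟨9, 9, true, [40, 26, 2, 43, 29], [13, 43, 26, 40, 22, 30], [-48, -450, -80, -241, -281, -100, 59, -63, -44, -18, -7, -9, -142, 83, 76, 1, 2, -28, -33, -21, 1, -7, -5, -21, 3, -2, -3, 0, 19, 2, 2]⟩)) (.node 1 (.leaf ⟨9, 9, true, [30, 8, 36, 2, 29, 10], [11, 30, 41, 2, 19, 2], [71, 546, 79, 310, 345, 113, -83, 74, 42, 27, -15, 18, 182,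 -97, -86, -4, -3, 37, 39, 29, -3, 10, 6, 26, -3, 4, 4, 0, -25, -7, -2]⟩) (.leaf ⟨6, 9, true, [6, 14, 35, 18, 41, 2], [10, 39, 41, 20, 36, 8], [9, 152, 13, 126, 184, -25, -56, 45, -23, 12, -136, 17, 98, 4, -46, -13, -1, 20, 14, 26, -12, 36, 1, 8, 5, 8, 4, 0, -10, -29, -1]⟩)))) (.node 4 (.node 2 (.node 1 (.leaf ⟨9, 6, true, [39, 18, 40, 29, 20, 12], [11, 22, 13, 39, 4, 6], [-28, -214, -4, -177, -212, 22, 76, -52, 25, -19, 160, -28, -124, 4, 50, 16, 2, -27, -18, -32, 14, -39, -2, -11, -5, -10, -5, 0, 14, 34, 1]⟩) (.leaf ⟨6, 9, true, [18, 0, 8, 37, 33, 39, 22], [20, 24, 24, 41, 21, 27], [84, -140, -139, -42, -395, 4, 21, -51, -6, -12, 35, 14, -53, 98, 81, 17, 10, -8, -11, -32, 14, -16, -4, -11, 4, -1, -3, 0, 6, 4]⟩)) (.node 1 (.leaf ⟨9, 6, true, [40, 11, 23, 23, 10], [38, 34, 6, 14, 21, 38],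 [-105, 46, 140, -27, 331, -17, 3, 40, 8, 3, -13, -23, 13, -84, -73, -14, -9, -1, 5, 24, -12, 13, 3, 6, -4, -1, 2, 0, 0, 1]⟩) (.leaf ⟨9, 9, true, [0, 13, 21, 40, 25, 28], [40, 40, 39, 10, 35, 42], [137, 86, -146, 145, -230, -40, -86, -60, -9, 86, -156, 106, -26, 67, 25, -17, -4, 29, 8, 15, -10, 23, -1, -3, 0, 9, 13, 0, -11, -32, 3]⟩))) (.node 2 (.node 1 (.leaf ⟨9, 9, true, [29, 0, 40, 33, 23, 14, 0], [26, 0, 23, 40, 6, 26, 8], [-161, -228, 135, -241, 112, 12, 116, 43, 11, -98, 175, -112, -35, -44, -11, 20, 5, -41, -17, -26, 12, -26, 0, -5, 0, -11, -14, 0, 20, 37, -3]⟩) (.leaf ⟨9, 6, true, [42, 0, 26, 34, 30, 28, 13], [8, 16, 19, 11, 37, 29], [100, 184, -146, 170, -157, 33, -94, -15, -11, 61, -85, 53, 63, 63, 73, 5, 4, 35, 15, 3, 3, 9, -4, 0, -1, 9, 1, 0, -21, -21, 2]⟩)) (.node 1 (.leaf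 ⟨9, 6, true, [6, 42, 36, 16, 35, 14], [29, 19, 37, 20, 14, 41, 22], [82, 827, 146, 602, 1159, 172, -115, 137, -27, 138, -141, -48, 397, -267, -202, -35, 5, 55, 76, 100, -28, 27, 2, 58, -6, 8, 10, 0, -54, -27, 3]⟩) (.leaf ⟨6, 9, true, [2, 22, 36, 35, 40, 21], [21, 26, 30, 41, 16, 11], [-83, -824, -145, -603, -1158, -172, 115, -136, 27, -138, 141, 47, -397, 267, 201, 35, -5, -55, -76, -100, 28, -27, -2, -58, 6, -8, -10, 0, 54, 27, -3]⟩))))) (.node 7 (.node 3 (.node 1 (.leaf ⟨9, 5, true, [38, 6, 43, 40, 20], [4, 26, 19, 38, 2, 21], [-39, -414, -42, -277, -100, -66, 15, -49, -40, 8, 1, 14, -204, 38, 110, -8, 12, -19, -17, -5, -4, -32, -11, -16, 5, -6, -5, 0, 16, -2, 3]⟩) (.node 1 (.leaf ⟨5, 9, true, [0, 33, 43, 24, 33, 28], [0, 34, 37, 16, 24, 2], [40, 384, 29, 260, 57, 55, -14, 46, 42, -9,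 -3, -13, 187, -29, -106, 8, -13, 17, 14, 3, 4, 32, 11, 14, -5, 6, 5, 0, -14, 2, -3]⟩) (.leaf ⟨6, 9, true, [28, 36, 35, 37, 25, 31], [35, 28, 42, 37, 16, 20], [20, 364, 100, 243, 489, 119, -20, 39, -1, 32, 28, -34, 195, -133, -56, -4, 8, 25, 32, 32, -4, -3, 0, 25, -2, -3, 3, 0, -22, -1]⟩))) (.node 2 (.node 1 (.leaf ⟨9, 6, true, [34, 39, 36, 25, 20, 27], [30, 0, 24, 36, 34, 37, 29], [-40, -442, -95, -303, -535, -127, 42, -48, 3, -40, -5, 24, -228, 144, 62, 7, -7, -33, -37, -39, 6, 0, -1, -29, 2, 1, -4, 0, 27, 6]⟩) (.leaf ⟨9, 6, true, [4, 34, 20, 34, 36, 30], [43, 36, 35, 14, 35, 39], [-28, -178, -14, -139, -249, -38, -12, -39, 1, -51, 65, 9, -88, 42, 47, 2, -8, -6, -18, -18, 5, -9, 0, -11, -4, -1, 0, 0, 10, 7, 1]⟩)) (.node 1 (.leaf ⟨9, 6, true, [10, 8, 38, 25, 16], [41, 27, 29, 26, 39,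 32], [-2, -279, -86, -180, -205, -23, 19, -55, -2, -10, 33, -2, -159, 43, 108, 1, 13, -13, -15, -15, 4, -30, -9, -14, 1, -3, -4, 0, 13, 4]⟩) (.leaf ⟨6, 9, true, [8, 0, 39, 21, 37, 26, 2], [21, 24, 10, 25, 39], [1, 283, 87, 179, 206, 23, -19, 56, 2, 10, -33, 1, 157, -43, -109, -1, -13, 13, 15, 15, -4, 30, 9, 14, -1, 3, 4, 0, -13, -4]⟩)))) (.node 4 (.node 2 (.node 1 (.leaf ⟨9, 5, true, [10, 33, 43, 36, 13, 28], [38, 8, 34, 18, 26, 14], [-44, -275, -15, -181, -195, -78, 43, -30, 7, -20, -5, 1, -104, 62, -13, 2, -10, -22, -22, -18, 1, 11, 2, -14, 3, -1, -4, 0, 16, 11, -2]⟩) (.leaf ⟨5, 9, true, [10, 36, 35, 37, 18, 29], [21, 42, 11, 37, 31, 10], [48, 246, -4, 168, 149, 67, -43, 27, -4, 21, 2, -1, 87, -53, 17, -2, 9, 20, 19, 16, -1, -11, -2, 12, -3, 1, 4, 0, -14, -11, 2]⟩)) (.node 1 (.leaf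 ⟨9, 6, true, [0, 13, 34, 34, 33, 26], [16, 19, 39, 36, 21, 25], [-43, -311, -180, -121, -347, -35, -22, -61, -48, -13, 1, 42, -58, 79, 139, -2, 6, -13, -23, -23, 4, -46, -4, -16, -3, -1, -6, 0, 15, 8, 2]⟩) (.leaf ⟨6, 9, true, [16, 28, 40, 27, 16, 8], [12, 11, 31, 25, 39, 6], [44, 311, 180, 121, 347, 35, 22, 61, 48, 13, -1, -42, 60, -79, -140, 2, -6, 13, 23, 23, -4, 46, 4, 16, 3, 1, 6, 0, -15, -8, -2]⟩))) (.node 2 (.node 1 (.leaf ⟨6, 9, true, [42, 6, 31, 27, 40, 2], [14, 2, 40, 33, 16, 42], [-1, 202, -10, 89, 31, 69, -33, 15, 8, -28, 48, -32, 102, 2, 28, 15, 4, 13, 13, -11, 11, -3, -2, 6, 0, -1, -6, 0, -10, 3, -3]⟩) (.leaf ⟨3, 9, true, [0, 42, 32, 38, 34, 41], [10, 14, 26, 34, 41, 0], [25, 155, -18, 85, 31, 44, -40, 14, 3, -14, 31, -27, 40, -2, 12, 12, -1, 10, 9, -4, 6, -6, 1, 6, 0, 1,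 -2, 0, -9, 0, -2]⟩)) (.node 1 (.leaf ⟨9, 3, true, [10, 38, 2, 30, 32], [13, 4, 34, 27, 35, 18, 13], [-23, -138, 22, -76, -13, -39, 38, -12, -3, 15, -30, 26, -33, -1, -15, -12, 1, -9, -8, 5, -6, 6, -1, -5, 0, -1, 2, 0, 8, 0, 2]⟩) (.leaf ⟨5, 10, true, [6], [], []⟩)))))) (.node 15 (.node 7 (.node 3 (.node 1 (.leaf ⟨10, 10, false, [20, 32, 13], [], [-7, -66, -12, -44, -75, -22, 5, -8, 2, -6, -2, 6, -33, 18, 10, 0, -2, -4, -6, -4, 0, 0, 0, -4, 0, 0, 0, 0, 4]⟩) (.node 1 (.leaf ⟨10, 10, false, [31, 19, 16], [], [-1, -32, -12, -18, -40, -11, 1, -4, 2, -1, -1, 3, -17, 8, 5, 0, -1, -2, -3, -2, 0, 0, 0, -2, 0, 0, 0, 0, 2]⟩) (.leaf ⟨10, 5, true, [27, 10, 32, 38, 36], [0, 4, 41, 41, 24, 28], [4, 33, 6, 24, 38, 11, -1, 3, -3, 3, 0, -4, 16, -8, -6, -1, 1, 2, 3, 2, 0, 0, 0, 2, 0, 0, 0, 0, -2]⟩))) (.node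 2 (.node 1 (.leaf ⟨5, 10, true, [0, 41, 42, 25, 18, 13], [0, 43, 38, 24, 11, 6], [1, 1, 0, -2, 0, 0, -1, 1, 2, 0, 1, 1, 1, -1, 0, 1]⟩) (.leaf ⟨10, 6, true, [13, 25, 35, 12, 41], [37, 24, 6, 42, 37, 8], [-24, -193, -35, -148, -296, -60, 9, -34, 7, -36, 15, 28, -117, 67, 55, 3, -5, -11, -20, -19, 4, -6, -1, -13, -1, -4, 0, 0, 11, 5]⟩)) (.node 1 (.leaf ⟨6, 10, true, [38, 27, 41, 41, 23, 32], [27, 23, 40, 42, 24, 6], [25, 193, 35, 148, 296, 60, -9, 34, -7, 36, -15, -28, 119, -67, -56, -3, 5, 11, 20, 19, -4, 6, 1, 13, 1, 4, 0, 0, -11, -5]⟩) (.leaf ⟨10, 6, true, [43, 22, 10, 20, 34, 39], [0, 39, 26, 8, 33, 6], [-33, 240, 158, 132, 404, 90, 23, 10, -16, 15, 63, 13, 161, -110, -33, -5, 8, 19, 16, 20, -1, 8, 0, 21, 0, -8, 3, 0, -15, 5, -8]⟩)))) (.node 4 (.node 2 (.node 1 (.leaf ⟨6, 10, true, [6,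 38, 20, 11, 43, 11], [39, 4, 34, 38, 28, 31, 0], [32, -236, -157, -133, -403, -90, -23, -9, 16, -15, -63, -14, -163, 110, 32, 5, -8, -19, -16, -20, 1, -8, 0, -21, 0, 8, -3, 0, 15, -5, 8]⟩) (.leaf ⟨10, 6, true, [41, 25, 19, 42, 37, 14], [20, 6, 38, 40, 43, 36], [14, -308, -167, -138, -495, -74, -22, -55, -29, -32, 27, 14, -155, 110, 100, 5, -10, -16, -35, -32, 8, -18, -1, -19, -1, -4, 4, 0, 14, 4, 2]⟩)) (.node 1 (.leaf ⟨6, 10, true, [16, 2, 22, 43, 37, 21, 10], [6, 32, 29, 29, 6, 32], [-13, 310, 167, 138, 495, 74, 22, 55, 29, 32, -27, -14, 153, -110, -101, -5, 10, 16, 35, 32, -8, 18, 1, 19, 1, 4, -4, 0, -14, -4, -2]⟩) (.leaf ⟨10, 3, true, [0, 19, 6, 26, 30, 18], [31, 41, 19, 20, 2, 18], [4, 39, -66, 79, -32, 24, -36, -14, -36, -13, 14, -12, 25, 8, 49, 2, -1, 8, 0, -8, 5, -11, -1, 0, -1,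 -8, 1, 0, -3, 1, 2]⟩))) (.node 2 (.node 1 (.leaf ⟨3, 10, true, [0, 43, 36, 31, 14, 28], [22, 14, 29, 6, 21], [2, -37, 58, -76, 7, -23, 34, 12, 37, 8, -13, 13, -24, -3, -47, -1, 1, -8, -1, 6, -4, 10, 1, 0, 1, 8, -1, 0, 3, 0, -2]⟩) (.leaf ⟨10, 5, true, [8, 23, 6, 20, 31, 26], [38, 36, 20, 25, 16], [-1, -104, -83, -6, -124, 4, 12, -13, -25, 26, -6, 10, 11, 45, 25, 6, 3, -8, -8, -10, 4, -12, -4, -2, -2, 4, -4, 0, 6, 4, 2]⟩)) (.node 1 (.leaf ⟨5, 10, true, [2, 26, 24, 8, 0], [31, 6, 21, 29, 13], [-5, 71, 83, -20, 89, -15, -9, 9, 25, -31, 6, -6, -28, -36, -21, -6, -4, 6, 5, 8, -4, 12, 4, 0, 2, -4, 4, 0, -4, -4, -2]⟩) (.leaf ⟨10, 5, true, [16, 19, 6, 30, 4], [25, 43, 25, 30, 22, 0], [102, -182, -211, -25, -506, -68, -42, -44, 19, 2, -38, -7, -103, 95, 13, 2, -14, -10, -23, -29, 5, 6, 7, -17,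 1, -4, 10, 0, 13, 2, 3]⟩))))) (.node 8 (.node 4 (.node 2 (.node 1 (.leaf ⟨5, 10, true, [29, 34, 36, 23, 16], [0, 31, 6, 18, 16], [-103, 214, 229, 39, 550, 79, 42, 48, -22, -3, 41, 6, 120, -104, -19, -2, 15, 12, 26, 31, -5, -6, -7, 19, -1, 4, -10, 0, -15, -2, -3]⟩) (.leaf ⟨10, 6, true, [2, 34, 21, 39, 40], [24, 18, 39, 13, 41, 4], [14, 89, 18, 65, 123, 33, 2, 9, -2, 13, 7, -15, 52, -26, -17, 1, 2, 5, 7, 7, 0, 2, 0, 7, -1, 0, -1, 0, -6]⟩)) (.node 1 (.leaf ⟨10, 6, true, [18, 29, 43, 12, 40], [2, 36, 41, 29, 26, 6], [5, -4, 10, -3, 15, 1, 8, 7, 10, 4, 1, 0, 8, -3, -1, 2, 0, 1, -1, 0, 0, 1, 1, 0, 0, 2, -2]⟩) (.leaf ⟨10, 7, true, [10, 29, 27, 22, 6], [11, 11, 6, 26], [1, 45, 26, 21, 71, 10, -7, 4, -8, -1, 5, -10, 22, -12, -13, 0, 0, 2, 3, 3, 0, 2, 0, 3, 1, 0, 0, 0, -3]⟩))) (.node 2 (.node 1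 (.leaf ⟨7, 10, true, [28, 11, 12, 4, 6], [12, 10, 6, 26], [-3, -44, -23, -22, -70, -10, 8, -4, 8, 1, -4, 12, -22, 12, 12, 0, 0, -2, -3, -3, 0, -2, 0, -3, -1, 0, 0, 0, 3]⟩) (.leaf ⟨10, 7, true, [22, 41, 11, 34, 4], [29, 35, 42, 33, 19], [0, -25, -1, -21, -23, -5, 4, -7, -4, -2, -3, 3, -13, 8, 5, 0, 1, -2, -1, -1, 0, 0, -1, -1, -1, 0, 0, 0, 1]⟩)) (.node 1 (.leaf ⟨7, 10, true, [20, 28, 12, 10, 6], [35, 10, 40, 23, 0], [5, 4, -12, 6, -16, 1, -4, 2, 5, 3, 0, 1, -3, 3, -1, 0, 0, 0, 0, 0, 0, -1, 0, 0, 1]⟩) (.leaf ⟨10, 6, true, [34, 37, 22, 29, 23], [30, 24, 34, 20, 37, 18], [-4, -108, -32, -56, -108, -34, 14, -14, 2, 0, -4, 2, -43, 28, 16, 1, -4, -6, -10, -6, 0, 2, 0, -5, -1, -1, -1, 0, 6]⟩)))) (.node 4 (.node 2 (.node 1 (.leaf ⟨10, 6, true, [10, 12, 23, 8, 6], [0, 8, 41, 36, 34, 26], [0, -2,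 2, 0, 7, 0, 2, 7, 3, 4, 0, 1, 6, 0, -1, 1, 0, 0, 0, 0, 0, 0, 0, 0, 0, 1, -1]⟩) (.leaf ⟨10, 6, true, [11, 43, 2, 20, 4], [39, 40, 34, 38, 6, 40], [-3, 0, -2, -1, -3, 0, -5, -2, -7, -4, 0, 4, -3, 0, 1, -1, 0, 0, -1, 1, 0, -1, 0, 0, 0, -1, 1]⟩)) (.node 1 (.leaf ⟨6, 10, true, [10, 24, 18, 10, 39, 41], [21, 2, 42, 10, 0], [4, 0, 2, 1, 3, 0, 5, 2, 7, 4, 0, -4, 5, 0, -2, 1, 0, 0, 1, -1, 0, 1, 0, 0, 0, 1, -1]⟩) (.leaf ⟨10, 6, true, [13, 29, 10, 22, 6], [23, 16, 35, 40, 33, 6], [-6, -111, -19, -69, -100, -34, 14, -11, 1, -2, 2, 3, -45, 26, 13, 1, -4, -7, -11, -6, 0, 3, 0, -5, -1, 0, -1, 0, 6]⟩))) (.node 2 (.node 1 (.leaf ⟨10, 6, true, [23, 35, 0, 37], [25, 2, 25, 20, 42, 23], [1, 101, 34, 51, 121, 35, -7, 9, -13, 4, 5, -4, 43, -28, -18, -1, 3, 5, 9, 6, 0, -1, 0, 6, 0, 0, 1, 0, -6]⟩) (.leaf ⟨10,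 4, true, [13, 36, 35, 8], [4, 39, 40, 33, 14, 2], [21, 162, 29, 101, 186, 50, -16, 25, 1, 8, 6, -18, 81, -47, -25, 0, 2, 10, 11, 8, 0, 2, 1, 10, 1, 0, 0, 0, -10]⟩)) (.node 1 (.leaf ⟨4, 10, true, [35, 10, 2], [11, 11, 39, 8, 2], [-22, -138, -21, -82, -151, -46, 15, -20, -2, -8, -3, 14, -64, 38, 19, 0, -3, -8, -10, -7, 0, -1, 0, -9, -1, 0, 0, 0, 9]⟩) (.leaf ⟨10, 4, true, [0, 18, 18, 41, 34, 11], [36, 24, 35, 27, 12], [4, -36, -17, -29, -49, -18, -4, 3, 9, -8, -2, 2, -25, 7, 5, 0, -4, -2, -8, -3, 0, 1, 1, -2, 2, 0, 0, 0, 2]⟩)))))))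
noncomputable def dF3404 : BT Fct := (.node 30 (.node 15 (.node 7 (.node 3 (.node 1 (.leaf ⟨4, 10, true, [19, 23, 6, 20, 0], [0, 6, 27, 19, 25, 11], [-5, 60, 25, 48, 84, 22, 3, 2, -10, 8, 5, -6, 42, -16, -11, 0, 3, 4, 9, 4, 0, 0, 0, 3, -2, 0, 0, 0, -3]⟩) (.node 1 (.leaf ⟨10, 6, true, [18, 11, 12, 11, 6], [24, 39, 2, 19, 10], [-13, -111, -18, -60, -107, -32, 14, -18, 2, -7, 2, 7, -44, 25, 19, 0, -4, -6, -11, -7, 0, 1, 1, -5, -2, -1, 0, 0, 6]⟩) (.leaf ⟨10, 5, true, [10, 18, 28, 25, 0], [16, 42, 30, 8, 2], [10, 99, 18, 65, 114, 32, -5, 11, -4, 9, 3, -10, 51, -27, -13, 0, 3, 6, 9, 5, 0, -1, 0, 6, 0, 0, 0, 0, -6]⟩))) (.node 2 (.node 1 (.leaf ⟨5, 10, true, [6, 14, 10, 18, 12], [27, 19, 24, 11], [-13, -131, -24, -87, -152, -43, 7, -15, 5, -12, -4, 13, -68, 36, 17, 0, -4, -8, -12, -7, 0, 1, 0,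 -8, 0, 0, 0, 0, 8]⟩) (.leaf ⟨10, 10, true, [16, 11, 32, 26, 8], [26, 30, 10, 10, 18], [-2, -33, -6, -21, -38, -10, -1, -2, 3, -3, 0, 4, -17, 10, 3, 0, -1, -2, -3, -1, -1, 1, 0, -2, 0, 0, 0, 0, 2]⟩)) (.node 1 (.leaf ⟨10, 5, true, [0, 24, 24, 27, 10, 6], [27, 27, 2, 42, 19], [0, 2, 0, -2, -2, 0, -1, -1, 1, 0, 0, -1, -1, 0, -1, 0, 0, -1, 0, 0, 0, -1]⟩) (.leaf ⟨10, 6, true, [12, 22, 21, 10, 6], [18, 28, 22, 35, 40], [16, 102, 6, 78, 109, 32, -8, 11, -2, 14, -2, -11, 53, -27, -13, 0, 3, 7, 10, 6, 0, -1, 0, 6, 0, -1, 0, 0, -6]⟩)))) (.node 4 (.node 2 (.node 1 (.leaf ⟨10, 5, true, [22, 30, 42, 38, 13], [26, 8, 35, 40], [13, 99, 11, 67, 111, 32, -7, 9, -2, 12, 2, -9, 47, -26, -16, 0, 3, 6, 9, 6, 0, 0, 0, 6, 0, 0, 0, 0, -6]⟩) (.leaf ⟨5, 10, true, [0, 37, 26, 33, 10, 23], [28, 10, 6, 24, 16], [-19,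 -132, -11, -93, -146, -43, 10, -13, 2, -17, -2, 13, -64, 35, 20, 0, -4, -8, -12, -8, 0, 0, 0, -8, 0, 0, 0, 0, 8]⟩)) (.node 1 (.leaf ⟨10, 5, true, [24, 26, 10, 6, 29], [19, 39, 12, 40, 31], [-10, -97, -18, -63, -115, -33, 6, -8, 3, -8, -3, 9, -48, 27, 17, 0, -3, -6, -9, -6, 0, -2, 0, -6, 0, 0, 0, 0, 6]⟩) (.leaf ⟨5, 10, true, [0, 36, 28, 30, 33, 14], [21, 18, 39, 40, 19], [7, 65, 12, 41, 77, 22, -4, 4, -2, 5, 2, -6, 31, -18, -13, 0, 2, 4, 6, 4, 0, 2, 0, 4, 0, 0, 0, 0, -4]⟩))) (.node 2 (.node 1 (.leaf ⟨10, 2, true, [29, 4, 6], [38, 21, 23, 28, 43, 26], [8, 91, 20, 55, 111, 33, -6, 14, -7, 18, 0, -8, 47, -25, -17, 0, 3, 7, 9, 6, 0, 3, -1, 6, 0, -1, 0, 0, -5]⟩) (.leaf ⟨2, 10, true, [2, 30, 28, 6, 39, 2], [4, 6, 28, 4], [-7, -90, -21, -56, -112, -36, 6, -14, 7, -17, -2, 9, -48, 23, 16, -1,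 -3, -7, -9, -6, 0, -3, 1, -6, 0, 1, 0, 0, 5]⟩)) (.node 1 (.leaf ⟨10, 3, true, [22, 25, 26, 6], [6, 26, 24, 26], [-12, -99, -18, -66, -113, -33, 8, -14, 2, -10, -1, 8, -51, 27, 16, 0, -3, -6, -9, -6, 0, 0, -1, -6, 0, 0, 0, 0, 6]⟩) (.leaf ⟨3, 10, true, [24, 12, 27, 6, 4], [6, 24, 20, 19, 4], [15, 103, 19, 68, 115, 30, -8, 14, -4, 12, 0, -9, 52, -26, -17, 0, 3, 6, 9, 6, 0, 0, 1, 6, 0, 0, 0, 0, -6]⟩))))) (.node 7 (.node 3 (.node 1 (.leaf ⟨10, 5, true, [13, 19, 39, 34, 23], [6, 20, 19, 25, 12], [1, 1, 0, 0, -2, -1, -1, 1, 0, -1, 2, -2, 0, 1, 1, 0, 0, 0, 0, 0, 0, 0, 0, -1]⟩) (.node 1 (.leaf ⟨5, 10, true, [37, 30, 29, 18, 10], [19, 41, 2, 18, 4], [1, 32, 12, 18, 43, 12, 0, 3, -2, 2, 0, 0, 17, -10, -7, 0, 1, 2, 3, 2, 0, 0, 0, 3, 0, 0, 0, 0, -2]⟩) (.leaf ⟨10, 4, true, [20, 34, 0, 42, 6], [32,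 26, 20, 11, 2], [22, 162, 29, 100, 190, 51, -15, 23, 0, 9, 4, -18, 82, -51, -25, 0, 2, 10, 11, 8, 0, 2, 1, 11, 0, 0, 0, 0, -10]⟩))) (.node 2 (.node 1 (.leaf ⟨10, 6, true, [25, 10, 43, 34, 18], [2, 43, 27, 16, 13, 6], [0, -196, -62, -125, -269, -50, 4, -36, 6, -12, -1, 18, -104, 62, 58, 4, -2, -9, -15, -15, 3, -7, -3, -12, -1, -1, -2, 0, 9, 2]⟩) (.leaf ⟨10, 5, true, [23, 24, 2, 42, 13], [0, 26, 21, 35, 43, 11], [0, -1, -8, 9, -3, -1, -1, 0, 2, 2, -4, -2, 0, 0, 6, 0, 0, 2, 0, 0, 0, 0, 0, 0, -1, -1]⟩)) (.node 1 (.leaf ⟨5, 10, true, [11, 24, 6, 16, 8], [16, 10, 43, 40, 22], [-2, 1, 14, -13, 6, 1, 2, 0, -3, -4, 5, 3, 0, 0, -7, 0, 0, -2, 0, 0, 0, 0, 0, 0, 1, 1]⟩) (.leaf ⟨10, 6, true, [31, 8, 28, 42, 34], [39, 10, 36, 43, 16, 20], [-21, 49, 28, 26, 77, 9, 0, 3, 0, -4, 21, -7, 25, -24, 2, -1,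 -2, 6, 3, 1, 0, -1, 2, 1, -1, -1, 1, 0, -2, -1]⟩)))) (.node 4 (.node 2 (.node 1 (.leaf ⟨6, 10, true, [11, 39, 14, 41, 22, 20], [21, 26, 13, 39, 2], [22, -49, -28, -26, -77, -9, 0, -3, 0, 4, -21, 7, -23, 24, -3, 1, 2, -6, -3, -1, 0, 1, -2, -1, 1, 1, -1, 0, 2, 1]⟩) (.leaf ⟨10, 5, true, [10, 29, 34, 37, 20], [40, 10, 2, 33, 6], [-6, -109, -33, -69, -141, -24, 12, -24, -2, 1, -12, 11, -58, 38, 23, 0, 3, -8, -4, -5, -1, -4, -3, -6, -3, 1, 0, 0, 6]⟩)) (.node 1 (.leaf ⟨10, 6, true, [27, 43, 2, 23], [41, 0, 6, 21, 35, 25, 0], [-6, -22, -53, -15, -153, 4, -27, -33, -12, -27, 22, 10, -41, 23, 61, 3, -2, 5, -3, -12, 6, -13, -1, -7, -2, -6, 1, 0, 0, 4]⟩) (.leaf ⟨6, 10, true, [10, 2, 43, 22, 30, 16, 6], [6, 26, 10, 21, 8], [7, 22, 53, 15, 153, -4, 27, 33, 12, 27, -22, -10, 43, -23, -62, -3, 2, -5,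 3, 12, -6, 13, 1, 7, 2, 6, -1, 0, 0, -4]⟩))) (.node 2 (.node 1 (.leaf ⟨10, 6, true, [26, 12, 2, 42, 11], [21, 21, 34, 43, 36], [5, -101, -20, -58, -105, -30, 13, -14, 5, -3, -3, 8, -39, 27, 9, 3, -4, -5, -10, -6, 0, 5, 0, -5, 0, 1, -2, 0, 6]⟩) (.leaf ⟨10, 10, true, [30, 38, 2, 4, 2], [4, 29, 35, 42, 25], [1, 11, -16, 10, -17, -1, -8, -9, -10, 0, -3, -1, -7, 4, 0, -2, 0, -1, 1, 0, 0, 0, -1, 0, -1, -2, 2]⟩)) (.node 1 (.leaf ⟨10, 5, true, [21, 27, 4, 6], [18, 26, 40, 40, 33, 12], [-2, -32, -14, -21, -42, -10, 2, -3, 5, -1, -2, 3, -18, 8, 6, 0, -1, -2, -3, -2, 0, 0, 0, -2, -1, 0, 0, 0, 2]⟩) (.leaf ⟨5, 10, true, [26, 20, 6, 8, 6], [22, 13, 21, 6], [2, 1, 2, 3, 1, -1, -1, -1, -3, 0, 0, -1, 1, 1, -2, 0, 0, 0, 0, 0, 0, 0, 0, 0, 1]⟩)))))) (.node 15 (.node 7 (.node 3 (.node 1 (.leaf ⟨10, 6, true,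 [0, 26, 6, 43, 40, 21], [8, 25, 39, 11, 41, 4], [-114, 113, 212, -28, 444, 45, 53, 44, -17, -8, 39, 18, 77, -77, -3, -1, 12, 6, 17, 25, -5, -6, -7, 13, -2, 5, -11, 0, -9, -2, -3]⟩) (.node 1 (.leaf ⟨10, 10, true, [0, 28, 34, 43, 36, 26], [18, 2, 34, 29, 25], [0, 93, 98, -5, 141, -4, -4, 21, 35, -29, 9, -8, -4, -49, -25, -4, -3, 9, 7, 10, -4, 12, 5, 2, 2, -2, 2, 0, -6, -4, -2]⟩) (.leaf ⟨10, 7, true, [4, 41, 34, 18, 13, 21], [37, 38, 41, 6], [-13, -95, -9, -66, -107, -35, 6, -9, 8, -14, -6, 13, -47, 23, 13, 0, -2, -5, -9, -6, 0, 0, 0, -6, 2, 0, 0, 0, 6]⟩))) (.node 2 (.node 1 (.leaf ⟨7, 10, true, [38, 20, 41, 42], [11, 6, 23, 12, 26], [29, 58, -38, 53, -2, 24, -22, 5, -4, 6, 1, -27, 18, 0, 1, 3, 1, 3, 5, -2, 2, -4, 1, 1, -2, 1, 1, 0, -3, -1, 2]⟩) (.leaf ⟨10, 6, true, [30, 8, 25, 27, 2], [2,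 14, 30, 13, 6, 20], [-2, -113, -19, -61, -100, -33, 12, -12, 12, 0, -6, 5, -42, 25, 13, 2, -3, -6, -10, -6, 0, 2, 0, -5, 1, 1, -3, 0, 6]⟩)) (.node 1 (.leaf ⟨6, 10, true, [6, 38, 40, 18, 38, 4], [2, 26, 14, 21, 8], [1, 116, 20, 60, 101, 33, -12, 13, -12, 0, 6, -6, 42, -25, -14, -2, 3, 6, 10, 6, 0, -2, 0, 5, -1, -1, 3, 0, -6]⟩) (.leaf ⟨10, 6, true, [31, 29, 26, 13, 2], [0, 38, 35, 43, 19, 13], [-14, -95, -23, -64, -120, -32, 5, -20, -4, -16, -4, 14, -59, 26, 27, -2, -3, -5, -9, -7, 0, 0, 0, -7, -3, -1, 1, 0, 6, -1]⟩)))) (.node 4 (.node 2 (.node 1 (.leaf ⟨6, 10, true, [0, 11, 29, 42, 35, 6], [13, 2, 26, 33, 25], [15, 97, 23, 64, 120, 32, -5, 20, 4, 16, 4, -14, 57, -26, -28, 2, 3, 5, 9, 7, 0, 0, 0, 7, 3, 1, -1, 0, -6, 1]⟩) (.leaf ⟨10, 6, true, [18, 31, 18, 14, 2], [42, 4, 29, 38, 32, 2],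 [-53, -693, -148, -463, -967, -211, 57, -106, 46, -92, 7, 76, -370, 229, 166, 11, -15, -36, -73, -62, 10, -8, -1, -42, -1, -2, -6, 0, 42, 12, -2]⟩)) (.node 1 (.leaf ⟨6, 10, true, [41, 32, 25, 41, 11], [2, 19, 30, 19], [54, 693, 148, 463, 967, 211, -57, 106, -46, 92, -7, -76, 372, -229, -167, -11, 15, 36, 73, 62, -10, 8, 1, 42, 1, 2, 6, 0, -42, -12, 2]⟩) (.leaf ⟨10, 6, true, [30, 23, 26, 12, 2], [10, 32, 41, 23, 38, 18], [-18, 425, 66, 302, 489, 88, -22, 76, -21, 31, 3, -33, 240, -124, -81, -9, -9, 22, 18, 29, -3, 2, 10, 24, -2, 4, -1, 0, -23, 3, -2]⟩))) (.node 2 (.node 1 (.leaf ⟨6, 10, true, [11, 21, 6, 37, 18, 32], [35, 41, 6, 39, 8], [19, -425, -66, -302, -489, -88, 22, -76, 21, -31, -3, 33, -238, 124, 80, 9, 9, -22, -18, -29, 3, -2, -10, -24, 2, -4, 1, 0, 23, -3, 2]⟩) (.leaf ⟨10, 5,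 true, [27, 32, 20, 8, 2], [6, 2, 27, 24, 16, 37, 28], [-129, 14, 176, -99, 30, -32, 24, 11, 39, -74, 33, 8, 28, -2, 5, 4, -5, 9, -3, -7, 2, 12, 2, -1, 1, -3, -2, 0, 4, 0, -2]⟩)) (.node 1 (.leaf ⟨5, 10, true, [0, 35, 28, 43, 43, 19], [2, 27, 24, 28, 0], [125, -78, -194, 59, -109, 10, -21, -19, -36, 70, -36, -3, -62, 20, 4, -4, 3, -13, -3, 3, -2, -12, -2, -3, -1, 3, 2, 0, 0, 0, 2]⟩) (.leaf ⟨10, 6, true, [19, 4, 2], [37, 42, 41, 36, 33, 14], [3, -329, -118, -163, -361, -97, 12, -38, -25, 15, -18, 32, -165, 100, 25, -4, -13, -26, -28, -20, 1, -1, 1, -18, -1, 1, -2, 0, 17, 1, 5]⟩))))) (.node 7 (.node 3 (.node 1 (.leaf ⟨10, 10, false, [6, 26, 36, 14, 13, 18], [], [-7, 328, 116, 162, 358, 97, -18, 36, 18, -20, 18, -27, 162, -100, -24, 3, 13, 26, 27, 21, -1, 0, -1, 18, 1, -2, 3, 0, -17, -1, -5]⟩)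 (.node 1 (.leaf ⟨10, 5, true, [34, 39, 8, 36, 25, 25], [35, 0, 6, 34, 32, 37, 26], [18, 247, 22, 160, 237, 122, -23, 2, -14, -3, 29, -11, 144, -68, 22, 6, 23, 20, 27, 11, 3, -18, -6, 17, -2, -4, 2, 0, -15, 1, -2]⟩) (.leaf ⟨5, 10, true, [12, 37, 26, 38, 30, 2], [11, 19, 19, 41, 32, 32], [-13, -244, -29, -155, -242, -122, 22, -1, 15, 5, -30, 9, -144, 68, -23, -6, -23, -20, -27, -11, -3, 18, 6, -17, 2, 4, -2, 0, 15, -1, 2]⟩))) (.node 2 (.node 1 (.leaf ⟨10, 6, true, [13, 0, 37, 30, 43, 36, 26], [22, 37, 42, 10, 28, 11], [41, 107, 8, 42, 38, 50, -8, -16, 27, -25, 6, -17, 25, -23, 23, 5, 17, 16, 15, 8, 0, -2, -4, 5, 0, -6, 5, 0, -6, -2, -3]⟩) (.leaf ⟨6, 10, true, [23, 8, 29, 34, 41, 21], [35, 38, 42, 20, 32, 29], [-40, -105, -8, -42, -38, -50, 8, 16, -27, 25, -6, 17, -27, 23, -24, -5, -17,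 -16, -15, -8, 0, 2, 4, -5, 0, 6, -5, 0, 6, 2, 3]⟩)) (.node 1 (.leaf ⟨10, 6, true, [40, 37, 21, 8, 19], [18, 13, 36, 26, 38, 25, 20], [13, 789, 276, 442, 1030, 233, -24, 94, 54, -6, 35, -69, 430, -273, -79, 0, 29, 61, 67, 59, -6, 10, -2, 48, 1, -6, 1, 0, -44, -3, -10]⟩) (.leaf ⟨6, 10, true, [21, 2, 25, 41, 30, 36, 4], [0, 24, 13, 23, 42, 0], [-14, -787, -275, -443, -1029, -233, 24, -93, -54, 6, -35, 68, -428, 273, 78, 0, -29, -61, -67, -59, 6, -10, 2, -48, -1, 6, -1, 0, 44, 3, 10]⟩)))) (.node 4 (.node 2 (.node 1 (.leaf ⟨10, 6, true, [10, 35, 26, 22, 26], [16, 0, 32, 35, 10, 4, 26], [-46, -669, -146, -415, -702, -212, 55, -49, -23, 13, -48, 41, -321, 202, 43, 1, -28, -50, -60, -43, 1, 16, 5, -39, -1, 6, -10, 0, 38, 3, 4]⟩) (.leaf ⟨6, 10, true, [23, 27, 14, 34, 10, 20], [26, 28, 23, 34,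 11], [45, 672, 147, 414, 703, 212, -55, 50, 23, -13, 48, -42, 321, -202, -44, -1, 28, 50, 60, 43, -1, -16, -5, 39, 1, -6, 10, 0, -38, -3, -4]⟩)) (.node 1 (.leaf ⟨10, 6, true, [0, 12, 43, 6, 8, 29], [40, 42, 35, 14, 26], [32, -428, -251, -193, -627, -93, -2, -86, -32, 24, 14, 42, -239, 154, 123, 4, -8, -28, -34, -40, 9, -29, -4, -27, -3, 1, -6, 0, 20, 4, 7]⟩) (.leaf ⟨10, 6, true, [34, 29, 22, 6, 32], [25, 0, 20, 2, 26, 31, 14], [45, 779, 182, 450, 787, 228, -72, 94, 19, 1, 48, -72, 394, -230, -85, 3, 23, 54, 66, 44, 0, 0, 0, 42, 2, -1, 6, 0, -44, -3, -7]⟩))) (.node 2 (.node 1 (.leaf ⟨6, 10, true, [25, 29, 4, 2, 20, 23], [4, 33, 11, 27, 43, 8], [-46, -775, -181, -451, -786, -228, 72, -93, -19, -1, -48, 71, -396, 230, 84, -3, -23, -54, -66, -44, 0, 0, 0, -42, -2, 1, -6, 0, 44, 3, 7]⟩) (.leaf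 ⟨10, 6, true, [34, 30, 10, 2, 19], [25, 37, 21, 26, 21], [-1, -517, -263, -256, -681, -155, 4, -84, -68, 37, -51, 65, -296, 172, 92, -11, -9, -39, -41, -33, 1, -19, -3, -34, -1, 2, 2, 0, 29, -3, 7]⟩)) (.node 1 (.leaf ⟨6, 10, true, [8, 23, 31, 11, 37, 24], [4, 25, 37, 42, 31, 4], [2, 517, 263, 256, 681, 155, -4, 84, 68, -37, 51, -65, 298, -172, -93, 11, 9, 39, 41, 33, -1, 19, 3, 34, 1, -2, -2, 0, -29, 3, -7]⟩) (.leaf ⟨10, 3, true, [21, 25, 18, 6, 0], [22, 39, 39, 8, 22, 6], [13, -51, -43, 8, -84, -12, 19, -12, -2, 21, -2, 20, -15, 17, 15, 1, 1, -3, 1, -5, 1, -5, -2, -3, 0, -2, -2, 0, 4, 0, 1]⟩)))))))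
noncomputable def dF3464 : BT Fct := (.node 30 (.node 15 (.node 7 (.node 3 (.node 1 (.leaf ⟨3, 10, true, [41, 16, 43, 21, 14], [6, 29, 24, 21], [-13, 40, 38, -17, 65, 7, -17, 10, 0, -19, 0, -18, 8, -12, -14, -1, -1, 2, -2, 4, -1, 5, 2, 2, 0, 2, 2, 0, -3, 0, -1]⟩) (.node 1 (.leaf ⟨10, 6, true, [2, 20, 18, 24, 11], [20, 2, 23, 4, 29], [-32, 480, 164, 201, 457, 141, -29, 53, 31, -48, 14, -27, 234, -142, -4, 8, 24, 40, 41, 30, -1, -7, -4, 24, 2, -2, 5, 0, -25, -4, -10]⟩) (.leaf ⟨6, 10, true, [8, 29, 25, 29, 2, 21], [10, 21, 23, 16, 2], [31, -477, -163, -202, -456, -141, 29, -52, -31, 48, -14, 26, -234, 142, 3, -8, -24, -40, -41, -30, 1, 7, 4, -24, -2, 2, -5, 0, 25, 4, 10]⟩))) (.node 2 (.node 1 (.leaf ⟨10, 6, true, [38, 18, 10, 29, 23], [23, 2, 11, 25, 36, 41, 28], [-18, 696, 265, 330, 726,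 205, -45, 73, 43, -61, 62, -56, 341, -203, -33, 9, 26, 57, 55, 39, 1, -3, -2, 37, 1, -6, 6, 0, -38, 1, -10]⟩) (.leaf ⟨6, 10, true, [37, 10, 32, 42, 39, 30], [10, 26, 21, 10, 39], [17, -694, -264, -331, -725, -205, 45, -72, -43, 61, -62, 55, -339, 203, 32, -9, -26, -57, -55, -39, -1, 3, 2, -37, -1, 6, -6, 0, 38, -1, 10]⟩)) (.node 1 (.leaf ⟨6, 10, true, [12, 2, 42, 21, 37, 19, 11], [11, 40, 34, 22, 29, 22], [-34, -286, -36, -183, -243, -76, 43, -38, -5, -6, -24, 32, -148, 84, 37, 1, -5, -18, -24, -13, -1, 0, -1, -14, -1, -1, -3, 0, 16, 2, 2]⟩) (.leaf ⟨10, 6, true, [33, 33, 43, 10, 23, 27], [26, 0, 36, 40, 35, 29, 2], [41, -467, -220, -203, -588, -151, -1, -46, -27, 39, -15, 31, -226, 142, 25, -7, -24, -40, -39, -35, 3, 0, 3, -28, -1, 5, -3, 0, 24, 0, 8]⟩)))) (.node 4 (.node 2 (.node 1 (.leaf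 ⟨10, 6, true, [4, 34, 38, 31, 16], [37, 0, 24, 38, 20, 41, 22], [-6, -193, -36, -127, -160, -86, 14, -7, -10, 28, -17, 12, -142, 50, -7, -6, -14, -17, -15, -9, -2, 6, 3, -11, 0, 0, -3, 0, 10, -1, 4]⟩) (.leaf ⟨6, 10, true, [37, 0, 32, 35, 23, 23, 28], [6, 39, 37, 20, 41, 18], [7, 195, 36, 127, 160, 86, -14, 7, 10, -28, 17, -12, 140, -50, 6, 6, 14, 17, 15, 9, 2, -6, -3, 11, 0, 0, 3, 0, -10, 1, -4]⟩)) (.node 1 (.leaf ⟨10, 6, true, [8, 34, 16, 39, 25, 27], [36, 41, 36, 32, 41, 29], [-30, 295, 35, 215, 336, 44, -14, 60, -12, 21, 0, -19, 174, -87, -59, -8, -13, 14, 6, 21, -3, 2, 10, 16, -2, 4, -1, 0, -16, 3, -2]⟩) (.leaf ⟨6, 10, true, [4, 30, 36, 28, 37, 29], [35, 21, 27, 36, 6, 20], [29, -291, -34, -216, -335, -44, 14, -59, 12, -21, 0, 18, -176, 87, 58, 8, 13, -14, -6, -21, 3, -2, -10, -16,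 2, -4, 1, 0, 16, -3, 2]⟩))) (.node 2 (.node 1 (.leaf ⟨10, 6, true, [34, 30, 42, 41, 6], [14, 24, 29, 34, 8, 43], [40, 443, 98, 248, 434, 133, -39, 39, 29, -11, 31, -37, 193, -132, -16, 3, 18, 36, 39, 27, -1, -4, -1, 22, 2, -5, 4, 0, -26, -3, -5]⟩) (.leaf ⟨6, 10, true, [4, 39, 4, 43, 19, 11], [16, 14, 39, 10, 6], [-41, -441, -97, -249, -433, -133, 39, -38, -29, 11, -31, 36, -191, 132, 15, -3, -18, -36, -39, -27, 1, 4, 1, -22, -2, 5, -4, 0, 26, 3, 5]⟩)) (.node 1 (.leaf ⟨10, 6, true, [33, 22, 29, 35, 41, 10], [8, 0, 28, 32, 40, 40, 23], [21, -84, -115, -49, -265, -2, -18, -49, -11, 4, 4, 24, -91, 29, 103, -2, 19, 2, 1, -8, 3, -35, -10, -5, 0, -3, 5, 0, 0, -2, 3]⟩) (.leaf ⟨6, 10, true, [16, 35, 4, 43, 21, 40], [19, 36, 29, 41, 30, 22], [-22, 87, 116, 48, 266, 2, 18, 50, 11, -4, -4, -25, 91,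 -29, -104, 2, -19, -2, -1, 8, -3, 35, 10, 5, 0, 3, -5, 0, 0, 2, -3]⟩))))) (.node 7 (.node 3 (.node 1 (.leaf ⟨10, 6, true, [34, 0, 37, 20, 12], [35, 39, 13, 20, 42, 6], [90, -726, -362, -316, -972, -197, 23, -97, -51, 70, -2, 51, -395, 236, 88, -3, -25, -57, -67, -56, 7, -16, 3, -41, -5, 5, -3, 0, 37, 8, 12]⟩) (.node 1 (.leaf ⟨10, 4, true, [40, 35, 31, 25, 21], [10, 0, 36, 33, 39, 31, 29], [37, -887, -335, -423, -966, -265, 43, -92, -54, 64, -50, 68, -438, 273, 57, -9, -39, -72, -76, -59, 3, 2, 4, -48, -1, 6, -9, 0, 45, 2, 15]⟩) (.leaf ⟨4, 10, true, [27, 18, 13, 2, 27, 8], [23, 19, 39, 32, 25, 6], [-25, 865, 315, 413, 926, 261, -43, 88, 52, -57, 44, -66, 417, -263, -55, 9, 40, 70, 75, 58, -3, -3, -5, 47, 1, -6, 9, 0, -44, -2, -14]⟩))) (.node 2 (.node 1 (.leaf ⟨10, 6, true, [31, 2, 32,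 41, 29, 18], [4, 40, 43, 24, 30, 37], [39, 426, 57, 254, 373, 141, -45, 33, 16, -17, 40, -37, 206, -110, -12, 8, 15, 32, 33, 17, 4, -13, -2, 24, 2, -1, 1, 0, -23, 3, -6]⟩) (.leaf ⟨6, 10, true, [37, 39, 35, 22, 21, 10], [25, 2, 30, 35, 16, 4], [-38, -426, -57, -254, -373, -141, 45, -33, -16, 17, -40, 37, -204, 110, 11, -8, -15, -32, -33, -17, -4, 13, 2, -24, -2, 1, -1, 0, 23, -3, 6]⟩)) (.node 1 (.leaf ⟨10, 6, true, [2, 10, 30, 39, 27, 25], [32, 10, 41, 26, 40, 6, 23], [36, -450, -155, -218, -456, -162, 18, -44, -24, 46, -41, 38, -262, 127, -10, -14, -25, -40, -36, -24, -3, 11, 6, -24, 0, 1, -2, 0, 23, -2, 8]⟩) (.leaf ⟨6, 10, true, [10, 0, 12, 18, 42, 18, 28], [20, 42, 32, 13, 11, 0], [-37, 454, 156, 217, 457, 162, -18, 45, 24, -46, 41, -39, 260, -127, 9, 14, 25, 40, 36, 24, 3, -11, -6,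 24, 0, -1, 2, 0, -23, 2, -8]⟩)))) (.node 4 (.node 2 (.node 1 (.leaf ⟨10, 5, true, [8, 38, 18, 35, 38], [8, 29, 4, 42, 22, 4], [20, -275, -105, -96, -189, -60, 33, -27, -7, 40, -7, 23, -82, 67, 29, -1, -10, -21, -20, -15, 1, 5, -1, -13, -3, 2, -10, 0, 11, 1, 4]⟩) (.leaf ⟨5, 10, true, [20, 14, 43, 14, 23], [18, 10, 6, 41, 10], [-15, 309, 111, 118, 227, 71, -35, 31, 6, -37, 8, -26, 99, -76, -35, 1, 11, 23, 23, 17, -1, -5, 1, 15, 3, -2, 10, 0, -13, -1, -4]⟩)) (.node 1 (.leaf ⟨10, 6, true, [28, 30, 39, 21, 40, 19], [10, 0, 42, 25, 26, 37, 22], [-8, -832, -261, -433, -865, -253, 60, -102, -31, 25, -36, 80, -394, 221, 104, -12, -29, -58, -72, -52, 2, -4, 1, -46, -4, 3, -6, 0, 41, 5, 8]⟩) (.leaf ⟨6, 10, true, [20, 30, 38, 33, 25, 16], [21, 39, 42, 21, 37, 6], [9, 832, 261, 433, 865, 253, -60,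 102, 31, -25, 36, -80, 396, -221, -105, 12, 29, 58, 72, 52, -2, 4, -1, 46, 4, -3, 6, 0, -41, -5, -8]⟩))) (.node 2 (.node 1 (.leaf ⟨10, 9, true, [31, 19, 4, 38, 22, 2], [32, 0, 42, 23, 11, 29, 11], [-86, -314, -119, -284, -601, -17, -1, -84, -15, -114, 30, 23, -189, 100, 240, 18, 40, -8, -12, -38, 13, -58, -20, -24, 2, -11, 8, 0, 14, 6, -7]⟩) (.leaf ⟨9, 10, true, [12, 40, 21, 6, 32, 20], [25, 34, 42, 36, 24, 23], [89, 347, 127, 302, 637, 27, -3, 88, 15, 116, -28, -25, 203, -106, -245, -18, -40, 10, 14, 40, -13, 58, 20, 26, -2, 11, -8, 0, -16, -6, 7]⟩)) (.node 1 (.leaf ⟨10, 6, true, [38, 34, 40, 29, 31, 25], [2, 14, 40, 38, 0, 31], [0, 235, -12, 207, 223, 68, -41, 49, 29, 12, -19, -63, 197, -58, -35, 11, 0, 21, 27, 9, -2, 10, 3, 5, -1, 0, 7, 0, -12, -7, -2]⟩) (.leaf ⟨6, 10, true, [37, 38,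 37, 35, 38], [14, 21, 23, 37, 29, 8], [1, -233, 12, -207, -223, -68, 41, -49, -29, -12, 19, 63, -199, 58, 34, -11, 0, -21, -27, -9, 2, -10, -3, -5, 1, 0, -7, 0, 12, 7, 2]⟩)))))) (.node 15 (.node 7 (.node 3 (.node 1 (.leaf ⟨10, 6, true, [2, 43, 6, 35, 20, 19], [32, 35, 37, 37, 24, 21], [75, -575, -296, -266, -655, -131, 9, -91, -21, 43, -28, 43, -328, 163, 135, -6, 0, -35, -41, -33, 3, -29, -6, -32, 2, -2, -5, 0, 28, 0, 6]⟩) (.node 1 (.leaf ⟨6, 10, true, [24, 8, 11, 34, 33], [18, 0, 21, 12, 39, 4, 6], [-76, 577, 297, 265, 656, 131, -9, 92, 21, -43, 28, -44, 330, -163, -136, 6, 0, 35, 41, 33, -3, 29, 6, 32, -2, 2, 5, 0, -28, 0, -6]⟩) (.leaf ⟨10, 3, true, [40, 34, 11, 8, 30, 24], [12, 39, 14, 39, 28, 28], [45, -523, -196, -238, -618, -154, 30, -51, -35, 49, -29, 42, -246, 164, 19, -6, -22,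 -45, -47, -36, 2, 5, 5, -28, -3, 6, -5, 0, 27, 4, 8]⟩))) (.node 2 (.node 1 (.leaf ⟨3, 10, true, [32, 43, 35, 42, 39, 23], [25, 31, 16, 2, 31, 2], [-46, 556, 215, 255, 675, 158, -32, 57, 38, -48, 30, -47, 259, -177, -27, 5, 22, 47, 50, 40, -3, -4, -5, 30, 3, -6, 5, 0, -29, -5, -8]⟩) (.leaf ⟨10, 6, true, [34, 40, 19], [6, 39, 30, 16, 25, 11], [57, -557, -279, -234, -706, -142, 28, -69, -46, 65, -44, 61, -278, 194, 73, -2, -16, -45, -42, -40, 5, -14, -3, -31, -2, 5, -8, 0, 26, 3, 10]⟩)) (.node 1 (.leaf ⟨6, 10, true, [8, 31, 35, 41, 14, 10], [18, 8, 35, 8, 0], [-58, 559, 280, 233, 707, 142, -28, 70, 46, -65, 44, -62, 280, -194, -74, 2, 16, 45, 42, 40, -5, 14, 3, 31, 2, -5, 8, 0, -26, -3, -10]⟩) (.leaf ⟨10, 6, true, [0, 8, 4, 42, 36], [12, 21, 2, 27, 28, 14], [7, -611, -192, -307, -588, -193,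 34, -43, -42, 57, -79, 39, -275, 176, -16, -11, -29, -53, -53, -31, -3, 13, 6, -29, -2, 9, -3, 0, 32, 0, 9]⟩)))) (.node 4 (.node 2 (.node 1 (.leaf ⟨6, 10, true, [21, 34, 33, 38, 2, 24], [14, 37, 10, 39, 37], [-8, 614, 193, 306, 589, 193, -34, 44, 42, -57, 79, -40, 275, -176, 15, 11, 29, 53, 53, 31, 3, -13, -6, 29, 2, -9, 3, 0, -32, 0, -9]⟩) (.leaf ⟨10, 5, true, [8, 31, 2, 30, 13, 29], [30, 2, 27, 25, 34, 41], [10, 965, 352, 479, 994, 282, -11, 102, 58, -62, 86, -73, 526, -285, -133, 14, 32, 66, 70, 49, 3, 6, 0, 56, 1, 1, 8, 0, -45, 10, -13]⟩)) (.node 1 (.leaf ⟨5, 10, true, [0, 30, 2, 30, 28, 12], [21, 10, 39, 28, 41, 20], [-3, -962, -364, -471, -1000, -282, 9, -102, -56, 66, -88, 71, -526, 285, 132, -14, -32, -66, -70, -49, -3, -6, 0, -56, -1, -1, -8, 0, 45, -10, 13]⟩) (.leaf ⟨10, 6,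 true, [10, 2, 31, 11, 8], [26, 11, 20, 37, 13, 28], [17, 221, 22, 168, 218, 75, -16, 31, -13, 12, 33, -24, 130, -56, -21, 3, 2, 13, 17, 7, 4, -10, -1, 13, 0, 2, 0, 0, -16, 6, -1]⟩))) (.node 2 (.node 1 (.leaf ⟨10, 5, true, [41, 6, 20, 31, 6], [41, 18, 37, 22, 21, 31], [33, -266, -123, -98, -304, -78, 17, -33, -18, 29, -21, 17, -139, 86, 19, -5, -12, -23, -24, -18, 1, -2, 0, -14, -1, 3, 0, 0, 12, 1, 4]⟩) (.leaf ⟨5, 10, true, [35, 6, 38, 43, 23, 24], [10, 6, 20, 19, 2], [-35, 266, 129, 94, 307, 78, -16, 33, 17, -31, 22, -16, 139, -86, -20, 5, 12, 23, 24, 18, -1, 2, 0, 14, 1, -3, 0, 0, -12, -1, -4]⟩)) (.node 1 (.leaf ⟨10, 5, true, [6, 21, 42, 34, 26, 21], [31, 10, 41, 26, 37, 22], [54, -563, -233, -236, -560, -184, 30, -48, -27, 75, -66, 28, -285, 155, -2, -11, -28, -46, -42, -28, -4, 12,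 5, -33, 1, 8, -5, 0, 31, -7, 9]⟩) (.leaf ⟨5, 10, true, [35, 33, 42, 32, 38], [22, 19, 24, 35, 41], [-56, 563, 239, 232, 563, 184, -29, 48, 26, -77, 67, -27, 285, -155, 1, 11, 28, 46, 42, 28, 4, -12, -5, 33, -1, -8, 5, 0, -31, 7, -9]⟩))))) (.node 8 (.node 4 (.node 2 (.node 1 (.leaf ⟨10, 6, true, [41, 26, 19, 12, 4], [35, 27, 42, 37, 27, 40], [56, -325, -173, -137, -437, -91, 22, -52, 5, 53, -5, 38, -187, 94, 31, -2, -11, -23, -22, -25, 3, -7, 1, -19, 0, 1, -4, 0, 19, 3, 4]⟩) (.leaf ⟨6, 10, true, [19, 37, 20, 35, 31, 29], [26, 19, 12, 40], [-55, 327, 173, 137, 437, 91, -22, 52, -5, -53, 5, -38, 185, -94, -32, 2, 11, 23, 22, 25, -3, 7, -1, 19, 0, -1, 4, 0, -19, -3, -4]⟩)) (.node 1 (.leaf ⟨10, 6, true, [4, 29, 42, 34, 37, 11], [6, 8, 38, 32, 37, 42, 25], [-20, -864, -238, -436, -793, -283,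 44, -77, -84, 57, -132, 73, -439, 240, -4, -24, -31, -72, -66, -32, -11, 23, 2, -44, -3, 1, 3, 0, 49, -10, 15]⟩) (.leaf ⟨10, 6, true, [8, 35, 16, 21, 11, 6], [39, 13, 28, 40, 13, 26], [26, 793, 180, 436, 736, 247, -78, 61, 23, -33, 57, -61, 365, -236, -16, 6, 35, 66, 69, 46, 0, -16, -3, 42, 1, -9, 10, 0, -44, -3, -11]⟩))) (.node 2 (.node 1 (.leaf ⟨6, 10, true, [42, 29, 34, 8, 25, 0], [10, 26, 18, 10, 43, 0], [-27, -791, -179, -437, -735, -247, 78, -60, -23, 33, -57, 60, -363, 236, 15, -6, -35, -66, -69, -46, 0, 16, 3, -42, -1, 9, -10, 0, 44, 3, 11]⟩) (.leaf ⟨10, 5, true, [8, 11, 40, 10, 30, 21], [13, 36, 33, 27, 34, 19], [80, 739, 159, 450, 803, 206, -49, 102, -6, 74, 34, -73, 350, -219, -145, -4, 18, 40, 65, 48, -4, 12, 3, 42, -3, 3, 4, 0, -41, -2, -2]⟩)) (.node 1 (.leaf ⟨5, 10, true,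 [40, 35, 8, 25, 0], [10, 28, 39, 27, 14, 24], [-81, -738, -154, -453, -802, -206, 50, -101, 5, -76, -33, 73, -350, 219, 144, 4, -18, -40, -65, -48, 4, -12, -3, -42, 3, -3, -4, 0, 41, 2, 2]⟩) (.leaf ⟨10, 6, true, [14, 38, 2, 29, 25, 21], [42, 0, 37, 22, 37, 42, 18], [118, -363, -252, -73, -495, -77, 1, -68, -24, 84, 20, 23, -169, 113, 29, -2, -10, -30, -23, -31, 6, -5, 0, -18, -4, -1, -1, 0, 15, 3, 9]⟩)))) (.node 4 (.node 2 (.node 1 (.leaf ⟨6, 10, true, [37, 41, 6, 19, 40, 40], [26, 8, 33, 16, 39, 0], [-117, 365, 252, 73, 495, 77, -1, 68, 24, -84, -20, -23, 167, -113, -30, 2, 10, 30, 23, 31, -6, 5, 0, 18, 4, 1, 1, 0, -15, -3, -9]⟩) (.leaf ⟨10, 6, true, [35, 27, 20, 25, 0], [37, 4, 26, 34, 32, 41], [46, 254, 68, 163, 301, 88, 11, 20, 17, 34, 31, -29, 117, -104, -47, 2, 16, 15, 21, 21, -3,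 5, 0, 17, -1, 0, 4, 0, -12, 0, -4]⟩)) (.node 1 (.leaf ⟨6, 10, true, [20, 37, 23, 36, 34, 0], [22, 32, 14, 34, 2], [-47, -251, -67, -164, -300, -88, -11, -19, -17, -34, -31, 28, -117, 104, 46, -2, -16, -15, -21, -21, 3, -5, 0, -17, 1, 0, -4, 0, 12, 0, 4]⟩) (.leaf ⟨10, 6, true, [0, 39, 28, 26, 8, 6], [22, 37, 22, 36, 32, 12], [37, -503, -271, -237, -784, -128, -13, -106, -19, -11, 34, 36, -285, 182, 148, 7, -15, -30, -48, -51, 12, -31, -4, -34, 0, -1, -3, 0, 25, 8, 5]⟩))) (.node 2 (.node 1 (.leaf ⟨6, 10, true, [27, 21, 43, 25, 30, 26], [18, 26, 6, 25, 38, 0], [-38, 507, 272, 236, 785, 128, 13, 107, 19, 11, -34, -37, 283, -182, -149, -7, 15, 30, 48, 51, -12, 31, 4, 34, 0, 1, 3, 0, -25, -8, -5]⟩) (.leaf ⟨10, 9, true, [36, 24, 21, 27, 37, 0], [33, 42, 13, 20, 34, 23], [-21, -527, -112, -321,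 -622, -185, 56, -48, -17, -7, -47, 54, -274, 169, 3, -3, -25, -47, -44, -36, 2, 16, 4, -28, -2, 5, -7, 0, 30, 1, 5]⟩)) (.node 1 (.leaf ⟨9, 10, true, [8, 42, 25, 18, 25, 6], [40, 6, 20, 19, 35, 4], [44, 623, 111, 390, 686, 198, -80, 59, 15, 16, 25, -45, 314, -183, -13, 0, 24, 56, 50, 44, -4, -13, -3, 33, 2, -3, 8, 0, -36, -6, -5]⟩) (.leaf ⟨10, 6, true, [2, 37, 32, 25, 26, 2], [0, 42, 27, 16, 38, 25], [-12, -818, -233, -463, -967, -246, 57, -102, -27, 10, -27, 71, -411, 255, 80, -2, -28, -62, -70, -57, 4, 1, 4, -48, -4, 1, -3, 0, 45, 5, 8]⟩)))))))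
noncomputable def dF3525 : BT Fct := (.node 30 (.node 15 (.node 7 (.node 3 (.node 1 (.leaf ⟨6, 10, true, [33, 41, 19, 40, 31, 18], [2, 30, 13, 25, 36], [13, 818, 233, 463, 967, 246, -57, 102, 27, -10, 27, -71, 413, -255, -81, 2, 28, 62, 70, 57, -4, -1, -4, 48, 4, -1, 3, 0, -45, -5, -8]⟩) (.node 1 (.leaf ⟨10, 6, true, [39, 36, 8, 21, 12], [27, 14, 39, 8, 29, 42], [36, -770, -288, -381, -801, -227, 56, -72, -26, 68, -66, 58, -376, 228, 38, -6, -26, -64, -60, -41, -1, 4, 0, -40, 1, 11, -9, 0, 39, -3, 9]⟩) (.leaf ⟨6, 10, true, [26, 26, 34, 42, 21, 6], [0, 27, 29, 39, 36, 13], [-37, 772, 289, 380, 802, 227, -56, 73, 26, -68, 66, -59, 378, -228, -39, 6, 26, 64, 60, 41, 1, -4, 0, 40, -1, -11, 9, 0, -39, 3, -9]⟩))) (.node 2 (.node 1 (.leaf ⟨10, 6, true, [23, 6, 14, 10, 24], [19, 38, 14, 35, 16],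 [9, -768, -282, -387, -947, -211, 27, -108, -32, 19, 1, 55, -383, 234, 103, -2, -24, -55, -70, -60, 7, -6, 3, -44, -2, -1, 0, 0, 42, 4, 7]⟩) (.leaf ⟨10, 5, true, [42, 6, 30, 41], [16, 2, 32, 27, 35, 10, 18], [-14, -46, 33, -69, -45, -35, 4, -5, 15, -25, 1, 9, -54, 5, 4, -3, -5, -2, -5, -1, -2, 5, 2, -5, 1, -2, 2, 0, 3, -2, -2]⟩)) (.node 1 (.leaf ⟨5, 10, true, [23, 6, 4, 38, 24, 8], [12, 11, 30, 34], [25, 82, -39, 99, 77, 46, -8, 9, -14, 32, -2, -14, 71, -14, -10, 3, 6, 4, 8, 3, 2, -5, -2, 7, -1, 2, -2, 0, -5, 2, 2]⟩) (.leaf ⟨10, 6, true, [6, 38, 31, 18, 10, 25], [28, 19, 38, 36, 40, 27], [17, -569, -203, -254, -584, -170, 24, -63, -47, 39, -24, 41, -267, 166, 33, -7, -30, -44, -49, -37, 2, 3, 5, -29, -3, 4, -6, 0, 28, 1, 8]⟩)))) (.node 4 (.node 2 (.node 1 (.leaf ⟨6, 10, true, [22, 14,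 39, 29, 33, 22], [29, 18, 14, 43, 13], [-16, 569, 203, 254, 584, 170, -24, 63, 47, -39, 24, -41, 269, -166, -34, 7, 30, 44, 49, 37, -2, -3, -5, 29, 3, -4, 6, 0, -28, -1, -8]⟩) (.leaf ⟨10, 6, true, [40, 27, 22, 31, 18], [19, 2, 25, 28, 38, 13, 6], [36, -328, -158, -122, -323, -85, 1, -44, -74, 76, -58, 35, -209, 97, -6, -17, -5, -29, -16, -6, -7, 0, -1, -17, -4, -3, 5, 0, 19, -7, 12]⟩)) (.node 1 (.leaf ⟨6, 10, true, [43, 0, 43, 24, 34, 33, 12], [20, 30, 24, 26, 41], [-37, 330, 159, 121, 324, 85, -1, 45, 74, -76, 58, -36, 211, -97, 5, 17, 5, 29, 16, 6, 7, 0, 1, 17, 4, 3, -5, 0, -19, 7, -12]⟩) (.leaf ⟨10, 3, true, [41, 10, 31, 19, 27], [21, 0, 24, 40, 31, 20, 19], [6, -381, -162, -163, -419, -96, 22, -39, -33, 34, -20, 33, -157, 121, 40, 0, -11, -30, -31, -26, 3, -7, -1, -19, -2, 4, -5,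 0, 20, 3, 5]⟩))) (.node 2 (.node 1 (.leaf ⟨3, 10, true, [6, 33, 34, 37, 21, 10], [0, 32, 16, 34, 43, 30], [-9, 397, 175, 169, 460, 98, -22, 43, 34, -31, 20, -36, 163, -130, -46, -1, 11, 31, 33, 29, -4, 8, 1, 20, 2, -4, 5, 0, -21, -4, -5]⟩) (.leaf ⟨10, 6, true, [10, 36, 40, 37, 0], [37, 35, 13, 11, 0], [80, 82, -14, 153, 176, 12, 12, -4, -8, 8, 56, -56, 69, -22, -94, 2, -30, 3, -2, -5, 1, 21, 16, -5, 1, 2, 3, 0, 3, -1, 4]⟩)) (.node 1 (.leaf ⟨10, 6, true, [30, 19, 34, 20, 41, 29], [42, 42, 30, 18, 39, 14], [12, 554, 118, 314, 547, 137, -72, 79, 17, -32, 12, -92, 272, -154, -49, 5, 8, 40, 37, 29, -2, -3, 7, 25, 0, 3, 9, 0, -28, -8, -5]⟩) (.leaf ⟨6, 10, true, [34, 43, 32, 38, 28, 28], [28, 4, 40, 21, 35, 18, 31], [-11, -552, -118, -314, -547, -137, 72, -79, -17, 32, -12, 92, -274, 154, 48,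 -5, -8, -40, -37, -29, 2, 3, -7, -25, 0, -3, -9, 0, 28, 8, 5]⟩))))) (.node 7 (.node 3 (.node 1 (.leaf ⟨10, 10, true, [21, 23, 10, 6], [11, 21, 43, 43, 21], [0, 31, 6, 20, 39, 9, -1, 2, -5, -2, -2, -4, 17, -10, -2, 0, 1, 2, 2, 1, 0, 0, 0, 2, 0, 0, 0, 0, -2]⟩) (.node 1 (.leaf ⟨10, 10, true, [4, 43, 34, 21, 28, 18], [23, 35, 38, 18, 29], [-6, -96, -18, -64, -114, -31, 6, -10, 7, -4, 0, 10, -50, 28, 11, 0, -3, -6, -8, -5, 0, 0, 0, -6, 0, 0, 0, 0, 6]⟩) (.leaf ⟨5, 10, true, [8, 28, 35, 40, 28], [8, 43, 40, 2, 43, 27], [-1, -35, -13, -23, -42, -11, 5, -9, 4, -1, -3, 3, -18, 10, 6, 0, -1, -2, -4, -2, 0, 2, 0, -2, -1, 0, 0, 0, 2]⟩))) (.node 2 (.node 1 (.leaf ⟨10, 5, true, [20, 16, 6, 24, 6], [0, 2, 42, 18, 16, 4], [9, 102, 25, 67, 117, 33, -10, 17, -6, 7, 5, -9, 51, -28, -17, 0, 3, 6, 10, 6, 0,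 -2, 0, 6, 1, 0, 0, 0, -6]⟩) (.leaf ⟨10, 10, true, [37, 14, 10, 26, 10], [6, 29, 6, 16, 27], [12, -561, -136, -331, -576, -200, 31, -52, -1, 11, -28, 46, -329, 151, 25, -10, -29, -44, -47, -32, -2, 11, 7, -34, -1, 2, -4, 0, 28, -2, 8]⟩)) (.node 1 (.leaf ⟨10, 10, true, [10, 37, 31], [4, 8, 29, 22, 37, 12], [3, -94, -96, 7, -140, 6, 5, -20, -35, 29, -8, 8, 5, 49, 22, 4, 3, -8, -7, -10, 4, -11, -5, -2, -1, 2, -2, 0, 6, 4, 2]⟩) (.leaf ⟨6, 10, true, [35, 2, 29, 6, 0], [6, 27, 43, 38, 30, 27], [-6, -42, -11, -22, -38, -12, -1, -3, 1, -4, -2, -1, -12, 7, 7, 0, -1, -2, -3, -2, 0, 0, 0, -2, -1, 0, 0, 0, 2]⟩)))) (.node 4 (.node 2 (.node 1 (.leaf ⟨10, 6, true, [6, 26, 13, 10], [2, 42, 20, 24, 12], [14, 109, 23, 66, 113, 34, -4, 11, -3, 10, 4, -5, 45, -25, -18, 0, 3, 6, 9, 6, 0, 0, 0, 6, 1, 0, 0,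 0, -6]⟩) (.leaf ⟨6, 10, true, [31, 34, 28, 32, 42], [6, 22, 22, 28, 6, 30], [1, 43, 3, 17, 23, 13, -9, 1, -9, 0, 4, 0, 8, -10, -3, -1, 1, 2, 4, 2, 0, 0, 1, 1, -2, -1, 1, 0, -2]⟩)) (.node 1 (.leaf ⟨10, 6, true, [43, 34, 12, 11, 18], [16, 41, 41, 39, 41, 0], [-7, -108, -15, -61, -98, -35, 14, -9, 11, -6, -6, 6, -41, 28, 12, 1, -3, -6, -10, -6, 0, 0, -1, -5, 2, 1, -1, 0, 6]⟩) (.leaf ⟨6, 10, true, [4, 43, 33, 23, 34, 12], [2, 28, 26, 33], [-34, -301, -25, -287, -464, -63, 11, -66, -16, -75, 34, 56, -209, 102, 117, 4, 13, -16, -29, -28, 8, -24, -7, -18, -2, 4, -5, 0, 18, 3, 5]⟩))) (.node 2 (.node 1 (.leaf ⟨10, 6, true, [2, 8, 21, 2, 38], [14, 33, 11, 35, 24, 20], [57, -256, -183, 25, -137, -98, 19, 6, -24, 122, -67, -11, -65, 72, -85, -10, -36, -30, -16, -8, -6, 24, 9, -12, 0, 0, -1, 0, 10,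 -1, 5]⟩) (.leaf ⟨5, 10, true, [41, 38, 43, 6, 0], [2, 26, 16, 27, 14], [-25, -29, 11, -47, -42, -15, -9, 1, -6, -14, 4, 2, -36, 6, 12, -3, -2, -1, -2, -2, 0, -3, 1, -3, 0, -1, 1]⟩)) (.node 1 (.leaf ⟨10, 5, true, [42, 31, 21, 36, 11, 24], [36, 28, 37, 4, 2], [34, -266, -115, -97, -276, -71, 26, -33, -14, 35, -21, 22, -109, 86, 6, 0, -10, -23, -22, -17, 1, 3, 0, -13, -1, 3, -4, 0, 15, 1, 5]⟩) (.leaf ⟨6, 10, true, [12, 40, 34, 43, 18, 24], [2, 33, 8, 29, 0], [18, 161, 140, 57, 252, 41, 35, 28, 27, 12, 1, -3, 85, -60, -83, 2, 4, 6, 15, 17, -4, 19, 3, 13, -2, 5, -4, 0, -5, 3, -4]⟩)))))) (.node 15 (.node 7 (.node 3 (.node 1 (.leaf ⟨10, 6, true, [8, 35, 29, 21, 14, 11], [26, 31, 8, 36, 41, 42], [11, -684, -348, -293, -818, -191, -9, -84, -67, 40, -33, 45, -343, 224, 110, -8, -26, -50, -57, -51,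 6, -19, -1, -41, 0, -1, -2, 0, 31, -1, 14]⟩) (.node 1 (.leaf ⟨6, 10, true, [12, 28, 8, 2, 29], [0, 2, 27, 33, 23], [-4, -249, -148, -85, -367, -31, 19, -55, -14, 3, 36, 34, -88, 94, 106, 11, 3, -13, -18, -27, 9, -25, -8, -15, -2, -1, -7, 0, 13, 6, 3]⟩) (.leaf ⟨10, 6, true, [40, 16, 12, 43, 19, 11], [28, 4, 2, 19, 26, 4], [6, -112, 32, -103, -26, -77, 3, 15, -4, 12, -55, -4, -90, 16, -78, -14, -17, -15, -12, 4, -8, 25, 9, -5, 1, 3, 4, 0, 6, -5, 2]⟩))) (.node 2 (.node 1 (.leaf ⟨10, 5, true, [0, 43, 41, 8, 38, 16], [43, 0, 41, 19, 34, 38, 20], [-10, 721, 239, 360, 791, 217, -39, 81, 39, -34, 38, -59, 355, -219, -53, 6, 28, 56, 60, 46, -2, 0, -2, 40, 0, -4, 6, 0, -39, -2, -10]⟩) (.leaf ⟨5, 10, true, [14, 6, 33, 31, 6], [28, 39, 13, 11, 4, 6], [22, -653, -233, -312, -718, -195, 34, -73, -40,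 42, -37, 52, -321, 201, 42, -6, -26, -52, -54, -42, 2, 0, 2, -36, 0, 4, -6, 0, 35, 2, 10]⟩)) (.node 1 (.leaf ⟨5, 10, true, [4, 35, 14, 39, 31, 0], [0, 2, 23, 32, 30, 4], [4, 7, -8, 23, 69, -2, 7, 9, -5, 23, -26, -5, 17, -12, -29, -3, -1, -2, 3, 7, -4, 7, 1, 1, 1, 4, 0, 0, 1, -6]⟩) (.leaf ⟨10, 5, true, [0, 39, 13, 27, 14, 8], [0, 12, 22, 14, 38, 11], [-9, 354, 136, 157, 329, 110, -26, 31, 21, -42, 45, -25, 162, -96, -1, 6, 15, 30, 27, 16, 3, -7, -2, 19, 0, -6, 3, 0, -20, 5, -5]⟩)))) (.node 4 (.node 2 (.node 1 (.leaf ⟨6, 10, true, [36, 0, 6, 31, 6, 19, 20], [0, 43, 36, 29, 24, 14], [2, 104, 23, 37, 28, 35, -22, 2, -4, -17, 30, -3, 24, -16, 18, 2, 4, 8, 7, -1, 4, -7, 0, 4, -3, -5, 1, 0, -7, 6, -1]⟩) (.leaf ⟨10, 6, true, [11, 21, 14, 38, 24, 6], [21, 18, 42, 6, 23, 6], [5, -857, -279, -423,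 -859, -262, 64, -86, -28, 50, -69, 66, -398, 242, 44, -8, -33, -66, -70, -47, -2, 7, 2, -46, 1, 9, -7, 0, 47, -4, 11]⟩)) (.node 1 (.leaf ⟨6, 10, true, [19, 16, 36, 25, 34, 28, 19], [6, 2, 20, 24, 31], [25, -208, -145, -115, -450, -35, -5, -50, -5, -10, -8, 41, -130, 96, 68, 9, -2, -15, -18, -25, 8, -14, -3, -14, -1, -3, -1, 0, 12, 5]⟩) (.leaf ⟨10, 6, true, [12, 40, 43, 14, 34, 30], [16, 41, 39, 31, 37, 20], [-31, 931, 389, 483, 1241, 251, -36, 130, 39, -24, 46, -101, 487, -314, -127, -3, 30, 71, 78, 71, -10, 14, 1, 54, 3, -1, 7, 0, -50, -7, -10]⟩))) (.node 2 (.node 1 (.leaf ⟨6, 10, true, [29, 39, 28, 6, 39, 8], [0, 43, 36, 13, 23, 29], [-4, -17, 24, -34, -22, -27, -1, -3, 14, -18, -3, 1, -43, 2, -3, -4, -5, -1, -4, 1, -2, 4, 1, -3, 3, -1, 4, 0, 0, -2, -2]⟩) (.leaf ⟨10, 6, true, [42, 35,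 42, 26, 14], [37, 0, 39, 27, 4, 43, 20], [-15, 640, 208, 332, 703, 210, -31, 71, 22, -27, 38, -52, 351, -192, -41, 10, 30, 51, 55, 39, 0, -4, -3, 37, -1, -3, 2, 0, -32, 0, -8]⟩)) (.node 1 (.leaf ⟨6, 10, true, [22, 18, 37, 38, 6, 41], [43, 23, 31, 42, 40], [-27, -147, -20, -112, -182, -50, 23, -5, 43, -45, 31, 5, -35, 50, 59, 12, -11, -6, -23, -21, 7, -4, 3, -10, 3, 4, -11, 0, 8, 6, -6]⟩) (.leaf ⟨10, 6, true, [33, 28, 35, 42, 38, 36], [28, 42, 8, 6, 14, 19], [42, -114, -84, -6, -101, -25, -10, -23, -63, 71, -47, 16, -94, 32, -46, -15, 0, -16, 2, 4, -6, 4, -2, -4, -4, -2, 8, 0, 5, -5, 11]⟩))))) (.node 8 (.node 4 (.node 2 (.node 1 (.leaf ⟨6, 10, true, [2, 26, 35, 41, 30], [35, 43, 10, 37, 30], [-12, 214, 85, 119, 271, 65, 7, 38, 45, -29, 53, -16, 180, -68, 9, 10, 0, 16, 9, 2, 6, -2, 2, 14,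 -1, 4, -9, 0, -15, 6, -7]⟩) (.leaf ⟨10, 6, true, [43, 6, 27, 30, 11, 19], [0, 21, 41, 24, 11, 24], [34, -409, -177, -193, -479, -118, 1, -58, -67, 61, -67, 31, -276, 132, -6, -13, -9, -34, -24, -15, -5, 2, -1, -24, 0, -2, 6, 0, 24, -5, 12]⟩)) (.node 1 (.leaf ⟨4, 10, true, [12, 20, 6, 25, 10], [2, 6, 26, 33, 19, 22], [-23, -165, -49, -139, -324, -60, -9, -29, -11, -23, -7, 12, -130, 70, 31, 0, -4, -11, -15, -14, 2, -9, -1, -13, 1, 1, 5, 0, 11, 2, -1]⟩) (.leaf ⟨10, 4, true, [2, 13, 34, 27, 23, 11], [11, 22, 6, 19, 4], [32, -130, -55, -5, 6, -26, 26, -3, -9, 44, -10, 12, -15, 22, -13, -3, -8, -13, -9, -5, -1, 9, 2, -3, -2, 1, -8, 0, 4, -1, 6]⟩))) (.node 2 (.node 1 (.leaf ⟨5, 10, true, [39, 41, 2, 18, 6, 0], [6, 2, 27, 33, 18], [-26, -115, -22, -217, -381, -40, -49, -46, -12, -85, 1, 48,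 -188, 86, 81, -2, 12, -12, -14, -15, 4, -23, -4, -12, -3, 6, 2, 0, 9, -1, -1]⟩) (.leaf ⟨10, 5, true, [10, 21, 42, 34, 2], [33, 20, 14, 43, 16, 23], [28, 148, 34, 235, 421, 51, 48, 50, 10, 86, 0, -51, 205, -94, -87, 2, -11, 14, 17, 17, -4, 23, 4, 14, 3, -6, -2, 0, -11, 1, 1]⟩)) (.node 1 (.leaf ⟨6, 10, true, [20, 43, 28, 19, 22], [6, 16, 2, 21], [-34, -188, 1, -134, -364, -51, 11, -24, 6, -75, 22, 39, -73, 87, 56, 7, -5, -13, -21, -25, 6, -4, 1, -13, -1, -1, 3, 0, 11, 0, -2]⟩) (.leaf ⟨10, 6, true, [34, 32, 42, 29, 39, 8], [4, 16, 28, 25, 42, 21], [22, 877, 243, 476, 1120, 256, -48, 100, 28, 36, 15, -96, 414, -295, -110, -1, 32, 67, 78, 69, -8, 4, -3, 51, 3, -3, 3, 0, -47, -2, -8]⟩)))) (.node 4 (.node 2 (.node 1 (.leaf ⟨6, 10, true, [38, 0, 21, 40, 26, 29, 0], [0, 34, 38, 20, 12, 6], [11,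 158, -17, 190, 292, 31, -16, 31, -40, 52, -42, -14, 129, -72, -69, -11, -12, 0, 6, 25, -9, 6, 6, 13, -6, 2, 2, 0, -8, -1, -2]⟩) (.leaf ⟨10, 6, true, [28, 6, 29, 40, 42, 37, 20], [39, 14, 20, 40, 6, 25, 12], [-3, -485, -99, -352, -650, -128, 34, -67, 22, -32, 24, 41, -291, 172, 92, 8, -1, -26, -33, -46, 10, -6, -5, -31, 5, 0, -5, 0, 25, 2, 7]⟩)) (.node 1 (.leaf ⟨6, 10, true, [23, 4, 28, 39, 16, 28, 27], [39, 13, 41, 18, 6, 29], [-17, -74, -15, -71, -107, -47, -2, -6, -9, 10, -7, -10, -72, 55, -19, 2, -16, -10, -19, -10, 2, 16, 5, -7, 2, 2, -2, 0, 3, 4]⟩) (.leaf ⟨10, 6, true, [34, 30, 35, 35, 29, 25], [10, 36, 24, 39, 19, 11], [4, 731, 247, 395, 823, 241, -34, 78, 45, -50, 43, -44, 396, -255, -30, 4, 42, 62, 73, 52, -4, -16, -7, 43, 0, -6, 8, 0, -37, -6, -10]⟩))) (.node 2 (.node 1 (.leaf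 ⟨6, 10, true, [38, 31, 22, 39, 28, 11], [38, 27, 32, 12, 39, 0], [-50, -205, 17, -148, -147, -74, 26, -12, 19, -29, -2, 15, -74, 38, 27, 2, -10, -10, -17, -10, -1, 7, -1, -12, 1, -3, -2, 0, 12, 0, -1]⟩) (.leaf ⟨10, 6, true, [6, 36, 34, 37, 22, 29], [34, 0, 26, 25, 19, 38, 18], [45, 960, 239, 534, 978, 301, -68, 96, 13, -4, 41, -78, 448, -264, -91, 4, 39, 68, 80, 58, -1, -7, -1, 54, 1, -1, 8, 0, -52, -2, -9]⟩)) (.node 1 (.leaf ⟨6, 10, true, [19, 13, 43, 32, 20, 11], [39, 10, 36, 6, 2], [-67, -221, 60, -161, -11, -62, 51, -9, 15, 10, -12, 12, -61, 30, -6, -1, -4, -15, -12, 1, -6, 14, -3, -8, 1, -1, -4, 0, 11, -2, 1]⟩) (.leaf ⟨10, 6, true, [2, 27, 41, 37, 2, 26], [12, 22, 19, 33, 42, 18], [68, -172, -188, -45, -422, -57, -28, -35, -31, 4, -8, 21, -134, 88, 39, -2, -11, -15, -21, -26, 7,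 -14, 4, -14, -2, 3, 1, 0, 10, 3, 4]⟩)))))))
noncomputable def dF3586 : BT Fct := (.node 30 (.node 15 (.node 7 (.node 3 (.node 1 (.leaf ⟨6, 10, true, [31, 18, 40, 35, 31, 6], [4, 43, 41, 22, 10, 12], [-21, -100, -8, -60, -97, -30, 21, -11, 6, -3, -1, 16, -31, 27, 11, 2, -2, -7, -7, -6, 0, 1, -1, -6, -1, -1, -1, 0, 7, 2]⟩) (.node 1 (.leaf ⟨10, 6, true, [4, 6, 35, 14, 19, 27], [28, 23, 36, 12, 29, 10], [15, 429, 124, 222, 455, 127, -39, 47, 12, -17, 19, -43, 193, -127, -36, 1, 15, 33, 34, 27, -1, -1, 0, 24, 2, -1, 4, 0, -24, -3, -5]⟩) (.leaf ⟨6, 10, true, [35, 37, 40, 29, 6, 31], [39, 37, 40, 23, 24], [-19, -64, 0, -52, -91, -25, 11, -7, 24, -26, 11, 6, -15, 19, 9, 4, -5, -3, -8, -9, 2, 4, 3, -5, -1, 0, -1, 0, 4, 3, -2]⟩))) (.node 2 (.node 1 (.leaf ⟨10, 6, true, [8, 33, 40, 34, 14, 28],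 [20, 29, 33, 41, 41, 18], [21, 491, 140, 276, 564, 155, -35, 55, -10, 13, 10, -42, 227, -145, -49, -1, 21, 35, 44, 36, -3, -4, -4, 29, 2, -2, 4, 0, -27, -4, -3]⟩) (.leaf ⟨6, 10, true, [30, 24, 16, 2, 19], [22, 42, 39, 28, 24, 27], [-30, 209, 194, 70, 539, 19, 30, 80, 31, 35, -40, -25, 133, -116, -134, -11, -1, 5, 20, 43, -15, 27, 4, 20, 1, 11, -2, 0, -13, -8, -4]⟩)) (.node 1 (.leaf ⟨10, 6, true, [43, 37, 24, 24, 11], [18, 2, 18, 24, 29, 8], [25, 546, 62, 316, 292, 208, -72, 4, 1, -68, 79, -38, 241, -110, 70, 17, 30, 53, 43, 5, 13, -27, -6, 22, 1, -15, 8, 0, -27, 6, -6]⟩) (.leaf ⟨6, 10, true, [40, 18, 42, 42], [6, 13, 42, 2, 23, 27], [-26, 90, 68, 31, 122, 10, 0, 19, 8, -15, 0, -10, 47, -35, -33, -1, -3, 5, 6, 8, -2, 7, 2, 6, -1, -1, 3, 0, -5, 0, -1]⟩)))) (.node 4 (.node 2 (.node 1 (.leaf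 ⟨10, 6, true, [31, 32, 6, 36, 18, 31], [13, 29, 6, 25, 42, 12], [20, 239, 48, 131, 236, 87, -18, 17, 10, -5, 18, -17, 115, -65, 8, 4, 16, 21, 21, 13, 1, -7, -3, 12, 2, -1, 0, 0, -12, -1, -4]⟩) (.leaf ⟨6, 10, true, [30, 35, 28, 10, 43, 34], [8, 33, 14, 11, 34, 29], [12, 98, -65, 106, -62, 66, -33, -15, -16, -14, 42, 8, 83, -11, 69, 7, 11, 9, 14, -8, 8, -31, -5, 2, -2, -3, 0, 0, -8, 4, -1]⟩)) (.node 1 (.leaf ⟨10, 6, true, [35, 22, 33, 25, 6, 31], [28, 2, 20, 25, 41, 20, 20], [-25, 165, 169, 12, 345, 9, 20, 43, 36, -12, -26, -29, 46, -71, -84, -4, 0, 13, 7, 25, -9, 31, 4, 12, 3, 1, 3, 0, -5, -5, -4]⟩) (.leaf ⟨6, 10, true, [22, 21, 43, 27, 14, 40], [4, 40, 38, 13, 24, 24], [119, -572, -427, -236, -861, -42, -13, -107, -19, 36, -33, 28, -292, 216, 207, 19, 30, -31, -31, -48, 14, -51, -12,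 -30, 2, -6, -11, 0, 33, 2, 5]⟩))) (.node 2 (.node 1 (.leaf ⟨10, 6, true, [38, 26, 32, 0], [19, 38, 19, 35, 13, 26], [-105, -115, 183, -106, 105, -163, 50, 31, -15, 3, -4, 29, -49, -8, -155, -25, -57, -23, -26, 4, -12, 51, 14, -8, -4, 10, 5, 0, 3, 0, 5]⟩) (.leaf ⟨9, 10, true, [10, 41, 11, 33, 11, 11], [40, 42, 11, 23, 19], [-46, 552, 250, 284, 730, 51, -63, 105, 8, 11, -49, 18, 288, -183, -143, -26, -18, 41, 28, 59, -17, 38, 12, 31, -1, 7, 10, 0, -32, -20, -2]⟩)) (.node 1 (.leaf ⟨10, 9, true, [0, 6, 39, 19, 24, 11], [37, 38, 32, 35, 43, 10], [61, -1207, -482, -608, -1446, -245, 99, -177, -44, 29, 13, 36, -612, 383, 190, 20, -8, -93, -82, -101, 19, -38, -10, -67, -1, -3, -16, 0, 66, 22, 12]⟩) (.leaf ⟨6, 10, true, [33, 2, 21, 12, 16, 14, 2], [34, 32, 39, 8, 6], [1, 44, -12, -9, -27, 19,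 -6, 14, -20, 24, -39, -3, -21, 12, -40, 5, 2, -7, -2, 3, -1, 7, 2, 5, -2, 8, 2, 0, 2, -5, -1]⟩))))) (.node 7 (.node 3 (.node 1 (.leaf ⟨10, 6, true, [6, 37, 38, 33, 0], [2, 18, 20, 2, 32, 12], [6, -797, -244, -377, -804, -246, 48, -98, -12, 9, 0, 66, -353, 214, 102, -11, -31, -51, -61, -51, 3, -7, 0, -47, 0, -4, -8, 0, 38, 7, 11]⟩) (.node 1 (.leaf ⟨6, 10, true, [24, 0, 16, 43, 27, 28, 20], [4, 40, 36, 41, 20, 27], [9, 71, -100, 85, 24, 32, -35, 7, -31, 34, 6, -12, 8, -14, 25, -4, 1, 5, 5, 3, 1, -19, -1, 1, 1, -2, 3, 0, -6, -3, 5]⟩) (.leaf ⟨10, 6, true, [12, 39, 42, 36, 24, 22], [43, 16, 20, 36, 8, 20], [7, -300, 8, -185, -267, -96, 47, -31, 9, -7, -21, 30, -120, 88, -17, 1, -11, -25, -23, -18, 0, 19, 2, -13, -2, 4, -6, 0, 17, 4]⟩))) (.node 2 (.node 1 (.leaf ⟨6, 10, true, [18, 34, 19, 22,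 39, 22], [12, 36, 31, 41, 13, 28], [-83, -121, 93, -138, -55, -54, 25, -3, 18, -53, 5, 17, -39, 28, 2, 1, -5, -8, -13, -5, -2, 13, 1, -7, -2, -2, 1, 0, 8]⟩) (.leaf ⟨10, 6, true, [10, 43, 39, 13, 23, 11], [35, 36, 21, 0, 35, 27], [90, -238, -221, -42, -343, -54, -6, -37, -34, 72, -24, 13, -140, 80, 26, -4, -9, -20, -17, -18, 3, -13, 0, -13, 1, 4, -4, 0, 11, 1, 5]⟩)) (.node 1 (.leaf ⟨6, 10, true, [21, 16, 43, 22, 40, 29], [12, 40, 34, 22, 29, 29], [57, -321, -265, -125, -807, -1, 9, -91, -21, -48, 51, 63, -82, 158, 176, 21, 17, -13, -37, -61, 24, -50, -6, -18, 2, 6, -2, 0, 14, 15, 2]⟩) (.leaf ⟨10, 6, true, [8, 28, 18, 37, 21, 23], [27, 13, 40, 19, 39, 40], [-50, -432, 9, -261, -24, -226, 33, 7, -11, 81, -90, 0, -292, 68, -114, -27, -46, -45, -26, 13, -22, 50, 8, -24, -4, -2, -4, 0, 26,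 -13, 8]⟩)))) (.node 4 (.node 2 (.node 1 (.leaf ⟨6, 10, true, [40, 37, 35, 38, 33, 21], [40, 14, 38, 18, 28], [-26, 226, 140, 128, 402, -15, -20, 31, 27, -24, 22, -58, 63, -85, -103, -7, -26, 9, 7, 23, -8, 28, 11, 6, -4, -9, 7, 0, -7, 5, -3]⟩) (.leaf ⟨10, 6, true, [35, 20, 2, 42, 32, 30], [30, 6, 8, 18, 36, 42], [42, -849, -360, -434, -1078, -168, 55, -99, -65, 65, -57, 109, -370, 277, 145, 1, 1, -59, -58, -63, 10, -28, -9, -40, 2, 13, -13, 0, 39, -3, 13]⟩)) (.node 1 (.leaf ⟨6, 10, true, [0, 16, 8, 19, 39, 2], [26, 12, 6, 18, 10], [-5, 81, 23, 50, 90, 19, -7, 16, 2, -3, 8, -4, 40, -25, -13, 0, -1, 5, 3, 4, 0, 1, 2, 4, 0, 0, 1, 0, -4]⟩) (.leaf ⟨5, 10, true, [41, 2, 23, 13, 11], [10, 19, 35, 2, 28], [12, 98, 11, 63, 111, 32, -8, 11, 2, 10, 3, -8, 49, -28, -13, 2, 3, 6, 8, 6, 0, 0, 0, 6,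 0, 0, 0, 0, -6]⟩))) (.node 2 (.node 1 (.leaf ⟨6, 10, true, [19, 26, 43, 6, 21, 11], [36, 31, 36, 42, 27, 11], [-61, 77, 118, -24, 141, -27, -1, 32, 19, -31, -11, -10, 17, -36, -34, -3, -10, 7, 0, 10, -4, 17, 5, 0, 2, 0, 1, 0, -2, -3, -3]⟩) (.leaf ⟨10, 6, true, [12, 40, 34, 33, 13, 21], [35, 42, 21, 27, 43, 24], [68, -830, -374, -362, -972, -200, 43, -116, -51, 64, -28, 73, -391, 262, 96, -3, -19, -65, -63, -58, 6, -17, -3, -42, -4, 4, -7, 0, 42, 5, 13]⟩)) (.node 1 (.leaf ⟨6, 10, true, [29, 38, 11, 21, 27, 13], [39, 41, 25, 11, 8, 18], [-41, -464, -132, -295, -614, -115, 27, -69, 11, -55, 0, 55, -237, 164, 108, 11, -10, -27, -43, -41, 7, -13, 0, -29, 1, 1, -5, 0, 28, 3]⟩) (.leaf ⟨10, 6, true, [34, 0, 39, 11, 24, 29], [6, 30, 43, 20, 43], [48, -289, -124, -91, -217, -112, 15, -15, -43,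 88, -39, 8, -137, 62, -46, -17, -19, -31, -20, -7, -5, 13, 2, -13, -3, 3, -1, 0, 12, -1, 10]⟩)))))) (.node 15 (.node 7 (.node 3 (.node 1 (.leaf ⟨6, 10, true, [19, 23, 24, 35, 20, 30], [4, 6, 14, 6, 19, 27], [-8, -76, -74, -57, -109, -3, -20, -23, -35, 20, -7, 8, -84, 30, 58, -4, 5, -6, -8, 1, -1, -28, -5, -3, -1, 2, 2, 0, 0, 1, 2]⟩) (.node 1 (.leaf ⟨10, 6, true, [6, 39, 16, 36, 27, 30], [24, 16, 43, 18, 40, 29], [23, -579, -158, -267, -607, -191, 56, -49, -1, 20, -29, 46, -240, 170, -11, -2, -31, -46, -46, -43, 3, 28, 7, -33, -1, 2, -8, 0, 34, 1, 8]⟩) (.leaf ⟨6, 10, true, [21, 28, 6, 26, 24], [22, 39, 34, 26, 4], [-9, -7, 66, -72, 20, -40, 0, 6, 45, -36, 3, -1, -56, -23, -5, -3, -6, 2, -3, 4, -4, 12, 5, -5, 1, -2, 2, 0, 0, -4, -2]⟩))) (.node 2 (.node 1 (.leaf ⟨10, 6, true, [39, 19, 37,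 10, 35, 29], [0, 23, 35, 8, 38, 24], [24, -648, -298, -252, -736, -154, 36, -78, -81, 76, -39, 55, -268, 223, 52, -3, -20, -54, -51, -46, 6, -12, -3, -31, -3, 6, -8, 0, 34, 6, 12]⟩) (.leaf ⟨6, 10, true, [41, 37, 29, 33, 40], [0, 21, 38, 43, 12, 8], [-33, 23, 16, 28, 26, 13, 26, 14, -1, -11, 15, 8, 76, -2, -5, 2, -2, 0, -11, -3, 4, -11, 3, 6, -3, 2, -3, 0, 1, 13, 1]⟩)) (.node 1 (.leaf ⟨10, 6, true, [0, 10, 40, 34, 21, 30], [39, 0, 38, 18, 38, 2, 28], [40, -776, -272, -414, -857, -240, 16, -98, -31, 44, -54, 55, -450, 228, 67, -8, -27, -58, -52, -45, -2, 11, -1, -48, 1, 2, -3, 0, 39, -11, 9]⟩) (.leaf ⟨6, 10, true, [12, 29, 14, 43, 39, 12], [6, 31, 28, 39, 34, 18], [31, -63, -41, -17, -48, -8, 6, -9, -2, 24, -54, -2, -35, 27, -40, -3, 7, -7, 1, 7, -5, 13, -1, 1, -4, -1, 4, 0, 6, -1, 2]⟩))))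 (.node 4 (.node 2 (.node 1 (.leaf ⟨10, 6, true, [38, 10, 23, 33, 29], [30, 30, 36, 26, 35, 20], [-37, 786, 285, 385, 839, 224, -47, 89, 36, -58, 92, -58, 392, -245, -19, 9, 21, 63, 59, 39, 3, -13, -1, 39, 6, -3, 2, 0, -44, -1, -12]⟩) (.leaf ⟨5, 10, true, [0, 43, 26, 25, 37, 11], [4, 2, 33, 26, 35, 33, 8], [-44, 42, 75, -85, -227, 9, 0, -17, 85, -122, 40, 4, -23, 31, 79, 24, 11, 16, -10, -16, 8, -4, -2, -2, 2, -5, 0, 0, 7, 7, -10]⟩)) (.node 1 (.leaf ⟨10, 5, true, [2, 23, 21, 6, 14, 12], [10, 36, 28, 38, 14, 12], [38, 287, 41, 247, 585, 88, -18, 53, -67, 102, -22, -31, 185, -131, -104, -21, 2, 10, 37, 37, -9, 4, 1, 20, -1, 3, 3, 0, -24, -8, 5]⟩) (.leaf ⟨5, 10, true, [40, 31, 20, 25, 36, 22], [31, 16, 6, 8, 39, 18], [-60, -293, -18, -241, -319, -104, 30, -7, -14, -14, -24, 15, -151, 95,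 18, 3, -14, -22, -29, -20, 0, 14, 4, -20, -2, 3, -4, 0, 19, 2, -1]⟩))) (.node 2 (.node 1 (.leaf ⟨10, 5, true, [16, 40, 25, 29, 21], [23, 36, 10, 30, 22, 41], [82, -296, -202, -39, -322, -68, 1, -57, -24, 60, -10, 33, -140, 87, 19, -9, -10, -26, -19, -18, 2, -14, -2, -12, 0, 1, -2, 0, 11, 0, 11]⟩) (.leaf ⟨4, 10, true, [2, 26, 6, 33, 20, 23], [4, 35, 8, 10, 26, 22], [35, -173, -105, -39, -112, -6, -1, -14, -25, 25, -10, 12, -67, 37, 36, -1, 6, -12, -16, 0, 0, -20, -3, -3, 1, 2, -5, 0, 7, 2, 6]⟩)) (.node 1 (.leaf ⟨10, 4, true, [8, 34, 40, 10, 33, 8], [4, 32, 35, 10, 16, 14], [-41, -286, -35, -211, -396, -135, 29, -38, 11, -17, -12, 27, -161, 99, 7, -2, -23, -22, -23, -29, 1, 20, 4, -23, -2, 0, 2, 0, 18, -1, -1]⟩) (.leaf ⟨6, 10, true, [31, 0, 27, 31, 39, 27, 24], [14, 43, 31, 6, 18], [-4,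 55, 37, 33, -12, 3, -28, 0, 0, -40, 25, 8, -15, -4, 29, 3, -5, 10, -1, -8, 3, -9, 2, -3, -2, -8, 1, 0, 5, 7]⟩))))) (.node 8 (.node 4 (.node 2 (.node 1 (.leaf ⟨10, 6, true, [12, 0, 40, 42, 33, 34, 6], [38, 38, 12, 20, 35, 32], [19, -316, -141, -151, -271, -78, 41, -28, -20, 66, -41, 13, -114, 86, -16, -6, -6, -32, -20, -9, -2, 9, -1, -11, 1, 10, -4, 0, 8, -6, 5]⟩) (.leaf ⟨6, 10, true, [20, 42, 25, 2, 32, 38], [0, 39, 31, 26, 6, 22], [10, -337, -132, -170, -466, -100, 11, -35, 41, -35, -9, 11, -155, 108, 99, 10, -9, -14, -27, -30, 6, -10, -1, -23, 4, -3, -8, 0, 19, 1, -1]⟩)) (.node 1 (.leaf ⟨10, 6, true, [31, 42, 27, 6, 23], [18, 8, 42, 11, 23, 31, 27], [-15, 1092, 388, 556, 1297, 327, -53, 119, -9, 2, 48, -74, 529, -334, -163, -4, 38, 72, 90, 78, -8, 10, -1, 65, -2, -1, 14, 0, -59, -3,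 -9]⟩) (.leaf ⟨5, 10, true, [40, 11, 29, 26, 28], [35, 37, 28, 30, 42], [-3, 835, 302, 342, 792, 262, -41, 64, 99, -101, 47, -66, 376, -246, -7, 16, 55, 76, 76, 56, -3, -5, -10, 42, 4, -12, 13, 0, -41, -4, -16]⟩))) (.node 2 (.node 1 (.leaf ⟨10, 5, true, [24, 20, 42, 22, 16, 28], [4, 11, 30, 23, 42, 10], [-2, -80, -46, 44, 39, -35, -1, 20, -67, 68, -8, 3, -2, 20, -57, -10, -26, -18, -13, -8, 1, 5, 8, 0, -2, 8, -7, 0, 1, 2, 6]⟩) (.leaf ⟨6, 10, true, [2, 8, 6, 38, 30, 19], [12, 39, 4, 40, 6, 0], [-16, 64, 87, -9, 192, -4, -5, 14, -8, 1, -5, 3, 6, -47, -52, -12, 0, 1, 6, 16, -6, 11, 2, 6, 0, 0, 3, 0, -5, -2, 1]⟩)) (.node 1 (.leaf ⟨10, 6, true, [36, 28, 37, 39, 16], [18, 42, 14, 8, 42], [11, 691, 169, 395, 639, 231, -37, 70, 40, -34, 44, -66, 368, -179, -12, 18, 29, 57, 57, 32, 4, -11, -4,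 36, 2, -4, 3, 0, -35, 0, -11]⟩) (.leaf ⟨6, 10, true, [32, 2, 25, 35, 25, 42, 13], [8, 41, 21, 41, 42, 16], [-102, -214, 12, -185, -352, -74, 7, -28, -3, -82, 22, 38, -111, 81, 76, 6, -11, -14, -19, -25, 4, -3, -2, -18, -4, -6, 1, 0, 14, -2]⟩)))) (.node 4 (.node 2 (.node 1 (.leaf ⟨10, 6, true, [6, 31, 40, 34, 27, 16], [30, 11, 29, 22, 38, 34], [118, -15, -104, 85, 109, 10, 5, 4, -19, 109, -37, -20, -1, -7, -68, -9, 1, -6, 1, 10, -3, 3, 3, 6, 3, 8, -4, 0, -3, 3, 5]⟩) (.leaf ⟨6, 10, true, [40, 31, 35, 41, 10, 0], [2, 0, 23, 32, 6, 27, 29], [-81, -198, 83, -154, -86, -70, 51, -21, -8, -26, 13, 47, -56, 30, 22, -2, -5, -9, -16, -7, -2, 6, 0, -10, -2, 1, -4, 0, 12, 0, 1]⟩)) (.node 1 (.leaf ⟨10, 6, true, [38, 26, 43, 13, 43], [26, 29, 23, 2, 25, 8], [83, 231, -71, 172, 126, 81, -52, 25, 6, 27,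 -12, -50, 73, -38, -28, 2, 6, 11, 19, 9, 2, -6, 0, 12, 2, -1, 4, 0, -14, 0, -1]⟩) (.leaf ⟨7, 10, true, [35, 18, 43, 41, 24, 14], [41, 39, 8, 41, 29, 10], [18, -14, 59, -12, 71, 9, 13, 12, 48, 12, 16, -9, 34, -15, -49, 10, -2, 0, 4, -1, 0, 8, 6, -2, 2, 5, -4, 0, 4, 2, 1]⟩))) (.node 2 (.node 1 (.leaf ⟨10, 7, true, [10, 40, 38, 4, 42, 23], [23, 41, 28, 33, 38, 8], [5, -543, -267, -250, -672, -170, 17, -72, -88, 35, -49, 54, -308, 189, 81, -16, -21, -46, -49, -35, 2, -8, -4, -28, -4, -1, -2, 0, 24, 0, 9]⟩) (.leaf ⟨5, 10, true, [31, 0, 23, 38, 28, 22, 26], [0, 41, 27, 6, 19, 22], [-10, 18, -31, 69, 157, -26, -10, 44, 2, 74, -58, -1, 22, -32, -34, -12, -4, -6, 4, 18, -10, 10, 4, -1, 0, 1, -4, 0, 0, -8, 1]⟩)) (.node 1 (.leaf ⟨10, 5, true, [10, 33, 43, 36, 25, 30], [30, 24, 36, 33, 37, 0], [19,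 -313, -73, -213, -475, -60, 27, -76, -22, -53, 41, 25, -167, 124, 52, 9, -8, -18, -28, -37, 11, -10, -3, -15, -1, 1, 1, 0, 15, 9, 4]⟩) (.leaf ⟨6, 10, true, [39, 36, 28, 34, 27], [0, 16, 41, 35, 38, 22], [-43, -10, 72, -32, 112, -18, 17, 9, -11, 24, -15, 5, -2, -24, -16, -6, 1, -1, 7, 14, -7, 14, 1, -1, -3, -4, 0, 0, -2, -9, 3]⟩)))))))
noncomputable def dF3647 : BT Fct := (.node 30 (.node 15 (.node 7 (.node 3 (.node 1 (.leaf ⟨10, 6, true, [10, 10, 35, 14, 18, 27], [26, 41, 42, 30, 35, 4], [37, -449, -212, -218, -620, -123, 11, -61, -3, -16, -7, 34, -226, 160, 59, 3, -18, -33, -46, -43, 8, -14, 0, -25, 2, 6, -3, 0, 27, 10, 2]⟩) (.node 1 (.leaf ⟨6, 10, true, [18, 34, 41, 24, 18, 16], [6, 2, 21, 18, 13], [-39, -339, -80, -229, -510, -89, 2, -83, -16, -71, 22, 46, -155, 118, 118, 6, -5, -12,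 -38, -35, 8, -7, -1, -25, -1, -6, 5, 0, 15, 6]⟩) (.leaf ⟨10, 6, true, [43, 35, 21, 11, 20], [39, 32, 34, 18, 38, 22], [40, 734, 208, 435, 943, 208, -25, 127, 32, 57, -2, -79, 350, -236, -153, -3, 20, 42, 71, 60, -9, 7, 0, 47, 2, 4, -2, 0, -36, -7, -5]⟩))) (.node 2 (.node 1 (.leaf ⟨6, 10, true, [13, 43, 32, 39, 26, 8], [39, 10, 28, 42, 28, 8], [48, 22, -37, 32, 110, 28, 7, 10, 17, 75, -11, -11, 15, -27, -21, 0, 7, 1, 14, 10, -3, -6, -1, 2, 2, 3, -4, 0, -2, -2, 2]⟩) (.leaf ⟨10, 6, true, [25, 37, 23, 34, 29], [34, 2, 38, 6, 35, 26, 29], [-48, -447, -103, -256, -583, -158, 17, -58, -31, -62, -10, 47, -227, 153, 59, -3, -23, -33, -50, -37, 4, 6, 2, -26, -3, -1, 1, 0, 25, 3, 3]⟩)) (.node 1 (.leaf ⟨10, 6, true, [6, 42, 8, 29], [41, 4, 26, 10, 40, 23], [90, 2155, 554, 1191, 2213, 636, -163, 231,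 58, 2, 126, -185, 1024, -646, -201, 9, 78, 156, 185, 134, -6, -4, -2, 118, 0, -10, 20, 0, -118, -7, -23]⟩) (.leaf ⟨6, 10, true, [25, 36, 6, 29, 2, 27], [28, 8, 4, 43, 6], [-91, -2153, -553, -1192, -2212, -636, 163, -230, -58, -2, -126, 184, -1022, 646, 200, -9, -78, -156, -185, -134, 6, 4, 2, -118, 0, 10, -20, 0, 118, 7, 23]⟩)))) (.node 4 (.node 2 (.node 1 (.leaf ⟨6, 10, true, [13, 38, 21, 18, 2, 0], [24, 22, 26, 41, 39, 28], [-17, -73, -34, -61, -117, -27, -6, -9, -13, -1, -10, 13, -55, 21, 19, -3, 1, -6, -8, -4, 0, -6, -1, -3, 0, 1, 2, 0, 3, -1, 1]⟩) (.leaf ⟨10, 6, true, [24, 35, 21, 31, 10, 10], [4, 2, 19, 20, 39, 12], [3, 304, 126, 161, 360, 91, -6, 33, 35, -26, 25, -31, 167, -95, -29, 6, 9, 26, 26, 19, -1, 6, 0, 15, 1, -3, 1, 0, -14, 0, -6]⟩)) (.node 1 (.leaf ⟨5, 10, true, [13, 38,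 30, 32, 0], [2, 13, 35, 31, 38, 29], [3, 63, 10, 37, 78, 20, -4, 4, -1, 6, 1, -6, 32, -21, -8, 1, 2, 4, 6, 3, 0, 1, 0, 4, 0, 0, 0, 0, -5]⟩) (.leaf ⟨10, 5, true, [41, 21, 42, 11, 42], [32, 8, 4, 39, 12], [-8, 692, 246, 349, 753, 207, -38, 80, 33, -39, 38, -57, 342, -205, -56, 5, 27, 54, 57, 45, -2, -1, -2, 38, 2, -4, 6, 0, -35, -2, -10]⟩))) (.node 2 (.node 1 (.leaf ⟨6, 10, true, [37, 4, 27, 40, 31, 43, 29], [41, 4, 35, 38, 22], [-52, -446, -90, -306, -510, -124, 32, -67, 12, -53, -8, 51, -240, 140, 96, 4, -10, -24, -42, -33, 4, -11, 0, -27, 1, 0, -4, 0, 26, 5]⟩) (.leaf ⟨10, 6, true, [10, 37, 34, 32, 27, 13], [43, 38, 28, 25, 14, 34], [68, 217, -2, 206, 267, 60, -20, 43, -34, 80, -7, -33, 128, -66, -88, -7, 0, 4, 24, 18, -3, 11, 1, 15, -2, 2, 1, 0, -15, -4, 5]⟩)) (.node 1 (.leaf ⟨10, 6,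 true, [8, 36, 29, 36, 24, 23], [12, 22, 36, 22, 35, 11], [-45, 758, 202, 352, 716, 223, -66, 58, 11, -50, 24, -37, 331, -220, 9, 2, 42, 63, 64, 49, -3, -19, -7, 36, 1, -6, 14, 0, -39, -7, -13]⟩) (.leaf ⟨6, 10, true, [10, 34, 38, 37, 43, 18], [8, 36, 22, 33, 37, 13], [44, -756, -201, -353, -715, -223, 66, -57, -11, 50, -24, 36, -329, 220, -10, -2, -42, -63, -64, -49, 3, 19, 7, -36, -1, 6, -14, 0, 39, 7, 13]⟩))))) (.node 7 (.node 3 (.node 1 (.leaf ⟨6, 10, true, [6, 27, 36, 28, 35, 4], [11, 12, 41, 18, 22], [-26, -129, -9, -150, -197, -42, 4, -14, 16, -30, 7, 6, -123, 44, 19, 2, -7, -11, -18, -8, 1, 0, 0, -7, 2, 0, 0, 0, 4, 2, 1]⟩) (.node 1 (.leaf ⟨10, 6, true, [2, 34, 6, 39, 31, 24], [0, 34, 29, 37, 26, 6], [20, 458, 125, 312, 555, 139, -22, 50, 2, 10, 11, -33, 285, -144, -44, 1, 20, 37,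 45, 29, -2, 0, -1, 25, -1, -2, 3, 0, -21, -3, -6]⟩) (.leaf ⟨6, 10, true, [26, 35, 24, 40, 10, 2], [39, 31, 21, 18, 11], [-53, 46, 123, 9, 282, -18, -3, 42, -14, 4, -35, -11, 47, -59, -76, -9, -12, -4, 1, 23, -12, 17, 4, 9, -4, 1, 4, 0, -2, -6, 1]⟩))) (.node 2 (.node 1 (.leaf ⟨10, 6, true, [8, 42, 13, 18, 20], [24, 24, 37, 40, 27, 4], [33, 545, 97, 271, 359, 190, -28, 22, 52, -50, 69, -37, 244, -123, 37, 15, 36, 52, 47, 15, 10, -17, -6, 23, 6, -5, 2, 0, -28, 4, -11]⟩) (.leaf ⟨6, 10, true, [40, 34, 11, 43, 18], [34, 38, 26, 19, 38, 29], [-23, -244, -41, -199, -303, -52, -11, -50, -6, -47, -9, 40, -139, 74, 107, 4, 8, -7, -9, -20, 4, -13, -7, -17, 2, -3, -3, 0, 9, -3, -2]⟩)) (.node 1 (.leaf ⟨10, 6, true, [8, 35, 20, 14, 19, 8], [19, 37, 23, 11, 39, 8], [39, -379, -179, -107, -373, -131,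 46, -18, -32, 88, -26, 11, -168, 118, -65, -10, -33, -43, -42, -20, -2, 13, 9, -17, -4, 7, -3, 0, 23, 5, 12]⟩) (.leaf ⟨10, 6, true, [0, 35, 19, 0, 31, 13], [21, 14, 26, 42, 39, 31], [34, 1495, 399, 765, 1364, 466, -81, 122, 114, -104, 118, -122, 702, -412, -22, 23, 73, 127, 122, 75, 7, -19, -10, 75, 9, -10, 14, 0, -78, 1, -28]⟩)))) (.node 4 (.node 2 (.node 1 (.leaf ⟨9, 10, true, [37, 28, 33, 21, 24], [18, 38, 35, 41, 42, 13], [-96, -368, 40, -256, -194, -128, 42, -32, 12, -26, -50, 44, -165, 60, 35, -7, -10, -19, -27, -2, -9, 3, 0, -17, -2, -2, 1, 0, 19, -3]⟩) (.leaf ⟨10, 9, true, [43, 11, 29, 14, 10], [30, 27, 21, 36, 8], [84, 663, 76, 392, 517, 214, -56, 64, 6, 1, 67, -68, 311, -150, -55, 10, 22, 43, 51, 21, 8, -3, -1, 33, 3, 0, 2, 0, -34, 2, -5]⟩)) (.node 1 (.leaf ⟨6, 10, true, [6,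 31, 25, 19, 42, 21], [2, 41, 2, 20, 10, 8], [6, 215, 81, 146, 420, 16, 5, 93, 16, 83, -62, -30, 138, -96, -135, -10, -2, 2, 20, 35, -14, 43, 7, 12, -1, 1, 1, 0, -8, -11, -1]⟩) (.leaf ⟨10, 6, true, [2, 25, 35, 13, 40, 6], [26, 8, 34, 28, 40, 19], [-12, 114, 35, 16, -62, 81, -23, -57, 2, -103, 80, 3, 24, -4, 110, 13, 15, 24, 7, -14, 13, -43, -8, 6, 2, -3, 2, 0, -9, 10, -4]⟩))) (.node 2 (.node 1 (.leaf ⟨10, 6, true, [2, 34, 6, 43, 43, 30], [27, 8, 31, 39, 11, 43, 28], [41, -725, -303, -334, -857, -189, 22, -98, -39, 37, -17, 63, -378, 234, 106, 2, -28, -51, -57, -55, 7, -17, -1, -43, -1, 4, -11, 0, 37, 4, 11]⟩) (.leaf ⟨6, 10, true, [10, 34, 36, 18, 27, 14], [2, 40, 37, 39, 6, 28], [-40, 727, 303, 334, 857, 189, -22, 98, 39, -37, 17, -63, 376, -234, -107, -2, 28, 51, 57, 55, -7, 17, 1, 43,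 1, -4, 11, 0, -37, -4, -11]⟩)) (.node 1 (.leaf ⟨10, 6, true, [11, 16, 38, 23, 33, 23], [21, 40, 16, 19, 21, 43], [-16, 659, 235, 334, 704, 202, -37, 67, 20, -54, 41, -48, 342, -188, -29, 7, 25, 56, 50, 38, 0, 0, 0, 34, 2, -4, 5, 0, -35, -1, -11]⟩) (.leaf ⟨6, 10, true, [22, 35, 14, 27, 22, 16], [10, 22, 32, 27, 35, 10], [17, -657, -235, -334, -704, -202, 37, -67, -20, 54, -41, 48, -344, 188, 28, -7, -25, -56, -50, -38, 0, 0, 0, -34, -2, 4, -5, 0, 35, 1, 11]⟩)))))) (.node 15 (.node 7 (.node 3 (.node 1 (.leaf ⟨10, 6, true, [34, 0, 39, 27, 23, 12, 0], [2, 0, 37, 38, 35, 32, 27], [8, -389, -112, -107, 70, -193, 24, 42, -69, 193, -188, -21, -224, 55, -135, -38, -31, -50, -17, 29, -26, 37, 2, -9, -1, 7, -9, 0, 14, -17, 14]⟩) (.node 1 (.leaf ⟨6, 10, true, [25, 31, 2, 29, 19], [35, 19, 30, 28,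 39, 29], [-9, 393, 113, 106, -69, 193, -24, -41, 69, -193, 188, 20, 222, -55, 134, 38, 31, 50, 17, -29, 26, -37, -2, 9, 1, -7, 9, 0, -14, 17, -14]⟩) (.leaf ⟨10, 5, true, [8, 43, 39, 12, 22, 18], [18, 38, 16, 25, 39, 4], [26, -476, -221, -263, -735, -136, 36, -74, 15, -8, 1, 44, -243, 187, 86, 6, -9, -30, -38, -49, 11, 0, 0, -34, 1, 2, -7, 0, 28, 4, 2]⟩))) (.node 2 (.node 1 (.leaf ⟨5, 10, true, [29, 12, 40, 26, 6, 24], [27, 2, 26, 21, 38, 11], [-23, 510, 232, 282, 774, 147, -37, 79, -17, 9, 1, -47, 260, -196, -92, -6, 10, 32, 41, 51, -11, 0, 0, 36, -1, -2, 7, 0, -30, -4, -2]⟩) (.leaf ⟨10, 4, true, [38, 11, 42, 40, 20], [11, 41, 0, 42, 32, 39], [21, -667, -162, -366, -573, -202, 70, -51, -17, 58, -42, 45, -346, 182, 1, -7, -28, -54, -53, -34, -2, 22, 4, -33, -2, 7, -9, 0, 33, -2, 10]⟩))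 (.node 1 (.leaf ⟨4, 10, true, [0, 39, 26, 34, 38, 14], [21, 11, 6, 43, 39, 4], [-15, 625, 143, 336, 502, 194, -67, 41, 19, -55, 33, -36, 315, -164, 8, 7, 30, 50, 51, 32, 2, -24, -6, 31, 2, -7, 9, 0, -31, 2, -10]⟩) (.leaf ⟨10, 6, true, [42, 6, 40, 13, 2], [4, 27, 23, 18, 43, 21], [3, -164, -98, -80, -234, -44, 9, -27, 5, 18, 2, 11, -99, 47, 33, 1, -6, -8, -12, -13, 2, -5, 0, -12, 1, -1, -4, 0, 9, 5]⟩)))) (.node 4 (.node 2 (.node 1 (.leaf ⟨6, 10, true, [29, 42, 31, 10, 10, 28], [37, 34, 13, 40, 2], [-4, 168, 99, 79, 235, 44, -9, 28, -5, -18, -2, -12, 97, -47, -34, -1, 6, 8, 12, 13, -2, 5, 0, 12, -1, 1, 4, 0, -9, -5]⟩) (.leaf ⟨10, 6, true, [0, 34, 38, 24, 13, 6], [35, 35, 30, 43, 14, 21], [34, 281, 64, 190, 348, 81, -43, 41, -3, -7, 7, -57, 169, -94, -40, 2, 8, 24, 23, 17, -2, 3, 3, 15,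 -1, 2, 5, 0, -13, -4, -2]⟩)) (.node 1 (.leaf ⟨6, 10, true, [10, 31, 42, 35, 41, 13], [16, 35, 40, 27, 12, 2], [-33, -281, -64, -190, -348, -81, 43, -41, 3, 7, -7, 57, -167, 94, 39, -2, -8, -24, -23, -17, 2, -3, -3, -15, 1, -2, -5, 0, 13, 4, 2]⟩) (.leaf ⟨10, 6, true, [43, 36, 23, 11, 31], [16, 40, 6, 19, 36, 42], [-76, 95, 147, 55, 459, 22, 75, 57, -35, 62, 29, -4, 79, -67, -96, -10, -7, -9, 5, 28, -8, 7, 1, 16, -4, 9, -11, 0, -5, 2, 4]⟩))) (.node 2 (.node 1 (.leaf ⟨6, 10, true, [27, 0, 40, 2, 25, 43, 19], [19, 28, 37, 16, 13, 6], [77, -93, -147, -55, -459, -22, -75, -57, 35, -62, -29, 4, -81, 67, 95, 10, 7, 9, -5, -28, 8, -7, -1, -16, 4, -9, 11, 0, 5, -2, -4]⟩) (.leaf ⟨6, 10, true, [31, 27, 10, 39, 23, 24], [38, 0, 2, 39, 18], [9, 25, -21, 40, 66, 9, 6, 4, -12, 27, -27, -6, 13, -14, -24,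 -4, 2, -1, 5, 7, -3, 3, 0, 3, 1, 2, 0, 0, -1, -3]⟩)) (.node 1 (.leaf ⟨10, 6, true, [6, 40, 35, 43, 0], [32, 29, 11, 34, 40, 28], [-8, -812, -235, -452, -932, -247, 40, -92, -20, 1, -13, 72, -403, 250, 91, -2, -32, -59, -71, -57, 5, -3, 2, -47, -3, 2, -6, 0, 43, 5, 10]⟩) (.leaf ⟨10, 9, true, [33, 34, 6, 14, 4], [38, 34, 38, 42, 0], [157, 400, -140, 325, 160, 159, -78, 20, 3, 41, 39, -35, 121, -77, -8, 4, 14, 22, 39, 11, 6, -34, -3, 21, 2, -1, -2, 0, -19, 4, -1]⟩))))) (.node 8 (.node 4 (.node 2 (.node 1 (.leaf ⟨9, 10, true, [6, 2, 31, 8, 22], [37, 31, 40, 33, 30], [-110, -177, 146, -169, 4, -123, 26, 6, -7, -21, -81, 51, -27, 43, -15, -10, -16, -2, -25, 7, -10, 40, 5, -9, -2, 5, 4, 0, 5, -14, 1]⟩) (.leaf ⟨10, 6, true, [8, 37, 43, 31, 8], [6, 8, 25, 21, 33, 39, 19], [44, -774, -292, -347,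 -799, -233, 22, -81, -55, 46, -52, 29, -352, 227, 45, -8, -33, -58, -65, -50, 1, 5, 6, -43, -5, 8, -4, 0, 42, -1, 12]⟩)) (.node 1 (.leaf ⟨6, 10, true, [42, 19, 2, 19, 36, 12, 19], [23, 27, 27, 39, 36], [-45, 776, 293, 346, 800, 233, -22, 82, 55, -46, 52, -30, 354, -227, -46, 8, 33, 58, 65, 50, -1, -5, -6, 43, 5, -8, 4, 0, -42, 1, -12]⟩) (.leaf ⟨10, 6, true, [18, 35, 35, 32, 24, 12], [6, 2, 42, 38, 12, 37, 8], [-24, 301, 74, 216, 513, 56, -14, 64, 19, 53, -38, -16, 179, -148, -20, -16, 10, 22, 25, 37, -11, 6, 2, 15, -1, -2, -1, 0, -18, -6, -7]⟩))) (.node 2 (.node 1 (.leaf ⟨6, 10, true, [2, 22, 38, 22, 30, 43], [8, 4, 26, 32, 39, 6, 19], [25, -301, -74, -216, -513, -56, 14, -64, -19, -53, 38, 16, -177, 148, 19, 16, -10, -22, -25, -37, 11, -6, -2, -15, 1, 2, 1, 0, 18, 6, 7]⟩) (.leaf ⟨10,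 6, true, [0, 36, 8, 30, 21, 11], [37, 25, 2, 29, 2], [-9, 323, 192, 130, 463, 86, 1, 31, 27, 4, 15, -29, 150, -114, -44, 1, 15, 29, 29, 30, -5, 20, -1, 17, 0, -1, 5, 0, -22, -5, -5]⟩)) (.node 1 (.leaf ⟨6, 10, true, [8, 0, 25, 42, 30, 41, 16], [4, 25, 10, 30, 27, 2], [8, -319, -191, -131, -462, -86, -1, -30, -27, -4, -15, 28, -152, 114, 43, -1, -15, -29, -29, -30, 5, -20, 1, -17, 0, 1, -5, 0, 22, 5, 5]⟩) (.leaf ⟨10, 6, true, [13, 40, 6, 33, 19, 20], [6, 4, 36, 25, 37, 20, 18], [85, -1249, -594, -523, -1492, -299, 64, -174, -96, 113, -77, 88, -564, 420, 142, -1, -27, -95, -95, -85, 10, -20, -7, -64, -7, 6, -10, 0, 65, 8, 19]⟩)))) (.node 4 (.node 2 (.node 1 (.leaf ⟨6, 10, true, [40, 26, 20, 2, 20, 4], [27, 33, 40, 39, 42, 0], [-84, 1249, 594, 523, 1492, 299, -64, 174, 96, -113, 77, -88,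 566, -420, -143, 1, 27, 95, 95, 85, -10, 20, 7, 64, 7, -6, 10, 0, -65, -8, -19]⟩) (.leaf ⟨10, 6, true, [20, 29, 37, 20, 25, 28], [33, 16, 35, 24, 29, 42], [62, -216, -150, -53, -302, -57, 5, -24, -14, 40, 8, 8, -104, 75, 29, 0, -11, -18, -19, -20, 4, -4, 1, -13, -1, 2, -4, 0, 10, 2, 3]⟩)) (.node 1 (.leaf ⟨6, 10, true, [32, 10, 35, 19, 24, 2], [30, 22, 11, 37, 28, 21], [-61, 218, 150, 53, 302, 57, -5, 24, 14, -40, -8, -8, 102, -75, -30, 0, 11, 18, 19, 20, -4, 4, -1, 13, 1, -2, 4, 0, -10, -2, -3]⟩) (.leaf ⟨6, 10, true, [0, 18, 34, 43, 41, 24], [33, 2, 26, 21, 40, 20], [-32, 216, 140, 122, 336, 23, -12, 32, -15, -12, 20, -30, 107, -72, -94, -9, -13, 11, 10, 15, -4, 14, 10, 11, 0, -1, 5, 0, -8, 1, 2]⟩))) (.node 2 (.node 1 (.leaf ⟨10, 6, true, [33, 39, 25, 23, 30], [33, 12, 41, 27, 43, 39],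 [19, 47, -36, -4, -53, 52, -1, -4, 35, -14, -4, 9, 22, -10, 79, 12, 24, 11, 11, 2, 3, -14, -11, 3, 1, -1, -2, 0, -5, -2, -7]⟩) (.leaf ⟨5, 10, true, [43, 2, 40, 29, 19, 33], [23, 21, 16, 42, 16, 29], [50, -304, -157, -145, -425, -18, 13, -83, 0, 13, 22, 16, -163, 100, 135, 9, 19, -9, -10, -25, 7, -27, -14, -20, -1, -4, -3, 0, 14, 3, 4]⟩)) (.node 1 (.leaf ⟨10, 5, true, [14, 31, 35, 11, 23, 24], [11, 18, 14, 42, 32, 11], [-50, -121, 17, -79, -48, -112, 11, 35, -14, 0, -43, 20, -49, 26, -97, -12, -35, -23, -26, -2, -6, 27, 15, -4, 0, 6, 0, 0, 9, -2, 1]⟩) (.leaf ⟨6, 10, true, [25, 0, 12, 38, 18, 13, 21], [26, 28, 40, 42, 25, 18], [16, 68, 9, 75, 212, 10, 3, 33, -4, 47, -41, -25, 49, -33, -64, -6, -2, 0, 7, 17, -7, 14, 3, 7, 2, 5, -3, 0, -2, -7, 1]⟩)))))))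
noncomputable def dF3708 : BT Fct := (.node 30 (.node 15 (.node 7 (.node 3 (.node 1 (.leaf ⟨10, 6, true, [14, 37, 41, 31, 10, 21], [19, 2, 29, 33, 35, 12], [-1, -723, -241, -399, -928, -204, 33, -105, -32, -7, 5, 79, -373, 233, 111, 0, -24, -52, -61, -59, 9, -14, -1, -43, -4, -1, -3, 0, 36, 9, 9]⟩) (.node 1 (.leaf ⟨10, 10, true, [8, 6, 39, 29, 30, 10], [10, 0, 18, 39, 39, 21, 19], [76, -763, -349, -277, -722, -227, 12, -66, -92, 110, -84, 25, -341, 222, 1, -16, -36, -64, -60, -44, -2, 9, 8, -42, -5, 13, -5, 0, 40, -5, 17]⟩) (.leaf ⟨10, 10, true, [2, 18, 12, 11, 23], [25, 42, 32, 12, 34, 30], [-61, 108, 117, -47, 6, 33, 24, -6, 56, -70, 48, 29, 17, -22, 46, 10, 10, 12, 6, 2, 4, -9, -6, 6, 3, -9, -1, 0, -6, 7, -7]⟩))) (.node 2 (.node 1 (.leaf ⟨6, 10, true, [19, 36, 24, 6, 40, 14], [32,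 21, 42, 27, 13, 43], [22, 299, 74, 208, 446, 82, -3, 62, 1, 48, -48, -38, 177, -101, -86, -4, 8, 17, 33, 31, -7, 13, 1, 20, 3, 3, -2, 0, -17, -8, -1]⟩) (.leaf ⟨10, 6, true, [8, 40, 23, 18, 43, 2], [36, 30, 36, 27, 29, 40], [-7, -954, -306, -532, -1162, -276, 39, -134, -37, -8, 12, 92, -501, 301, 133, -2, -34, -69, -87, -73, 9, -13, 1, -56, -5, 1, -4, 0, 51, 10, 11]⟩)) (.node 1 (.leaf ⟨6, 10, true, [29, 31, 41, 27, 36, 10], [20, 38, 25, 2, 22, 2], [35, 479, 142, 320, 759, 109, -19, 89, 15, 67, -20, -75, 253, -170, -138, -6, 3, 26, 45, 49, -11, 22, 3, 31, 2, 3, -2, 0, -27, -9, -1]⟩) (.leaf ⟨10, 6, true, [34, 37, 29, 42, 24, 23], [39, 42, 31, 26, 35, 37], [-27, -806, -258, -482, -1117, -206, 37, -125, -33, -47, 2, 102, -415, 270, 161, 3, -16, -52, -72, -70, 12, -22, -2, -49, -3, -1, -1,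 0, 44, 10, 6]⟩)))) (.node 4 (.node 2 (.node 1 (.leaf ⟨5, 10, true, [31, 22, 16, 11, 40, 40], [21, 22, 34, 24, 32], [61, -88, -77, -15, -160, 3, 3, -47, -18, -2, 29, 6, -24, 37, 67, 5, 6, -1, -9, -14, 6, -15, -7, -4, 1, -1, 1, 0, 1, 2, 2]⟩) (.leaf ⟨10, 5, true, [11, 34, 8, 41, 19, 8], [25, 38, 43, 6, 30, 22], [-53, -239, -39, -147, -198, -100, 15, 11, 0, 22, -47, 21, -138, 63, -44, -8, -19, -25, -18, -7, -5, 15, 8, -14, -2, 3, -4, 0, 16, -1, 3]⟩)) (.node 1 (.leaf ⟨6, 10, true, [33, 6, 37, 31, 26, 43], [43, 6, 22, 12, 41, 20, 28], [11, -7, -41, 15, -101, 20, -7, -12, -10, -6, 12, 10, 10, 18, 38, 4, 6, 2, 0, -8, 4, -6, -3, 0, -2, 0, 0, 0, -2]⟩) (.leaf ⟨10, 6, true, [6, 38, 11, 30, 8, 27], [35, 0, 29, 38, 24, 21, 12], [-30, 630, 273, 283, 782, 163, -25, 80, 46, -39, 23, -61, 298, -208, -82,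 2, 19, 48, 51, 48, -6, 6, 1, 34, 4, -4, 6, 0, -30, -2, -10]⟩))) (.node 2 (.node 1 (.leaf ⟨9, 10, true, [43, 39, 21, 29, 31], [22, 39, 32, 2, 25, 20], [-54, 550, 369, 332, 1282, 175, 96, 94, -52, 174, -69, -15, 385, -275, -289, -25, 28, 20, 68, 94, -27, 68, -6, 57, -8, 2, 5, 0, -38, -6, -2]⟩) (.leaf ⟨10, 9, true, [34, 38, 19, 32, 23, 28], [24, 42, 34, 6, 34], [62, -877, -485, -494, -1640, -272, -78, -130, 34, -154, 51, 42, -547, 375, 312, 22, -41, -46, -95, -115, 28, -68, 7, -75, 7, 0, -8, 0, 55, 7, 7]⟩)) (.node 1 (.leaf ⟨9, 10, true, [34, 10, 33, 10, 35, 43], [38, 12, 18, 40, 24], [101, 1523, 391, 956, 1743, 359, -153, 198, 28, 86, -8, -65, 797, -468, -258, -25, 17, 113, 118, 122, -20, 42, 11, 89, -2, 6, 19, 0, -89, -30, -8]⟩) (.leaf ⟨10, 9, true, [6, 42, 35, 31, 13, 2], [27, 8, 11, 38,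 40, 6], [-86, -2178, -623, -1280, -2459, -553, 189, -270, -64, -46, -28, 119, -1121, 668, 305, 19, -43, -165, -172, -164, 22, -42, -9, -125, 0, -2, -25, 0, 123, 32, 18]⟩))))) (.node 7 (.node 3 (.node 1 (.leaf ⟨6, 10, true, [40, 10, 24, 38, 26, 8, 0], [33, 16, 41, 27, 35, 21], [115, 358, 15, 313, 428, 147, -14, 28, -21, 42, 22, -38, 231, -105, -49, 1, 19, 22, 37, 24, 0, -14, -3, 26, 0, 4, 3, 0, -23, -2, 1]⟩) (.node 1 (.leaf ⟨10, 6, true, [11, 22, 10, 34, 26, 21], [31, 2, 24, 35, 6, 20, 4], [-106, -653, -119, -457, -746, -233, 31, -60, 1, -21, -39, 62, -376, 197, 67, -4, -31, -46, -61, -43, 1, 14, 4, -42, -1, -2, -6, 0, 38, 3, 4]⟩) (.leaf ⟨6, 10, true, [22, 42, 27, 19, 30, 11], [6, 0, 43, 25, 29, 39, 21], [13, 191, 33, 144, 298, 58, -14, 40, -8, 39, -17, -29, 123, -67, -52, -3, 5, 10, 21,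 19, -4, 5, 1, 13, 1, 1, 0, 0, -11, -5]⟩))) (.node 2 (.node 1 (.leaf ⟨10, 6, true, [10, 10, 34, 33, 8, 20], [10, 0, 23, 33, 27, 43, 23], [-4, -486, -137, -288, -616, -144, 31, -72, -12, -18, 0, 53, -268, 159, 70, 0, -17, -34, -45, -38, 5, -5, 0, -29, -2, 1, -3, 0, 26, 6, 5]⟩) (.leaf ⟨6, 10, true, [36, 30, 39, 30, 28, 11], [25, 6, 26, 36, 22, 32, 0], [117, 988, 118, 705, 1241, 312, -107, 124, -65, 134, -1, -108, 509, -324, -183, -14, 28, 59, 105, 83, -12, -2, 1, 59, 1, 0, 10, 0, -61, -18, 1]⟩)) (.node 1 (.leaf ⟨10, 6, true, [18, 40, 24, 37, 32, 27], [29, 23, 8, 2, 24, 30], [-130, -331, 114, -381, -525, -118, 71, -52, 101, -174, 37, 54, -185, 124, 134, 20, -2, -7, -51, -41, 10, 2, -3, -23, 1, -4, -4, 0, 27, 16, -11]⟩) (.leaf ⟨6, 10, true, [28, 20, 41, 28, 39, 8], [8, 30, 26, 38, 30, 21],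 [-86, -473, 26, -332, -266, -103, 122, -17, -9, -36, 74, -46, -143, 93, 17, 19, -5, -45, -41, -41, 9, 7, 3, -28, 4, -2, -11, 0, 32, 20, -3]⟩)))) (.node 4 (.node 2 (.node 1 (.leaf ⟨10, 6, true, [37, 12, 43, 2, 28], [34, 11, 32, 40, 21, 14, 25], [86, 442, -38, 314, 226, 92, -121, 13, 11, 35, -75, 49, 126, -85, -13, -19, 4, 43, 38, 39, -9, -7, -3, 26, -4, 2, 11, 0, -30, -20, 3]⟩) (.leaf ⟨10, 6, true, [0, 11, 39, 25, 30, 16], [33, 0, 20, 33, 38, 18, 13], [50, 1308, 226, 731, 1044, 460, -131, 62, 15, -71, 104, -96, 590, -345, 72, 18, 80, 118, 118, 58, 10, -56, -17, 66, 4, -18, 18, 0, -72, -3, -13]⟩)) (.node 1 (.leaf ⟨6, 10, true, [24, 36, 20, 36, 38, 0], [11, 22, 33, 20, 38, 0], [-49, -1308, -226, -731, -1044, -460, 131, -62, -15, 71, -104, 96, -588, 345, -73, -18, -80, -118, -118, -58, -10,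 56, 17, -66, -4, 18, -18, 0, 72, 3, 13]⟩) (.leaf ⟨6, 10, true, [32, 37, 41, 29, 23, 2], [36, 30, 43, 28, 39, 16], [30, 175, 7, 157, 218, 29, -10, 39, 4, 37, -21, -32, 97, -58, -64, -5, -3, 9, 16, 14, -4, 9, 4, 10, 2, -1, 3, 0, -6, -5]⟩))) (.node 2 (.node 1 (.leaf ⟨10, 6, true, [42, 30, 21, 13, 11], [35, 19, 31, 35, 28, 27], [-42, 514, 237, 185, 538, 176, -27, 37, 30, -76, 58, -25, 244, -150, 10, 11, 30, 45, 41, 30, 2, -9, -6, 28, 0, -3, 3, 0, -30, 3, -10]⟩) (.leaf ⟨5, 10, true, [23, 0, 39, 22, 38, 26, 14], [28, 6, 37, 8, 20, 12], [79, 227, -86, 242, 294, 103, -36, 46, -46, 96, -41, -43, 147, -55, -43, 0, 13, 13, 33, 19, -2, -4, -3, 17, 4, 7, -5, 0, -18, -10, 3]⟩)) (.node 1 (.leaf ⟨10, 5, true, [6, 14, 39, 43, 10, 30], [8, 18, 35, 19, 40, 28], [-64, -488, -18, -360, -577, -178, 49, -74,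 26, -70, 25, 64, -276, 137, 56, -3, -24, -35, -54, -36, 3, 4, 4, -31, -5, -5, 2, 0, 31, 11, 2]⟩) (.leaf ⟨6, 10, true, [24, 0, 41, 11, 36, 24, 20], [31, 22, 14, 34, 23, 28], [13, 257, 91, 233, 520, 60, -9, 48, -15, 46, -14, -44, 210, -114, -104, -9, 3, 17, 29, 27, -8, 20, 6, 17, -1, 3, 1, 0, -9, -8, -1]⟩)))))) (.node 15 (.node 7 (.node 3 (.node 1 (.leaf ⟨10, 6, true, [43, 33, 10, 28, 0], [31, 10, 29, 29, 41, 36, 25], [-11, -224, -79, -215, -480, -49, 8, -44, 13, -45, 15, 41, -193, 106, 98, 9, -2, -15, -26, -25, 8, -20, -6, -15, 1, -3, -1, 0, 7, 8, 1]⟩) (.node 1 (.leaf ⟨5, 10, true, [35, 16, 26, 29, 32], [2, 6, 20, 38, 43, 29], [67, 406, -5, 343, 581, 138, -42, 68, -27, 103, -41, -64, 236, -130, -103, -6, 9, 22, 41, 37, -7, 4, 1, 28, 2, 5, 1, 0, -25, -9, 3]⟩) (.leaf ⟨10, 5, true, [6, 39,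 19, 14, 29], [14, 28, 19, 23, 34], [-81, 219, 225, -37, 95, 45, 7, 0, 65, -144, 76, 13, 71, -62, 59, 12, 16, 28, 10, 3, 5, -4, -3, 6, 0, -9, 5, 0, -7, 7, -13]⟩))) (.node 2 (.node 1 (.leaf ⟨6, 10, true, [12, 0, 18, 29, 35, 41, 19], [34, 37, 38, 29, 8, 2], [66, 250, 1, 231, 297, 88, 4, 50, -8, 59, -18, -39, 179, -61, -75, 2, 9, 9, 19, 16, -1, 6, 2, 18, 1, 7, -1, 0, -14, 0, 1]⟩) (.leaf ⟨10, 6, true, [6, 34, 39, 36, 19, 31], [21, 39, 36, 38, 11, 21], [-73, 47, 103, -87, 21, -2, -21, -18, 28, -80, 35, 15, -34, -31, 55, 1, 3, 15, 5, 3, 0, -6, -3, -2, 0, -9, 4, 0, -1, -1, -6]⟩)) (.node 1 (.leaf ⟨6, 10, true, [32, 6, 31, 38, 22, 36], [37, 0, 27, 41, 25, 10, 30], [-17, 65, 41, 21, 102, 29, 0, 2, -8, -2, 15, 1, 36, -23, -11, -1, 3, 4, 8, 5, -1, 0, 2, 3, -2, 3, 1, 0, -3, -3, -2]⟩) (.leaf ⟨10, 6,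 true, [14, 39, 20, 25, 26], [19, 0, 31, 19, 35, 28, 21], [4, 198, 63, 97, 181, 46, -13, 26, 28, -24, 1, -22, 93, -59, -4, 4, 8, 18, 13, 12, 0, 0, -3, 11, 3, -5, 2, 0, -10, 2, -3]⟩)))) (.node 4 (.node 2 (.node 1 (.leaf ⟨6, 10, true, [24, 0, 40, 38, 24, 8, 30], [38, 0, 22, 42, 34, 16, 8], [11, 276, 95, 195, 501, 64, -7, 74, 8, 67, -24, -40, 170, -106, -135, -4, -6, 13, 21, 32, -9, 28, 9, 20, 2, 9, -5, 0, -11, -7, -2]⟩) (.leaf ⟨10, 6, true, [2, 21, 26, 43, 40, 14], [22, 2, 20, 29, 40, 18, 27], [3, -963, -339, -537, -1257, -269, 44, -150, -42, -28, -13, 97, -511, 314, 187, -2, -21, -67, -78, -76, 11, -28, -7, -58, -4, -5, -1, 0, 47, 9, 12]⟩)) (.node 1 (.leaf ⟨10, 6, true, [0, 37, 41, 29, 19, 24], [29, 30, 18, 41, 0], [33, 249, -11, 161, 178, 101, -21, 8, 23, 4, 6, -4, 95, -60, 19, 3, 25,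 24, 33, 16, 1, -23, -9, 15, -1, -9, 4, 0, -12, 4]⟩) (.leaf ⟨10, 6, true, [2, 27, 36, 20, 43, 11], [35, 13, 38, 32, 36, 40], [5, 71, 174, -39, 126, 8, 25, 3, 57, -83, 69, 10, 24, -44, -53, 8, -11, 8, -13, -5, 5, 18, 10, 10, 5, -2, -3, 0, 0, 9, -3]⟩))) (.node 2 (.node 1 (.leaf ⟨10, 6, true, [42, 23, 21, 38, 27, 40], [25, 0, 27, 42, 23, 20, 24], [-19, 1211, 526, 579, 1413, 357, -46, 114, 27, -67, 146, -49, 516, -411, -123, -7, 33, 91, 87, 82, -4, -17, 1, 70, -2, -12, 16, 0, -66, 17, -11]⟩) (.leaf ⟨6, 10, true, [39, 40, 2, 39, 25], [26, 39, 35, 30, 20, 28], [18, -1209, -525, -580, -1412, -357, 46, -113, -27, 67, -146, 48, -514, 411, 122, 7, -33, -91, -87, -82, 4, 17, -1, -70, 2, 12, -16, 0, 66, -17, 11]⟩)) (.node 1 (.leaf ⟨10, 6, true, [0, 33, 40, 26, 13, 11], [23, 20, 19, 2, 22, 26], [-115,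 292, 201, 51, 325, 33, -30, 57, 31, -49, 7, 4, 122, -116, -15, -5, 2, 24, 18, 24, -6, 6, 3, 13, -3, -7, 6, 0, -13, 0, -9]⟩) (.leaf ⟨6, 10, true, [30, 29, 2, 19, 26, 29], [22, 19, 37, 6, 31, 4], [116, -292, -201, -51, -325, -33, 30, -57, -31, 49, -7, -4, -120, 116, 14, 5, -2, -24, -18, -24, 6, -6, -3, -13, 3, 7, -6, 0, 13, 0, 9]⟩))))) (.node 8 (.node 4 (.node 2 (.node 1 (.leaf ⟨10, 6, true, [0, 34, 33, 33, 22, 8], [26, 35, 29, 21, 41, 35], [12, -436, -164, -252, -635, -146, 16, -61, -2, -6, -10, 46, -260, 157, 51, 1, -21, -35, -44, -37, 4, 4, 2, -30, -4, -2, 0, 0, 27, 6, 4]⟩) (.leaf ⟨6, 10, true, [20, 10, 37, 22, 39, 33], [8, 24, 14, 35, 14, 0], [-13, 439, 165, 251, 636, 146, -16, 62, 2, 6, 10, -47, 260, -157, -52, -1, 21, 35, 44, 37, -4, -4, -2, 30, 4, 2, 0, 0, -27, -6, -4]⟩)) (.node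 1 (.leaf ⟨10, 6, true, [4, 41, 20, 32, 19, 19], [10, 41, 19, 26, 35, 25], [-82, -836, -114, -566, -957, -239, 80, -111, 13, -110, 20, 103, -415, 246, 112, 8, -29, -54, -81, -64, 8, -10, 4, -49, -1, 3, -4, 0, 52, 11, 3]⟩) (.leaf ⟨10, 6, true, [43, 43, 35, 24, 22, 28], [0, 41, 24, 34, 33, 8], [-51, 471, 320, 134, 495, 120, 14, 58, 81, -110, 53, -24, 246, -148, -30, 16, 17, 42, 32, 26, 1, 15, 0, 26, 0, -4, 1, 0, -21, 5, -16]⟩))) (.node 2 (.node 1 (.leaf ⟨6, 10, true, [6, 0, 41, 33, 13, 41, 4], [14, 20, 38, 22, 11, 24], [50, -468, -319, -135, -494, -120, -14, -57, -81, 110, -53, 23, -246, 148, 29, -16, -17, -42, -32, -26, -1, -15, 0, -26, 0, 4, -1, 0, 21, -5, 16]⟩) (.leaf ⟨5, 10, true, [20, 28, 38, 35, 43, 26], [16, 21, 38, 11, 33, 31], [49, -254, -204, -119, -437, -78, -30, -20, 6, -2, -55,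 -12, -170, 120, 55, 6, -6, -18, -15, -23, 3, -16, -2, -22, 1, 8, -5, 0, 14, -5, 9]⟩)) (.node 1 (.leaf ⟨10, 5, true, [21, 36, 30, 2, 38, 36], [28, 0, 26, 43, 41, 32, 11], [-47, 681, 344, 343, 910, 208, 6, 68, 8, -11, 76, -24, 382, -246, -95, -3, 22, 50, 51, 50, -4, 16, 1, 46, 0, -10, 8, 0, -37, 4, -14]⟩) (.leaf ⟨5, 10, true, [0, 39, 11, 19, 22], [16, 43, 11, 41, 20, 42], [53, 185, -96, 145, 113, 10, -56, 107, -14, 54, -142, -47, 58, -1, -168, -3, -8, -8, 17, 19, -8, 33, 11, 7, 2, 13, 0, 0, -2, -15, 8]⟩)))) (.node 4 (.node 2 (.node 1 (.leaf ⟨10, 5, true, [0, 38, 43, 43, 23], [10, 29, 23, 35, 0, 31], [-53, 178, 212, 43, 280, 98, 34, -67, 32, -69, 161, 17, 120, -109, 138, 6, 22, 36, 13, 4, 7, -33, -12, 13, -1, -15, 3, 0, -17, 14, -13]⟩) (.leaf ⟨6, 10, true, [30, 35, 24, 26, 18, 14], [18,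 23, 35, 11, 0, 31], [46, -311, -238, -164, -525, -97, -36, -24, -2, 1, -75, -7, -206, 142, 84, 4, 1, -22, -19, -26, 3, -25, -5, -23, 1, 10, -4, 0, 15, -7, 10]⟩)) (.node 1 (.leaf ⟨10, 6, true, [43, 14, 4, 43, 29, 10], [20, 14, 22, 29, 34, 31], [-44, 344, 250, 182, 565, 108, 35, 28, 0, 0, 76, 4, 223, -150, -90, -4, 0, 24, 22, 28, -3, 25, 5, 25, -1, -10, 4, 0, -17, 7, -10]⟩) (.leaf ⟨6, 10, true, [26, 2, 18, 40, 37, 30, 0], [39, 33, 43, 41, 18, 6], [4, -55, -62, -77, -151, -54, -35, 11, -16, -3, -84, -16, -79, 59, -49, -4, -3, -15, -5, -3, -4, 4, 0, -5, -3, 11, 4, 0, 8, -4, 8]⟩))) (.node 2 (.node 1 (.leaf ⟨10, 6, true, [34, 36, 36, 19], [27, 19, 37, 14, 25, 43], [5, -634, -170, -273, -600, -151, 75, -87, -20, 38, 47, 73, -261, 151, 101, -2, -24, -39, -52, -41, 6, -4, 2, -33, 1, -7, -10, 0,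 28, 6, 2]⟩) (.leaf ⟨6, 10, true, [4, 10, 43, 10, 19, 19], [43, 41, 29, 23, 38, 4], [72, -9, -176, 78, -154, -18, -34, 12, -9, 6, -65, -28, 25, 51, -6, 5, -3, -7, 0, -8, 2, -3, 0, -7, -2, 13, -3, 0, 1, -5, 6]⟩)) (.node 1 (.leaf ⟨10, 6, true, [0, 14, 39, 21, 13, 20], [8, 14, 13, 20, 41, 4], [-72, 372, 292, 110, 547, 126, 12, 28, 27, -21, 84, -2, 153, -161, -24, -2, 17, 35, 30, 31, -3, 3, -1, 27, 3, -15, 6, 0, -20, 4, -11]⟩) (.leaf ⟨10, 6, true, [6, 4, 30, 2, 21], [0, 6, 22, 4, 41, 11], [80, 949, 166, 578, 935, 288, -91, 112, 40, -15, -12, -106, 481, -243, -53, 13, 45, 75, 92, 53, -1, -15, -5, 44, 2, 3, 3, 0, -45, -10, -7]⟩)))))))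
noncomputable def dF3769 : BT Fct := (.node 30 (.node 15 (.node 7 (.node 3 (.node 1 (.leaf ⟨6, 10, true, [35, 37, 23, 28, 10], [18, 26, 24, 34, 10, 31], [-81, -947, -165, -579, -934, -288, 91, -111, -40, 15, 12, 105, -479, 243, 52, -13, -45, -75, -92, -53, 1, 15, 5, -44, -2, -3, -3, 0, 45, 10, 7]⟩) (.node 1 (.leaf ⟨5, 10, true, [2, 8, 42, 23, 30, 2], [12, 34, 30, 22, 39, 19], [24, -370, -194, -218, -596, -124, -9, -21, 10, -20, -85, 9, -226, 155, 64, 8, -6, -26, -24, -29, 2, -11, -2, -29, 1, 9, -5, 0, 22, -6, 8]⟩) (.leaf ⟨10, 5, true, [37, 16, 31, 37, 22, 32], [38, 27, 10, 21, 0], [-51, 895, 402, 454, 1162, 274, -17, 77, 30, -32, 117, -51, 484, -319, -93, -2, 28, 70, 66, 63, -4, 11, 0, 57, 1, -13, 11, 0, -48, 4, -18]⟩))) (.node 2 (.node 1 (.leaf ⟨6, 10, true, [42, 2, 29, 29, 20, 43, 28],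 [28, 2, 21, 8, 22, 39, 30], [41, -96, -141, -23, -274, -43, -42, -4, 8, -22, -40, -19, -81, 84, 51, 7, -7, -10, -7, -18, 4, -24, -3, -15, 0, 9, -2, 0, 5, -3, 8]⟩) (.leaf ⟨10, 6, true, [35, 25, 19, 36, 40, 23], [8, 2, 10, 25, 38, 40, 16], [-46, 851, 397, 409, 1105, 270, 0, 88, 24, -11, 79, -44, 455, -310, -115, -1, 36, 68, 70, 66, -6, 24, 1, 57, 2, -13, 8, 0, -45, 1, -18]⟩)) (.node 1 (.leaf ⟨6, 10, true, [41, 16, 27, 2, 21, 29], [18, 2, 41, 34, 27, 37, 21], [8, -227, -167, -129, -387, -91, -57, -27, -16, -12, -61, -5, -202, 98, 59, -5, -10, -21, -17, -11, -3, -29, -4, -23, -6, 9, 3, 0, 13, -3, 10]⟩) (.leaf ⟨10, 6, true, [14, 22, 33, 36, 24], [19, 28, 10, 39, 29, 25], [-15, 524, 271, 273, 705, 177, 40, 59, 36, -9, 78, -19, 347, -190, -79, 8, 22, 45, 41, 30, 2, 29, 3, 39, 7, -11, 0, 0, -28,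 2, -15]⟩)))) (.node 4 (.node 2 (.node 1 (.leaf ⟨6, 10, true, [13, 22, 36, 18, 18, 27], [24, 0, 6, 37, 29, 34, 22], [-4, -461, -187, -256, -608, -129, -17, -41, -6, -59, -49, -5, -222, 176, 87, 8, -14, -31, -39, -37, 4, -20, 1, -32, -2, 9, -5, 0, 24, 1, 9]⟩) (.leaf ⟨10, 6, true, [20, 26, 36, 16, 4, 28], [26, 4, 19, 19, 37, 23, 12], [5, 856, 315, 462, 1041, 248, -6, 85, 22, 45, 69, -28, 417, -294, -122, -5, 29, 61, 72, 62, -5, 20, -2, 54, 3, -11, 8, 0, -45, -2, -14]⟩)) (.node 1 (.leaf ⟨10, 10, true, [0, 38, 34, 14, 35, 26], [0, 38, 27, 34, 39, 6], [-81, -193, 15, -191, -192, -69, -8, 40, 18, -77, -96, -10, -48, 62, 25, 9, 2, -9, -3, -7, -5, 2, -1, -16, 0, 8, -3, 0, 15, -13, 2]⟩) (.leaf ⟨10, 6, true, [6, 40, 20, 26, 2, 24], [39, 19, 23, 18, 41, 37], [123, -338, -298, -57, -528, -106, -11,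 -37, 4, 75, -72, 11, -176, 135, 31, 1, -9, -25, -11, -31, 3, -15, 1, -27, -2, 9, -7, 0, 24, -5, 11]⟩))) (.node 2 (.node 1 (.leaf ⟨6, 10, true, [13, 23, 40, 42, 42, 28], [23, 11, 38, 6, 2], [-124, 341, 299, 56, 529, 106, 11, 38, -4, -75, 72, -12, 176, -135, -32, -1, 9, 25, 11, 31, -3, 15, -1, 27, 2, -9, 7, 0, -24, 5, -11]⟩) (.leaf ⟨10, 6, true, [14, 39, 26, 8, 11], [30, 21, 31, 38, 22, 37], [-30, -597, -122, -323, -552, -147, 68, -69, -73, 53, -17, 91, -243, 159, 70, -10, -7, -45, -49, -33, 2, -2, -4, -23, 0, -1, -5, 0, 28, 4, 2]⟩)) (.node 1 (.leaf ⟨6, 10, true, [38, 21, 14, 34, 34, 23], [10, 8, 27, 38, 14, 2], [29, 601, 123, 322, 553, 147, -68, 70, 73, -53, 17, -92, 241, -159, -71, 10, 7, 45, 49, 33, -2, 2, 4, 23, 0, 1, 5, 0, -28, -4, -2]⟩) (.leaf ⟨6, 10, true, [28, 2, 16, 40, 30, 40,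 18], [38, 43, 36, 12, 20, 2], [-139, 485, 373, 189, 961, 85, 44, 136, 3, 33, -38, -13, 313, -219, -171, -16, 3, 25, 32, 65, -20, 56, 8, 33, 2, -4, 2, 0, -21, -8, -14]⟩))))) (.node 7 (.node 3 (.node 1 (.leaf ⟨10, 6, true, [2, 40, 11, 42, 31, 20], [39, 28, 22, 39, 8, 18], [153, -778, -489, -325, -1284, -171, -30, -168, -21, -8, 21, 37, -459, 309, 189, 13, -15, -49, -56, -84, 21, -56, -7, -49, -3, 6, -5, 0, 36, 9, 19]⟩) (.node 1 (.leaf ⟨10, 6, true, [10, 42, 21, 40, 25, 29], [30, 0, 43, 26, 6, 43, 14], [-17, -742, -172, -417, -909, -226, 76, -106, 32, -16, 12, 81, -373, 211, 91, 5, -26, -45, -75, -53, 4, 16, 4, -40, 2, -3, -5, 0, 48, 6, -5]⟩) (.leaf ⟨6, 10, true, [22, 41, 28, 33, 28, 42], [32, 0, 19, 34, 30, 27, 19], [16, 746, 173, 416, 910, 226, -76, 107, -32, 16, -12, -82, 371, -211, -92,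 -5, 26, 45, 75, 53, -4, -16, -4, 40, -2, 3, 5, 0, -48, -6, 5]⟩))) (.node 2 (.node 1 (.leaf ⟨6, 10, true, [4, 35, 20, 32, 14, 10], [26, 2, 42, 20, 36, 31, 12], [-56, 208, 156, -3, 215, 44, 37, 55, 14, -16, -10, 15, 77, -69, -39, 2, 16, 10, 23, 13, -1, 4, -3, 11, 4, 12, -7, 0, -9, -5, -3]⟩) (.leaf ⟨10, 6, true, [6, 28, 11, 36, 28, 30], [11, 25, 22, 27, 34, 4], [56, -239, -168, -15, -255, -55, -36, -59, -12, 15, 9, -12, -94, 77, 43, -2, -17, -12, -26, -15, 1, -4, 3, -13, -4, -12, 7, 0, 11, 5, 3]⟩)) (.node 1 (.leaf ⟨6, 10, true, [0, 11, 34, 29, 10, 30], [18, 38, 27, 37, 35, 28], [-7, 240, 90, 97, 373, 87, 4, 21, 3, 59, -11, 9, 79, -94, -19, -9, 18, 15, 32, 30, -7, -18, -4, 16, -1, 3, -4, 0, -14, -2]⟩) (.leaf ⟨10, 6, true, [14, 42, 25, 20, 0], [4, 14, 19, 24, 34, 6], [1, 89, 26, 65, -15, 10,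 -22, 15, 15, -79, 29, -36, 83, -6, -6, 12, -5, 11, -5, -9, 6, 18, 3, 2, 2, -5, 7, 0, -3, 1, -5]⟩)))) (.node 4 (.node 2 (.node 1 (.leaf ⟨6, 10, true, [30, 36, 30, 37, 26, 22], [31, 0, 42, 41, 24, 28, 14], [15, 279, 172, 89, 471, 75, 33, 54, 44, 53, -32, -6, 124, -109, -120, -4, 14, 11, 35, 36, -9, 24, 0, 21, 3, 8, -5, 0, -15, -7, -3]⟩) (.leaf ⟨10, 6, true, [32, 6, 25, 35, 30, 4], [14, 0, 22, 2, 27, 27, 20], [-21, 444, 72, 279, 320, 141, -74, 26, -10, -87, 70, -54, 233, -109, 61, 10, 14, 45, 25, 10, 7, -24, -2, 19, -1, -12, 11, 0, -23, 5, -7]⟩)) (.node 1 (.leaf ⟨6, 10, true, [32, 37, 31, 40, 22, 42], [31, 27, 30, 36, 31], [46, 142, 14, 105, 233, 79, 16, 5, 13, 49, -34, -9, 60, -28, -27, 5, 19, 9, 31, 15, -3, -3, -5, 9, 0, 2, -7, 0, -6, -3, 2]⟩) (.leaf ⟨6, 10, true, [23, 23, 34, 39, 41,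 10], [41, 21, 43, 19, 43, 34], [-13, 355, 229, 165, 676, 70, 28, 66, 32, 51, -27, -38, 175, -145, -161, -10, 2, 13, 35, 44, -14, 37, 4, 21, -2, 4, 0, 0, -14, -5, -2]⟩))) (.node 2 (.node 1 (.leaf ⟨10, 6, true, [13, 18, 24, 38, 41, 43], [39, 37, 19, 42, 39, 10], [0, 302, 3, 159, 40, 124, -64, 6, 4, -91, 63, -16, 149, -55, 112, 16, 24, 39, 19, -2, 12, -37, -6, 15, 4, -8, 6, 0, -20, 3, -8]⟩) (.leaf ⟨6, 10, true, [35, 39, 8, 39, 32, 8], [10, 2, 25, 19, 2, 30, 0], [-10, 144, 37, -19, -103, 86, 25, 5, 18, -45, 28, 53, 71, 16, 16, 17, 20, 9, 11, -15, 10, -10, 2, 0, 3, 8, -6, 0, 2, 2, -2]⟩)) (.node 1 (.leaf ⟨10, 6, true, [13, 33, 36, 34, 29, 10], [36, 26, 10, 26, 38, 22], [-3, 513, 195, 343, 819, 108, -61, 67, 18, 5, 8, -107, 253, -216, -65, -11, 6, 43, 43, 57, -12, 10, -4, 36, -1, -12, 12, 0,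 -36, -4, -8]⟩) (.leaf ⟨5, 10, true, [24, 41, 27, 37, 11, 25], [26, 2, 20, 38, 30, 21, 13], [58, 483, 147, 260, 601, 143, 11, 85, 19, 52, -38, -40, 202, -130, -168, -1, 15, 16, 52, 36, -6, 28, 5, 28, 5, 9, -5, 0, -22, -8, -4]⟩)))))) (.node 15 (.node 7 (.node 3 (.node 1 (.leaf ⟨10, 5, true, [33, 12, 26, 38, 19, 36], [42, 42, 24, 32, 23, 41], [-64, -154, -31, -98, -243, -46, -29, -49, -1, -72, 56, 13, -40, 30, 143, 4, -2, 10, -25, -15, 5, -28, -6, -10, -4, -11, 8, 0, 5, 7, -1]⟩) (.node 1 (.leaf ⟨6, 10, true, [0, 2, 26, 11, 23, 25], [2, 39, 14, 35, 33, 26], [-20, 233, 223, 65, 539, 45, 42, 46, 30, 20, -35, -27, 97, -115, -141, -12, 9, 9, 29, 33, -11, 39, 6, 15, 3, 3, -1, 0, -11, -5, -3]⟩) (.leaf ⟨10, 6, true, [4, 21, 39, 16, 43, 4], [35, 38, 23, 34, 8], [14, -298, -235, -109, -614, -67, -37,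 -54, -28, -26, 33, 33, -130, 133, 150, 12, -11, -13, -35, -37, 11, -39, -6, -19, -3, -3, 1, 0, 15, 5, 3]⟩))) (.node 2 (.node 1 (.leaf ⟨5, 10, true, [14, 4, 34, 42, 22, 2, 27], [23, 10, 42, 39, 43, 41, 14], [22, 438, 138, 226, 545, 126, 9, 66, 30, 50, -16, -23, 216, -132, -101, -2, 17, 24, 48, 33, -5, 12, 1, 25, 1, 4, -4, 0, -21, -4, -3]⟩) (.leaf ⟨10, 5, true, [2, 31, 26, 26, 6, 31], [19, 30, 38, 43, 31, 29], [-41, 185, 94, 72, 136, 57, -41, 2, 6, -95, 51, -28, 92, -58, 57, 8, 8, 26, 3, 7, 3, -12, -3, 9, 1, -8, 10, 0, -11, 2, -7]⟩)) (.node 1 (.leaf ⟨10, 3, true, [2, 20, 37, 39, 24, 30], [39, 42, 0, 42, 10], [-11, -43, -65, -18, -169, 1, -35, -19, -30, -41, 26, -2, -30, 26, 68, 4, 1, 4, -13, -9, 4, -15, -1, -4, 0, -7, 8, 0, 2, 0, -1]⟩) (.leaf ⟨3, 10, true, [0, 33, 40, 10, 32, 10], [8, 26,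 37, 35, 22, 2], [18, 29, 54, 14, 131, -5, 35, 15, 29, 38, -26, 4, 25, -17, -64, -3, -1, -5, 11, 6, -3, 14, 1, 3, 0, 7, -8, 0, -1, 1, 1]⟩)))) (.node 4 (.node 2 (.node 1 (.leaf ⟨10, 9, true, [40, 20, 32, 11, 16], [18, 0, 23, 34, 42, 20, 13], [95, 397, -27, 300, 282, 150, -81, -13, -8, -16, 86, -52, 154, -105, 88, 5, 21, 44, 29, 11, 8, -44, -7, 21, 5, -9, 8, 0, -26, 1, -4]⟩) (.leaf ⟨9, 10, true, [11, 18, 43, 43, 27], [4, 32, 26, 20, 42, 10], [-96, -428, 19, -318, -318, -160, 85, 9, 8, 14, -88, 54, -168, 111, -85, -5, -21, -46, -31, -13, -8, 44, 7, -23, -5, 9, -8, 0, 28, -1, 4]⟩)) (.node 1 (.leaf ⟨10, 6, true, [31, 43, 26, 33, 25], [14, 0, 8, 20, 37, 41, 29], [36, -1089, -526, -556, -1519, -267, -15, -207, -53, -34, -10, 101, -578, 378, 322, 7, -16, -55, -102, -95, 20, -54, -10, -68, 3, -8,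 -6, 0, 55, 14, 8]⟩) (.leaf ⟨6, 10, true, [8, 18, 31, 43, 30, 25], [14, 23, 31, 42, 8], [-37, 1092, 527, 555, 1520, 267, 15, 208, 53, 34, 10, -102, 578, -378, -323, -7, 16, 55, 102, 95, -20, 54, 10, 68, -3, 8, 6, 0, -55, -14, -8]⟩))) (.node 2 (.node 1 (.leaf ⟨10, 6, true, [24, 41, 43, 40, 38], [2, 28, 43, 39, 22, 8], [13, -54, -115, -45, -306, 22, -64, -45, -26, -54, 39, -11, -64, 48, 110, 8, 8, 6, -17, -17, 9, -24, -3, -5, -1, -4, 7, 0, 0, 3, -3]⟩) (.leaf ⟨7, 10, true, [2, 28, 30, 33, 11], [0, 27, 22, 35, 40, 27], [-40, 61, 153, -30, 249, -1, 49, 19, 29, 31, 11, 16, 32, -60, -58, -7, 1, 1, 9, 19, -6, 15, 0, 7, 1, 2, -1, 0, -4, -1, -4]⟩)) (.node 1 (.leaf ⟨10, 5, true, [4, 37, 20, 27, 32], [2, 32, 36, 10, 21, 23], [-7, -369, -241, -88, -490, -71, -11, -69, -78, 23, -4, 24, -124, 143, 93,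 2, -11, -26, -33, -37, 9, -20, -4, -20, -5, -4, -3, 0, 19, 6, 8]⟩) (.leaf ⟨5, 10, true, [36, 29, 8, 38, 18], [32, 18, 33, 36, 0], [13, 404, 246, 111, 526, 82, 9, 74, 77, -20, 5, -28, 141, -152, -99, -2, 12, 28, 36, 39, -9, 20, 4, 22, 5, 4, 3, 0, -21, -6, -8]⟩))))) (.node 8 (.node 4 (.node 2 (.node 1 (.leaf ⟨6, 10, true, [21, 21, 13, 43, 2], [16, 35, 11, 38, 29], [8, 102, 65, 22, 112, -6, -14, 15, 30, -20, 2, -14, -8, -46, -17, -6, -3, 10, 7, 10, -4, 12, 3, 2, 2, -5, 4, 0, -6, -4, -2]⟩) (.leaf ⟨5, 10, true, [40, 10, 10, 26, 8], [0, 2, 43, 29, 24, 2], [-72, -266, -30, -273, -437, -125, -28, -47, 30, -118, 22, 40, -247, 63, 90, -6, -18, -12, -25, -23, 1, -14, 1, -23, 2, -12, 3, 0, 21, 0, -3]⟩)) (.node 1 (.leaf ⟨10, 5, true, [2, 0, 33, 43, 30, 32, 12], [12, 26, 19, 6, 2], [80, -455, -214,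 -95, -354, -91, 69, -33, -64, 152, -60, 20, -110, 155, -33, 0, -10, -44, -35, -23, 1, 14, 1, -17, -4, 16, -9, 0, 17, 2, 13]⟩) (.leaf ⟨5, 10, true, [38, 10, 22, 26, 0], [36, 18, 38, 31, 11, 42], [59, 641, 262, 351, 841, 158, -7, 91, 45, 36, 0, -75, 303, -211, -137, -3, 20, 44, 53, 54, -10, 38, 5, 35, 3, 1, 8, 0, -40, -9, -6]⟩))) (.node 2 (.node 1 (.leaf ⟨10, 5, true, [41, 0, 42, 42, 14, 22, 30], [4, 27, 23, 11, 39], [-66, -344, -158, -207, -523, -72, -10, -59, -25, -57, 17, 51, -158, 119, 117, 6, -8, -20, -29, -35, 9, -38, -6, -19, -2, -3, -5, 0, 25, 8, 1]⟩) (.leaf ⟨6, 10, true, [0, 36, 8, 28, 38, 6], [41, 0, 10, 42, 37, 40, 16], [-19, -94, 42, -101, -114, -43, 2, -18, -3, -40, 5, 18, -105, 15, 43, -7, 3, -3, -5, -1, -3, 1, -1, -12, 2, -8, 7, 0, 4, -6, -1]⟩)) (.node 1 (.leaf ⟨10, 6, true,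 [0, 41, 39, 25, 25, 23], [8, 38, 25, 38, 11, 21], [13, -365, -182, -149, -394, -98, 26, -34, -11, 48, -27, 21, -123, 121, 0, 4, -20, -31, -34, -28, 4, -1, 2, -14, -3, 10, -10, 0, 21, 7, 6]⟩) (.leaf ⟨6, 10, true, [26, 2, 25, 18, 38, 41, 4], [40, 13, 42, 22, 10, 28], [-73, -348, -23, -229, -90, -19, 51, -47, -54, -2, 10, 56, -156, 67, 152, -2, 29, -18, -13, -2, 0, -42, -18, -10, -1, -1, -14, 0, 12, 1, 2]⟩)))) (.node 4 (.node 2 (.node 1 (.leaf ⟨10, 6, true, [4, 35, 23, 16, 22], [2, 0, 20, 25, 28, 40, 27], [73, -77, -117, 5, -383, -111, -27, -1, 40, 15, -31, -20, -56, 59, -114, -1, -45, -14, -23, -25, 1, 42, 19, -14, 0, 3, 11, 0, 11, 0, 3]⟩) (.leaf ⟨10, 5, true, [2, 29, 13, 22, 6], [2, 0, 29, 33, 39, 31, 11], [-87, -1128, -202, -681, -1114, -279, 90, -158, -111, -61, 63, 102, -557, 334, 174,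 3, -34, -78, -98, -77, 13, -28, -9, -53, -5, 5, -11, 0, 51, 12, 14]⟩)) (.node 1 (.leaf ⟨5, 10, true, [14, 36, 23, 18, 41, 2], [6, 23, 13, 20, 4, 2], [94, 1131, 190, 689, 1108, 279, -92, 158, 113, 65, -65, -104, 557, -334, -175, -3, 34, 78, 98, 77, -13, 28, 9, 53, 5, -5, 11, 0, -51, -12, -14]⟩) (.leaf ⟨10, 6, true, [39, 37, 33, 18, 12], [38, 2, 35, 32, 26, 40, 18], [118, -431, -295, -111, -683, -137, -3, -71, 12, 39, -37, 22, -190, 153, 26, 0, -29, -30, -45, -43, 6, 15, 8, -30, -1, -2, 0, 0, 25, 4, 7]⟩))) (.node 2 (.node 1 (.leaf ⟨6, 10, true, [28, 34, 43, 35, 12, 24], [33, 4, 18, 31, 36, 38], [-117, 433, 295, 111, 683, 137, 3, 71, -12, -39, 37, -22, 188, -153, -27, 0, 29, 30, 45, 43, -6, -15, -8, 30, 1, 2, 0, 0, -25, -4, -7]⟩) (.leaf ⟨6, 10, true, [36, 2, 40, 38, 25, 11, 19], [8, 38,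 40, 42, 11], [81, -354, -250, -105, -535, -66, 12, -52, 31, 12, 3, 21, -161, 120, 144, 14, 2, -13, -22, -36, 9, -22, -5, -27, 6, -1, -11, 0, 18, -2]⟩)) (.node 1 (.leaf ⟨10, 6, true, [11, 36, 29, 36, 21, 26], [28, 26, 6, 2, 31, 37], [-81, 323, 238, 87, 495, 55, -11, 48, -29, -13, -4, -18, 144, -112, -140, -14, -3, 11, 19, 34, -9, 22, 5, 25, -6, 1, 11, 0, -16, 2]⟩) (.leaf ⟨10, 6, true, [0, 16, 28, 2, 25, 10], [20, 6, 26, 41, 36, 21], [-22, 967, 463, 460, 1210, 254, -36, 134, 76, -60, 59, -108, 492, -320, -158, 5, 21, 73, 77, 68, -6, 31, 2, 57, 1, -2, 10, 0, -53, -3, -15]⟩)))))))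
noncomputable def dF3830 : BT Fct := (.node 30 (.node 15 (.node 7 (.node 3 (.node 1 (.leaf ⟨6, 10, true, [16, 43, 2, 41, 39], [12, 30, 11, 2, 23, 23], [21, 319, 40, 206, 395, 69, -54, 63, -40, 40, -32, -38, 133, -93, -70, -14, 2, 15, 24, 28, -6, 1, 1, 21, 4, 4, 3, 0, -19, -8]⟩) (.node 1 (.leaf ⟨10, 6, true, [34, 12, 28, 33, 4], [22, 25, 38, 16, 43, 14], [0, -940, -272, -504, -1076, -252, 86, -131, 4, 5, -3, 89, -441, 283, 112, 8, -27, -65, -75, -68, 8, -1, 1, -55, -6, 0, -9, 0, 51, 10, 10]⟩) (.leaf ⟨10, 9, true, [10, 10, 39, 43, 39, 12], [6, 0, 25, 21, 2, 31, 14], [50, 934, 151, 575, 861, 283, -64, 122, 19, 21, 76, -89, 454, -225, -134, 11, 14, 54, 64, 45, 4, 6, 5, 50, -2, 2, 1, 0, -46, 4, -5]⟩))) (.node 2 (.node 1 (.leaf ⟨9, 10, true, [23, 6, 41, 25, 42, 8], [27, 40, 39, 30, 6, 24],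 [-27, -838, -152, -506, -797, -270, 40, -111, -21, -12, -98, 98, -414, 211, 124, -14, -15, -45, -58, -37, -6, -3, -4, -45, 2, 0, 0, 0, 40, -9, 5]⟩) (.leaf ⟨6, 10, true, [16, 4, 35, 21, 2, 32, 10], [36, 39, 39, 33, 0], [-73, 833, 518, 375, 1331, 212, 45, 115, -8, 41, 69, 18, 376, -338, -238, -26, 14, 42, 68, 91, -19, 26, 3, 62, -7, -6, 7, 0, -43, 8, -8]⟩)) (.node 1 (.leaf ⟨10, 6, true, [12, 34, 24, 19, 31], [33, 2, 38, 27, 31, 41, 29], [74, -832, -518, -375, -1331, -212, -45, -115, 8, -41, -69, -18, -376, 338, 237, 26, -14, -42, -68, -91, 19, -26, -3, -62, 7, 6, -7, 0, 43, -8, 8]⟩) (.leaf ⟨1, 1, false, [], [], [-2]⟩)))) (.node 4 (.node 2 (.node 1 (.leaf ⟨1, 1, false, [], [], [0, 0, 0, 0, 2, 0, 0, 0, -2, 2]⟩) (.leaf ⟨1, 1, false, [], [], [0, -4, -2]⟩)) (.node 1 (.leaf ⟨1, 1, false, [],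 [], [2, 0, 0, 2]⟩) (.leaf ⟨1, 1, false, [], [], [0, 2, 0, 2, 0, 0, 0, 0, 0, 0, 0, 0, 2]⟩))) (.node 2 (.node 1 (.leaf ⟨1, 1, false, [], [], [1, 3, 0, 2, -3]⟩) (.leaf ⟨1, 1, false, [], [], [0, 3, 0, 0, -3]⟩)) (.node 1 (.leaf ⟨1, 1, false, [], [], [0, 0, 0, 0, 1, 0, 0, 0, -1, 1]⟩) (.leaf ⟨1, 1, false, [], [], [-1, 0, 1, 0, 3, 0, 0, 0, 0, 0, 0, 0, 1]⟩))))) (.node 7 (.node 3 (.node 1 (.leaf ⟨1, 1, false, [], [], [-1, 3, 0, 2, 0, 0, 0, 0, 0, 0, 0, 0, 3]⟩) (.node 1 (.leaf ⟨2, 2, false, [], [], [0, -2, 0, 0, -2, -2, 0, 0, 2, -2]⟩) (.leaf ⟨2, 2, false, [], [], [-4, 0, 2, 0, 4, 0, 0, -2, 0, 0, 0, 2, 2, -2]⟩))) (.node 2 (.node 1 (.leaf ⟨2, 2, false, [], [], [0, -4, 0, -4, 0, 0, 0, 0, 0, 0, 0, 0, -2, -2]⟩) (.leaf ⟨2, 2, false, [], [], [0, 0, 3, 3, 3, 9, 0, 0, 0, -3, 6, -3, 3, 6, 0, 3]⟩)) (.node 1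 (.leaf ⟨2, 2, false, [], [], [-1, -3, -1, 0, -5, 0, 0, -2, 0, 0, 0, 2, -1, 1]⟩) (.leaf ⟨2, 2, false, [], [], [12, -1, -20, 6, -47, 9, -3, -6, 0, -10, 14, -1, -1, 9, 9, 4, 0, 0, 0, -6, 3, -3]⟩)))) (.node 4 (.node 2 (.node 1 (.leaf ⟨2, 2, false, [], [], [0, 2, -2, 0, -2, -6, 0, 0, 0, 2, -4, 2, -1, -3, 0, -2]⟩) (.leaf ⟨2, 2, false, [], [], [-2, 0, 1, 0, 2, 0, 0, -1, 0, 0, 0, 1, 1, -1]⟩)) (.node 1 (.leaf ⟨2, 2, false, [], [], [-1, -4, -2, -3, -5, -2, 0, -2, -1, 2, -2, 3, -3, -2, 0, -1]⟩) (.leaf ⟨3, 3, false, [], [], [2, -2, 2, 0, 6, -2, 0, 0, 0, 0, 0, -2, 2]⟩))) (.node 2 (.node 1 (.leaf ⟨3, 3, false, [], [], [0, 0, 0, 0, 0, -2]⟩) (.leaf ⟨3, 3, false, [], [], [0, 6, -2, 0, -2, -2, 0, 0, -4, 4, -2, 0, 0, 2]⟩)) (.node 1 (.leaf ⟨3, 3, false, [], [], [-1, 2, 0, 0, -5, 0, 0, 0, 2, -2, 0, 1, -1]⟩)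 (.leaf ⟨3, 3, false, [], [], [-1, 2, -2, -2, -1, 0, 0, 0, -2, 2, -1, 0, 0, 1]⟩)))))) (.node 15 (.node 7 (.node 3 (.node 1 (.leaf ⟨3, 3, false, [], [], [12, -45, -39, -18, -123, -6, 0, -12, -3, -9, 0, 9, -18, 27, 15, 3, 0, -3, -6, -9, 3, -3, 0, -3, 0, 0, 0, 0, 3, 3]⟩) (.node 1 (.leaf ⟨3, 3, false, [], [], [2, 41, 12, 25, 55, 14, -6, 6, 2, -2, 4, -6, 21, -13, -6, 0, 0, 3, 3, 3, 0, 0, 0, 3, 0, 0, 0, 0, -3]⟩) (.leaf ⟨4, 4, false, [], [], [-3, -1, 4, -4, 1, 0, 2, 0, 0, 0, 0, 2, -2]⟩))) (.node 2 (.node 1 (.leaf ⟨4, 4, false, [], [], [3, 1, -6, 4, -5, 0, 0, 0, 0, 2, -2]⟩) (.leaf ⟨4, 4, false, [], [], [-9, 66, 30, 48, 108, 12, -3, 15, -3, -3, 12, -12, 48, -27, -15, 0, -3, 6, 3, 3, 0, 3, 3, 3, 0, 0, 0, 0, -3]⟩)) (.node 1 (.leaf ⟨4, 4, false, [], [], [33, -63, -60, -15, -114, -12, 0, -12, -6, 24,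 -21, 6, -54, 30, 9, 0, 3, -6, -3, -3, 0, -3, -3, -3, 0, 0, 0, 0, 3, 0, 3]⟩) (.leaf ⟨4, 4, false, [], [], [17, -18, -27, 10, -36, -4, 0, -3, -5, 16, -11, 1, -17, 11, 1, 0, 1, -2, -1, -1, 0, -1, -1, -1, 0, 0, 0, 0, 1, 0, 2]⟩)))) (.node 4 (.node 2 (.node 1 (.leaf ⟨5, 5, false, [], [], [-11, -98, -19, -65, -116, -33, 6, -11, 3, -9, -3, 8, -51, 27, 15, 0, -3, -6, -9, -6, 0, 0, 0, -6, 0, 0, 0, 0, 6]⟩) (.leaf ⟨7, 7, false, [], [], [38, -120, -120, -56, -296, -30, -32, -18, 10, -14, -16, -20, -90, 68, 40, 6, 0, -8, -10, -18, 4, -10, 0, -12, 0, 2, 2, 0, 8, -2, 4]⟩)) (.node 1 (.leaf ⟨7, 7, false, [], [], [-19, 60, 60, 28, 148, 15, 16, 9, -5, 7, 8, 10, 45, -34, -20, -3, 0, 4, 5, 9, -2, 5, 0, 6, 0, -1, -1, 0, -4, 1, -2]⟩) (.leaf ⟨8, 8, false, [], [], [42, 18, -486, 291, -81, 27, -30, 66, -90, 69,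 -159, -9, 63, 24, 39, -15, 3, -24, -15, 12, -9, -99, 3, 9, 3, 15, -9, 0, 21, 3, 6]⟩))) (.node 2 (.node 1 (.leaf ⟨8, 8, false, [], [], [-75, 243, 1035, -411, 459, 27, 24, -87, 171, -147, 336, -9, -9, -120, -114, 30, -6, 66, 48, -6, 18, 198, -6, 0, -6, -30, 18, 0, -60, -6, -12]⟩) (.leaf ⟨9, 9, false, [], [], [-63, -237, 15, -180, -138, -24, 66, -27, 6, -24, 69, -30, -99, 33, 21, 9, 3, -24, -15, -21, 6, -9, -3, -12, 0, -6, -3, 0, 15, 15]⟩)) (.node 1 (.leaf ⟨9, 9, false, [], [], [-66, -285, 3, -207, -192, -39, 72, -33, 6, -27, 66, -27, -120, 42, 27, 9, 3, -27, -18, -24, 6, -9, -3, -15, 0, -6, -3, 0, 18, 15]⟩) (.leaf ⟨10, 10, false, [], [], [-30, 460, 184, 200, 486, 128, -24, 48, 44, -54, 30, -36, 224, -148, -18, 6, 20, 40, 36, 30, -2, 0, -2, 24, 2, -4, 6, 0, -22, -2, -10]⟩))))) (.node 8 (.node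 4 (.node 2 (.node 1 (.leaf ⟨10, 10, false, [], [], [-42, 786, 312, 354, 849, 225, -39, 84, 60, -78, 48, -63, 387, -246, -42, 9, 33, 66, 63, 51, -3, 0, -3, 42, 3, -6, 9, 0, -39, -3, -15]⟩) (.leaf ⟨2, 2, false, [], [], [-13, -18, 27, -23, 39, -10, 6, 3, 3, 8, -17, 3, -6, -11, -21, -3, 0, -2, 2, 4, -3, 7, 0, 0, 0, 0, 1, 0, 2, -2]⟩)) (.node 1 (.leaf ⟨7, 7, false, [], [], [93, 3, -176, 48, -176, -8, -55, 18, 5, 26, -122, -32, -76, 36, -9, -6, 20, -9, 16, 5, -7, -9, -2, -4, -7, -7, 10, 0, 7, -7, 10, 0, 1]⟩) (.leaf ⟨3, 3, false, [], [], [8, 2, -3, 6, -4, -1, -1, -2, 0, -7, -2, 3, 0, 1, 1, 0, 0, -1, 0, 0, 0, -3, 0, 0, 0, 1, 0, 0, 0, 0, 0, 0, 1]⟩))) (.node 2 (.node 1 (.leaf ⟨6, 6, false, [], [], [32, 195, -68, 119, -108, 43, -61, 15, 5, -30, -5, -2, 80, 28, 8, 12, -6, 16, 4, -16, 10, -2, 2, 7,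 2, 6, 0, 0, -10, 4, -4]⟩) (.leaf ⟨4, 4, false, [], [], [-1, 11, 8, 9, 7, -3, 4, -1, -5, 2, 2, -5, 2, -2, -4, 0, 0, 0, 1, 1, 0, -1, 0, 0, 1]⟩)) (.node 1 (.leaf ⟨5, 5, false, [], [], [-47, 236, 195, 84, 463, 38, -1, 51, 9, -12, 11, -34, 123, -107, -65, -6, -6, 15, 14, 27, -7, 13, 3, 16, -1, 0, 1, 0, -14, -2, -1]⟩) (.leaf ⟨10, 10, false, [], [], [21, -586, -272, -205, -658, -131, 38, -76, -92, 82, -33, 49, -228, 207, 42, -2, -17, -50, -42, -42, 6, -12, -3, -28, -5, 6, -8, 0, 31, 6, 12]⟩)))) (.node 4 (.node 2 (.node 1 (.leaf ⟨10, 10, false, [], [], [40, 280, -18, 233, 249, 140, 6, 29, -38, 60, -46, 31, 217, -92, 4, -3, 27, 19, 33, 24, -3, -20, -6, 24, 0, 5, -2, 0, -18, -9, -2]⟩) (.leaf ⟨8, 8, false, [], [], [1, -2, 0, 2, 0, 0, -1, 3, 2, 0, 1, 1, 4, 0, -2, 0, 0, 0, 0, 0, 0, 0, 0, 0, 0, 0,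 0, 0, 0, 0, 0, 1]⟩)) (.node 1 (.leaf ⟨8, 8, false, [], [], [38, -245, -541, 120, -363, -51, 3, 13, -75, 70, -166, 13, -63, 87, 83, -17, 5, -40, -32, -5, -9, -102, 2, -9, 3, 15, -9, 0, 39, 3, 6]⟩) (.leaf ⟨0, 0, false, [42, 12, 38, 25, 25], [], []⟩))) (.node 2 (.node 1 (.leaf ⟨0, 0, false, [], [], [4, 2, -4, 7, 1, 2, -2, -2, -1, -3, 2, 0, 2, -3, 1, 0, 0, 0, 1, 0, 0, -2]⟩) (.leaf ⟨10, 10, false, [], [], [-106, 1601, 659, 639, 1457, 508, -88, 94, 118, -266, 188, -76, 681, -446, 40, 33, 73, 144, 125, 78, 10, -50, -16, 85, 6, -21, 16, 0, -82, 12, -29]⟩)) (.node 1 (.leaf ⟨10, 10, false, [], [], [-55, -714, -115, -406, -575, -213, 54, -60, -70, 26, -58, 91, -320, 212, -1, -12, -29, -66, -57, -39, -2, 11, 3, -34, -4, 11, -9, 0, 37, 1, 11]⟩) (.leaf ⟨5, 5, false, [], [], [4, 2, -6, 4, -9, 0, -2,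 1, 6, -3, 0, -1, -1, -2, -2, 0, 0, 0, 0, 0, 0, 0, 0, 0, 0, 0, 0, 1]⟩)))))))
noncomputable def dd : Dce := ⟨15, x_ts, [36, 21, 0], [], [5, 1], [0, 0, 0, 0, 0, 0, 0, 0, 0, 0, 0, 0, 0, 0, -1], [[1], [5], [9], [14], [12], [16], [18], [20], [22], [24], [26], [28], [30], [32]], [[1], [5], [9], [8, 14], [13], [16], [20], [5, 1, 18, 0, 4], [24], [5, 1, 22, 0, 4], [28], [5, 1, 26, 0, 4], [32], [5, 1, 30, 0, 4]], [[1], [0, 1], [0, 0, 1], [0, 0, 0, 1], [0, 0, 0, 0, 1], [0, 0, 0, 0, 0, 1], [0, 0, 0, 0, 0, 0, 1], [0, 0, 0, 0, 0, 0, 0, 1], [0, 0, 0, 0, 0, 0, 0, 0, 1], [0, 0, 0, 0, 0, 0, 0, 0, 0, 1], [0, 0, 0, 0, 0, 0, 0, 0, 0, 0, 1], [0, 0, 0, 0, 0, 0, 0, 0, 0, 0, 0, 1], [0, 0, 0, 0, 0, 0, 0, 0, 0, 0, 0, 0, 1], [0, 0, 0, 0, 0, 0, 0, 0, 0, 0, 0, 0, 0, 1]], [[[5, 1, 6], [6, 8], [5, 1, 6], [6, 8]], [[5,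 1, 6, 3, 5, 1, 2, 7], [6, 3, 0, 4, 2, 5, 9, 7], [5, 1, 6, 3, 5, 1, 2, 9], [5, 1, 7]], [[5, 1, 11], [5, 1, 11], [5, 1, 0, 4, 11]], [[10, 10, 6, 11, 11], [10, 10, 6, 11, 11], [10, 10, 6, 11, 11], [9, 7, 5, 6, 8, 10, 10, 10, 9, 7, 5, 6, 8, 11, 7, 5, 6, 5, 1, 6, 11, 11]], [[10], [10, 4, 0], [10]], [[11], [11], [11]], [[10, 6], [8, 11, 6, 8, 11, 13, 4, 6, 8, 11, 4, 6, 8, 11, 11, 4, 6, 8, 0], [10, 6, 8, 11]], [[6], [10, 12, 8, 6, 4, 6, 8, 11, 8, 6, 4, 6, 8, 11, 6, 8], [6, 4, 0], [13, 11, 8, 4, 6, 4, 6, 8, 10, 6, 8, 6, 4, 6]], [[6], [8, 10, 6, 8, 10, 4, 6, 8, 10, 4, 6, 8, 11, 6, 4, 6, 0], [6, 4, 0], [11, 4, 6, 8, 11, 4, 6, 8, 10, 12, 4, 6, 8, 10, 4, 6, 8, 6, 0]], [[11, 6], [10, 8, 10, 6, 8, 10, 4, 6, 8, 10, 4, 6, 8, 10, 13, 6, 4, 6, 8], [6, 4, 0], [6, 8, 11, 4, 6, 8, 10, 12, 4, 6, 8, 4]], [[11,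 6], [8, 11, 6, 8, 11, 8, 4, 6, 4, 6, 8, 11, 6, 8, 10, 4, 6, 8, 4, 6, 4], [6, 4, 0], [11, 4, 6, 8, 11, 6, 4, 6, 8, 11, 4, 6, 4, 6, 8, 10, 13, 6]], [[2], [8, 2], [2, 4, 0], [8, 4, 0, 2]], [[2], [], [2, 4, 0], [8, 2, 4, 0, 2]], [[6], [8, 2, 4, 6, 4, 6, 2, 4, 6, 4], [2, 4, 0], [8, 6, 0, 2, 4, 6, 2, 4, 0, 2]], [[6], [6, 4, 6, 8, 2, 4, 6, 4, 6, 2, 4, 6, 4, 2], [2, 4, 0], [8, 4, 6, 2, 4, 6, 8, 2, 4, 6, 0, 2, 4, 6, 8, 0]], [[6, 2], [0, 2, 4, 6, 2, 4, 6, 8, 2, 4, 6, 4, 0, 2], [6, 2, 4, 0], [2, 4, 6, 8, 2, 4, 6, 2, 4, 6, 2]], [[6, 2], [4, 0], [6, 2, 4, 0], []], [[5, 1, 10], [11], [5, 1, 10], [11], [5, 1, 10], [11], [5, 1, 10], [0, 4, 11]], [[], [5, 1]]], [[0, 0, 0, 0, 0, 0, 0, 0, 0, 0, 0, 0, 0, 0, 2, 1], [0, 0, 0, 0, 0, 0, 0, 0, 0, 0, 0, 0, 0, 0, 3, 0, 1], [0, 0, 0, 0, 0, 0, 0, 0, 0, 0, 0, 0, 0,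 0, 3, 0, 0, 1], [0, 0, 0, 0, 0, 0, 0, 0, 0, 0, 0, 0, 0, 0, 0, 0, 0, 0, 1], [0, 0, 0, 0, 0, 0, 0, 0, 0, 0, 0, 0, 0, 0, 0, 0, 0, 0, 0, 1], [0, 0, 0, 0, 0, 0, 0, 0, 0, 0, 0, 0, 0, 0, 0, 0, 0, 0, 0, 0, 1], [0, 0, 0, 0, 0, 0, 0, 0, 0, 0, 0, 0, 0, 0, 0, 0, 0, 0, 0, 0, 0, 1], [0, 0, 0, 0, 0, 0, 0, 0, 0, 0, 0, 0, 0, 0, 0, 0, 0, 0, 0, 0, 0, 0, 1], [0, 0, 0, 0, 0, 0, 0, 0, 0, 0, 0, 0, 0, 0, 0, 0, 0, 0, 0, 0, 0, 0, 0, 1], [0, 0, 0, 0, 0, 0, 0, 0, 0, 0, 0, 0, 0, 0, 0, 0, 0, 0, 0, 0, 0, 0, 0, 0, 1], [0, 0, 0, 0, 0, 0, 0, 0, 0, 0, 0, 0, 0, 0, 0, 0, 0, 0, 0, 0, 0, 0, 0, 0, 0, 1], [0, 0, 0, 0, 0, 0, 0, 0, 0, 0, 0, 0, 0, 0, 0, 0, 0, 0, 0, 0, 0, 0, 0, 0, 0, 0, 1], [0, 0, 0, 0, 0, 0, 0, 0, 0, 0, 0, 0, 0, 0, 0, 0, 0, 0, 0, 0, 0, 0, 0, 0, 0, 0, 0, 1], [0, 0, 0, 0, 0, 0, 0, 0, 0, 0, 0, 0, 0, 0, 0, 0, 0, 0,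 0, 0, 0, 0, 0, 0, 0, 0, 0, 0, 1], [0, 0, 0, 0, 0, 0, 0, 0, 0, 0, 0, 0, 0, 0, 0, 0, 0, 0, 0, 0, 0, 0, 0, 0, 0, 0, 0, 0, 0, 1], [0, 0, 0, 0, 0, 0, 0, 0, 0, 0, 0, 0, 0, 0, 0, 0, 0, 0, 0, 0, 0, 0, 0, 0, 0, 0, 0, 0, 0, 0, 1], [0, 0, 0, 0, 0, 0, 0, 0, 0, 0, 0, 0, 0, 0, 0, 0, 0, 0, 0, 0, 0, 0, 0, 0, 0, 0, 0, 0, 0, 0, 0, 1], [0, 0, 0, 0, 0, 0, 0, 0, 0, 0, 0, 0, 0, 0, 4, 0, 0, 0, 0, 0, 0, 0, 0, 0, 0, 0, 0, 0, 0, 0, 0, 0, 1], [0, 0, 0, 0, 0, 0, 0, 0, 0, 0, 0, 0, 0, 0, 1]], (.node 1945 (.node 972 (.node 486 (.node 243 (.node 121 (.node 60 dF0 dF60) (.node 61 dF121 dF182)) (.node 121 (.node 60 dF243 dF303) (.node 61 dF364 dF425))) (.node 243 (.node 121 (.node 60 dF486 dF546) (.node 61 dF607 dF668)) (.node 121 (.node 60 dF729 dF789) (.node 61 dF850 dF911)))) (.node 486 (.node 243 (.node 121 (.node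 60 dF972 dF1032) (.node 61 dF1093 dF1154)) (.node 121 (.node 60 dF1215 dF1275) (.node 61 dF1336 dF1397))) (.node 243 (.node 121 (.node 60 dF1458 dF1518) (.node 61 dF1579 dF1640)) (.node 122 (.node 61 dF1701 dF1762) (.node 61 dF1823 dF1884))))) (.node 973 (.node 486 (.node 243 (.node 121 (.node 60 dF1945 dF2005) (.node 61 dF2066 dF2127)) (.node 121 (.node 60 dF2188 dF2248) (.node 61 dF2309 dF2370))) (.node 243 (.node 121 (.node 60 dF2431 dF2491) (.node 61 dF2552 dF2613)) (.node 122 (.node 61 dF2674 dF2735) (.node 61 dF2796 dF2857)))) (.node 486 (.node 243 (.node 121 (.node 60 dF2918 dF2978) (.node 61 dF3039 dF3100)) (.node 121 (.node 60 dF3161 dF3221) (.node 61 dF3282 dF3343))) (.node 243 (.node 121 (.node 60 dF3404 dF3464) (.node 61 dF3525 dF3586)) (.node 122 (.node 61 dF3647 dF3708)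 (.node 61 dF3769 dF3830)))))), [0, 7, 17, 31, 60, 69, 100, 2647, 2918, 2931, 3372], []⟩

end Cfsg.Agent.ThK
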