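import Cfsg.Agent.ThK.Dce
import Cfsg.Agent.ThK.Cen
import Cfsg.Agent.ThK1.Cen
import Cfsg.Agent.ThCc.Cert
import Cfsg.Agent.ThD.Cert
import Cfsg.Prelude.Def_Spor_Th
import Cfsg.Agent.ThK1.Mul2
import Cfsg.Agent.ThK1.Mul3
import Cfsg.Agent.ThK1.Mul7

set_option autoImplicit false
set_option Elab.async false
set_option maxRecDepth 100000
set_option linter.all false

namespace Cfsg.Agent.ThK
open Cfsg.Agent.CGT

open Cfsg.Agent.Mult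

noncomputable def gens : List Cfsg.Spor.Th.Gen := [.a, .b, .c, .d, .e, .s, .t, .u]
theorem gens_all : ∀ x, x ∈ gens := by intro x; cases x <;> decide
theorem gens_nodup : gens.Nodup := by decide
/-- the generators -/
noncomputable abbrev δ : ℕ → Cfsg.Spor.Th := pγ gens Cfsg.Spor.Th.edges Cfsg.Spor.Th.extra
noncomputable def DR : List (List ℕ) := [[0, 0], [2, 2], [4, 4], [6, 6], [8, 8], [0, 2, 0, 2, 0, 2], [0, 8, 0, 8], [2, 4, 2, 4, 2, 4], [2, 6, 2, 6], [2, 8, 2, 8], [0, 7, 5, 7, 5, 7, 5, 7, 5], [4, 8, 4, 8], [6, 8, 6, 8, 6, 8], [2, 4, 6, 8, 2, 4, 6, 8, 2, 4, 6, 8, 2, 4, 6, 8, 2, 4, 6, 8, 2, 4, 6, 8, 2, 4, 6, 8, 2, 4, 6, 8], [10, 10, 10, 10, 10, 10, 10], [11, 1, 10, 0], [11, 3, 10, 2], [11, 5, 10, 4], [10, 6, 10, 6], [9, 11, 8, 11, 11, 9, 10, 10, 10], [12, 12, 12], [13, 1, 12, 0], [13, 3, 12, 2], [13, 5, 12, 4], [13, 7, 12, 6], [13, 9,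 12, 8], [13, 10, 12, 11, 11], [14, 14, 5, 1], [15, 1, 14, 0], [15, 5, 14, 4], [15, 9, 14, 8], [6, 8, 15, 6, 14, 6, 8, 15, 6, 14], [15, 3, 5, 1, 2, 14, 3, 0, 4, 2, 9], [7, 15, 6, 3, 5, 1, 2, 7, 14, 6, 3, 0, 4, 2, 5, 9, 7, 15, 6, 3, 5, 1, 2, 9, 15], [15, 12, 14, 12], [9, 11, 11, 15, 10, 10, 8, 11, 11, 14, 10, 10], [0, 4, 11, 15, 11, 15, 11, 15], [0, 4, 11, 15, 10, 14, 11, 15, 10, 14, 11, 15, 10, 14, 11, 15, 10, 14], [6, 11, 11, 14, 10, 10, 6, 11, 11, 14, 10, 10, 6, 11, 11, 14, 10, 10, 6, 11, 11, 14, 9, 7, 5, 6, 8, 10, 10, 10, 9, 7, 5, 6, 8, 11, 7, 5, 6, 5, 1]]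
theorem DR_eq : defR gens Cfsg.Spor.Th.edges Cfsg.Spor.Th.extra = DR := by decide +kernel
noncomputable def ZR : List (List ℕ) := [[1, 3, 0, 2], [1, 7, 0, 6], [1, 11, 0, 10], [1, 16, 0, 17, 11], [1, 14, 0, 14], [1, 18, 0, 19], [1, 20, 0, 23], [1, 22, 0, 7, 3, 21, 2, 6], [1, 24, 0, 27], [1, 26, 0, 7, 3, 25, 2, 6], [1, 28, 0, 31], [1, 30, 0, 7, 3, 29, 2, 6], [1, 32, 0, 35], [1, 34, 0, 7, 3, 33, 2, 6], [0, 0, 7, 3], [8, 10, 1, 8, 0, 8, 10, 1, 8, 0], [9, 1, 8, 5, 7, 3, 4, 9, 0, 8, 5, 2, 6, 4, 7, 11, 9, 1, 8, 5, 7, 3, 4, 11, 1], [2, 6, 13, 1, 13, 1, 13, 1], [8, 13, 13, 0, 12, 12, 8, 13, 13, 0, 12, 12, 8, 13, 13, 0, 12, 12, 8, 13, 13, 0, 11, 9, 7, 8, 10, 12, 12, 12, 11, 9, 7, 8, 10, 13, 9, 7, 8, 7, 3], [0, 12, 0, 12, 6, 2, 0, 12], [0, 13, 0, 13, 0, 13], [0, 12, 8, 0, 10, 13, 8, 10, 13, 15, 6, 8, 10, 13, 6, 8, 10, 13, 13, 6, 8, 10, 2, 0, 12,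 8, 10, 13], [0, 8, 0, 12, 14, 10, 8, 6, 8, 10, 13, 10, 8, 6, 8, 10, 13, 8, 10, 0, 8, 6, 2, 0, 15, 13, 10, 6, 8, 6, 8, 10, 12, 8, 10, 8, 6, 8], [0, 8, 0, 10, 12, 8, 10, 12, 6, 8, 10, 12, 6, 8, 10, 13, 8, 6, 8, 2, 0, 8, 6, 2, 0, 13, 6, 8, 10, 13, 6, 8, 10, 12, 14, 6, 8, 10, 12, 6, 8, 10, 8, 2], [0, 13, 8, 0, 12, 10, 12, 8, 10, 12, 6, 8, 10, 12, 6, 8, 10, 12, 15, 8, 6, 8, 10, 0, 8, 6, 2, 0, 8, 10, 13, 6, 8, 10, 12, 14, 6, 8, 10, 6], [0, 13, 8, 0, 10, 13, 8, 10, 13, 10, 6, 8, 6, 8, 10, 13, 8, 10, 12, 6, 8, 10, 6, 8, 6, 0, 8, 6, 2, 0, 13, 6, 8, 10, 13, 8, 6, 8, 10, 13, 6, 8, 6, 8, 10, 12, 15, 8], [0, 4, 0, 10, 4, 0, 4, 6, 2, 0, 10, 6, 2, 4], [0, 4, 0, 0, 4, 6, 2, 0, 10, 4, 6, 2, 4], [0, 8, 0, 10, 4, 6, 8, 6, 8, 4, 6, 8, 6, 0, 4, 6, 2, 0, 10, 8, 2, 4, 6, 8, 4, 6, 2, 4], [0, 8, 0, 8, 6, 8, 10, 4, 6, 8, 6, 8, 4, 6, 8, 6, 4, 0, 4, 6, 2, 0, 10,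 6, 8, 4, 6, 8, 10, 4, 6, 8, 2, 4, 6, 8, 10, 2], [0, 8, 4, 0, 2, 4, 6, 8, 4, 6, 8, 10, 4, 6, 8, 6, 2, 4, 0, 8, 4, 6, 2, 0, 4, 6, 8, 10, 4, 6, 8, 4, 6, 8, 4], [0, 8, 4, 0, 6, 2, 0, 8, 4, 6, 2, 0], [2, 6, 13, 1, 12, 0, 13, 1, 12, 0, 13, 1, 12, 0, 13, 1, 12, 0]]
noncomputable def RC : List (List ℕ) := [[13, 9, 10, 6, 8, 4, 6, 2, 4, 2, 4, 6, 9, 4, 6, 12, 5, 8, 8, 7, 5, 3, 5, 3, 7, 5, 9, 7, 10, 9], [13, 8, 11, 6, 8, 4, 6, 2, 4, 2, 4, 6, 9, 9, 4, 12, 3, 1, 7, 5, 8, 7, 5, 3, 5, 3, 7, 5, 9, 7, 11, 8, 0, 2], [13, 4, 2, 4, 6, 9, 6, 9, 11, 4, 2, 4, 6, 8, 2, 12, 8, 7, 5, 3, 5, 8, 7, 5, 3, 5, 11, 9, 7], [13, 6, 8, 10, 4, 2, 4, 6, 9, 4, 2, 4, 6, 9, 12, 3, 1, 3, 9, 7, 5, 3, 5, 10, 8, 7, 8, 7, 5, 3, 5, 0, 2], [13, 9, 6, 4, 2, 4, 6, 9, 4, 2, 4, 6, 8, 8, 4, 2, 4, 6, 12, 3, 7, 8, 7, 5, 3, 5, 8, 7, 9, 9], [13, 8, 8, 6, 9, 4, 2, 4, 6, 9, 6, 2, 12, 3, 1, 7,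 5, 3, 5, 9, 9, 7, 5, 3, 5, 8, 7, 5, 3, 5, 7, 8, 0, 2], [12, 8, 12, 8, 2, 0, 12, 8], [12, 9, 12, 9, 12, 9], [12, 8, 4, 12, 6, 9, 4, 6, 9, 11, 2, 4, 6, 9, 2, 4, 6, 9, 9, 2, 4, 6, 0, 12, 8, 4, 6, 9], [12, 4, 12, 8, 10, 6, 4, 2, 4, 6, 9, 6, 4, 2, 4, 6, 9, 4, 6, 12, 4, 2, 0, 12, 11, 9, 6, 2, 4, 2, 4, 6, 8, 4, 6, 4, 2, 4], [12, 4, 12, 6, 8, 4, 6, 8, 2, 4, 6, 8, 2, 4, 6, 9, 4, 2, 4, 0, 12, 4, 2, 0, 12, 9, 2, 4, 6, 9, 2, 4, 6, 8, 10, 2, 4, 6, 8, 2, 4, 6, 4, 0], [12, 9, 4, 12, 8, 6, 8, 4, 6, 8, 2, 4, 6, 8, 2, 4, 6, 8, 11, 4, 2, 4, 6, 12, 4, 2, 0, 12, 4, 6, 9, 2, 4, 6, 8, 10, 2, 4, 6, 2], [12, 9, 4, 12, 6, 9, 4, 6, 9, 6, 2, 4, 2, 4, 6, 9, 4, 6, 8, 2, 4, 6, 2, 4, 2, 12, 4, 2, 0, 12, 9, 2, 4, 6, 9, 4, 2, 4, 6, 9, 2, 4, 2, 4, 6, 8, 11, 4]]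
noncomputable def RD : List (List ℕ) := [[11, 6, 4, 6, 8, 0, 2, 4, 0, 2, 10, 5, 7, 5, 7, 9, 7, 5, 3, 1, 7, 5, 3, 7, 5, 7], [11, 6, 4, 6, 2, 4, 6, 0, 2, 4, 6, 8, 6, 4, 6, 4, 10, 5, 1, 3, 1, 5, 3, 1, 9, 7, 5, 7, 0, 4], [10, 2, 10, 8, 2, 10, 2, 4, 0, 10, 8, 4, 0, 2], [10, 2, 10, 10, 2, 4, 0, 10, 8, 2, 4, 0, 2], [10, 6, 10, 8, 2, 4, 6, 4, 6, 2, 4, 6, 4, 10, 2, 4, 0, 10, 8, 6, 0, 2, 4, 6, 2, 4, 0, 2], [10, 6, 10, 6, 4, 6, 8, 2, 4, 6, 4, 6, 2, 4, 6, 4, 2, 10, 2, 4, 0, 10, 8, 4, 6, 2, 4, 6, 8, 2, 4, 6, 0, 2, 4, 6, 8, 0], [10, 6, 2, 10, 0, 2, 4, 6, 2, 4, 6, 8, 2, 4, 6, 4, 0, 2, 10, 6, 2, 4, 0, 10, 2, 4, 6, 8, 2, 4, 6, 2, 4, 6, 2], [10, 6, 2, 10, 4, 0, 10, 6, 2, 4, 0, 10]]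
noncomputable def WC : List (List ℕ) := [[0], [4], [6], [8], [10], [12], [14]]
noncomputable def WD : List (List ℕ) := [[0], [2], [4], [6], [8], [14]]
noncomputable def θW : List (List ℕ) := [[0], [2], [4], [6], [8], [10, 10]]
theorem hD : Holds (ext δ) DR := DR_eq ▸ pres_holds gens_all _ _
theorem δ_one {j : ℕ} (hj : 8 ≤ j) : δ j = 1 := by
  rw [δ, pγ, List.getElem?_eq_none (show gens.length ≤ j from hj)]
theorem hH : dd.hypB ZR 14 [0, 1, 2, 3, 4, 5, 6, 7, 8, 9, 10, 11, 12, 13] [(15, 2), (16, 1), (17, 3), (18, 3), (19, 0), (20, 0), (21, 0), (22, 0), (23, 0), (24, 0), (25, 0), (26, 0), (27, 0), (28, 0), (29, 0), (30, 0), (31, 0), (32, 3), (14, 0)] = true := by decide +kernel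
theorem γ_eq {j : ℕ} (hj : j < 7) : γ j = γ0 j := by
  have h : ∀ j < 7, nth [] W j = [2 * j] := by decide +kernel
  rw [γ, wg, h j hj, ev_singleton, ext_two_mul]

theorem rho : ∃ ρ : K →* Cfsg.Spor.Th, δ = pz ρ γ0 7 (δ 7) := by
  obtain ⟨ρ, hρ⟩ := pg_lift (m := 7) (R := RR) (p := fun j => if j < 7 then δ j else 1)
    (fun j hj => if_neg (by omega)) ((hD.subR (D := RR) (by decide +kernel)).low (m := 7)
      (fun j hj => (if_pos hj).symm) (by decide +kernel))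
  refine ⟨ρ, funext fun j => ?_⟩
  rw [pz, γ0, hρ]
  split_ifs with h1 h2
  · rw [h1]
  · rfl
  · exact δ_one (by omega)

theorem via {G : Type*} [Group G] {δ : ℕ → G} {m : ℕ} {R W R' : List (List ℕ)} (hW : W.length = m)
    (h : Holds (ext (wg δ W)) R) (h' : Holds (ext (pgγ m R)) R') :
    Holds (ext δ) (R'.map (expand (dbl W))) := by
  obtain ⟨ψ, hψ⟩ := pg_lift (m := m) (fun j hj => wg_of_le _ (hW ▸ hj)) h
  have := h'.map ψ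
  rw [funext hψ] at this
  exact this.expand

section
variable {ρ : K →* Cfsg.Spor.Th} (hρ : δ = pz ρ γ0 7 (δ 7))
include hρ

theorem ρ_eq {j : ℕ} (hj : j < 7) : ρ (γ0 j) = δ j := (pz_lt ρ γ0 _ hj).trans (congrFun hρ j).symm

theorem hZ : Holds (ext (zt ρ γ (δ 7))) ZR := by
  obtain ⟨φ, C⟩ := cert
  obtain ⟨φ1, C1⟩ := ThCc.cert
  obtain ⟨φ2, C2⟩ := ThD.cert
  have h0 : Holds (ext δ) [[6, 8, 10, 4, 6, 8, 10, 4, 6, 8, 10, 4, 6, 8, 10, 4, 6, 8, 10, 4, 6, 8, 10, 4, 6, 8, 10, 4, 6, 8, 10, 4, 6, 8, 10, 4]] :=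
    ((relsB_sound C.M C.base (by decide +kernel) (fun _ _ => trivial) (by decide +kernel)).map ρ).low
      (m := 7) (fun j hj => by rw [γ_eq hj, ρ_eq hρ hj]) (by decide +kernel)
  have h1 := via (W := WC) (R' := RC) rfl ((hD.append h0).relsFrom (I := []) (by decide +kernel))
    (relsB_sound C1.M C1.base (by decide +kernel) (fun _ _ => trivial) (by decide +kernel))
  have h2 := via (W := WD) (R' := RD) rfl (hD.relsFrom (I := []) (by decide +kernel))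
    (relsB_sound C2.M C2.base (by decide +kernel) (fun _ _ => trivial) (by decide +kernel))
  rw [zt_wg ρ γ0 (m := 7) _ (by decide +kernel), ← hρ]
  exact Holds.of_expand (((hD.append h1).append h2).subRot (by decide +kernel))

theorem hgen : Subgroup.closure (Set.range ρ ∪ {δ 7}) = ⊤ := by
  rw [eq_top_iff, ← pres_gen gens_all _ _ (L := [0, 2, 4, 6, 8, 10, 12, 14]) (by decide +kernel)]
  refine gp_le fun a _ => ext_mem ?_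
  show δ _ ∈ _
  rw [congrFun hρ (a / 2), pz]
  split_ifs
  · exact Subgroup.subset_closure (Or.inr rfl)
  · exact Subgroup.subset_closure (Or.inl ⟨_, rfl⟩)

theorem hlift (Γ : Type) [Group Γ] (σ : K →* Γ) (z' : Γ) (hH : Holds (ext (zt σ γ z')) ZR) :
    ∃ f : Cfsg.Spor.Th →* Γ, f.comp ρ = σ ∧ f (δ 7) = z' := by
  rw [zt_wg σ γ0 (m := 7) _ (by decide +kernel)] at hH
  have h2 : Holds (ext (pz σ γ0 7 z')) RR :=
    ((pg_holds 7 RR).map σ).low (fun j hj => pz_lt σ γ0 z' hj) (by decide +kernel)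
  have h3 : Holds (ext (pz σ γ0 7 z')) DR := (h2.append hH.expand).subRot (by decide +kernel)
  obtain ⟨f, hf⟩ := pres_lift gens_all gens_nodup (p := pz σ γ0 7 z') (fun j (hj : 8 ≤ j) => by
    rw [pz, if_neg (by omega), γ0, pg_one _ (by omega), map_one]) (DR_eq ▸ h3)
  refine ⟨f, hom_ext_gp gen0 fun j => ?_, (hf 7).trans (if_pos rfl)⟩
  by_cases hj : j < 7
  · rw [MonoidHom.comp_apply, ρ_eq hρ hj, hf, pz_lt σ γ0 z' hj]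
  · rw [γ0, pg_one _ (by omega), map_one, map_one]

end

theorem closedK1 : Cover.Closed ThK1.K := by
  obtain ⟨φ, C⟩ := ThK1.cert
  haveI := C.fin
  exact Cover.closed_of_mult (triv_of_bounds ThK1.card_eq [(2, 12), (3, 4), (7, 2), (13, 1)] (by decide +kernel) (by decide +kernel) (by
    simp only [List.forall_mem_cons, List.not_mem_nil, IsEmpty.forall_iff, implies_true, and_true]
    exact ⟨.inr (ThK1.u2_pb C.M C.base ThK1.card_eq),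
      .inr (ThK1.u3_pb C.M C.base ThK1.card_eq),
      .inr (ThK1.u7_pb C.M C.base ThK1.card_eq),
      .inl (by decide)⟩))

theorem conj_of {G : Type*} [Group G] {t x : G} :
    t⁻¹ * (x⁻¹ * (t * (x * 1))) = 1 ↔ t⁻¹ * x * t = x * 1 := by
  rw [mul_one, ← mul_assoc, ← mul_assoc, mul_eq_one_iff_eq_inv, ← inv_inj, inv_inv]
  simp [mul_assoc]

theorem conj_of' {G : Type*} [Group G] {t x : G} :
    t⁻¹ * (x * (t * (x⁻¹ * (x⁻¹ * 1)))) = 1 ↔ t⁻¹ * x * t = x * (x * 1) := by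
  rw [mul_one, mul_one, ← mul_assoc, ← mul_assoc, ← mul_inv_rev, mul_inv_eq_one]

theorem t_rels {G : Type*} [Group G] (p : ℕ → G) :
    Holds (ext p) [[13, 1, 12, 0], [13, 3, 12, 2], [13, 5, 12, 4], [13, 7, 12, 6], [13, 9, 12, 8],
      [13, 10, 12, 11, 11]] ↔ ∀ j < 6, (p 6)⁻¹ * p j * p 6 = wg p θW j := by
  simp only [Holds, List.forall_mem_cons, List.not_mem_nil, IsEmpty.forall_iff, implies_true,
    and_true, Nat.forall_lt_succ_right, Nat.not_lt_zero, true_and, and_assoc]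
  exact and_congr conj_of (and_congr conj_of (and_congr conj_of (and_congr conj_of
    (and_congr conj_of conj_of'))))

theorem hsec {ρ : K →* Cfsg.Spor.Th} (hρ : δ = pz ρ γ0 7 (δ 7)) (Γ : Type) [Group Γ] [Finite Γ]
    (π : Γ →* Cfsg.Spor.Th) (hπ : IsStemExtension π) :
    ∃ σ : K →* Γ, π.comp σ = ρ ∧ (∀ k, σ k ∈ π.ker → σ k = 1) ∧
      ∀ z', π z' = δ 7 → ev (ext (zt σ γ z')) (nth [] ZR 4) = 1 := by
  obtain ⟨φ, C⟩ := cert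
  obtain ⟨φ1, C1⟩ := ThK1.cert
  haveI := C.fin
  haveI := C1.fin
  obtain ⟨ι, hι⟩ := pg_lift (m := 6) (R := ThK1.RR) (p := fun j => if j < 6 then γ0 j else 1)
    (fun j hj => if_neg (by omega)) (((pg_holds 7 RR).subR (D := ThK1.RR) (by decide +kernel)).low
      (m := 6) (fun j hj => (if_pos hj).symm) (by decide +kernel))
  have hι' : ∀ j < 6, ι (ThK1.γ j) = γ0 j := fun j hj => (hι j).trans (if_pos hj)
  obtain ⟨θ, hθ⟩ := pg_lift (m := 6) (R := ThK1.RR) (p := wg ThK1.γ θW) (fun j hj => wg_of_le _ hj)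
    (relsD_sound C1.M C1.base (by decide +kernel) (fun _ _ => trivial) (by decide +kernel))
  have hp : commutator ThK1.K = ⊤ := by
    obtain ⟨a, u, v, h1, -, -, h4⟩ := ThK1.a_data C1
    exact commutator_eq_top_of h1 h4
  obtain ⟨σ', hσ'⟩ := exists_section hp closedK1 (ρ.comp ι) hπ.1 hπ.2.1
  have hs : ∀ j < 6, π (σ' (ThK1.γ j)) = δ j := fun j hj =>
    (DFunLike.congr_fun hσ' _).trans (by rw [MonoidHom.comp_apply, hι' j hj, ρ_eq hρ (by omega)])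
  obtain ⟨t, ht, ht3, htz⟩ := exists_lift_three hπ.1 hπ.2.1 (t := δ 6) (z := δ 7)
    (by have := hD [12, 12, 12] (by decide +kernel)
        rw [mul_assoc, ← mul_one (δ 6 * δ 6), mul_assoc]; exact this)
    (by have := hD [15, 12, 14, 12] (by decide +kernel)
        rw [mul_assoc, mul_assoc, ← mul_one (δ 7 * δ 6), mul_assoc]; exact this)
  have hw : ∀ {X : Type} [Group X] (f : ThK1.K →* X) (p : ℕ → X), (∀ j < 6, f (ThK1.γ j) = p j) →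
      ∀ j, f (wg ThK1.γ θW j) = wg p θW j := fun f p h j => by
    rw [wg, map_ev_ext, ← wg_low h (by decide +kernel)]; rfl
  have hc : (MulAut.conj t⁻¹).toMonoidHom.comp σ' = σ'.comp θ :=
    lift_unique hp hπ.2.1 (hom_ext_gp ThK1.gen_top fun j => by
      by_cases hj : j < 6
      · show π (t⁻¹ * σ' _ * t⁻¹⁻¹) = (π.comp σ') (θ _)
        rw [inv_inv, map_mul, map_mul, map_inv, ht, hs j hj, hθ, hw (π.comp σ') δ hs]
        exact (t_rels δ).1 (hD.subR (by decide +kernel)) j hj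
      · rw [ThK1.γ, pg_one _ (by omega), map_one, map_one])
  have h1 : Holds (ext (pz σ' ThK1.γ 6 t)) ThK1.RR :=
    ((pg_holds 6 ThK1.RR).map σ').low (fun j hj => pz_lt σ' _ t hj) (by decide +kernel)
  have h2 := (t_rels (pz σ' ThK1.γ 6 t)).2 fun j hj => by
    rw [← hw σ' _ (fun j hj => pz_lt σ' _ t hj), ← hθ, ← pz_lt σ' _ t hj]
    have := DFunLike.congr_fun hc (ThK1.γ j)
    rw [← inv_inv (pz σ' ThK1.γ 6 t 6), inv_inv (pz σ' ThK1.γ 6 t 6)⁻¹]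
    exact this
  have h3 : Holds (ext (pz σ' ThK1.γ 6 t)) [[12, 12, 12]] := fun r hr => by
    rw [List.mem_singleton.1 hr, ← ht3, mul_assoc, ← mul_one (t * t), mul_assoc]; rfl
  obtain ⟨σ, hσ⟩ := pg_lift (m := 7) (R := RR) (p := pz σ' ThK1.γ 6 t) (fun j hj => by
    rw [pz, if_neg (by omega), ThK1.γ, pg_one _ (by omega), map_one])
    (((h1.append h2).append h3).subR (by decide +kernel))
  have hσ6 : σ (γ0 6) = t := hσ 6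
  have hπσ : ∀ j < 7, π (σ (γ0 j)) = δ j := fun j hj => by
    by_cases h6 : j = 6
    · rw [h6, hσ6, ht]
    · rw [γ0, hσ, ← pz_lt σ' _ t (by omega), hs j (by omega)]
  refine ⟨σ, hom_ext_gp gen0 fun j => ?_, fun k hk => ?_, fun z' hz' => ?_⟩
  · by_cases hj : j < 7
    · rw [MonoidHom.comp_apply, hπσ j hj, ρ_eq hρ hj]
    · rw [γ0, pg_one _ (by omega), map_one, map_one]
  · rcases eq_one_of_central (a := ev (ext γ) cx_S.u) (p := 13) (by norm_num)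
      (by rw [← ev_pw]; exact C.base _ trivial (fixesB_sound C.M (by decide +kernel) (by decide +kernel)))
      (cx_cent C).zpowers σ (k := k)
      (fun x => (Subgroup.mem_center_iff.1 (hπ.2.1 hk) _).symm) with h4 | h4
    · exact h4
    have hl : ∀ j < 6, ι (ThK1.γ j) = γ j := fun j hj => by rw [hι' j hj, γ_eq (by omega)]
    have h5 : ∀ x, ι x ∈ gw γ (ThK1.g_Ws.take 2) := fun x => by
      have : gw ThK1.γ (ThK1.g_Ws.take 2) ≤ (gw γ (ThK1.g_Ws.take 2)).comap ι := gw_le fun u hu => by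
        rw [Subgroup.mem_comap, map_ev_ext, ev_low hl (by decide +kernel) hu]
        exact ev_mem_gw γ hu
      exact this (ThK1.g_top C1 ▸ Subgroup.mem_top x)
    have h6 := image_eq_one (a := ev (ext γ) cx_S.u) (u := ev (ext γ) [3, 6, 8])
      (v := ev (ext γ) [11, 5]) (U := gw γ (ThK1.g_Ws.take 2))
      (by rw [← ev_invW, ← ev_invW, ← ev_append, ← ev_append, ← ev_append]
          exact congrArg _ (by decide +kernel))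
      (by rw [← ev_low hl (W := [[3, 6, 8]]) (by decide +kernel) List.mem_cons_self, ← map_ev_ext]
          exact h5 _)
      ((le_of_eq (congrArg _ (by decide +kernel))).trans (gw_le_normalClosure γ _ [[], [6, 10]])) σ h4
    have h7 : ∀ j < 6, σ (γ0 j) = 1 := fun j hj => hι' j hj ▸ h6 _ (h5 _)
    have h8 : ∀ j < 6, δ j = 1 := fun j hj => by rw [← hπσ j (by omega), h7 j hj, map_one]
    have e1 : δ 7 * (δ 7 * ((δ 2)⁻¹ * ((δ 0)⁻¹ * 1))) = 1 := hD [14, 14, 5, 1] (by decide +kernel)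
    have e2 : δ 0 * (δ 2 * ((δ 5)⁻¹ * ((δ 7)⁻¹ * ((δ 5)⁻¹ * ((δ 7)⁻¹ * ((δ 5)⁻¹ * ((δ 7)⁻¹ * 1))))))) = 1 :=
      hD [0, 4, 11, 15, 11, 15, 11, 15] (by decide +kernel)
    rw [h8 0 (by omega), h8 2 (by omega)] at e1 e2
    rw [h8 5 (by omega)] at e2
    simp only [inv_one, one_mul, mul_one] at e1 e2
    rw [← mul_inv_rev, e1, inv_one, mul_one, inv_eq_one] at e2
    have e3 := htz 1 (by rw [map_one, e2])
    rw [inv_one, one_mul, mul_one] at e3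
    rw [e3, one_mul] at ht3
    have h9 : σ = 1 := hom_ext_gp gen0 fun j => by
      by_cases hj : j < 6
      · exact h7 j hj
      · by_cases h6 : j = 6
        · rw [h6, hσ6, ht3]; rfl
        · rw [γ0, pg_one _ (by omega), map_one, map_one]
    rw [h9]; rfl
  · have e := htz z' hz'
    rw [← hσ6, ← γ_eq (by omega), mul_assoc, mul_assoc, ← mul_one (z' * _), mul_assoc] at e
    exact e

theorem finite : Finite Cfsg.Spor.Th := by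
  obtain ⟨φ, C⟩ := cert
  haveI := C.fin
  obtain ⟨ρ, hρ⟩ := rho
  have hy : dd.Hyp (Dce.ctx0.{0, 0, 0} φ γ ρ (δ 7) ρ.range) x_ns := Dce.hyp0 (D := dd) (H := ρ.range)
    C.M C.base (by decide +kernel) (fun h => ⟨h, rfl⟩) (hZ hρ) hH
  have hA : ∀ a, (Dce.ctx0.{0, 0, 0} φ γ ρ (δ 7) ρ.range).ι a ∈ ρ.range := fun _ => ρ.range.one_mem
  haveI : Finite (Dce.ctx0.{0, 0, 0} φ γ ρ (δ 7) ρ.range).H :=
    Finite.of_surjective _ ρ.rangeRestrict_surjective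
  exact Dce.finite_of_inX fun g => Dce.all_inX hy hA (by decide) (dd_all hy hA (stab C) C.orbit0.2)
    (hgen hρ).ge (Subgroup.mem_top g)

theorem mult : Cfsg.HasCyclicSchurMultiplier Cfsg.Spor.Th 1 := by
  obtain ⟨φ, C⟩ := cert
  haveI := finite
  obtain ⟨ρ, hρ⟩ := rho
  exact (Dce.closed_of2 (D := dd) C.M C.base (by decide +kernel) (hZ hρ) hH dd_t (by decide +kernel)
    (fun hy => dd_up hy) (hsec hρ) (hlift hρ) (hgen hρ)).mult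

end Cfsg.Agent.ThK
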