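import Cfsg.Agent.ThK.TabsD1

set_option autoImplicit false
set_option Elab.async false
set_option maxRecDepth 100000
set_option linter.all false

namespace Cfsg.Agent.ThK
open Cfsg.Agent.CGT

theorem m_p0 : holdsB 15 m_ns [[0, 0], [2, 2], [4, 4], [6, 6], [8, 8], [0, 2, 0, 2, 0, 2], [0, 8, 0, 8], [2, 4, 2, 4, 2, 4], [2, 6, 2, 6], [2, 8, 2, 8], [0, 7, 5, 7, 5, 7, 5, 7, 5], [4, 8, 4, 8], [6, 8, 6, 8, 6, 8], [2, 4, 6, 8, 2, 4, 6, 8, 2, 4, 6, 8, 2, 4, 6, 8, 2, 4, 6, 8, 2, 4, 6, 8, 2, 4, 6, 8, 2, 4, 6, 8], [10, 10, 10, 10, 10, 10, 10], [11, 1, 10, 0], [11, 3, 10, 2], [11, 5, 10, 4], [10, 6, 10, 6], [9, 11, 8, 11, 11, 9, 10, 10, 10], [12, 12, 12], [13, 1, 12, 0], [13, 3, 12, 2], [13, 5, 12, 4], [13, 7, 12, 6]] = true := by decide +kernel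
theorem m_p1 : holdsB 15 m_ns [[13, 9, 12, 8], [13, 10, 12, 11, 11]] = true := by decide +kernel
theorem x_e0 : allL [0, 1, 2, 3, 4, 5, 6, 7, 8, 9, 10, 11, 12] (extJ 15 m_ns x_ns W) = true := by decide +kernel
theorem x_e1 : allL [13, 14, 15, 16, 17, 18, 19] (extJ 15 m_ns x_ns W) = true := by decide +kernel
theorem x_e2 : allL [20, 21] (extJ 15 m_ns x_ns W) = true := by decide +kernel
theorem x_t0_b : Tab.beq (mkTab 15 5 x_ns 0) x_t0 = true := by decide +kernel
theorem x_t1_b : Tab.beq (mkTab 15 5 x_ns 1) x_t1 = true := by decide +kernel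
theorem x_t2_b : Tab.beq (mkTab 15 5 x_ns 2) x_t2 = true := by decide +kernel
theorem x_t3_b : Tab.beq (mkTab 15 5 x_ns 3) x_t3 = true := by decide +kernel
theorem x_t4_b : Tab.beq (mkTab 15 5 x_ns 4) x_t4 = true := by decide +kernel
theorem x_t5_b : Tab.beq (mkTab 15 5 x_ns 5) x_t5 = true := by decide +kernel
theorem x_t6_b : Tab.beq (mkTab 15 5 x_ns 6) x_t6 = true := by decide +kernel
theorem x_t7_b : Tab.beq (mkTab 15 5 x_ns 7) x_t7 = true := by decide +kernel
theorem x_t8_b : Tab.beq (mkTab 15 5 x_ns 8) x_t8 = true := by decide +kernel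
theorem x_t9_b : Tab.beq (mkTab 15 5 x_ns 9) x_t9 = true := by decide +kernel
theorem x_t10_b : Tab.beq (mkTab 15 5 x_ns 10) x_t10 = true := by decide +kernel
theorem x_t11_b : Tab.beq (mkTab 15 5 x_ns 11) x_t11 = true := by decide +kernel
theorem x_t12_b : Tab.beq (mkTab 15 5 x_ns 12) x_t12 = true := by decide +kernel
theorem x_t13_b : Tab.beq (mkTab 15 5 x_ns 13) x_t13 = true := by decide +kernel
theorem x_t14_b : Tab.beq (mkTab 15 5 x_ns 14) x_t14 = true := by decide +kernel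
theorem x_t15_b : Tab.beq (mkTab 15 5 x_ns 15) x_t15 = true := by decide +kernel
theorem x_t16_b : Tab.beq (mkTab 15 5 x_ns 16) x_t16 = true := by decide +kernel
theorem x_t17_b : Tab.beq (mkTab 15 5 x_ns 17) x_t17 = true := by decide +kernel
theorem x_t18_b : Tab.beq (mkTab 15 5 x_ns 18) x_t18 = true := by decide +kernel
theorem x_t19_b : Tab.beq (mkTab 15 5 x_ns 19) x_t19 = true := by decide +kernel
theorem x_t20_b : Tab.beq (mkTab 15 5 x_ns 20) x_t20 = true := by decide +kernel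
theorem x_t21_b : Tab.beq (mkTab 15 5 x_ns 21) x_t21 = true := by decide +kernel
theorem x_t22_b : Tab.beq (mkTab 15 5 x_ns 22) x_t22 = true := by decide +kernel
theorem x_t23_b : Tab.beq (mkTab 15 5 x_ns 23) x_t23 = true := by decide +kernel
theorem x_t24_b : Tab.beq (mkTab 15 5 x_ns 24) x_t24 = true := by decide +kernel
theorem x_t25_b : Tab.beq (mkTab 15 5 x_ns 25) x_t25 = true := by decide +kernel
theorem x_t26_b : Tab.beq (mkTab 15 5 x_ns 26) x_t26 = true := by decide +kernel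
theorem x_t27_b : Tab.beq (mkTab 15 5 x_ns 27) x_t27 = true := by decide +kernel
theorem x_t28_b : Tab.beq (mkTab 15 5 x_ns 28) x_t28 = true := by decide +kernel
theorem x_t29_b : Tab.beq (mkTab 15 5 x_ns 29) x_t29 = true := by decide +kernel
theorem x_t30_b : Tab.beq (mkTab 15 5 x_ns 30) x_t30 = true := by decide +kernel
theorem x_t31_b : Tab.beq (mkTab 15 5 x_ns 31) x_t31 = true := by decide +kernel
theorem x_t32_b : Tab.beq (mkTab 15 5 x_ns 32) x_t32 = true := by decide +kernel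
theorem x_t33_b : Tab.beq (mkTab 15 5 x_ns 33) x_t33 = true := by decide +kernel
theorem x_t34_b : Tab.beq (mkTab 15 5 x_ns 34) x_t34 = true := by decide +kernel
theorem x_t35_b : Tab.beq (mkTab 15 5 x_ns 35) x_t35 = true := by decide +kernel
theorem x_t36_b : Tab.beq (mkTab 15 5 x_ns 36) x_t36 = true := by decide +kernel
theorem x_t37_b : Tab.beq (mkTab 15 5 x_ns 37) x_t37 = true := by decide +kernel
theorem x_t38_b : Tab.beq (mkTab 15 5 x_ns 38) x_t38 = true := by decide +kernel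
theorem x_t39_b : Tab.beq (mkTab 15 5 x_ns 39) x_t39 = true := by decide +kernel
theorem x_t40_b : Tab.beq (mkTab 15 5 x_ns 40) x_t40 = true := by decide +kernel
theorem x_t41_b : Tab.beq (mkTab 15 5 x_ns 41) x_t41 = true := by decide +kernel
theorem x_t42_b : Tab.beq (mkTab 15 5 x_ns 42) x_t42 = true := by decide +kernel
theorem x_t43_b : Tab.beq (mkTab 15 5 x_ns 43) x_t43 = true := by decide +kernel

end Cfsg.Agent.ThK
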